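import Cfsg.Agent.R2.Spec.EE.NumB
import Cfsg.Agent.R2.Spec.EE.NumPoly

/-!
# Bounds for `RR` and the member version (packet EE-NUM (6), helper5)

* `RR_psl9` ... : `RR t q ≤ C q ^ E` for `q ≥ 3`;
* `memb`, `cycm t`, `RM t q` : the product over the classes which occur;
* `prod_leM` : `prod_le` with `RM t q` in place of `RR t q` for `Nb t` (`oplus 8`, `oplus 9`, `ominus 9`, ...).
-/

set_option autoImplicit false
set_option linter.unusedSectionVars false
set_option maxHeartbeats 400000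

namespace Cfsg.Agent.R2.Spec.EE

open Cfsg Cfsg.Agent.H426.LieFam Cfsg.Agent.R2.Spec Cfsg.Agent.R2.Spec.P1 Cfsg.Agent.R2.Spec.F1
open NumPoly

universe u w

/-! ### the members -/

/-- the classes which occur, as a boolean function -/
def memb : Fam → ℕ → Bool
  | .psl n, i => decide (i ≤ n)
  | .psu n, i => decide (i ≤ n)
  | .psp n, i => decide (eta i ≤ n)
  | .oodd n, i => decide (eta i ≤ n)
  | .oplus n, i => decide (eta i + 1 ≤ n) || (decide (i = n) && decide (n % 2 = 1))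
  | .ominus n, i => decide (eta i + 1 ≤ n) || decide (i = 2 * n)
  | _, _ => false

theorem memb_iff {t : Fam} {d : ℕ} : memb t d = true ↔ mem t d := by
  cases t <;> simp [memb, mem]

/-- the members of `cycs t` -/
def cycm (t : Fam) : List ℕ := (cycs t).filter (memb t)

/-- the product over the members -/
noncomputable def RM (t : Fam) (q : ℕ) : ℕ :=
  ((cycm t).map fun d => ((Polynomial.cyclotomic d ℤ).eval (sg t q)).natAbs).prod

/-- the product over the other classes -/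
noncomputable def RN (t : Fam) (q : ℕ) : ℕ :=
  (((cycs t).filter fun d => !memb t d).map fun d => ((Polynomial.cyclotomic d ℤ).eval (sg t q)).natAbs).prod

theorem split_prod (l : List ℕ) (b : ℕ → Bool) (f : ℕ → ℕ) :
    (l.map f).prod = ((l.filter b).map f).prod * ((l.filter fun x => !b x).map f).prod := by
  induction l with
  | nil => simp
  | cons a l ih =>
    rw [List.map_cons, List.prod_cons, ih, List.filter_cons, List.filter_cons]
    cases h : b a
    · simp only [Bool.not_false, if_true, Bool.false_eq_true, if_false, List.map_cons, List.prod_cons]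
      ring
    · simp only [Bool.not_true, if_true, Bool.false_eq_true, if_false, List.map_cons, List.prod_cons]
      ring

theorem RR_split (t : Fam) (q : ℕ) : RR t q = RM t q * RN t q := split_prod _ _ _

/-! ### the bounds -/

section bounds

variable {q : ℕ}

theorem RR_psl9 (hq : 3 ≤ q) : RR (.psl 9) q ≤ 3 * q ^ 28 := by
  have h : cycs (.psl 9) = [1, 2, 3, 4, 5, 6, 7, 8, 9] := by decide
  unfold RR
  rw [h]
  exact bound_pos (by decide) c_psl9 hq

theorem RR_psl10 (hq : 3 ≤ q) : RR (.psl 10) q ≤ 2 * q ^ 32 := by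
  have h : cycs (.psl 10) = [1, 2, 3, 4, 5, 6, 7, 8, 9, 10] := by decide
  unfold RR
  rw [h]
  exact bound_pos (by decide) c_psl10 hq

theorem RR_psl13 (hq : 3 ≤ q) : RR (.psl 13) q ≤ 4 * q ^ 58 := by
  have h : cycs (.psl 13) = [1, 2, 3, 4, 5, 6, 7, 8, 9, 10, 11, 12, 13] := by decide
  unfold RR
  rw [h]
  exact bound_pos (by decide) c_psl13 hq

theorem RR_psu9 (hq : 3 ≤ q) : RR (.psu 9) q ≤ q ^ 28 := by
  have h : cycs (.psu 9) = [1, 2, 3, 4, 5, 6, 7, 8, 9] := by decide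
  unfold RR
  rw [h]
  exact (bound_neg (by decide) c_psu9 hq).trans (le_of_eq (one_mul _))

theorem RR_psu10 (hq : 3 ≤ q) : RR (.psu 10) q ≤ q ^ 32 := by
  have h : cycs (.psu 10) = [1, 2, 3, 4, 5, 6, 7, 8, 9, 10] := by decide
  unfold RR
  rw [h]
  exact (bound_neg (by decide) c_psu10 hq).trans (le_of_eq (one_mul _))

theorem RR_psu13 (hq : 3 ≤ q) : RR (.psu 13) q ≤ q ^ 58 := by
  have h : cycs (.psu 13) = [1, 2, 3, 4, 5, 6, 7, 8, 9, 10, 11, 12, 13] := by decide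
  unfold RR
  rw [h]
  exact (bound_neg (by decide) c_psu13 hq).trans (le_of_eq (one_mul _))

theorem RR_psp8 (hq : 3 ≤ q) : RR (.psp 8) q ≤ 2 * q ^ 44 := by
  have h : cycs (.psp 8) = [1, 2, 3, 4, 5, 6, 7, 8, 10, 12, 14, 16] := by decide
  unfold RR
  rw [h]
  exact bound_pos (by decide) c_c8 hq

theorem RR_oodd8 (hq : 3 ≤ q) : RR (.oodd 8) q ≤ 2 * q ^ 44 := RR_psp8 hq

theorem RR_oplus8 (hq : 3 ≤ q) : RR (.oplus 8) q ≤ 2 * q ^ 44 := RR_psp8 hq

theorem RR_ominus8 (hq : 3 ≤ q) : RR (.ominus 8) q ≤ 2 * q ^ 44 := RR_psp8 hq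

theorem RR_psp9 (hq : 3 ≤ q) : RR (.psp 9) q ≤ 2 * q ^ 56 := by
  have h : cycs (.psp 9) = [1, 2, 3, 4, 5, 6, 7, 8, 9, 10, 12, 14, 16, 18] := by decide
  unfold RR
  rw [h]
  exact bound_pos (by decide) c_c9 hq

theorem RR_oodd9 (hq : 3 ≤ q) : RR (.oodd 9) q ≤ 2 * q ^ 56 := RR_psp9 hq

theorem RR_oplus9 (hq : 3 ≤ q) : RR (.oplus 9) q ≤ 2 * q ^ 56 := RR_psp9 hq

theorem RR_ominus9 (hq : 3 ≤ q) : RR (.ominus 9) q ≤ 2 * q ^ 56 := RR_psp9 hq

theorem RR_psp10 (hq : 3 ≤ q) : RR (.psp 10) q ≤ 2 * q ^ 64 := by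
  have h : cycs (.psp 10) = [1, 2, 3, 4, 5, 6, 7, 8, 9, 10, 12, 14, 16, 18, 20] := by decide
  unfold RR
  rw [h]
  exact bound_pos (by decide) c_c10 hq

theorem RR_oodd10 (hq : 3 ≤ q) : RR (.oodd 10) q ≤ 2 * q ^ 64 := RR_psp10 hq

theorem RR_oplus10 (hq : 3 ≤ q) : RR (.oplus 10) q ≤ 2 * q ^ 64 := RR_psp10 hq

theorem RR_ominus10 (hq : 3 ≤ q) : RR (.ominus 10) q ≤ 2 * q ^ 64 := RR_psp10 hq

/-! the member versions -/

theorem RM_oplus8 (hq : 3 ≤ q) : RM (.oplus 8) q ≤ 2 * q ^ 36 := by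
  have h : cycm (.oplus 8) = [1, 2, 3, 4, 5, 6, 7, 8, 10, 12, 14] := by decide
  unfold RM
  rw [h]
  exact bound_pos (by decide) c_d8 hq

theorem RM_oplus9 (hq : 3 ≤ q) : RM (.oplus 9) q ≤ 2 * q ^ 50 := by
  have h : cycm (.oplus 9) = [1, 2, 3, 4, 5, 6, 7, 8, 9, 10, 12, 14, 16] := by decide
  unfold RM
  rw [h]
  exact bound_pos (by decide) c_d9 hq

theorem RM_ominus9 (hq : 3 ≤ q) : RM (.ominus 9) q ≤ 2 * q ^ 50 := by
  have h : cycm (.ominus 9) = [1, 2, 3, 4, 5, 6, 7, 8, 10, 12, 14, 16, 18] := by decide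
  unfold RM
  rw [h]
  exact bound_pos (by decide) c_e9 hq

theorem RM_oplus10 (hq : 3 ≤ q) : RM (.oplus 10) q ≤ 2 * q ^ 56 := by
  have h : cycm (.oplus 10) = [1, 2, 3, 4, 5, 6, 7, 8, 9, 10, 12, 14, 16, 18] := by decide
  unfold RM
  rw [h]
  exact bound_pos (by decide) c_d10 hq

end bounds

/-! ### the non-members -/

/-- the classes of weight `≤ rk` which do not occur are regular and `{2, 3}`-numbers -/
def Nb (t : Fam) : Prop := ∀ d ∈ cycs t, memb t d = false → 3 ≤ d ∧ ∀ y : ℕ, y.Prime → 5 ≤ y → ¬ y ∣ d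

theorem not_dvd_of {d : ℕ} (h : d = 9 ∨ d = 16 ∨ d = 18) {y : ℕ} (hy : y.Prime) (h5 : 5 ≤ y) : ¬ y ∣ d := by
  intro hd
  have h6 : y ∣ 2 ∨ y ∣ 3 := by
    rcases h with rfl | rfl | rfl
    · exact Or.inr (hy.dvd_of_dvd_pow (show y ∣ 3 ^ 2 by exact hd))
    · exact Or.inl (hy.dvd_of_dvd_pow (show y ∣ 2 ^ 4 by exact hd))
    · rcases (hy.dvd_mul.1 (show y ∣ 2 * 3 ^ 2 by exact hd)) with h7 | h7
      · exact Or.inl h7
      · exact Or.inr (hy.dvd_of_dvd_pow h7)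
  rcases h6 with h7 | h7
  · have := Nat.le_of_dvd (by norm_num) h7
    omega
  · have := Nat.le_of_dvd (by norm_num) h7
    omega

theorem nb_of {t : Fam} (h : ∀ d ∈ cycs t, memb t d = false → d = 9 ∨ d = 16 ∨ d = 18) : Nb t :=
  fun d hd hm => ⟨by have := h d hd hm; omega, fun _ hy h5 => not_dvd_of (h d hd hm) hy h5⟩

theorem nb_oplus8 : Nb (.oplus 8) := nb_of (by decide)

theorem nb_oplus9 : Nb (.oplus 9) := nb_of (by decide)

theorem nb_ominus9 : Nb (.ominus 9) := nb_of (by decide)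

theorem sg_not_dvd {t : Fam} {q y d : ℕ} (hy : y.Prime) (hyd : ¬ y ∣ d) (hne : cls t q y ≠ d) :
    ¬ y ∣ ((Polynomial.cyclotomic d ℤ).eval (sg t q)).natAbs := by
  intro h
  have := Fact.mk hy
  have h1 : ((y : ℕ) : ℤ) ∣ (Polynomial.cyclotomic d ℤ).eval (sg t q) := Int.natCast_dvd.2 h
  rw [← ZMod.intCast_zmod_eq_zero_iff_dvd] at h1
  have h2 : (Polynomial.cyclotomic d (ZMod y)).IsRoot ((sg t q : ℤ) : ZMod y) := by
    rw [Polynomial.IsRoot, ← Polynomial.map_cyclotomic_int, Polynomial.eval_intCast_map, eq_intCast]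
    exact h1
  have h3 : NeZero ((d : ℕ) : ZMod y) := ⟨fun h4 => hyd ((ZMod.natCast_eq_zero_iff _ _).1 h4)⟩
  exact hne ((Polynomial.isRoot_cyclotomic_iff.1 h2).eq_orderOf.symm)

section main

variable {t : Fam} {p f : ℕ} {L : Type w} [Group L] [Finite L] {G : Type u} [Group G] [Finite G]

theorem RM_ne_zero (ht : Classical t) {q : ℕ} (hq : 2 ≤ q) : RM t q ≠ 0 := by
  intro h
  apply RR_ne_zero ht hq
  rw [RR_split, h, zero_mul]

/-- prime powers dividing `RR` divide `RM` -/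
theorem pow_dvd_RM (h : LS t p f L G) (hnb : Nb t) {y e : ℕ} (hy : y.Prime) (h5 : 5 ≤ y) (he : 1 ≤ e)
    (hyp : y ≠ p) (hx : ∃ x : L, orderOf x = y ^ e) (hd : y ^ e ∣ RR t (p ^ f)) : y ^ e ∣ RM t (p ^ f) := by
  have hp := h.prime
  rw [RR_split] at hd
  refine Nat.Coprime.dvd_of_dvd_mul_right ?_ hd
  apply Nat.Coprime.pow_left
  rw [RN, Nat.coprime_list_prod_right_iff]
  intro z hz
  obtain ⟨d, hd1, rfl⟩ := List.mem_map.1 hz
  rw [List.mem_filter] at hd1
  have hd2 : memb t d = false := by simpa using hd1.2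
  obtain ⟨hd3, hd4⟩ := hnb d hd1.1 hd2
  rw [Nat.Prime.coprime_iff_not_dvd hy]
  apply sg_not_dvd hy (hd4 y hy h5)
  intro h1
  have h2 : y ∣ Nat.card L := by
    obtain ⟨x, hx⟩ := hx
    have h3 := orderOf_dvd_natCard x
    rw [hx] at h3
    exact (dvd_pow_self y (by omega)).trans h3
  have h3 := (h.adj.dvd y hy (by omega) (by rw [Nat.prime_dvd_prime_iff_eq hy hp]; exact hyp) (by omega)).1 h2
  rw [h1, ← memb_iff, hd2] at h3
  exact Bool.false_ne_true h3

/-- **The product is small**, member version. -/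
theorem prod_leM (h : LS t p f L G) (hI : Fam.Is p f L t) (hp2 : p ≠ 2) (hnb : Nb t) {A : List ℕ} {N : ℕ → ℕ}
    (hcop : A.Pairwise (fun a b => Nat.Coprime (N a) (N b))) (h0 : ∀ a ∈ A, N a ≠ 0)
    (h6 : ∀ a ∈ A, Nat.Coprime (N a) 6)
    (hord : ∀ a ∈ A, ∀ m : ℕ, m ∣ N a → ∃ g : G, orderOf g = m) :
    (A.map N).prod ≤ 2 * rk t * p ^ f * RM t (p ^ f) := by
  have hp := h.prime
  have hq2 : 2 ≤ p ^ f := by
    calc 2 ≤ p := hp.two_le
      _ = p ^ 1 := (pow_one p).symm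
      _ ≤ p ^ f := Nat.pow_le_pow_right hp.pos h.fpos
  have hrk := rk_pos h.cla hI
  set P := (A.map N).prod with hP
  have hP0 : P ≠ 0 := by
    rw [hP, Ne, List.prod_eq_zero_iff, List.mem_map]
    rintro ⟨a, ha, h1⟩
    exact h0 a ha h1
  obtain ⟨k, P', hpP', hPk⟩ := Nat.exists_eq_pow_mul_and_not_dvd hP0 p hp.ne_one
  -- the part prime to `p`
  have h1 : P' ∣ RM t (p ^ f) := by
    rw [Nat.dvd_iff_prime_pow_dvd_dvd]
    intro y e hy hd
    rcases Nat.eq_zero_or_pos e with he | he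
    · rw [he, pow_zero]; exact one_dvd _
    have hyp : y ≠ p := by
      rintro rfl
      exact hpP' ((dvd_pow_self y (by omega)).trans hd)
    obtain ⟨a, ha, h2⟩ := pow_dvd_list (N := N) (A := A) hy he hcop (hd.trans (by rw [← hP, hPk]; exact dvd_mul_left _ _))
    obtain ⟨g, hg⟩ := hord a ha _ h2
    have hyN : Nat.Coprime y 6 := (h6 a ha).coprime_dvd_left ((dvd_pow_self y (by omega)).trans h2)
    have hy2 : y ≠ 2 := by
      rintro rfl
      norm_num at hyN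
    have hy3 : y ≠ 3 := by
      rintro rfl
      norm_num at hyN
    have hy4 : y ≠ 4 := by
      rintro rfl
      norm_num at hy
    have hy5 : 5 ≤ y := by
      have := hy.two_le
      omega
    have hx := (h.ord _).1 ⟨g, hg⟩
    obtain ⟨i, hi1, hi2, h3⟩ := lexp h.cla hp hp2 hI hy hy2 hyp hx
    exact pow_dvd_RM h hnb hy hy5 he hyp hx (h3.trans (tnum_dvd_RR h.cla hq2 hi1 hi2))
  have h2 : P' ≤ RM t (p ^ f) := Nat.le_of_dvd (Nat.pos_of_ne_zero (RM_ne_zero h.cla hq2)) h1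
  -- the `p`-part
  have h3 : p ^ k ≤ 2 * rk t * p ^ f := by
    rcases k with _ | k
    · rw [pow_zero]
      exact Nat.mul_pos (by omega) (by omega)
    · obtain ⟨a, ha, h4⟩ := pow_dvd_list (N := N) (A := A) hp (by omega : 1 ≤ k + 1) hcop
        (by rw [← hP, hPk]; exact dvd_mul_right _ _)
      obtain ⟨g, hg⟩ := hord a ha _ h4
      have h5 := pexp h.cla hp hp2 hI ((h.ord _).1 ⟨g, hg⟩)
      rw [pow_succ]
      refine Nat.mul_le_mul (by omega) ?_
      calc p = p ^ 1 := (pow_one p).symm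
        _ ≤ p ^ f := Nat.pow_le_pow_right hp.pos h.fpos
  rw [hPk]
  exact Nat.mul_le_mul h3 h2

end main

end Cfsg.Agent.R2.Spec.EE
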