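import Cfsg.Agent.R2.Spec.EE.NumE
import Cfsg.Agent.R2.Spec.EE.NumD

/-!
# S3435, EE-NUM: the member versions of `bigB8`, ... (helper5, after helper8's `NumE`)

* `prod_NNM`, `bigB8M`, `bigB7M`, `bigB6M`, `bigBT6M`, `bigBF4M` : `RM t q` in place of `RR t q`, for `Nb t`.
-/

set_option autoImplicit false
set_option linter.unusedSectionVars false
set_option linter.unusedTactic false
set_option maxHeartbeats 1000000

namespace Cfsg.Agent.R2.Spec.EE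

open Cfsg Cfsg.Lie Cfsg.Agent.H426.LieFam Cfsg.Agent.R2.Spec Cfsg.Agent.R2.Spec.P1 Cfsg.Agent.R2.Spec.F1
open Cfsg.Agent.H493 Cfsg.Agent.H493.PGCyc

universe u w

section prod

variable {t : Fam} {p f : ℕ} {L : Type w} [Group L] [Finite L] {G : Type u} [Group G] [Finite G]

/-- **The product of the values**, member version. -/
theorem prod_NNM (h : LS t p f L G) (hI : Fam.Is p f L t) (hp2 : p ≠ 2) (hnb : Nb t) {A : List ℕ} (hn : A.Nodup)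
    (hA : ∀ a ∈ A, a ∈ clE8 ∧ 3 ≤ a) {u : ℕ} (hu : 2 ≤ u)
    (hord : ∀ a ∈ A, ∀ m : ℕ, Nat.Coprime m 6 → (m : ℤ) ∣ CertTab.cyc a (u : ℤ) → ∃ g : G, orderOf g = m) :
    (A.map (NN u)).prod ≤ 2 * rk t * p ^ f * RM t (p ^ f) := by
  refine prod_leM h hI hp2 hnb ?_ (fun a ha => NN_ne hu (hA a ha).1 (hA a ha).2)
    (fun a ha => NN_cop6 hu (hA a ha).1 (hA a ha).2 dvd_rfl) ?_
  · refine List.Pairwise.imp_of_mem ?_ hn
    intro a b ha hb hab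
    exact NN_cop hu (hA a ha).1 (hA a ha).2 (hA b hb).1 (hA b hb).2 hab
  · intro a ha m hm
    exact hord a ha m (NN_cop6 hu (hA a ha).1 (hA a ha).2 hm) (cast_dvd (hm.trans ⟨GG u a, (NN_mul u a).symm⟩))

end prod

section main

variable {t : Fam} {p f : ℕ} {L : Type w} [Group L] [Finite L] {G : Type u} [Group G] [Finite G]
  {K : Subgroup G} [K.Normal] {S : Subgroup (G ⧸ K)} [S.Normal] {v f' : ℕ}

/-- **`E₈(u)`** -/
theorem bigB8M (h : LS t p f L G) (hI : Fam.Is p f L t) (hp2 : p ≠ 2) (hnb : Nb t) (hS : Fam.Is v f' ↥S .e8) :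
    (v ^ f') ^ 78 ≤ 1260 * (2 * rk t * p ^ f * RM t (p ^ f)) := by
  obtain ⟨F, _, _, _, hF, ⟨E⟩⟩ := hS
  have hu : 2 ≤ v ^ f' := by rw [← hF]; exact Fintype.one_lt_card
  refine comb_B (ZZ8 hu) (GB8 _) (prod_NNM h hI hp2 hnb (by decide) (by decide) hu ?_)
  intro a ha m _ hm
  refine exists_of_S (S := S) ?_
  obtain ⟨x, hx⟩ := ord8 (F := F) (a := a) (m := m)
    ((by decide : ∀ b ∈ [3, 4, 6, 5, 7, 8, 9, 10, 12, 14, 15, 18, 20, 24, 30], b ∈ clE8) a ha) (by rw [Nat.card_eq_fintype_card, hF]; exact hm)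
  exact ⟨E.symm x, by rw [MulEquiv.orderOf_eq, hx]⟩

/-- **`E₇(u)`** -/
theorem bigB7M (h : LS t p f L G) (hI : Fam.Is p f L t) (hp2 : p ≠ 2) (hnb : Nb t) (hS : Fam.Is v f' ↥S .e7) :
    (v ^ f') ^ 46 ≤ 1260 * (2 * rk t * p ^ f * RM t (p ^ f)) := by
  obtain ⟨F, _, _, _, hF, ⟨E⟩⟩ := hS
  have hu : 2 ≤ v ^ f' := by rw [← hF]; exact Fintype.one_lt_card
  refine comb_B (ZZ7 hu) (GB7 _) (prod_NNM h hI hp2 hnb (by decide) (by decide) hu ?_)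
  intro a ha m h6 hm
  refine exists_of_S (S := S) ?_
  obtain ⟨x, hx⟩ := ord7 (F := F) (a := a) (m := m)
    ((by decide : ∀ b ∈ [3, 4, 6, 5, 7, 8, 9, 10, 12, 14, 18], b ∈ clE7) a ha) (Nat.coprime_two_right.1 (h6.coprime_dvd_right (by norm_num)))
    (by rw [Nat.card_eq_fintype_card, hF]; exact hm)
  exact ⟨E.symm x, by rw [MulEquiv.orderOf_eq, hx]⟩

/-- **`E₆(u)`** -/
theorem bigB6M (h : LS t p f L G) (hI : Fam.Is p f L t) (hp2 : p ≠ 2) (hnb : Nb t) (hS : Fam.Is v f' ↥S .e6) :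
    (v ^ f') ^ 24 ≤ 180 * (2 * rk t * p ^ f * RM t (p ^ f)) := by
  obtain ⟨F, _, _, _, hF, ⟨E⟩⟩ := hS
  have hu : 2 ≤ v ^ f' := by rw [← hF]; exact Fintype.one_lt_card
  refine comb_B (ZZ6 hu) (GB6 _) (prod_NNM h hI hp2 hnb (by decide) (by decide) hu ?_)
  intro a ha m h6 hm
  refine exists_of_S (S := S) ?_
  obtain ⟨x, hx⟩ := ord6 (F := F) (a := a) (m := m)
    ((by decide : ∀ b ∈ [3, 4, 6, 5, 8, 9, 12], b ∈ clE6) a ha) (h6.coprime_dvd_right (by norm_num))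
    (by rw [Nat.card_eq_fintype_card, hF]; exact hm)
  exact ⟨E.symm x, by rw [MulEquiv.orderOf_eq, hx]⟩

/-- **`²E₆(u)`** -/
theorem bigBT6M (h : LS t p f L G) (hI : Fam.Is p f L t) (hp2 : p ≠ 2) (hnb : Nb t) (hv : v.Prime) (hS : Fam.Is v f' ↥S .te6) :
    (v ^ f') ^ 24 ≤ 360 * (2 * rk t * p ^ f * RM t (p ^ f)) := by
  obtain ⟨F, _, _, _, hF, ⟨E⟩⟩ := hS
  have hu : 2 ≤ v ^ f' := by
    have h1 := Fintype.one_lt_card (α := F)
    rw [hF] at h1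
    by_contra hcon
    have : v ^ f' ≤ 1 := by omega
    have := Nat.pow_le_pow_left this 2
    omega
  have hf' : f' ≠ 0 := by
    rintro rfl
    rw [pow_zero] at hu
    omega
  have hpp : IsPrimePow (v ^ f') := hv.isPrimePow.pow hf'
  have h1 := prod_NNM h hI hp2 hnb (A := [6, 4, 3, 10, 8, 18, 12]) (by decide) (by decide) hu (by
    intro a ha m h6 hm
    refine exists_of_S (S := S) ?_
    obtain ⟨x, hx⟩ := ordT6 (K := F) (q := v ^ f') hpp hF (a := a) (m := m)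
      ((by decide : ∀ b ∈ [6, 4, 3, 10, 8, 18, 12], b ∈ clTE6) a ha) (h6.coprime_dvd_right (by norm_num)) hm
    exact ⟨E.symm x, by rw [MulEquiv.orderOf_eq, hx]⟩)
  have h2 := ZZT6 hu
  rw [prod_map_NN] at h2
  calc (v ^ f') ^ 24 ≤ _ := h2
    _ ≤ 2 * ((2 * rk t * p ^ f * RM t (p ^ f)) * 180) := Nat.mul_le_mul_left _ (Nat.mul_le_mul h1 (GBT6 _))
    _ = _ := by ring

/-- **`F₄(u)`** -/
theorem bigBF4M (h : LS t p f L G) (hI : Fam.Is p f L t) (hp2 : p ≠ 2) (hnb : Nb t) (hS : Fam.Is v f' ↥S .f4) :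
    (v ^ f') ^ 14 ≤ 12 * (2 * rk t * p ^ f * RM t (p ^ f)) := by
  obtain ⟨F, _, _, _, hF, ⟨E⟩⟩ := hS
  have hu : 2 ≤ v ^ f' := by rw [← hF]; exact Fintype.one_lt_card
  refine comb_B (ZZF4 hu) (GBF4 _) (prod_NNM h hI hp2 hnb (by decide) (by decide) hu ?_)
  intro a ha m _ hm
  refine exists_of_S (S := S) ?_
  obtain ⟨x, hx⟩ := ordF4 (F := F) (a := a) (m := m)
    ((by decide : ∀ b ∈ [3, 4, 6, 8, 12], b ∈ clF4) a ha) (by rw [Nat.card_eq_fintype_card, hF]; exact hm)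
  exact ⟨E.symm x, by rw [MulEquiv.orderOf_eq, hx]⟩

end main

end Cfsg.Agent.R2.Spec.EE
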