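import Cfsg.Agent.R2.Spec.EE.NumF
import Cfsg.Agent.R2.Spec.EE.NumEM

/-!
# S3435, EE-NUM: `f' < M` for `F₄(u)` and `L₁₀`, `U₁₀`, `PΩ⁺₁₆` (helper5)
-/

set_option autoImplicit false
set_option linter.unusedSectionVars false
set_option maxHeartbeats 400000

namespace Cfsg.Agent.R2.Spec.EE

open Cfsg Cfsg.Lie Cfsg.Agent.H426.LieFam Cfsg.Agent.R2.Spec Cfsg.Agent.R2.Spec.P1 Cfsg.Agent.R2.Spec.F1

universe u w

section main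

variable {p f : ℕ} {L : Type w} [Group L] [Finite L] {G : Type u} [Group G] [Finite G]
  {K : Subgroup G} [K.Normal] {S : Subgroup (G ⧸ K)} [S.Normal] {v f' : ℕ}

theorem two_le_f4 (hS : Fam.Is v f' ↥S .f4) : 2 ≤ v := by
  obtain ⟨F, _, _, _, hF, -⟩ := hS
  exact two_le_of_card (f' := f') (by rw [← hF]; exact Fintype.one_lt_card)

theorem le_8_36 {q c e X : ℕ} (hX : X ≤ c * q ^ e) (hc : c ≤ 8) (he : e ≤ 36) (hq : 3 ≤ q) : X ≤ 8 * q ^ 36 :=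
  hX.trans (Nat.mul_le_mul hc (Nat.pow_le_pow_right (by omega) he))

/-- **`F₄(u)`: `f' < M`**, `L₁₀(q)` -/
theorem fltF4_psl10 (h : LS (.psl 10) p f L G) (hI : Fam.Is p f L (.psl 10)) (hp2 : p ≠ 2) (hS : Fam.Is v f' ↥S .f4)
    {M : ℕ} (hM5 : 5 ≤ M) (hM : (p ^ f) ^ 2 - p ^ f + 1 ≤ 3 * M) : f' < M := by
  obtain ⟨hq, hq3⟩ := q_odd h hp2
  exact fltF4_of (bigBF4 h hI hp2 hS) (two_le_f4 hS) hq hq3 (le_refl 10)
    (le_8_36 (RR_psl10 hq3) (by norm_num) (by norm_num) hq3) hM5 hM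

/-- **`F₄(u)`: `f' < M`**, `U₁₀(q)` -/
theorem fltF4_psu10 (h : LS (.psu 10) p f L G) (hI : Fam.Is p f L (.psu 10)) (hp2 : p ≠ 2) (hS : Fam.Is v f' ↥S .f4)
    {M : ℕ} (hM5 : 5 ≤ M) (hM : (p ^ f) ^ 2 - p ^ f + 1 ≤ 3 * M) : f' < M := by
  obtain ⟨hq, hq3⟩ := q_odd h hp2
  exact fltF4_of (bigBF4 h hI hp2 hS) (two_le_f4 hS) hq hq3 (le_refl 10)
    (le_8_36 ((RR_psu10 hq3).trans (le_of_eq (one_mul _).symm)) (by norm_num) (by norm_num) hq3) hM5 hM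

/-- **`F₄(u)`: `f' < M`**, `PΩ⁺₁₆(q)` -/
theorem fltF4_oplus8 (h : LS (.oplus 8) p f L G) (hI : Fam.Is p f L (.oplus 8)) (hp2 : p ≠ 2) (hS : Fam.Is v f' ↥S .f4)
    {M : ℕ} (hM5 : 5 ≤ M) (hM : (p ^ f) ^ 2 - p ^ f + 1 ≤ 3 * M) : f' < M := by
  obtain ⟨hq, hq3⟩ := q_odd h hp2
  exact fltF4_of (bigBF4M h hI hp2 nb_oplus8 hS) (two_le_f4 hS) hq hq3 (show rk (.oplus 8) ≤ 10 by decide)
    (le_8_36 (RM_oplus8 hq3) (by norm_num) (by norm_num) hq3) hM5 hM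

end main

end Cfsg.Agent.R2.Spec.EE
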