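import Cfsg.Agent.R2.Spec.EE.Big
import Cfsg.Agent.R2.Spec.EE.NumFM

/-!
# EE-small, packet (s6), part A (helper5): the available classes for `S = E₈, E₇, E₆, ²E₆, F₄`

* `EX.gd_e8` (`rk t ≤ 18`, or linear and `≤ 24`), `EX.gd_e7` (`≤ 12`, `≤ 16`), `EX.gd_e6`, `EX.gd_te6` (`≤ 8`, `≤ 10`),
  `EX.gd_f4` (`≤ 7`, `≤ 9`), `EX.gd_f4_psl10`, `EX.gd_f4_psu10`, `EX.gd_f4_oplus8` : every regular class contains an
  available prime.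
-/

set_option autoImplicit false
set_option linter.unusedSectionVars false
set_option maxHeartbeats 400000

namespace Cfsg.Agent.R2.Spec.EE

open Subgroup Cfsg
open Cfsg.Agent.H426.LieFam Cfsg.Agent.R2.Spec Cfsg.Agent.R2.Spec.P1 Cfsg.Agent.R2.Spec.F1

universe u w

section

variable {t : Fam} {p f : ℕ} {L : Type w} [Group L] [Finite L] {G : Type u} [Group G] [Finite G]
  {K : Subgroup G} [K.Normal] {S : Subgroup (G ⧸ K)} [S.Normal] {v f' : ℕ} {T : Tab} {k : ℕ → ℕ}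

theorem EX.gd_e8 (h : EX t p f L G K S .e8 v f' T k) (hr : rk t ≤ 18 ∨ ((∀ i, wt t i = i) ∧ rk t ≤ 24)) :
    ∀ i ∈ cls3 t, ∃ y, Gd t (p ^ f) (Nat.card ↥K) S.index i y :=
  h.gd_all fun _ h5 hM => flt8 h.ls h.is h.p2 h.frm.is hr h5 hM

theorem EX.gd_e7 (h : EX t p f L G K S .e7 v f' T k) (hr : rk t ≤ 12 ∨ ((∀ i, wt t i = i) ∧ rk t ≤ 16)) :
    ∀ i ∈ cls3 t, ∃ y, Gd t (p ^ f) (Nat.card ↥K) S.index i y :=
  h.gd_all fun _ h5 hM => flt7 h.ls h.is h.p2 h.frm.is hr h5 hM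

theorem EX.gd_e6 (h : EX t p f L G K S .e6 v f' T k) (hr : rk t ≤ 8 ∨ ((∀ i, wt t i = i) ∧ rk t ≤ 10)) :
    ∀ i ∈ cls3 t, ∃ y, Gd t (p ^ f) (Nat.card ↥K) S.index i y :=
  h.gd_all fun _ h5 hM => flt6 h.ls h.is h.p2 h.frm.is hr h5 hM

theorem EX.gd_te6 (h : EX t p f L G K S .te6 v f' T k) (hr : rk t ≤ 8 ∨ ((∀ i, wt t i = i) ∧ rk t ≤ 10)) :
    ∀ i ∈ cls3 t, ∃ y, Gd t (p ^ f) (Nat.card ↥K) S.index i y :=
  h.gd_all fun _ h5 hM => fltT6 h.ls h.is h.p2 h.frm.prime h.frm.is hr h5 hM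

theorem EX.gd_f4 (h : EX t p f L G K S .f4 v f' T k) (hr : rk t ≤ 7 ∨ ((∀ i, wt t i = i) ∧ rk t ≤ 9)) :
    ∀ i ∈ cls3 t, ∃ y, Gd t (p ^ f) (Nat.card ↥K) S.index i y :=
  h.gd_all fun _ h5 hM => fltF4 h.ls h.is h.p2 h.frm.is hr h5 hM

theorem EX.gd_f4_psl10 (h : EX (.psl 10) p f L G K S .f4 v f' T k) :
    ∀ i ∈ cls3 (.psl 10), ∃ y, Gd (.psl 10) (p ^ f) (Nat.card ↥K) S.index i y :=
  h.gd_all fun _ h5 hM => fltF4_psl10 h.ls h.is h.p2 h.frm.is h5 hM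

theorem EX.gd_f4_psu10 (h : EX (.psu 10) p f L G K S .f4 v f' T k) :
    ∀ i ∈ cls3 (.psu 10), ∃ y, Gd (.psu 10) (p ^ f) (Nat.card ↥K) S.index i y :=
  h.gd_all fun _ h5 hM => fltF4_psu10 h.ls h.is h.p2 h.frm.is h5 hM

theorem EX.gd_f4_oplus8 (h : EX (.oplus 8) p f L G K S .f4 v f' T k) :
    ∀ i ∈ cls3 (.oplus 8), ∃ y, Gd (.oplus 8) (p ^ f) (Nat.card ↥K) S.index i y :=
  h.gd_all fun _ h5 hM => fltF4_oplus8 h.ls h.is h.p2 h.frm.is h5 hM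

end

end Cfsg.Agent.R2.Spec.EE
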