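import Cfsg.Agent.R2.Spec.P1.TopMain

/-!
# S3435, row "L classical, M exceptional" (EE), packet LX (helper8): exponents of the classical groups, odd `q`

* `lexp` : an element order `y ^ e`, `y` odd, `y ≠ p`, divides a torus number `tnum t q i` with `wt t i ≤ rk t`;
* `pexp` : an element of order `p ^ (e + 1)` gives `p ^ e < 2 rk t + 1`;
* `ordle` : the element orders are at most `q ^ (2 rk t + 1)`.
-/

set_option autoImplicit false
set_option linter.unusedSectionVars false
set_option maxHeartbeats 400000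

namespace Cfsg.Agent.R2.Spec.EE

open Module Polynomial Function Cfsg Cfsg.Agent.H426.LieFam Cfsg.Agent.R2.Spec Cfsg.Agent.R2.Spec.P1
open Cfsg.Agent.R2.Spec.P1.Eig
open Cfsg.Agent.H160.QRoots Cfsg.Agent.H160.QChar Cfsg.Agent.H160.QSplit

universe u

/-! ### arithmetic -/

/-- a prime power divides a factor of `q ^ (2 m) - 1` -/
theorem pow_dvd_sub_or_add {y e a : ℕ} (hy : y.Prime) (hy2 : y ≠ 2) (h : y ^ e ∣ (a + 1) * (a - 1)) :
    y ^ e ∣ a + 1 ∨ y ^ e ∣ a - 1 := by
  by_cases h1 : y ∣ a + 1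
  · by_cases h2 : y ∣ a - 1
    · exfalso
      rcases Nat.eq_zero_or_pos a with rfl | ha
      · rw [Nat.dvd_one] at h1
        exact hy.one_lt.ne' h1
      · have h3 : y ∣ (a + 1) - (a - 1) := Nat.dvd_sub h1 h2
        rw [show (a + 1) - (a - 1) = 2 by omega] at h3
        exact hy2 ((Nat.prime_dvd_prime_iff_eq hy Nat.prime_two).1 h3)
    · exact Or.inl ((Nat.Coprime.pow_left e ((Nat.Prime.coprime_iff_not_dvd hy).2 h2)).dvd_of_dvd_mul_right h)
  · exact Or.inr ((Nat.Coprime.pow_left e ((Nat.Prime.coprime_iff_not_dvd hy).2 h1)).dvd_of_dvd_mul_left h)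

/-- the number of the torus for the isometry groups -/
def tw (q i : ℕ) : ℕ := if Even i then q ^ (i / 2) + 1 else q ^ i - 1

theorem exists_tw {y e q n : ℕ} (hy : y.Prime) (hy2 : y ≠ 2) : ∀ d : ℕ, 1 ≤ d → d ≤ n → y ^ e ∣ q ^ d - 1 →
    ∃ i, 1 ≤ i ∧ eta i ≤ n ∧ y ^ e ∣ tw q i := by
  intro d
  induction d using Nat.strong_induction_on with
  | _ d ih =>
    intro hd hdn h
    rcases Nat.even_or_odd d with h1 | h1
    · obtain ⟨m, hm⟩ := h1
      have h2 : q ^ d - 1 = (q ^ m + 1) * (q ^ m - 1) := by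
        rw [hm, pow_add]
        have := Nat.mul_self_sub_mul_self_eq (q ^ m) 1
        rw [one_mul] at this
        exact this
      rw [h2] at h
      rcases pow_dvd_sub_or_add hy hy2 h with h3 | h3
      · have h4 : d % 2 = 0 := by omega
        refine ⟨d, hd, ?_, ?_⟩
        · rcases eta_cases d with ⟨h5, -⟩ | ⟨-, h5⟩
          · exact absurd (Nat.even_iff.2 h4) (Nat.not_even_iff_odd.2 h5)
          · omega
        · rw [tw, if_pos (Nat.even_iff.2 h4), show d / 2 = m by omega]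
          exact h3
      · exact ih m (by omega) (by omega) (by omega) h3
    · have h4 : ¬ d % 2 = 0 := by rw [Nat.odd_iff] at h1; omega
      refine ⟨d, hd, ?_, ?_⟩
      · rcases eta_cases d with ⟨-, h5⟩ | ⟨h5, -⟩
        · omega
        · exact absurd (Nat.even_iff.1 h5) h4
      · rw [tw, if_neg (Nat.not_even_iff_odd.2 h1)]
        exact h

/-- the roots of an isometry -/
theorem iso_root {K : Type*} [Field K] [DecidableEq K] {q n : ℕ} (hq : Function.Injective (fun x : K => x ^ q))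
    (hq1 : 1 ≤ q) {R : Multiset K} (h : ED q R) (hc : R.card ≤ 2 * n + 1) (hn : 1 ≤ n) {w : K} (hw : w ∈ R)
    {y e : ℕ} (hy : y.Prime) (hy2 : y ≠ 2) (he : y ^ e ∣ orderOf w) : ∃ i, 1 ≤ i ∧ eta i ≤ n ∧ y ^ e ∣ tw q i := by
  have hw0 := h.ne0 w hw
  by_cases hwi : w = w⁻¹
  · have h1 : w * w = 1 := by
      nth_rewrite 2 [hwi]
      exact mul_inv_cancel₀ hw0
    have h2 : y ^ e ∣ 2 := he.trans (orderOf_dvd_of_pow_eq_one (by rw [sq, h1]))
    have h3 : e = 0 := by
      by_contra h4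
      have h5 : y ∣ 2 := (dvd_pow_self y h4).trans h2
      exact hy2 ((Nat.prime_dvd_prime_iff_eq hy Nat.prime_two).1 h5)
    refine ⟨1, le_rfl, ?_, ?_⟩
    · rcases eta_cases 1 with ⟨-, h5⟩ | ⟨h5, -⟩
      · omega
      · exact absurd h5 Nat.not_even_one
    · rw [h3, pow_zero]; exact one_dvd _
  · obtain ⟨d, hd⟩ := exists_isMin hq (h.toInv hq) (Multiset.mem_filter.2 ⟨hw, hwi⟩)
    obtain ⟨R', -, -, hcard⟩ := h.peel hq hd
    have hcnt : 1 ≤ R.count w := Multiset.one_le_count_iff_mem.2 hw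
    have h2d : 2 * d ≤ R.count w * (2 * d) := Nat.le_mul_of_pos_left _ (by omega)
    have hdpos := hd.pos
    have hdn : d ≤ n := by omega
    rcases hd.eq with h1 | h1
    · refine exists_tw hy hy2 d hdpos hdn (he.trans (orderOf_dvd_of_pow_eq_one ?_))
      have h2 : w ^ (q ^ d - 1) * w = w := by
        rw [← pow_succ, Nat.sub_add_cancel (Nat.one_le_pow _ _ hq1), h1]
      exact mul_right_cancel₀ hw0 (by rw [h2, one_mul])
    · refine ⟨2 * d, by omega, ?_, ?_⟩
      · rcases eta_cases (2 * d) with ⟨h5, -⟩ | ⟨-, h5⟩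
        · exact absurd (even_two_mul d) (Nat.not_even_iff_odd.2 h5)
        · omega
      · rw [tw, if_pos (even_two_mul d), show 2 * d / 2 = d by omega]
        refine he.trans (orderOf_dvd_of_pow_eq_one ?_)
        rw [pow_succ, h1, inv_mul_cancel₀ hw0]

/-! ### lifts -/

/-- a lift of `x` to a linear map -/
def HasLift (t : Fam) (p f : ℕ) {L : Type u} [Group L] (x : L) : Prop :=
  ∃ (F : Type) (_ : Field F) (_ : Fintype F) (_ : CharP F p) (V : Type) (_ : AddCommGroup V) (_ : Module F V)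
    (_ : FiniteDimensional F V) (g : Module.End F V), (∀ k, g ^ k = 1 → x ^ k = 1) ∧ (∃ k, 0 < k ∧ g ^ k = 1) ∧
    finrank F V ≤ 2 * rk t + 1 ∧ Fintype.card F ^ finrank F V ≤ (p ^ f) ^ (2 * rk t + 1) ∧
    ∀ w ∈ rts g, ∀ y e : ℕ, y.Prime → y ≠ 2 → y ^ e ∣ orderOf w → ∃ i, 1 ≤ i ∧ wt t i ≤ rk t ∧ y ^ e ∣ tnum t (p ^ f) i

section lin

variable {F : Type} [Field F] [Fintype F] {p f : ℕ} [hp : Fact p.Prime] [CharP F p]

omit [Fintype F] in
/-- the period of a root -/
theorem lin_root {s : ℤ} {n : ℕ} (A : Matrix (Fin n) (Fin n) F) (hdetA : A.det = 1)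
    (hinj : Injective (X7.zp s : AlgebraicClosure F → AlgebraicClosure F))
    (hcs : ∀ [DecidableEq (AlgebraicClosure F)] (x : AlgebraicClosure F),
      (A.map (algebraMap F (AlgebraicClosure F))).charpoly.roots.count (X7.zp s x) =
      (A.map (algebraMap F (AlgebraicClosure F))).charpoly.roots.count x) {w : AlgebraicClosure F}
    (hw : w ∈ (A.map (algebraMap F (AlgebraicClosure F))).charpoly.roots) :
    ∃ d, 1 ≤ d ∧ d ≤ n ∧ w ^ X7.ua s d = 1 := by
  classical
  set Y : Matrix (Fin n) (Fin n) (AlgebraicClosure F) := A.map (algebraMap F (AlgebraicClosure F)) with hY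
  have hdet : Y.det = 1 := by
    rw [hY, show A.map (algebraMap F (AlgebraicClosure F)) = (algebraMap F (AlgebraicClosure F)).mapMatrix A from rfl,
      ← RingHom.map_det, hdetA, map_one]
  set Λ := Y.charpoly.roots.toFinset with hΛ
  have hmem : ∀ x, x ∈ Λ ↔ 1 ≤ Y.charpoly.roots.count x := by
    intro x
    rw [hΛ, Multiset.mem_toFinset, Multiset.one_le_count_iff_mem]
  have hst : X7.Stab s Λ := by
    refine ⟨fun x hx => Cfsg.Agent.H437.Win.roots_ne_zero hdet (Multiset.mem_toFinset.1 hx), fun x hx => ?_⟩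
    rw [hmem] at hx ⊢
    rw [hcs]
    exact hx
  have hsum : ∑ x ∈ Λ, Y.charpoly.roots.count x = n := by
    rw [hΛ, Multiset.toFinset_sum_count_eq, ← (IsAlgClosed.splits Y.charpoly).natDegree_eq_card_roots,
      Matrix.charpoly_natDegree_eq_dim, Fintype.card_fin]
  have hcard : Λ.card ≤ n := by
    refine le_trans ?_ hsum.le
    rw [Finset.card_eq_sum_ones]
    exact Finset.sum_le_sum fun x hx => (hmem x).1 hx
  have hwΛ : w ∈ Λ := Multiset.mem_toFinset.2 hw
  refine ⟨minimalPeriod (X7.zp s) w, hst.period hinj hwΛ, ?_, ?_⟩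
  · rw [← X7.card_orb]
    exact (Finset.card_le_card (hst.orb_subset hwΛ)).trans hcard
  · exact X7.pow_ua (hst.ne w hwΛ) (isPeriodicPt_minimalPeriod _ _)

end lin

/-- roots of the linear map of a matrix -/
theorem rts_toLin' {F : Type*} [Field F] {ι : Type*} [Fintype ι] [DecidableEq ι] (M : Matrix ι ι F) :
    (M.map (algebraMap F (AlgebraicClosure F))).charpoly.roots = rts (Matrix.toLin' M) := by
  rw [Matrix.charpoly_map, rts, Matrix.charpoly_toLin']

theorem toLin'_pow_eq_one {F : Type*} [Field F] {ι : Type*} [Fintype ι] [DecidableEq ι] (M : Matrix ι ι F) (k : ℕ) :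
    Matrix.toLin' M ^ k = 1 ↔ M ^ k = 1 := by
  have h4 : (1 : Module.End F (ι → F)) = Matrix.toLin' 1 := by
    rw [Matrix.toLin'_one]; rfl
  rw [← Matrix.toLin'_pow, h4, (Matrix.toLin' (R := F)).injective.eq_iff]

theorem HasLift.map {t : Fam} {p f : ℕ} {L : Type u} [Group L] {M : Type} [Group M] (E : L ≃* M) {x : L}
    (h : HasLift t p f (E x)) : HasLift t p f x := by
  obtain ⟨F, i1, i2, i3, V, i4, i5, i6, g, h1, h2⟩ := h
  refine ⟨F, i1, i2, i3, V, i4, i5, i6, g, fun k hk => ?_, h2⟩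
  have h3 := h1 k hk
  rw [← map_pow] at h3
  exact (map_eq_one_iff E E.injective).1 h3

theorem mat_fin {F : Type*} [Field F] [Finite F] {ι : Type*} [Fintype ι] [DecidableEq ι] (M : Matrix ι ι F)
    (h : M.det ≠ 0) : ∃ k, 0 < k ∧ M ^ k = 1 := by
  have h1 : IsUnit M := (Matrix.isUnit_iff_isUnit_det M).2 (isUnit_iff_ne_zero.2 h)
  obtain ⟨U, rfl⟩ := h1
  have hfin : Finite (Matrix ι ι F)ˣ := inferInstance
  obtain ⟨k, hk0, hk⟩ := isOfFinOrder_iff_pow_eq_one.1 (isOfFinOrder_of_finite U)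
  exact ⟨k, hk0, by rw [← Units.val_pow_eq_pow_val, hk, Units.val_one]⟩

section lin2

variable {F : Type} [Field F] [Fintype F] {p f n : ℕ} [hp : Fact p.Prime] [CharP F p]

/-- lifts from `HasMat` -/
theorem lift_mat {t : Fam} {L : Type*} [Group L] {x : L} {s : ℤ} (h : HasMat F (AlgebraicClosure F) s n (orderOf x))
    (hn : n ≤ rk t) (hcard : Fintype.card F ^ n ≤ (p ^ f) ^ (2 * rk t + 1)) (hwt : ∀ i, wt t i = i)
    (hua : ∀ d, X7.ua s d = tnum t (p ^ f) d) : HasLift t p f x := by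
  obtain ⟨hinj, A, hdet, hcs, hA⟩ := h
  refine ⟨F, inferInstance, inferInstance, inferInstance, Fin n → F, inferInstance, inferInstance, inferInstance,
    Matrix.toLin' A, ?_, ?_, ?_, ?_, ?_⟩
  · intro k hk
    rw [toLin'_pow_eq_one] at hk
    exact orderOf_dvd_iff_pow_eq_one.1 (hA k ⟨1, by rw [hk, one_smul]⟩)
  · obtain ⟨k, hk0, hk⟩ := mat_fin A (by rw [hdet]; exact one_ne_zero)
    exact ⟨k, hk0, (toLin'_pow_eq_one A k).2 hk⟩
  · rw [Module.finrank_fin_fun]; omega
  · rw [Module.finrank_fin_fun]; exact hcard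
  · intro w hw y e _ _ he
    rw [← rts_toLin'] at hw
    obtain ⟨d, hd1, hdn, hwd⟩ := lin_root A hdet hinj hcs hw
    exact ⟨d, hd1, by rw [hwt]; omega, by rw [← hua]; exact he.trans (orderOf_dvd_of_pow_eq_one hwd)⟩

end lin2

/-- isometry groups: from the stable multiset of roots -/
theorem lift_ed {t : Fam} {p f : ℕ} {L : Type*} [Group L] {x : L} {F : Type} [Field F] [Fintype F] [CharP F p]
    {V : Type} [AddCommGroup V] [Module F V] [FiniteDimensional F V] (g : Module.End F V)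
    (hcardF : Fintype.card F = p ^ f) (hgx : ∀ k, g ^ k = 1 → x ^ k = 1) (hfin : ∃ k, 0 < k ∧ g ^ k = 1)
    (hN : finrank F V ≤ 2 * rk t + 1) (h1 : 1 ≤ rk t) (hwt : ∀ i, wt t i = eta i)
    (htw : ∀ i, tnum t (p ^ f) i = tw (p ^ f) i)
    (hED : ∀ [DecidableEq (AlgebraicClosure F)], ED (Fintype.card F) (rts g)) : HasLift t p f x := by
  classical
  refine ⟨F, inferInstance, inferInstance, inferInstance, V, inferInstance, inferInstance, inferInstance,
    g, hgx, hfin, hN, ?_, ?_⟩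
  · rw [hcardF]
    exact Nat.pow_le_pow_right (by rw [← hcardF]; exact Fintype.card_pos) hN
  · intro w hw y e hy hy2 he
    obtain ⟨i, hi1, hi2, hi3⟩ := iso_root (frob_inj F) Fintype.card_pos (hED) (n := rk t)
      (by rw [card_rts]; exact hN) h1 hw hy hy2 he
    exact ⟨i, hi1, by rw [hwt]; exact hi2, by rw [htw, ← hcardF]; exact hi3⟩

section psp

variable {F : Type} [Field F] [Fintype F] {p f n : ℕ} [hp : Fact p.Prime] [CharP F p]

theorem lift_psp (hcardF : Fintype.card F = p ^ f) (hn : 1 ≤ n) (y : PSp n F) : HasLift (.psp n) p f y := by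
  obtain ⟨A, rfl⟩ := QuotientGroup.mk_surjective y
  set M : Matrix (Fin n ⊕ Fin n) (Fin n ⊕ Fin n) F := (A : Matrix (Fin n ⊕ Fin n) (Fin n ⊕ Fin n) F) with hM
  have hfinr : finrank F (Fin n ⊕ Fin n → F) = 2 * n := by
    rw [Module.finrank_fintype_fun_eq_card]; simp; ring
  have hdetM : M.det = 1 := SymplecticGroup.det_eq_one A.2
  refine lift_ed (Matrix.toLin' M) hcardF ?_ ?_ ?_ hn (fun i => rfl) (fun i => rfl) ?_
  · intro k hk
    rw [toLin'_pow_eq_one] at hk
    have h1 : A ^ k = 1 := Subtype.ext hk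
    rw [← QuotientGroup.mk_pow, h1, QuotientGroup.mk_one]
  · obtain ⟨k, hk0, hk⟩ := mat_fin M (by rw [hdetM]; exact one_ne_zero)
    exact ⟨k, hk0, (toLin'_pow_eq_one M k).2 hk⟩
  · rw [hfinr]
    show 2 * n ≤ 2 * n + 1
    omega
  · intro _
    set g : Module.End F (Fin n ⊕ Fin n → F) := Matrix.toLin' M with hg
    have hroots : (M.map (algebraMap F (AlgebraicClosure F))).charpoly.roots = rts g := rts_toLin' M
    have hJM : Matrix.transpose M * Matrix.J (Fin n) F * M = Matrix.J (Fin n) F := SymplecticGroup.mem_iff'.1 A.2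
    have hinv : rts g = (rts g).map (fun x => x⁻¹) := by
      rw [← hroots]
      refine roots_inv (M := M.map (algebraMap F (AlgebraicClosure F)))
        (G := (Matrix.J (Fin n) F).map (algebraMap F (AlgebraicClosure F))) ?_ ?_ (IsAlgClosed.splits _)
      · have h4 : ((Matrix.J (Fin n) F).map (algebraMap F (AlgebraicClosure F))).det =
            algebraMap F (AlgebraicClosure F) (Matrix.J (Fin n) F).det := by
          rw [RingHom.map_det]; rfl
        rw [h4]
        exact (_root_.map_ne_zero _).2 (Matrix.isUnit_det_J (Fin n) F).ne_zero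
      · have h5 := congrArg (fun A : Matrix _ _ F => A.map (algebraMap F (AlgebraicClosure F))) hJM
        simp only [Matrix.map_mul] at h5
        exact h5
    have hprod : (rts g).prod = 1 := prod_rts (by rw [hg, LinearMap.det_toLin', hdetM])
    refine ⟨fun x => ?_, fun x => ?_, ?_⟩
    · have := count_frob g x
      convert this using 2
    · conv_lhs => rw [hinv]
      exact Multiset.count_map_eq_count' _ _ inv_injective _
    · rintro x hx rfl
      rw [Multiset.prod_eq_zero hx] at hprod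
      exact zero_ne_one hprod

end psp

section orth

variable {F : Type} [Field F] [Fintype F] {p f : ℕ} [hp : Fact p.Prime] [CharP F p] {ι : Type} [Fintype ι]
  [DecidableEq ι]

theorem lift_orth {t : Fam} (hcardF : Fintype.card F = p ^ f) (h2 : (2 : F) ≠ 0) {Q : QuadraticForm F (ι → F)}
    (hQ : Cfsg.Agent.LieClassical.OrthCore.Nondeg Q) (hd : 5 ≤ Fintype.card ι) (hN : Fintype.card ι ≤ 2 * rk t + 1)
    (h1 : 1 ≤ rk t) (hwt : ∀ i, wt t i = eta i) (htw : ∀ i, tnum t (p ^ f) i = tw (p ^ f) i) (y : POmega F ⇑Q) :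
    HasLift t p f y := by
  obtain ⟨g, ⟨hgO, -, -⟩, hs, -⟩ := lift_pomega h2 hQ hd y
  have hfinG : Finite ((ι → F) ≃ₗ[F] (ι → F)) := DFunLike.finite _
  refine lift_ed (en g) hcardF (fun k hk => hs k ⟨1, by rw [hk, one_smul]⟩) ?_ ?_ h1 hwt htw ?_
  · obtain ⟨k, hk0, hk⟩ := isOfFinOrder_iff_pow_eq_one.1 (isOfFinOrder_of_finite g)
    refine ⟨k, hk0, ?_⟩
    rw [← en_pow, hk]
    rfl
  · rw [Module.finrank_fintype_fun_eq_card]; exact hN
  · intro _
    exact ed_rts hQ hgO

end orth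

/-- **Lifts for the classical families.** -/
theorem has_lift {t : Fam} (ht : Classical t) {p f : ℕ} (hp : p.Prime) (hp2 : p ≠ 2) {L : Type u} [Group L] [Finite L]
    (hI : Fam.Is p f L t) (x : L) : HasLift t p f x := by
  have hfp := Fact.mk hp
  have hq1 : 1 ≤ p ^ f := Nat.one_le_pow _ _ hp.pos
  cases t with
  | psl n =>
    obtain ⟨hn, -, F, _, _, hch, hF, ⟨E⟩⟩ := hI
    refine HasLift.map E (lift_mat (hasMat_psl rfl hF (E x)) (le_refl n) ?_ (fun _ => rfl) fun d => ?_)
    · rw [hF, ← pow_mul, ← pow_mul]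
      exact Nat.pow_le_pow_right hp.pos (Nat.mul_le_mul_left f (show n ≤ 2 * n + 1 by omega))
    · exact X7.ua_plus hq1 d
  | psu n =>
    obtain ⟨hn, -, F, _, _, hch, hF, ⟨E⟩⟩ := hI
    have hM := hasMat_psu (F := F) (q := p ^ f) rfl (E x)
    refine HasLift.map E (lift_mat hM (le_refl n) ?_ (fun _ => rfl) fun d => ?_)
    · rw [hF, ← pow_mul]
      exact Nat.pow_le_pow_right hq1 (show 2 * n ≤ 2 * n + 1 by omega)
    · show X7.ua (-((p ^ f : ℕ) : ℤ)) d = if Even d then (p ^ f) ^ d - 1 else (p ^ f) ^ d + 1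
      split_ifs with hd
      · exact X7.ua_minus_even hq1 hd
      · exact X7.ua_minus_odd (Nat.not_even_iff_odd.1 hd)
  | psp n =>
    obtain ⟨hn, -, F, _, _, hch, hF, ⟨E⟩⟩ := hI
    exact HasLift.map E (lift_psp hF (by omega) (E x))
  | oodd n =>
    obtain ⟨hn, -, F, _, _, hch, hF, ⟨E⟩⟩ := hI
    obtain ⟨hf, -, h2, e, he1, he⟩ := field_data hp hp2 hF
    have key : ∀ y : POmega F ⇑(Cfsg.Agent.LieClassical.OrthForms.oddForm n F), HasLift (.oodd n) p f y :=
      lift_orth hF h2 (Cfsg.Agent.LieClassical.OrthForms.nondeg_oddForm n F h2) (by simp; omega)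
        (by simp only [Fintype.card_sum, Fintype.card_fin, Fintype.card_unit]; show _ ≤ 2 * n + 1; omega)
        (show 1 ≤ n by omega) (fun _ => rfl) (fun _ => rfl)
    rw [Cfsg.Agent.LieClassical.OrthForms.coe_oddForm] at key
    exact HasLift.map E (key (E x))
  | oplus n =>
    obtain ⟨hn, F, _, _, hch, hF, ⟨E⟩⟩ := hI
    obtain ⟨hf, -, h2, e, he1, he⟩ := field_data hp hp2 hF
    have key : ∀ y : POmega F ⇑(Cfsg.Agent.LieClassical.OrthForms.plusForm n F), HasLift (.oplus n) p f y :=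
      lift_orth hF h2 (Cfsg.Agent.LieClassical.OrthForms.nondeg_plusForm n F) (by simp; omega)
        (by simp only [Fintype.card_sum, Fintype.card_fin]; show _ ≤ 2 * n + 1; omega)
        (show 1 ≤ n by omega) (fun _ => rfl) (fun _ => rfl)
    rw [Cfsg.Agent.LieClassical.OrthForms.coe_plusForm] at key
    exact HasLift.map E (key (E x))
  | ominus n =>
    obtain ⟨hn, F, _, _, hch, a, b, hF, hab, ⟨E⟩⟩ := hI
    obtain ⟨hf, -, h2, e, he1, he⟩ := field_data hp hp2 hF
    have key : ∀ y : POmega F ⇑(Cfsg.Agent.LieClassical.OrthForms.minusForm (n - 1) F a b), HasLift (.ominus n) p f y :=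
      lift_orth hF h2 (Cfsg.Agent.LieClassical.OrthForms.nondeg_minusForm (n - 1) F a b hab) (by simp; omega)
        (by simp only [Fintype.card_sum, Fintype.card_fin]; show _ ≤ 2 * n + 1; omega)
        (show 1 ≤ n by omega) (fun _ => rfl) (fun _ => rfl)
    rw [Cfsg.Agent.LieClassical.OrthForms.coe_minusForm] at key
    exact HasLift.map E (key (E x))
  | _ => exact ht.elim

/-! ### the results -/

theorem pow_dvd_lcm_or {y e a b : ℕ} (hy : y.Prime) (ha : a ≠ 0) (hb : b ≠ 0) (h : y ^ e ∣ Nat.lcm a b) :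
    y ^ e ∣ a ∨ y ^ e ∣ b := by
  rw [hy.pow_dvd_iff_le_factorization (Nat.lcm_ne_zero ha hb), Nat.factorization_lcm ha hb] at h
  rw [hy.pow_dvd_iff_le_factorization ha, hy.pow_dvd_iff_le_factorization hb]
  exact le_sup_iff.1 h

theorem exists_pow_dvd {ι : Type*} [DecidableEq ι] {y e : ℕ} (hy : y.Prime) (he : 1 ≤ e) {f : ι → ℕ} (S : Finset ι) :
    (∀ i ∈ S, f i ≠ 0) → y ^ e ∣ S.lcm f → ∃ i ∈ S, y ^ e ∣ f i := by
  induction S using Finset.induction_on with
  | empty =>
    intro _ h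
    rw [Finset.lcm_empty, Nat.dvd_one] at h
    exact absurd h (Nat.one_lt_pow (by omega) hy.one_lt).ne'
  | insert a S ha ih =>
    intro h0 h
    rw [Finset.lcm_insert] at h
    have h1 : S.lcm f ≠ 0 := by
      intro h2
      rw [Finset.lcm_eq_zero_iff] at h2
      obtain ⟨i, hi, h3⟩ := h2
      exact h0 i (Finset.mem_insert_of_mem hi) h3
    rcases pow_dvd_lcm_or hy (h0 a (Finset.mem_insert_self _ _)) h1 h with h2 | h2
    · exact ⟨a, Finset.mem_insert_self _ _, h2⟩
    · obtain ⟨i, hi, h3⟩ := ih (fun i hi => h0 i (Finset.mem_insert_of_mem hi)) h2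
      exact ⟨i, Finset.mem_insert_of_mem hi, h3⟩

theorem rk_pos {t : Fam} (ht : Classical t) {p f : ℕ} {L : Type u} [Group L] (hI : Fam.Is p f L t) :
    2 ≤ rk t := by
  cases t with
  | psl n => exact hI.1
  | psu n => exact (by omega : 2 ≤ 3).trans hI.1
  | psp n => exact hI.1
  | oodd n => exact (by omega : 2 ≤ 3).trans hI.1
  | oplus n => exact (by omega : 2 ≤ 4).trans hI.1
  | ominus n => exact (by omega : 2 ≤ 4).trans hI.1
  | _ => exact ht.elim

theorem wt_one {t : Fam} (ht : Classical t) : wt t 1 = 1 := by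
  cases t with
  | psl n => rfl
  | psu n => rfl
  | psp n => rfl
  | oodd n => rfl
  | oplus n => rfl
  | ominus n => rfl
  | _ => exact ht.elim

/-- **Exponents: `y`-parts divide torus numbers.** -/
theorem lexp {t : Fam} (ht : Classical t) {p f : ℕ} (hp : p.Prime) (hp2 : p ≠ 2) {L : Type u} [Group L] [Finite L]
    (hI : Fam.Is p f L t) {y e : ℕ} (hy : y.Prime) (hy2 : y ≠ 2) (hyp : y ≠ p) (hx : ∃ x : L, orderOf x = y ^ e) :
    ∃ i, 1 ≤ i ∧ wt t i ≤ rk t ∧ y ^ e ∣ tnum t (p ^ f) i := by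
  classical
  have hfp := Fact.mk hp
  rcases Nat.eq_zero_or_pos e with he | he
  · refine ⟨1, le_rfl, ?_, ?_⟩
    · rw [wt_one ht]
      have := rk_pos ht hI
      omega
    · rw [he, pow_zero]; exact one_dvd _
  obtain ⟨x, hx⟩ := hx
  obtain ⟨F, _, _, hch, V, _, _, _, g, hgx, ⟨k, hk0, hk⟩, hN, -, hrts⟩ := has_lift ht hp hp2 hI x
  have hfo : ∀ w ∈ (rts g).toFinset, orderOf w ≠ 0 := by
    intro w hw
    have h1 := pow_of_rts hk (Multiset.mem_toFinset.1 hw)
    exact (orderOf_pos_iff.2 (isOfFinOrder_iff_pow_eq_one.2 ⟨k, hk0, h1⟩)).ne'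
  set T := (rts g).toFinset.lcm orderOf with hT
  have h1 : g ^ (T * p ^ finrank F V) = 1 := by
    refine pow_eq_one_of_bd (M := finrank F V) (N := T) (c := finrank F V) ⟨?_, ?_⟩ (Nat.lt_pow_self hp.one_lt).le
    · intro w
      refine (Multiset.count_le_card _ _).trans ?_
      rw [card_rts]
    · intro w hw
      exact orderOf_dvd_iff_pow_eq_one.1 (Finset.dvd_lcm (Multiset.mem_toFinset.2 hw))
  have h2 := orderOf_dvd_of_pow_eq_one (hgx _ h1)
  rw [hx] at h2
  have h3 : y ^ e ∣ T :=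
    (((Nat.coprime_primes hy hp).2 hyp).pow e (finrank F V)).dvd_of_dvd_mul_right h2
  obtain ⟨w, hw, h4⟩ := exists_pow_dvd hy he _ hfo h3
  exact hrts w (Multiset.mem_toFinset.1 hw) y e hy hy2 h4

/-- **Exponents: the `p`-part.** -/
theorem pexp {t : Fam} (ht : Classical t) {p f : ℕ} (hp : p.Prime) (hp2 : p ≠ 2) {L : Type u} [Group L] [Finite L]
    (hI : Fam.Is p f L t) {e : ℕ} (hx : ∃ x : L, orderOf x = p ^ (e + 1)) : p ^ e < 2 * rk t + 1 := by
  classical
  have hfp := Fact.mk hp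
  by_contra hcon
  obtain ⟨x, hx⟩ := hx
  obtain ⟨F, _, _, hch, V, _, _, _, g, hgx, ⟨k, hk0, hk⟩, hN, -, -⟩ := has_lift ht hp hp2 hI x
  obtain ⟨j, m, hm, rfl⟩ := Nat.exists_eq_pow_mul_and_not_dvd hk0.ne' p hp.ne_one
  have hCP : CharP (AlgebraicClosure F) p := charP_of_injective_algebraMap (algebraMap F (AlgebraicClosure F)).injective p
  have h1 : g ^ (m * p ^ e) = 1 := by
    refine pow_eq_one_of_bd (M := finrank F V) (N := m) (c := e) ⟨?_, ?_⟩ (by omega)
    · intro w
      refine (Multiset.count_le_card _ _).trans ?_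
      rw [card_rts]
    · intro w hw
      have h2 := pow_of_rts hk hw
      rw [mul_comm, pow_mul] at h2
      apply (iterateFrobenius (AlgebraicClosure F) p j).injective
      rw [iterateFrobenius_def, iterateFrobenius_def, h2, one_pow]
  have h2 := orderOf_dvd_of_pow_eq_one (hgx _ h1)
  rw [hx, pow_succ, mul_comm m] at h2
  exact hm (Nat.dvd_of_mul_dvd_mul_left (pow_pos hp.pos e) h2)

/-- the order of a linear map -/
theorem pow_bound {F V : Type*} [Field F] [Fintype F] [AddCommGroup V] [Module F V] [FiniteDimensional F V]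
    {L : Type u} [Group L] [Finite L] (x : L) (g : Module.End F V) (hgx : ∀ k, g ^ k = 1 → x ^ k = 1)
    (hfin : ∃ k, 0 < k ∧ g ^ k = 1) : orderOf x ≤ Fintype.card F ^ finrank F V := by
  classical
  obtain ⟨k, hk0, hk⟩ := hfin
  have hu : IsUnit g := IsUnit.of_pow_eq_one hk hk0.ne'
  set χ := g.charpoly with hχ
  have hmon : χ.Monic := LinearMap.charpoly_monic g
  have hev : ∀ i : ℕ, aeval g ((X : F[X]) ^ i %ₘ χ) = g ^ i := by
    intro i
    have h1 := congrArg (aeval g) (Polynomial.modByMonic_add_div (X ^ i : F[X]) χ)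
    rw [map_add, map_mul, hχ, LinearMap.aeval_self_charpoly, zero_mul, add_zero, map_pow, aeval_X] at h1
    exact h1
  have hdeg : ∀ i : ℕ, ∀ j : ℕ, finrank F V ≤ j → ((X : F[X]) ^ i %ₘ χ).coeff j = 0 := by
    intro i j hj
    apply Polynomial.coeff_eq_zero_of_degree_lt
    refine (Polynomial.degree_modByMonic_lt _ hmon).trans_le ?_
    rw [Polynomial.degree_eq_natDegree hmon.ne_zero, hχ, LinearMap.charpoly_natDegree]
    exact_mod_cast hj
  have hinj : Function.Injective (fun i : Fin (orderOf x) => fun j : Fin (finrank F V) =>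
      ((X : F[X]) ^ (i : ℕ) %ₘ χ).coeff j) := by
    intro a b hab
    have h1 : ((X : F[X]) ^ (a : ℕ) %ₘ χ) = ((X : F[X]) ^ (b : ℕ) %ₘ χ) := by
      ext j
      by_cases hj : j < finrank F V
      · exact congrFun hab ⟨j, hj⟩
      · rw [hdeg a j (by omega), hdeg b j (by omega)]
    have h2 : g ^ (a : ℕ) = g ^ (b : ℕ) := by rw [← hev, ← hev, h1]
    have key : ∀ a b : ℕ, a ≤ b → b < orderOf x → g ^ a = g ^ b → a = b := by
      intro a b hab hb h
      obtain ⟨c, rfl⟩ := Nat.exists_eq_add_of_le hab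
      rw [pow_add] at h
      have h3 : g ^ c = 1 := ((hu.pow a).mul_left_cancel ((mul_one _).trans h)).symm
      have h4 := orderOf_dvd_of_pow_eq_one (hgx c h3)
      rcases Nat.eq_zero_or_pos c with hc | hc
      · omega
      · have := Nat.le_of_dvd hc h4
        omega
    apply Fin.ext
    rcases le_total (a : ℕ) b with h | h
    · exact key a b h b.2 h2
    · exact (key b a h a.2 h2.symm).symm
  have h1 := Fintype.card_le_of_injective _ hinj
  rwa [Fintype.card_fin, Fintype.card_fun, Fintype.card_fin] at h1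

/-- **The order of an element.** -/
theorem ordle {t : Fam} (ht : Classical t) {p f : ℕ} (hp : p.Prime) (hp2 : p ≠ 2) {L : Type u} [Group L] [Finite L]
    (hI : Fam.Is p f L t) (x : L) : orderOf x ≤ (p ^ f) ^ (2 * rk t + 1) := by
  obtain ⟨F, _, _, hch, V, _, _, _, g, hgx, hk, hN, hb, -⟩ := has_lift ht hp hp2 hI x
  exact (pow_bound x g hgx hk).trans hb

end Cfsg.Agent.R2.Spec.EE
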