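import Cfsg.Agent.R2.Spec.F1.LSide
import Cfsg.Agent.R2.Spec.F1.SSide
import Cfsg.Agent.R2.Spec.P1.Exp
import Cfsg.Agent.H365.Zsig

/-!
# The numbers of the regular classes (packet EE-NUM (5), helper5)

* `class_num` : for `n ≥ 3`, `q ≥ 3` odd: a divisor `M > 1` of `Φ_n(q)`, all of whose primes have `n` as order of `q`,
  `q ^ 2 - q + 1 ≤ 3 M`;
* `class_num5` : the same for the class `i` of a classical family: `M ∣ tnum t q i`, `M` odd, `5 ≤ M`,
  `q ^ 2 - q + 1 ≤ 3 M`, all primes of `M` in the class `i`.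
-/

set_option autoImplicit false
set_option linter.unusedSectionVars false

namespace Cfsg.Agent.R2.Spec.EE

open Cfsg Polynomial
open Cfsg.Agent.H426.LieFam Cfsg.Agent.R2.Spec Cfsg.Agent.R2.Spec.P1 Cfsg.Agent.R2.Spec.F1
open Cfsg.Agent.H365.Zsig

/-! ### the value of the cyclotomic polynomial -/

theorem Ph_lower {n q : ℕ} (hn : 2 ≤ n) (hq : 2 ≤ q) : (q - 1) ^ n.totient < Ph n q :=
  sub_one_pow_totient_lt_natAbs_cyclotomic_eval (by omega) (by omega)

theorem Ph_three (q : ℕ) : Ph 3 q = q ^ 2 + q + 1 := by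
  rw [Ph, cyclotomic_three]
  simp only [eval_add, eval_pow, eval_X, eval_one]
  exact_mod_cast Int.natAbs_natCast (q ^ 2 + q + 1)

theorem Ph_four (q : ℕ) : Ph 4 q = q ^ 2 + 1 := by
  have h : cyclotomic (2 ^ (1 + 1)) ℤ = ∑ i ∈ Finset.range 2, (X ^ 2 ^ 1) ^ i :=
    cyclotomic_prime_pow_eq_geom_sum Nat.prime_two
  have h1 : (2 ^ (1 + 1) : ℕ) = 4 := by norm_num
  rw [h1] at h
  rw [Ph, h]
  simp only [Finset.sum_range_succ, Finset.sum_range_zero, zero_add, pow_zero, pow_one, eval_add, eval_pow, eval_X,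
    eval_one]
  rw [add_comm]
  exact_mod_cast Int.natAbs_natCast (q ^ 2 + 1)

theorem Ph_six {q : ℕ} (hq : 1 ≤ q) : Ph 6 q = q ^ 2 - q + 1 := by
  have h1 : ((Ph 6 q : ℕ) : ℤ) = (q : ℤ) ^ 2 - q + 1 := by
    rw [← Ph_cast hq, cyclotomic_six]
    simp
  have h2 : q ≤ q ^ 2 := Nat.le_self_pow two_ne_zero q
  have h3 : (((q ^ 2 - q + 1 : ℕ)) : ℤ) = (q : ℤ) ^ 2 - q + 1 := by
    rw [Nat.cast_add, Nat.cast_sub h2]
    push_cast
    ring
  exact_mod_cast h1.trans h3.symm

theorem totient_cases {n : ℕ} (hn : 3 ≤ n) (h : n.totient < 4) : n = 3 ∨ n = 4 ∨ n = 6 := by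
  have h1 : n ≤ 2 * n.totient ^ 2 := le_two_mul_totient_sq (by omega)
  have h2 : n.totient ≤ 3 := by omega
  have h3 : n.totient ^ 2 ≤ 9 := by nlinarith
  have h4 : n ≤ 18 := by omega
  interval_cases n <;> revert h <;> decide

/-- the primitive part of `Φ_n(q)` -/
theorem class_num {n q : ℕ} (hn : 3 ≤ n) (hq : 3 ≤ q) (hodd : q % 2 = 1) :
    ∃ M : ℕ, M ∣ Ph n q ∧ 1 < M ∧ (∀ r : ℕ, r.Prime → r ∣ M → orderOf (q : ZMod r) = n) ∧ q ^ 2 - q + 1 ≤ 3 * M := by
  have hPh1 : 1 < Ph n q := Ph_gt_one (by omega) (by omega)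
  have hlow := Ph_lower (n := n) (q := q) (by omega) (by omega)
  by_cases hex : ∃ r : ℕ, r.Prime ∧ r ∣ Ph n q ∧ orderOf (q : ZMod r) ≠ n
  · obtain ⟨r, hr, hrd, hro⟩ := hex
    obtain ⟨k, m, hnk, hrm, hord, hmr, hm0⟩ := (prime_dvd_Ph (by omega) (by omega) hr hrd).resolve_left hro
    have hsq := sq_not_dvd hn (by omega) hr hnk hrm hord hmr hm0
    obtain ⟨M, hM⟩ := hrd
    have hrn : r ∣ n := by rw [hnk]; exact (dvd_pow_self r (Nat.succ_ne_zero k)).mul_right m
    have htot : r - 1 ≤ n.totient := by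
      have h1 := Nat.totient_dvd_of_dvd hrn
      rw [Nat.totient_prime hr] at h1
      exact Nat.le_of_dvd (Nat.totient_pos.2 (by omega)) h1
    have hprim : ∀ s : ℕ, s.Prime → s ∣ M → orderOf (q : ZMod s) = n := by
      intro s hs hsM
      have hsd : s ∣ Ph n q := by rw [hM]; exact hsM.mul_left r
      rcases prime_dvd_Ph (by omega) (by omega) hs hsd with h | ⟨k', m', hnk', hrm', hord', hmr', hm0'⟩
      · exact h
      · exfalso
        have hsn : s ∣ n := by rw [hnk']; exact (dvd_pow_self s (Nat.succ_ne_zero k')).mul_right m'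
        -- `s = r`
        have h1 : ∀ {a b e c : ℕ}, a.Prime → b.Prime → n = a ^ (e + 1) * c → c ∣ a - 1 → b ∣ n → b ≤ a := by
          intro a b e c ha hb hn' hc hbn
          rw [hn'] at hbn
          rcases hb.dvd_mul.1 hbn with h | h
          · exact ((Nat.prime_dvd_prime_iff_eq hb ha).1 (hb.dvd_of_dvd_pow h)).le
          · have := Nat.le_of_dvd (by have := ha.two_le; omega) (h.trans hc)
            omega
        have hsr : s = r := le_antisymm (h1 hr hs hnk hmr hsn) (h1 hs hr hnk' hmr' hrn)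
        subst hsr
        apply hsq
        rw [hM, pow_two]
        exact Nat.mul_dvd_mul_left s hsM
    have hr2 := hr.two_le
    have hM0 : 0 < M := by
      rcases Nat.eq_zero_or_pos M with rfl | h
      · rw [mul_zero] at hM; omega
      · exact h
    refine ⟨M, ⟨r, by rw [hM, mul_comm]⟩, ?_, hprim, ?_⟩
    · by_contra hcon
      have hM1 : M = 1 := by omega
      rw [hM1, mul_one] at hM
      by_cases h4 : n.totient < 4
      · rcases totient_cases hn h4 with rfl | rfl | rfl
        · rw [Ph_three] at hM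
          have h5 : r = 3 := (Nat.prime_dvd_prime_iff_eq hr Nat.prime_three).1 hrn
          nlinarith
        · rw [Ph_four] at hM
          have h5 : r = 2 := (Nat.prime_dvd_prime_iff_eq hr Nat.prime_two).1
            (hr.dvd_of_dvd_pow (by exact hrn : r ∣ 2 ^ 2))
          nlinarith
        · rw [Ph_six (by omega)] at hM
          have h5 : r ≤ 3 := by
            have h6 : r ∣ 2 * 3 := hrn
            rcases hr.dvd_mul.1 h6 with h | h
            · have := Nat.le_of_dvd (by norm_num) h; omega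
            · exact Nat.le_of_dvd (by norm_num) h
          have h6 : 3 * q ≤ q ^ 2 := by nlinarith
          omega
      · have h5 : n.totient + 1 < Ph n q := by
          calc n.totient + 1 ≤ 2 ^ n.totient := Nat.lt_two_pow_self
            _ ≤ (q - 1) ^ n.totient := Nat.pow_le_pow_left (by omega) _
            _ < _ := hlow
        omega
    · by_cases h4 : n.totient < 4
      · rcases totient_cases hn h4 with rfl | rfl | rfl
        · rw [Ph_three] at hM
          have h5 : r = 3 := (Nat.prime_dvd_prime_iff_eq hr Nat.prime_three).1 hrn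
          subst h5
          omega
        · rw [Ph_four] at hM
          have h5 : r = 2 := (Nat.prime_dvd_prime_iff_eq hr Nat.prime_two).1
            (hr.dvd_of_dvd_pow (by exact hrn : r ∣ 2 ^ 2))
          subst h5
          omega
        · rw [Ph_six (by omega)] at hM
          have h5 : r ≤ 3 := by
            have h6 : r ∣ 2 * 3 := hrn
            rcases hr.dvd_mul.1 h6 with h | h
            · have := Nat.le_of_dvd (by norm_num) h; omega
            · exact Nat.le_of_dvd (by norm_num) h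
          have h6 : r * M ≤ 3 * M := Nat.mul_le_mul_right M h5
          omega
      · push Not at h4
        by_cases hq3 : q = 3
        · -- `M ≥ 3`
          subst hq3
          have hMr : 3 ≤ M := by
            by_contra hcon
            have hM2 : M ≤ 2 := by omega
            have h5 : n.totient + 1 < 2 ^ n.totient := by
              have : ∀ x : ℕ, 4 ≤ x → x + 1 < 2 ^ x := by
                intro x hx
                induction x, hx using Nat.le_induction with
                | base => norm_num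
                | succ x hx ih => rw [pow_succ]; omega
              exact this _ h4
            have h6 : 2 * (n.totient + 1) < 2 ^ n.totient := by
              have : ∀ x : ℕ, 4 ≤ x → 2 * (x + 1) < 2 ^ x := by
                intro x hx
                induction x, hx using Nat.le_induction with
                | base => norm_num
                | succ x hx ih => rw [pow_succ]; omega
              exact this _ h4
            have h7 : Ph n 3 ≤ (n.totient + 1) * 2 := by
              rw [hM]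
              exact Nat.mul_le_mul (by omega) hM2
            have h8 : 2 ^ n.totient < Ph n 3 := hlow
            omega
          omega
        · have hq5 : 5 ≤ q := by omega
          obtain ⟨x, rfl⟩ : ∃ x, q = x + 5 := ⟨q - 5, by omega⟩
          have h5 : ∀ t : ℕ, 4 ≤ t → (t + 1) * (x + 4) ^ 4 ≤ 5 * (x + 4) ^ t := by
            intro t ht
            induction t, ht using Nat.le_induction with
            | base => omega
            | succ t ht ih =>
              rw [pow_succ]
              have h6 : (t + 1 + 1) * (x + 4) ^ 4 ≤ 2 * ((t + 1) * (x + 4) ^ 4) := by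
                have : 0 ≤ (x + 4) ^ 4 := Nat.zero_le _
                nlinarith
              calc _ ≤ _ := h6
                _ ≤ 2 * (5 * (x + 4) ^ t) := Nat.mul_le_mul_left 2 ih
                _ ≤ 5 * ((x + 4) ^ t * (x + 4)) := by nlinarith [Nat.zero_le ((x + 4) ^ t)]
          have h6 := h5 _ h4
          have h7 : (x + 5 - 1) ^ n.totient = (x + 4) ^ n.totient := by
            congr 1
          rw [h7, hM] at hlow
          have h8 : r ≤ n.totient + 1 := by omega
          -- `(t + 1) (x+4)^4 ≤ 5 (x+4)^t < 5 r M ≤ 5 (t + 1) M`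
          have h9 : (n.totient + 1) * (x + 4) ^ 4 < (n.totient + 1) * (5 * M) := by
            calc _ ≤ 5 * (x + 4) ^ n.totient := h6
              _ < 5 * (r * M) := by omega
              _ ≤ 5 * ((n.totient + 1) * M) := Nat.mul_le_mul_left 5 (Nat.mul_le_mul_right M h8)
              _ = (n.totient + 1) * (5 * M) := by ring
          have h10 : (x + 4) ^ 4 < 5 * M := Nat.lt_of_mul_lt_mul_left h9
          have h11 : (x + 5) ^ 2 - (x + 5) + 1 = x ^ 2 + 9 * x + 21 := by
            have : (x + 5) ^ 2 = (x ^ 2 + 9 * x + 20) + (x + 5) := by ring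
            omega
          rw [h11]
          have h12 : 5 * (x ^ 2 + 9 * x + 21) ≤ 3 * (x + 4) ^ 4 := by
            have : (x + 4) ^ 4 = x ^ 4 + 16 * x ^ 3 + 96 * x ^ 2 + 256 * x + 256 := by ring
            rw [this]
            nlinarith [Nat.zero_le (x ^ 4), Nat.zero_le (x ^ 3), Nat.zero_le (x ^ 2), Nat.zero_le x]
          omega
  · push Not at hex
    refine ⟨Ph n q, dvd_rfl, hPh1, hex, ?_⟩
    by_cases h4 : n.totient < 4
    · rcases totient_cases hn h4 with rfl | rfl | rfl
      · rw [Ph_three]; omega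
      · rw [Ph_four]; omega
      · rw [Ph_six (by omega)]; omega
    · push Not at h4
      have h5 : (q - 1) ^ 4 ≤ (q - 1) ^ n.totient := Nat.pow_le_pow_right (by omega) h4
      obtain ⟨x, rfl⟩ : ∃ x, q = x + 3 := ⟨q - 3, by omega⟩
      have h7 : (x + 3 - 1) = x + 2 := by omega
      rw [h7] at h5 hlow
      have h11 : (x + 3) ^ 2 - (x + 3) + 1 = x ^ 2 + 5 * x + 7 := by
        have : (x + 3) ^ 2 = (x ^ 2 + 5 * x + 6) + (x + 3) := by ring
        omega
      rw [h11]
      have h12 : x ^ 2 + 5 * x + 7 ≤ 3 * (x + 2) ^ 4 := by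
        have : (x + 2) ^ 4 = x ^ 4 + 8 * x ^ 3 + 24 * x ^ 2 + 32 * x + 16 := by ring
        rw [this]
        nlinarith [Nat.zero_le (x ^ 4), Nat.zero_le (x ^ 3), Nat.zero_le (x ^ 2), Nat.zero_le x]
      omega

/-! ### the classes for `-q` -/

/-- the order of `q` if the order of `-q` is `i` -/
def dl (i : ℕ) : ℕ := if i % 4 = 0 then i else if i % 2 = 0 then i / 2 else 2 * i

theorem dl_three {i : ℕ} (hi : 3 ≤ i) : 3 ≤ dl i := by
  unfold dl
  split_ifs <;> omega

theorem neg_order {r q i : ℕ} (hr : r.Prime) (hr2 : r ≠ 2) (hi : 3 ≤ i) (h : orderOf (q : ZMod r) = dl i) :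
    orderOf (-(q : ZMod r)) = i := by
  have := Fact.mk hr
  set x : ZMod r := (q : ZMod r) with hx
  have hx1 : x ^ dl i = 1 := by rw [← h]; exact pow_orderOf_eq_one x
  have h2 : ((2 : ℕ) : ZMod r) ≠ 0 := by
    rw [Ne, ZMod.natCast_eq_zero_iff]
    intro h2
    have := (Nat.prime_dvd_prime_iff_eq hr Nat.prime_two).1 h2
    exact hr2 this
  have key : (-x) ^ i = 1 → (∀ m : ℕ, dl i ∣ 2 * m → (-x) ^ m = 1 → i ∣ m) → orderOf (-x) = i := by
    intro h3 h4
    apply Nat.dvd_antisymm (orderOf_dvd_of_pow_eq_one h3)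
    have h5 : (-x) ^ orderOf (-x) = 1 := pow_orderOf_eq_one _
    refine h4 _ ?_ h5
    rw [← h]
    apply orderOf_dvd_of_pow_eq_one
    have h6 : x ^ (2 * orderOf (-x)) = ((-x) ^ orderOf (-x)) ^ 2 := by
      rw [← pow_mul (-x), mul_comm (orderOf _) 2, pow_mul (-x), neg_sq, ← pow_mul]
    rw [h6, h5, one_pow]
  by_cases h4 : i % 4 = 0
  · have hd : dl i = i := if_pos h4
    rw [hd] at hx1 h
    have he : Even i := ⟨i / 2, by omega⟩
    refine key (by rw [he.neg_pow, hx1]) ?_
    rw [hd]
    intro m hm h5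
    have h6 : Even m := by
      have h7 : 4 ∣ 2 * m := (Nat.dvd_of_mod_eq_zero h4).trans hm
      exact ⟨m / 2, by omega⟩
    rw [h6.neg_pow] at h5
    rw [← h]
    exact orderOf_dvd_of_pow_eq_one h5
  · by_cases h2' : i % 2 = 0
    · have hd : dl i = i / 2 := by rw [dl, if_neg h4, if_pos h2']
      rw [hd] at hx1 h
      obtain ⟨j, hj⟩ : ∃ j, i = 2 * j := ⟨i / 2, by omega⟩
      have hj2 : i / 2 = j := by omega
      rw [hj2] at hd hx1 h
      have hodd : Odd j := by
        rw [Nat.odd_iff]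
        omega
      have he : Even i := ⟨j, by omega⟩
      refine key (by rw [he.neg_pow, hj, mul_comm, pow_mul, hx1, one_pow]) ?_
      rw [hd]
      intro m hm h5
      have h6 : j ∣ m := Nat.Coprime.dvd_of_dvd_mul_left (Nat.coprime_two_right.2 hodd) hm
      have h7 : x ^ m = 1 := by
        obtain ⟨c, hc⟩ := h6
        rw [hc, pow_mul, hx1, one_pow]
      have h8 : Even m := by
        by_contra hodd'
        rw [Nat.not_even_iff_odd] at hodd'
        rw [hodd'.neg_pow, h7] at h5
        apply h2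
        push_cast
        linear_combination -h5
      rw [hj]
      exact Nat.Coprime.mul_dvd_of_dvd_of_dvd (Nat.coprime_two_left.2 hodd) h8.two_dvd h6
    · have hd : dl i = 2 * i := by rw [dl, if_neg h4, if_neg h2']
      rw [hd] at hx1 h
      have hodd : Odd i := by
        rw [Nat.odd_iff]
        omega
      refine key ?_ ?_
      · rw [hodd.neg_pow]
        have h1 : (x ^ i) ^ 2 = 1 := by rw [← pow_mul, mul_comm, hx1]
        have h3 : x ^ i ≠ 1 := by
          intro h3
          have h4 := orderOf_dvd_of_pow_eq_one h3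
          rw [h] at h4
          have := Nat.le_of_dvd (by omega) h4
          omega
        have h5 : (x ^ i - 1) * (x ^ i + 1) = 0 := by linear_combination h1
        rcases mul_eq_zero.1 h5 with h6 | h6
        · exact absurd (sub_eq_zero.1 h6) h3
        · linear_combination -h6
      · rw [hd]
        intro m hm _
        exact Nat.dvd_of_mul_dvd_mul_left two_pos hm

/-- if the order of `q` modulo all primes of `M` is `2 j`, then `M ∣ q ^ (2 j) - 1` gives `M ∣ q ^ j + 1` -/
theorem dvd_plus {q M j : ℕ} (hq : 1 ≤ q) (hj : 1 ≤ j) (hM : M ∣ q ^ (2 * j) - 1)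
    (h : ∀ r : ℕ, r.Prime → r ∣ M → orderOf (q : ZMod r) = 2 * j) : M ∣ q ^ j + 1 := by
  have h1 : 1 ≤ q ^ j := Nat.one_le_pow _ _ hq
  have h2 : q ^ (2 * j) - 1 = (q ^ j - 1) * (q ^ j + 1) := by
    have h3 : q ^ (2 * j) = q ^ j * q ^ j := by rw [two_mul, pow_add]
    rw [h3]
    obtain ⟨y, hy⟩ : ∃ y, q ^ j = y + 1 := ⟨q ^ j - 1, by omega⟩
    rw [hy]
    have : (y + 1) * (y + 1) = y * (y + 1 + 1) + 1 := by ring
    rw [this]
    simp
  rw [h2] at hM
  refine Nat.Coprime.dvd_of_dvd_mul_left ?_ hM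
  rw [Nat.coprime_iff_gcd_eq_one]
  by_contra hg
  obtain ⟨r, hr, hrg⟩ := Nat.exists_prime_and_dvd hg
  have hrM := hrg.trans (Nat.gcd_dvd_left _ _)
  have hrq := hrg.trans (Nat.gcd_dvd_right _ _)
  have h3 := h r hr hrM
  have h4 : ((q : ℕ) : ZMod r) ^ j = 1 := by
    have h5 : ((q ^ j - 1 : ℕ) : ZMod r) = 0 := (ZMod.natCast_eq_zero_iff _ _).2 hrq
    rw [Nat.cast_sub h1, Nat.cast_pow, Nat.cast_one] at h5
    exact sub_eq_zero.1 h5
  have h5 := orderOf_dvd_of_pow_eq_one h4
  rw [h3] at h5
  have := Nat.le_of_dvd (by omega) h5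
  omega

theorem class_num5 {t : Fam} (ht : Classical t) {q i : ℕ} (hq : q % 2 = 1) (hq3 : 3 ≤ q) (hi : 3 ≤ i) (hm : mem t i) :
    ∃ M : ℕ, M ∣ tnum t q i ∧ Odd M ∧ (∀ r : ℕ, r.Prime → r ∣ M → In t q i r) ∧ 5 ≤ M ∧ q ^ 2 - q + 1 ≤ 3 * M := by
  -- the common part
  have fin : ∀ M n : ℕ, 3 ≤ n → 1 < M → (∀ r : ℕ, r.Prime → r ∣ M → orderOf (q : ZMod r) = n) →
      (∀ r : ℕ, r.Prime → r ≠ 2 → orderOf (q : ZMod r) = n → cls t q r = i) → M ∣ tnum t q i →
      q ^ 2 - q + 1 ≤ 3 * M → ∃ M : ℕ, M ∣ tnum t q i ∧ Odd M ∧ (∀ r : ℕ, r.Prime → r ∣ M → In t q i r) ∧ 5 ≤ M ∧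
        q ^ 2 - q + 1 ≤ 3 * M := by
    intro M n hn hM1 hM2 hcl hMt hMq
    have h2 : ¬ 2 ∣ M := by
      intro h2
      have h3 := hM2 2 Nat.prime_two h2
      have h4 : orderOf ((q : ℕ) : ZMod 2) ∣ 2 - 1 := by
        have := Fact.mk Nat.prime_two
        apply ZMod.orderOf_dvd_card_sub_one
        rw [Ne, ZMod.natCast_eq_zero_iff]
        omega
      rw [h3] at h4
      have := Nat.le_of_dvd (by norm_num) h4
      omega
    have hin : ∀ r : ℕ, r.Prime → r ∣ M → In t q i r := fun r hr hrM =>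
      ⟨hr, hcl r hr (fun h => h2 (h ▸ hrM)) (hM2 r hr hrM), hi, hm⟩
    refine ⟨M, hMt, Nat.odd_iff.2 (by omega), hin, ?_, hMq⟩
    obtain ⟨r, hr, hrM⟩ := Nat.exists_prime_and_dvd (by omega : M ≠ 1)
    exact (hin r hr hrM).five.trans (Nat.le_of_dvd (by omega) hrM)
  have hnpsu : ∀ {n r : ℕ}, (∀ m, t ≠ .psu m) → orderOf (q : ZMod r) = n → cls t q r = n := by
    intro n r h1 h2
    rw [cls_eq_co h1, ← h2]
    rfl
  by_cases hpsu : ∀ m, t ≠ .psu m
  · obtain ⟨M, hM1, hM2, hM3, hM4⟩ := class_num hi hq3 hq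
    have hMd : M ∣ q ^ i - 1 := hM1.trans (Ph_dvd (by omega) (by omega))
    refine fin M i hi hM2 hM3 (fun r _ _ h => hnpsu hpsu h) ?_ hM4
    by_cases hpsl : ∀ m, t ≠ .psl m
    · rw [tnum_tn hpsl hpsu]
      unfold Cfsg.Agent.H72.AdjOrth.tn
      split_ifs with he
      · obtain ⟨j, hj⟩ := he
        have hj' : i / 2 = j := by omega
        rw [hj']
        have hij : i = 2 * j := by omega
        rw [hij] at hMd hM3
        exact dvd_plus (by omega) (by omega) hMd hM3
      · exact hMd
    · push Not at hpsl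
      obtain ⟨m, rfl⟩ := hpsl
      exact hMd
  · push Not at hpsu
    obtain ⟨m, rfl⟩ := hpsu
    obtain ⟨M, hM1, hM2, hM3, hM4⟩ := class_num (dl_three hi) hq3 hq
    have hMd : M ∣ q ^ dl i - 1 := hM1.trans (Ph_dvd (by have := dl_three hi; omega) (by omega))
    refine fin M (dl i) (dl_three hi) hM2 hM3 (fun r hr hr2 h => ?_) ?_ hM4
    · rw [cls, sg]
      push_cast
      exact neg_order hr hr2 hi h
    · unfold tnum
      simp only
      split_ifs with he
      · refine hMd.trans ?_
        have h1 : dl i ∣ i := by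
          unfold dl
          split_ifs with h2 h3
          · exact dvd_rfl
          · exact Nat.div_dvd_of_dvd (Nat.dvd_of_mod_eq_zero h3)
          · exact absurd (Nat.even_iff.1 he) h3
        exact Nat.pow_sub_one_dvd_pow_sub_one q h1
      · have h1 : dl i = 2 * i := by
          unfold dl
          rw [if_neg (by rw [Nat.even_iff] at he; omega), if_neg (by rw [Nat.even_iff] at he; omega)]
        rw [h1] at hMd hM3
        exact dvd_plus (by omega) (by omega) hMd hM3

end Cfsg.Agent.R2.Spec.EE
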