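import Cfsg.Agent.R2.Spec.EE.Fr
import Cfsg.Agent.R2.Spec.EE.NumC
import Cfsg.Agent.R2.Spec.EE.LExp
import Cfsg.Agent.H129.CycCardF

/-!
# Packet P7 (helper20): good primes, `S = ²F₄`, and ranks 9, 10 (`psl`, `psu`), 8 (`oplus`)

* `EX.gd_of_hc` : a class `i` whose primes are never field primes has a prime `Gd`;
* `EX.gd_psl9`, `EX.gd_psu9`, `EX.gd_psl10`, `EX.gd_psu10` : all classes, `i ≠ 4`, `S` arbitrary exceptional;
  `EX.gd_oplus8` : all classes, `S` arbitrary exceptional;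
* `tf4_big`, `EX.tf4_lt` : an element of order `> u ^ 2`;
* `EX.gd_tf4` : `S = ²F₄(u)`, all classes.
-/

set_option autoImplicit false
set_option linter.unusedSectionVars false
set_option linter.unusedVariables false

namespace Cfsg.Agent.R2.Spec.EE

open Subgroup Cfsg
open Cfsg.Agent.H426.LieFam Cfsg.Agent.R2.Spec Cfsg.Agent.R2.Spec.P1 Cfsg.Agent.R2.Spec.F1
open Cfsg.Agent.H420.QR

universe u w

theorem z7phi : ∀ a : ZMod 7, a ^ 6 + a ^ 5 + a ^ 4 + a ^ 3 + a ^ 2 + a + 1 = 0 → a = 1 := by decide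

/-- three pairwise nonadjacent classes -/
def triB (t : Fam) (i l m : ℕ) : Bool :=
  Nat.ble 3 l && Nat.ble 3 m && memB t l && memB t m && naB t i l && naB t i m && naB t l m

section

variable {t : Fam} {p f : ℕ} {L : Type w} [Group L] [Finite L] {G : Type u} [Group G] [Finite G]
  {K : Subgroup G} [K.Normal] {S : Subgroup (G ⧸ K)} [S.Normal] {t' : Fam} {v f' : ℕ} {T : Tab} {k : ℕ → ℕ}

theorem EX.oddq (h : EX t p f L G K S t' v f' T k) : (p ^ f) % 2 = 1 ∧ 3 ≤ p ^ f := by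
  have hp := h.ls.prime
  have h1 : p % 2 = 1 := (hp.eq_two_or_odd).resolve_left h.p2
  have h2 : (p ^ f) % 2 = 1 := by simp [Nat.pow_mod, h1]
  have h3 : p ^ 1 ≤ p ^ f := Nat.pow_le_pow_right hp.pos h.ls.fpos
  have := hp.two_le
  rw [pow_one] at h3
  exact ⟨h2, by omega⟩

/-- the congruences for a prime in the field case -/
theorem EX.hc (h : EX t p f L G K S t' v f' T k) {i r : ℕ} (hr : In t (p ^ f) i r) (hrK : ¬ r ∣ Nat.card ↥K)
    (hrS : r ∣ S.index) {l m : ℕ} (ht : triB t i l m = true) : HC (sg t (p ^ f)) r l := by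
  simp only [triB, Bool.and_eq_true, Nat.ble_eq] at ht
  obtain ⟨⟨⟨⟨⟨⟨hl, hm⟩, hml⟩, hmm⟩, h1⟩, h2⟩, h3⟩ := ht
  obtain ⟨hq, hq3⟩ := h.oddq
  obtain ⟨M, -, -, hM, hM5, -⟩ := class_num5 h.ls.cla hq hq3 hm (mem_of_memB hmm)
  obtain ⟨z, hz, hzM⟩ := Nat.exists_prime_and_dvd (n := M) (by omega)
  have hi := hr.reg
  exact h.ls.ehc h.red h.frm hr (hrS.mul_left _) hrK hl (mem_of_memB hml) (na_of_naB (by omega) (by omega) h1)
    ⟨m, z, hM z hz hzM, na_of_naB (by omega) (by omega) h2, na_of_naB (by omega) (by omega) h3⟩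

/-- the non-field classes -/
theorem EX.gd_of_hc (h : EX t p f L G K S t' v f' T k) {i : ℕ} (hi : 3 ≤ i) (hm : mem t i)
    (hk : ∀ r, In t (p ^ f) i r → (∀ l m, triB t i l m = true → HC (sg t (p ^ f)) r l) → False) :
    ∃ y, Gd t (p ^ f) (Nat.card ↥K) S.index i y := by
  obtain ⟨hq, hq3⟩ := h.oddq
  obtain ⟨M, hMt, -, hM, hM5, -⟩ := class_num5 h.ls.cla hq hq3 hi hm
  obtain ⟨y, hy, hyM⟩ := Nat.exists_prime_and_dvd (n := M) (by omega)
  have hyI := hM y hy hyM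
  refine ⟨y, hyI, fun hyK => ⟨1, by rw [pow_one]; exact hyM.trans hMt, fun hyS => ?_⟩⟩
  rw [pow_one] at hyS
  exact hk y hyI fun l m ht => h.hc hyI hyK hyS ht

theorem EX.gd_kill (h : EX t p f L G K S t' v f' T k) {i : ℕ} (hi : 3 ≤ i) (hm : mem t i) (I : List ℕ)
    (hI : ∀ l ∈ I, ∃ m, triB t i l m = true) (hk : Killer (fun l => l ∈ I) i) :
    ∃ y, Gd t (p ^ f) (Nat.card ↥K) S.index i y := by
  refine h.gd_of_hc hi hm fun r hr hc => ?_
  refine killer_false hr.prime hr.five (X := sg t (p ^ f)) hr.cls_eq hi (I := fun l => l ∈ I) ?_ hk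
  intro l hl _
  obtain ⟨m, hm⟩ := hI l hl
  exact hc l m hm

/-! ### the classes -/

theorem kl8 {i : ℕ} (h : i ≠ 8) (h4 : ¬ i ∣ 4) : Killer (fun l => l ∈ [8]) i :=
  Or.inl ⟨2, by norm_num, by simp, fun h1 => h h1.symm, h4⟩

theorem kl12 {i : ℕ} (h : i ≠ 12) (h4 : ¬ i ∣ 2) : Killer (fun l => l ∈ [12]) i :=
  Or.inr (Or.inl ⟨1, by norm_num, by simp, fun h1 => h h1.symm, h4⟩)

theorem kl56 : Killer (fun l => l ∈ [5, 6]) 8 :=
  Or.inr (Or.inr (Or.inr (Or.inr (Or.inr (Or.inr (Or.inr (Or.inl ⟨rfl, by simp, by simp⟩)))))))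

theorem kl510 : Killer (fun l => l ∈ [5, 10]) 12 :=
  Or.inr (Or.inr (Or.inr (Or.inr (Or.inr (Or.inl ⟨rfl, by simp, by simp⟩)))))

theorem EX.gd_psl9 (h : EX (.psl 9) p f L G K S t' v f' T k) : ∀ i ∈ cls3 (.psl 9), i ≠ 4 →
    ∃ y, Gd (.psl 9) (p ^ f) (Nat.card ↥K) S.index i y := by
  intro i hi h4
  obtain ⟨h3, hm⟩ := of_cls3 hi
  have hi9 : i ≤ 9 := hm
  clear hi
  interval_cases i
  · exact h.gd_kill h3 hm [8] (fun l hl => ⟨7, by revert l; decide⟩) (kl8 (by norm_num) (by norm_num))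
  · exact absurd rfl h4
  · exact h.gd_kill h3 hm [8] (fun l hl => ⟨7, by revert l; decide⟩) (kl8 (by norm_num) (by norm_num))
  · exact h.gd_kill h3 hm [8] (fun l hl => ⟨7, by revert l; decide⟩) (kl8 (by norm_num) (by norm_num))
  · exact h.gd_kill h3 hm [8] (fun l hl => ⟨9, by revert l; decide⟩) (kl8 (by norm_num) (by norm_num))
  · exact h.gd_kill h3 hm [5, 6] (fun l hl => ⟨11 - l, by revert l; decide⟩) kl56
  · exact h.gd_kill h3 hm [8] (fun l hl => ⟨7, by revert l; decide⟩) (kl8 (by norm_num) (by norm_num))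

theorem EX.gd_psu9 (h : EX (.psu 9) p f L G K S t' v f' T k) : ∀ i ∈ cls3 (.psu 9), i ≠ 4 →
    ∃ y, Gd (.psu 9) (p ^ f) (Nat.card ↥K) S.index i y := by
  intro i hi h4
  obtain ⟨h3, hm⟩ := of_cls3 hi
  have hi9 : i ≤ 9 := hm
  clear hi
  interval_cases i
  · exact h.gd_kill h3 hm [8] (fun l hl => ⟨7, by revert l; decide⟩) (kl8 (by norm_num) (by norm_num))
  · exact absurd rfl h4
  · exact h.gd_kill h3 hm [8] (fun l hl => ⟨7, by revert l; decide⟩) (kl8 (by norm_num) (by norm_num))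
  · exact h.gd_kill h3 hm [8] (fun l hl => ⟨7, by revert l; decide⟩) (kl8 (by norm_num) (by norm_num))
  · exact h.gd_kill h3 hm [8] (fun l hl => ⟨9, by revert l; decide⟩) (kl8 (by norm_num) (by norm_num))
  · exact h.gd_kill h3 hm [5, 6] (fun l hl => ⟨11 - l, by revert l; decide⟩) kl56
  · exact h.gd_kill h3 hm [8] (fun l hl => ⟨7, by revert l; decide⟩) (kl8 (by norm_num) (by norm_num))

theorem EX.gd_psl10 (h : EX (.psl 10) p f L G K S t' v f' T k) : ∀ i ∈ cls3 (.psl 10), i ≠ 4 →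
    ∃ y, Gd (.psl 10) (p ^ f) (Nat.card ↥K) S.index i y := by
  intro i hi h4
  obtain ⟨h3, hm⟩ := of_cls3 hi
  have hi9 : i ≤ 10 := hm
  clear hi
  interval_cases i
  · exact h.gd_kill h3 hm [8] (fun l hl => ⟨10, by revert l; decide⟩) (kl8 (by norm_num) (by norm_num))
  · exact absurd rfl h4
  · exact h.gd_kill h3 hm [8] (fun l hl => ⟨7, by revert l; decide⟩) (kl8 (by norm_num) (by norm_num))
  · exact h.gd_kill h3 hm [8] (fun l hl => ⟨7, by revert l; decide⟩) (kl8 (by norm_num) (by norm_num))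
  · exact h.gd_kill h3 hm [8] (fun l hl => ⟨9, by revert l; decide⟩) (kl8 (by norm_num) (by norm_num))
  · exact h.gd_kill h3 hm [5, 6] (fun l hl => ⟨11 - l, by revert l; decide⟩) kl56
  · exact h.gd_kill h3 hm [8] (fun l hl => ⟨7, by revert l; decide⟩) (kl8 (by norm_num) (by norm_num))
  · exact h.gd_kill h3 hm [8] (fun l hl => ⟨7, by revert l; decide⟩) (kl8 (by norm_num) (by norm_num))

theorem EX.gd_psu10 (h : EX (.psu 10) p f L G K S t' v f' T k) : ∀ i ∈ cls3 (.psu 10), i ≠ 4 →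
    ∃ y, Gd (.psu 10) (p ^ f) (Nat.card ↥K) S.index i y := by
  intro i hi h4
  obtain ⟨h3, hm⟩ := of_cls3 hi
  have hi9 : i ≤ 10 := hm
  clear hi
  interval_cases i
  · exact h.gd_kill h3 hm [8] (fun l hl => ⟨10, by revert l; decide⟩) (kl8 (by norm_num) (by norm_num))
  · exact absurd rfl h4
  · exact h.gd_kill h3 hm [8] (fun l hl => ⟨7, by revert l; decide⟩) (kl8 (by norm_num) (by norm_num))
  · exact h.gd_kill h3 hm [8] (fun l hl => ⟨7, by revert l; decide⟩) (kl8 (by norm_num) (by norm_num))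
  · exact h.gd_kill h3 hm [8] (fun l hl => ⟨9, by revert l; decide⟩) (kl8 (by norm_num) (by norm_num))
  · exact h.gd_kill h3 hm [5, 6] (fun l hl => ⟨11 - l, by revert l; decide⟩) kl56
  · exact h.gd_kill h3 hm [8] (fun l hl => ⟨7, by revert l; decide⟩) (kl8 (by norm_num) (by norm_num))
  · exact h.gd_kill h3 hm [8] (fun l hl => ⟨7, by revert l; decide⟩) (kl8 (by norm_num) (by norm_num))

/-! ### class 4, the classes 7 and 14 -/

/-- the primes of `Φ₇(X)` -/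
theorem phi7 {X : ℤ} {r : ℕ} (hr : 1 < r) (h : HC X r 7) (h7 : (X : ZMod 7) ≠ 1) :
    (X : ZMod r) ^ 6 + (X : ZMod r) ^ 5 + (X : ZMod r) ^ 4 + (X : ZMod r) ^ 3 + (X : ZMod r) ^ 2 + X = 0 := by
  have hpos : 0 < X ^ 6 + X ^ 5 + X ^ 4 + X ^ 3 + X ^ 2 + X + 1 := by
    nlinarith [sq_nonneg (2 * X ^ 3 + X ^ 2), sq_nonneg (X ^ 2 + X), sq_nonneg (X + 1), sq_nonneg (X ^ 2), sq_nonneg X,
      sq_nonneg (X ^ 2 + 2 * X), sq_nonneg (X + 2)]
  obtain ⟨N, hN⟩ : ∃ N : ℕ, (N : ℤ) = X ^ 6 + X ^ 5 + X ^ 4 + X ^ 3 + X ^ 2 + X + 1 :=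
    ⟨(X ^ 6 + X ^ 5 + X ^ 4 + X ^ 3 + X ^ 2 + X + 1).natAbs, by rw [Int.natAbs_of_nonneg hpos.le]⟩
  have hNc : ∀ m : ℕ, (N : ZMod m) = (X : ZMod m) ^ 6 + (X : ZMod m) ^ 5 + (X : ZMod m) ^ 4 + (X : ZMod m) ^ 3 +
      (X : ZMod m) ^ 2 + X + 1 := fun m => by
    have h1 := congrArg (fun z : ℤ => (z : ZMod m)) hN
    push_cast at h1
    exact h1
  have h1 : (N : ZMod r) = 1 := by
    refine cast_eq_one hr (by omega) fun y hy hd => ?_
    have := Fact.mk hy
    have h0 := (ZMod.natCast_eq_zero_iff N y).2 hd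
    rw [hNc y] at h0
    have := Fact.mk (show Nat.Prime 7 by norm_num)
    have hy7 : y ≠ 7 := by
      rintro rfl
      exact h7 (z7phi _ h0)
    refine h y hy (orderOf_eq_prime ?_ ?_)
    · linear_combination ((X : ZMod y) - 1) * h0
    · intro h2
      rw [h2] at h0
      apply ne_zero_of hy (show Nat.Prime 7 by norm_num) hy7
      push_cast
      linear_combination h0
  rw [hNc r] at h1
  linear_combination h1

/-- order 4 modulo `r`, the class 7 -/
theorem ord4_7 {X : ℤ} {r : ℕ} (hr : r.Prime) (h4 : orderOf (X : ZMod r) = 4) (h : HC X r 7) : (X : ZMod 7) = 1 := by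
  by_contra h7
  have := Fact.mk hr
  have h1 := phi7 hr.one_lt h h7
  have h2 : (X : ZMod r) ^ 4 = 1 := by rw [← h4]; exact pow_orderOf_eq_one _
  have h3 : (X : ZMod r) ^ 2 ≠ 1 := by
    intro h3
    have := orderOf_dvd_of_pow_eq_one h3
    rw [h4] at this
    exact absurd this (by decide)
  have h5 : ((X : ZMod r) ^ 2 - 1) * ((X : ZMod r) ^ 2 + 1) = 0 := by linear_combination h2
  have h6 : (X : ZMod r) ^ 2 = -1 := by
    rcases mul_eq_zero.1 h5 with h6 | h6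
    · exact absurd (sub_eq_zero.1 h6) h3
    · linear_combination h6
  apply h3
  have h7 : (X : ZMod r) = 1 := by
    linear_combination h1 - ((X : ZMod r) ^ 4 + X ^ 3 + 0 + 1) * h6
  rw [h7]
  ring

/-- order 4 modulo `r`, the class 14 -/
theorem ord4_14 {X : ℤ} {r : ℕ} (hr : r.Prime) (h4 : orderOf (X : ZMod r) = 4) (h : HC X r 14) : (X : ZMod 7) = -1 := by
  have hHC : HC (-X) r 7 := by
    intro y hy hyo
    have := Fact.mk hy
    refine h y hy ?_
    have hy2 : y ≠ 2 := by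
      rintro rfl
      have h1 : orderOf ((-X : ℤ) : ZMod 2) ∣ 2 - 1 := by
        apply ZMod.orderOf_dvd_card_sub_one
        intro h0
        rw [h0, orderOf_zero] at hyo
        omega
      rw [hyo] at h1
      exact absurd h1 (by decide)
    have h2 := ne_zero_of hy Nat.prime_two hy2
    have h7 : ((X : ℤ) : ZMod y) ^ 7 = -1 := by
      have h3 := pow_orderOf_eq_one ((-X : ℤ) : ZMod y)
      rw [hyo] at h3
      push_cast at h3
      linear_combination -h3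
    have h8 : ((X : ℤ) : ZMod y) ≠ -1 := by
      intro h8
      have h9 : ((-X : ℤ) : ZMod y) = 1 := by push_cast; rw [h8]; ring
      rw [h9, orderOf_one] at hyo
      omega
    refine orderOf_eq_of_pow_and_pow_div_prime (by norm_num) ?_ ?_
    · rw [show 14 = 7 * 2 by norm_num, pow_mul, h7]; ring
    · intro p hp hpd
      have hp' : p = 2 ∨ p = 7 := by
        have h3 : p ∣ 2 * 7 := hpd
        rcases hp.dvd_mul.1 h3 with h3 | h3
        · left; exact (Nat.prime_dvd_prime_iff_eq hp Nat.prime_two).1 h3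
        · right; exact (Nat.prime_dvd_prime_iff_eq hp (by norm_num)).1 h3
      rcases hp' with rfl | rfl
      · rw [show 14 / 2 = 7 by norm_num, h7]
        intro h3
        apply h2
        push_cast
        linear_combination -h3
      · rw [show 14 / 7 = 2 by norm_num]
        intro h3
        apply h8
        linear_combination h7 - X * (((X : ZMod y)) ^ 4 + X ^ 2 + 1) * h3
  have hr4 : orderOf (((-X : ℤ)) : ZMod r) = 4 := by
    have := Fact.mk hr
    have h2 : (X : ZMod r) ^ 4 = 1 := by rw [← h4]; exact pow_orderOf_eq_one _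
    have h3 : (X : ZMod r) ^ 2 ≠ 1 := by
      intro h3
      have := orderOf_dvd_of_pow_eq_one h3
      rw [h4] at this
      exact absurd this (by decide)
    refine orderOf_eq_of_pow_and_pow_div_prime (by norm_num) ?_ ?_
    · push_cast
      linear_combination h2
    · intro p hp hpd
      have hp2 : p = 2 := by
        have h5 : p ∣ 2 ^ 2 := hpd
        exact (Nat.prime_dvd_prime_iff_eq hp Nat.prime_two).1 (hp.dvd_of_dvd_pow h5)
      subst hp2
      rw [show 4 / 2 = 2 by norm_num]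
      push_cast
      rw [neg_sq]
      exact h3
  have h1 := ord4_7 hr hr4 hHC
  push_cast at h1
  linear_combination -h1

theorem EX.gd_oplus8 (h : EX (.oplus 8) p f L G K S t' v f' T k) : ∀ i ∈ cls3 (.oplus 8),
    ∃ y, Gd (.oplus 8) (p ^ f) (Nat.card ↥K) S.index i y := by
  intro i hi
  obtain ⟨h3, hm⟩ := of_cls3 hi
  have hi' : i ∈ [3, 4, 5, 6, 7, 8, 10, 12, 14] := by
    have h1 : cls3 (.oplus 8) = [3, 4, 5, 6, 7, 8, 10, 12, 14] := by decide
    rwa [h1] at hi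
  clear hi
  simp only [List.mem_cons, List.not_mem_nil, or_false] at hi'
  rcases hi' with rfl | rfl | rfl | rfl | rfl | rfl | rfl | rfl | rfl
  · exact h.gd_kill h3 hm [12] (fun l hl => ⟨7, by revert l; decide⟩) (kl12 (by norm_num) (by norm_num))
  · refine h.gd_of_hc h3 hm fun r hr hc => ?_
    have h1 := ord4_7 hr.prime hr.cls_eq (hc 7 14 (by decide))
    have h2 := ord4_14 hr.prime hr.cls_eq (hc 14 7 (by decide))
    rw [h1] at h2
    exact absurd h2 (by decide)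
  · exact h.gd_kill h3 hm [12] (fun l hl => ⟨7, by revert l; decide⟩) (kl12 (by norm_num) (by norm_num))
  · exact h.gd_kill h3 hm [12] (fun l hl => ⟨7, by revert l; decide⟩) (kl12 (by norm_num) (by norm_num))
  · exact h.gd_kill h3 hm [12] (fun l hl => ⟨5, by revert l; decide⟩) (kl12 (by norm_num) (by norm_num))
  · exact h.gd_kill h3 hm [12] (fun l hl => ⟨7, by revert l; decide⟩) (kl12 (by norm_num) (by norm_num))
  · exact h.gd_kill h3 hm [12] (fun l hl => ⟨7, by revert l; decide⟩) (kl12 (by norm_num) (by norm_num))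
  · exact h.gd_kill h3 hm [5, 10] (fun l hl => ⟨15 - l, by revert l; decide⟩) kl510
  · exact h.gd_kill h3 hm [12] (fun l hl => ⟨7, by revert l; decide⟩) (kl12 (by norm_num) (by norm_num))

/-! ### the size of the field of `²F₄(u)` -/

/-- an element of order `> u ^ 2` -/
theorem tf4_big {X : Type u} [Group X] {v f : ℕ} (h : Fam.Is v f X .tf4) :
    v = 2 ∧ 1 ≤ f ∧ ∃ x : X, (2 ^ f) ^ 2 < orderOf x := by
  obtain ⟨rfl, m, hm, rfl, F, _, _, hF, ⟨e⟩⟩ := h
  obtain ⟨N, hN'⟩ : ∃ N : ℕ, N = 1 + 2 * 2 ^ m + 2 * (2 ^ m) ^ 2 + 4 * (2 ^ m) ^ 3 + 4 * (2 ^ m) ^ 4 := ⟨_, rfl⟩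
  have hN : (N : ℤ) = 1 + 2 * (2 ^ m) + 2 * (2 ^ m) ^ 2 + 4 * (2 ^ m) ^ 3 + 4 * (2 ^ m) ^ 4 := by rw [hN']; push_cast; ring
  have hpos : 0 < 2 ^ m := Nat.two_pow_pos m
  obtain ⟨r, hr, hrN⟩ := Nat.exists_prime_and_dvd (n := N) (by rw [hN']; omega)
  obtain ⟨C, hC, h1, h2, -, -⟩ := Cfsg.Agent.H129.CycCard.card_tF4_plus hF hN hr
    (by rw [← hN]; exact Int.natCast_dvd_natCast.2 hrN)
  have h3 : Nat.card C = N := Nat.dvd_antisymm h1 (by simpa using h2)
  obtain ⟨x, hx⟩ := hC.exists_generator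
  refine ⟨rfl, by omega, e.symm x, ?_⟩
  rw [MulEquiv.orderOf_eq, Subgroup.orderOf_coe, orderOf_eq_card_of_forall_mem_zpowers hx, h3, hN']
  have h4 : (2 ^ (2 * m + 1)) ^ 2 = 4 * (2 ^ m) ^ 4 := by rw [← pow_mul, ← pow_mul]; ring
  rw [h4]
  omega

/-- the order of an element of `S` -/
theorem EX.ord_le (h : EX t p f L G K S t' v f' T k) (x : ↥S) : orderOf x ≤ (p ^ f) ^ (2 * rk t + 1) := by
  obtain ⟨g, hg⟩ := QuotientGroup.mk'_surjective K (x : G ⧸ K)
  have h1 : orderOf x ∣ orderOf g := by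
    rw [← Subgroup.orderOf_coe, ← hg]
    exact orderOf_map_dvd _ g
  obtain ⟨y, hy⟩ := (h.ls.ord _).1 ⟨g, rfl⟩
  refine (Nat.le_of_dvd (orderOf_pos g) h1).trans ?_
  rw [← hy]
  exact ordle h.ls.cla h.ls.prime h.p2 h.is y

theorem EX.tf4_lt (h : EX t p f L G K S .tf4 v f' T k) : (2 ^ f') ^ 2 < (p ^ f) ^ (2 * rk t + 1) := by
  obtain ⟨-, -, x, hx⟩ := tf4_big h.frm.is
  exact hx.trans_le (h.ord_le x)

/-- a class without `Gd` primes -/
theorem EX.no_gd (h : EX t p f L G K S t' v f' T k) {i : ℕ} (hi : 3 ≤ i) (hm : mem t i)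
    (hno : ¬ ∃ y, Gd t (p ^ f) (Nat.card ↥K) S.index i y) :
    (∃ M, M ∣ f' ∧ 5 ≤ M ∧ (p ^ f) ^ 2 - p ^ f + 1 ≤ 3 * M) ∧
      ∃ r, In t (p ^ f) i r ∧ ¬ r ∣ Nat.card ↥K ∧ r ∣ S.index := by
  obtain ⟨hq, hq3⟩ := h.oddq
  obtain ⟨M, hMt, -, hM, hM5, hMq⟩ := class_num5 h.ls.cla hq hq3 hi hm
  have key : ∀ y, y.Prime → y ∣ M → ¬ y ∣ Nat.card ↥K ∧ ∀ a, y ^ a ∣ tnum t (p ^ f) i → y ^ a ∣ S.index := by
    intro y hy hyM
    by_contra hcon
    apply hno
    refine ⟨y, hM y hy hyM, fun hyK => ?_⟩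
    by_contra h2
    push Not at h2
    exact hcon ⟨hyK, h2⟩
  constructor
  · refine ⟨M, ?_, hM5, hMq⟩
    rw [Nat.dvd_iff_prime_pow_dvd_dvd]
    intro y a hy hya
    rcases Nat.eq_zero_or_pos a with rfl | ha
    · rw [pow_zero]; exact one_dvd _
    · have hyM : y ∣ M := (dvd_pow_self y (by omega)).trans hya
      exact h.ef.idx y a hy (hM y hy hyM).five ((key y hy hyM).2 a (hya.trans hMt))
  · obtain ⟨y, hy, hyM⟩ := Nat.exists_prime_and_dvd (n := M) (by omega)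
    refine ⟨y, hM y hy hyM, (key y hy hyM).1, ?_⟩
    have h1 := (key y hy hyM).2 1 (by rw [pow_one]; exact hyM.trans hMt)
    rwa [pow_one] at h1

theorem sq_le_two' {q : ℕ} (h : 7 ≤ q) : (q + 1) ^ 2 ≤ 2 ^ (q - 1) := by
  induction q, h using Nat.le_induction with
  | base => norm_num
  | succ n hn ih =>
    have h1 : 2 ^ (n + 1 - 1) = 2 * 2 ^ (n - 1) := by
      rw [← pow_succ']
      congr 1
      omega
    rw [h1]
    nlinarith

/-- the size contradiction -/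
theorem num21 {q F M e : ℕ} (hq : 13 ≤ q) (he : e ≤ 21) (h1 : (2 ^ F) ^ 2 < q ^ e) (hM : M ≤ F)
    (h2 : q ^ 2 - q + 1 ≤ 3 * M) : False := by
  have h3 : q ^ e ≤ q ^ 21 := Nat.pow_le_pow_right (by omega) he
  have hF : q ^ 2 - q + 1 ≤ 3 * F := h2.trans (by omega)
  rcases Nat.lt_or_ge q 16 with h | h
  · have h53 : 53 ≤ F := by interval_cases q <;> omega
    have h4 : 2 ^ 53 ≤ 2 ^ F := Nat.pow_le_pow_right (by norm_num) h53
    have h5 : (2 ^ 53) ^ 2 ≤ (2 ^ F) ^ 2 := Nat.pow_le_pow_left h4 2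
    have h6 : q ^ 21 ≤ 15 ^ 21 := Nat.pow_le_pow_left (by omega) 21
    have h7 : (15 : ℕ) ^ 21 < (2 ^ 53) ^ 2 := by norm_num
    omega
  · have h4 : q ^ 21 * q ^ 21 ≤ (2 ^ (q - 1)) ^ 21 := by
      have h5 : q ^ 2 ≤ 2 ^ (q - 1) := (Nat.pow_le_pow_left (by omega) 2).trans (sq_le_two' (by omega : 7 ≤ q))
      calc q ^ 21 * q ^ 21 = (q ^ 2) ^ 21 := by ring
        _ ≤ _ := Nat.pow_le_pow_left h5 21
    have h5 : 2 ^ (4 * F) < 2 ^ ((q - 1) * 21) := by
      have h6 : 2 ^ (4 * F) = (2 ^ F) ^ 2 * (2 ^ F) ^ 2 := by rw [← pow_mul, ← pow_add]; congr 1; ring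
      rw [h6, pow_mul]
      refine lt_of_lt_of_le ?_ h4
      exact Nat.mul_lt_mul'' (h1.trans_le h3) (h1.trans_le h3)
    have h6 : 4 * F < (q - 1) * 21 := (Nat.pow_lt_pow_iff_right (by norm_num)).1 h5
    obtain ⟨c, rfl⟩ : ∃ c, q = c + 1 := ⟨q - 1, by omega⟩
    have h7 : (c + 1) ^ 2 - (c + 1) + 1 = c * (c + 1) + 1 := by
      have : (c + 1) ^ 2 = c * (c + 1) + (c + 1) := by ring
      rw [this, Nat.add_sub_cancel]
    rw [h7] at hF
    rw [Nat.add_sub_cancel] at h6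
    nlinarith

/-- class 4 of `psl`, `psu` of rank 9, 10 -/
theorem EX.gd4 (h : EX t p f L G K S .tf4 v f' T k) (hrk : rk t ≤ 10) (hm : mem t 4) (ht : triB t 4 7 9 = true)
    (hs : sg t (p ^ f) = (p ^ f : ℕ) ∨ sg t (p ^ f) = -((p ^ f : ℕ) : ℤ)) :
    ∃ y, Gd t (p ^ f) (Nat.card ↥K) S.index 4 y := by
  by_contra hno
  obtain ⟨⟨M, hMf, hM5, hMq⟩, r, hr, hrK, hrS⟩ := h.no_gd (by norm_num) hm hno
  obtain ⟨hq, hq3⟩ := h.oddq
  obtain ⟨-, hf1, -⟩ := tf4_big h.frm.is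
  have h7 := ord4_7 hr.prime hr.cls_eq (h.hc hr hrK hrS ht)
  have hq13 : 13 ≤ p ^ f := by
    have h8 : (p ^ f) % 7 = 1 ∨ (p ^ f) % 7 = 6 := by
      rcases hs with hs | hs
      · left
        rw [hs, Int.cast_natCast] at h7
        have := (ZMod.natCast_eq_natCast_iff' (p ^ f) 1 7).1 (by rw [h7, Nat.cast_one])
        simpa using this
      · right
        rw [hs, Int.cast_neg, Int.cast_natCast] at h7
        have h9 : ((p ^ f : ℕ) : ZMod 7) = ((6 : ℕ) : ZMod 7) := by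
          have h10 : ((p ^ f : ℕ) : ZMod 7) = -1 := by linear_combination -h7
          rw [h10]
          decide
        have := (ZMod.natCast_eq_natCast_iff' (p ^ f) 6 7).1 h9
        simpa using this
    omega
  exact num21 hq13 (by omega) h.tf4_lt (Nat.le_of_dvd (by omega) hMf) hMq

/-- **All classes, `S = ²F₄(u)`.** -/
theorem EX.gd_tf4 (h : EX t p f L G K S .tf4 v f' T k)
    (ht : t = .psl 9 ∨ t = .psu 9 ∨ t = .psl 10 ∨ t = .psu 10 ∨ t = .oplus 8) : ∀ i ∈ cls3 t,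
    ∃ y, Gd t (p ^ f) (Nat.card ↥K) S.index i y := by
  intro i hi
  rcases ht with rfl | rfl | rfl | rfl | rfl
  · by_cases h4 : i = 4
    · subst h4
      exact h.gd4 (by decide) (of_cls3 hi).2 (by decide) (Or.inl rfl)
    · exact h.gd_psl9 i hi h4
  · by_cases h4 : i = 4
    · subst h4
      exact h.gd4 (by decide) (of_cls3 hi).2 (by decide) (Or.inr rfl)
    · exact h.gd_psu9 i hi h4
  · by_cases h4 : i = 4
    · subst h4
      exact h.gd4 (by decide) (of_cls3 hi).2 (by decide) (Or.inl rfl)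
    · exact h.gd_psl10 i hi h4
  · by_cases h4 : i = 4
    · subst h4
      exact h.gd4 (by decide) (of_cls3 hi).2 (by decide) (Or.inr rfl)
    · exact h.gd_psu10 i hi h4
  · exact h.gd_oplus8 i hi

end

end Cfsg.Agent.R2.Spec.EE
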