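import Cfsg.Agent.R2.Spec.EE.SmDef
import Cfsg.Agent.R2.Spec.EE.GdTF4

/-!
# EE-small, packet (s6), part B (helper5): the available classes without size arguments

* `EX.gd_killB` : `killB t i = true` gives an available prime in the class `i`;
* `EX.gd_sm4` : `Sm t`, `S` any exceptional group: all the regular classes `i ≠ 4`;
* `EX.gd_psp7`, `EX.gd_oodd7` : also the class 4.
-/

set_option autoImplicit false
set_option linter.unusedSectionVars false
set_option linter.unusedVariables false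
set_option maxHeartbeats 400000

namespace Cfsg.Agent.R2.Spec.EE

open Subgroup Cfsg
open Cfsg.Agent.H426.LieFam Cfsg.Agent.R2.Spec Cfsg.Agent.R2.Spec.P1 Cfsg.Agent.R2.Spec.F1

universe u w

/-- `l` is a class of a triple with `i` -/
def triL (t : Fam) (i l : ℕ) : Bool := (cls3 t).any fun m => triB t i l m

/-- the killers which are used -/
def killB (t : Fam) (i : ℕ) : Bool :=
  (triL t i 4 && !(i == 4) && !(Nat.ble i 2)) || (triL t i 8 && !(i == 8) && !(Nat.beq (4 % i) 0)) ||
  (triL t i 12 && !(i == 12) && !(Nat.ble i 2)) || (triL t i 3 && triL t i 6 && !(i == 3) && !(i == 6) && !(Nat.ble i 2))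

section

variable {t : Fam} {p f : ℕ} {L : Type w} [Group L] [Finite L] {G : Type u} [Group G] [Finite G]
  {K : Subgroup G} [K.Normal] {S : Subgroup (G ⧸ K)} [S.Normal] {t' : Fam} {v f' : ℕ} {T : Tab} {k : ℕ → ℕ}

theorem not_dvd_two {i : ℕ} (h : 2 < i) : ¬ i ∣ 2 := fun h1 => by
  have := Nat.le_of_dvd (by norm_num) h1
  omega

theorem EX.gd_killB (h : EX t p f L G K S t' v f' T k) {i : ℕ} (hi : 3 ≤ i) (hm : mem t i) (hk : killB t i = true) :
    ∃ y, Gd t (p ^ f) (Nat.card ↥K) S.index i y := by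
  have key : ∀ l, triL t i l = true → ∃ m, triB t i l m = true := by
    intro l hl
    rw [triL, List.any_eq_true] at hl
    obtain ⟨m, -, hm⟩ := hl
    exact ⟨m, hm⟩
  simp only [killB, Bool.or_eq_true, Bool.and_eq_true, Bool.not_eq_true', beq_eq_false_iff_ne, ne_eq] at hk
  rcases hk with ((⟨⟨h1, h2⟩, -⟩ | ⟨⟨h1, h2⟩, h3⟩) | ⟨⟨h1, h2⟩, -⟩) | ⟨⟨⟨⟨h1, h2⟩, h3⟩, h4⟩, -⟩
  · refine h.gd_kill hi hm [4] (fun l hl => ?_)
      (Or.inl ⟨1, by norm_num, by simp, fun h5 => h2 h5.symm, not_dvd_two hi⟩)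
    rw [List.mem_singleton] at hl
    rw [hl]
    exact key 4 h1
  · refine h.gd_kill hi hm [8] (fun l hl => ?_)
      (Or.inl ⟨2, by norm_num, by simp, fun h5 => h2 h5.symm, fun h5 => ?_⟩)
    · rw [List.mem_singleton] at hl
      rw [hl]
      exact key 8 h1
    · have h6 : 4 % i = 0 := Nat.mod_eq_zero_of_dvd h5
      rw [h6] at h3
      exact absurd h3 (by decide)
  · refine h.gd_kill hi hm [12] (fun l hl => ?_)
      (Or.inr (Or.inl ⟨1, by norm_num, by simp, fun h5 => h2 h5.symm, not_dvd_two hi⟩))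
    rw [List.mem_singleton] at hl
    rw [hl]
    exact key 12 h1
  · refine h.gd_kill hi hm [3, 6] (fun l hl => ?_)
      (Or.inr (Or.inr (Or.inr (Or.inr (Or.inl ⟨by simp, by simp, fun h5 => h3 h5.symm, fun h5 => h4 h5.symm,
        not_dvd_two hi⟩)))))
    simp only [List.mem_cons, List.not_mem_nil, or_false] at hl
    rcases hl with rfl | rfl
    · exact key 3 h1
    · exact key 6 h2

theorem EX.gd_of_killB (h : EX t p f L G K S t' v f' T k) (hk : ((cls3 t).all fun i => i == 4 || killB t i) = true) :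
    ∀ i ∈ cls3 t, i ≠ 4 → ∃ y, Gd t (p ^ f) (Nat.card ↥K) S.index i y := by
  intro i hi h4
  rw [List.all_eq_true] at hk
  have h1 := hk i hi
  rw [Bool.or_eq_true, beq_iff_eq] at h1
  obtain ⟨h3, hm⟩ := of_cls3 hi
  exact h.gd_killB h3 hm (h1.resolve_left h4)

theorem smL_kill : (smL.all fun t => (cls3 t).all fun i => i == 4 || killB t i) = true := by decide +kernel

/-- **All the regular classes except 4**, `Sm t`. -/
theorem EX.gd_sm4 (h : EX t p f L G K S t' v f' T k) (ht : Sm t) :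
    ∀ i ∈ cls3 t, i ≠ 4 → ∃ y, Gd t (p ^ f) (Nat.card ↥K) S.index i y :=
  h.gd_of_killB (List.all_eq_true.1 smL_kill t ht)

/-- the form for `EX.rowV` -/
theorem EX.gd_smV (h : EX t p f L G K S t' v f' T k) (ht : Sm t) :
    ∀ i ∈ (cls3 t).filter (fun i => !(i == 4)), ∃ y, Gd t (p ^ f) (Nat.card ↥K) S.index i y := by
  intro i hi
  rw [List.mem_filter, Bool.not_eq_true', beq_eq_false_iff_ne] at hi
  exact h.gd_sm4 ht i hi.1 hi.2

end

end Cfsg.Agent.R2.Spec.EE
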