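import Cfsg.Agent.R2.Spec.EE.RowS
import Cfsg.Agent.R2.Spec.EE.RowS4
import Cfsg.Agent.R2.Spec.EE.SmGdA
import Cfsg.Agent.R2.Spec.EE.SmGdB

/-!
# The small ranks: the rows excluded by the kernel (helper13)
-/

set_option autoImplicit false
set_option linter.unusedSectionVars false
set_option linter.unusedVariables false

namespace Cfsg.Agent.R2.Spec.EE

open Subgroup Cfsg
open Cfsg.Agent.H426.LieFam Cfsg.Agent.R2.Spec Cfsg.Agent.R2.Spec.P1 Cfsg.Agent.R2.Spec.F1
open Cfsg.Agent.H420.QR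

universe u w

section

variable {t : Fam} {p f : ℕ} {L : Type w} [Group L] [Finite L] {G : Type u} [Group G] [Finite G]
  {K : Subgroup G} [K.Normal] {S : Subgroup (G ⧸ K)} [S.Normal] {t' : Fam} {v f' : ℕ} {T : Tab} {k : ℕ → ℕ}

/-- a row without the class 4 -/
theorem EX.row4 (h : EX t p f L G K S t' v f' T k) (ht : Sm t)
    (hk : (dat T.tbl t (cls4 t)).go (cls4 t).length (st0 T.tbl (cls4 t) T.dom) 0 = false) : False :=
  h.rowV (nodup_cls4 t) (fun i hi => (of_cls4 hi).1) (fun i hi => h.gd_sm4 ht i (of_cls4 hi).1 (of_cls4 hi).2) hk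

theorem sm_td4 (h : EX t p f L G K S .td4 v f' tabTD4 (kcl clTD4 (v ^ f'))) (ht : Sm t) : False :=
  h.row4 ht (row_kstd t (by
    rw [sm_iff] at ht
    rcases ht with rfl | rfl | rfl | rfl | rfl | rfl | rfl | rfl | rfl | rfl | rfl | rfl | rfl | rfl <;> simp [kstd]))

theorem sm_g2 (h : EX t p f L G K S .g2 v f' tabG2 (kcl clG2 (v ^ f'))) (ht : Sm t) : False :=
  h.row4 ht (row_ksg t (by
    rw [sm_iff] at ht
    rcases ht with rfl | rfl | rfl | rfl | rfl | rfl | rfl | rfl | rfl | rfl | rfl | rfl | rfl | rfl <;> simp [ksg]))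

theorem sm_sz (h : EX t p f L G K S .sz v f' tabSz (kSz f')) (ht : Sm t) : False :=
  h.row4 ht (row_kss t (by
    rw [sm_iff] at ht
    rcases ht with rfl | rfl | rfl | rfl | rfl | rfl | rfl | rfl | rfl | rfl | rfl | rfl | rfl | rfl <;> simp [kss]))

theorem sm_ree0 (h : EX t p f L G K S .ree v f' tabRee (kRee f')) (ht : t ∈ ksr) : False :=
  h.row4 (by
    simp only [ksr, List.mem_cons, List.not_mem_nil, or_false] at ht
    rw [sm_iff]
    rcases ht with rfl | rfl | rfl | rfl | rfl | rfl | rfl | rfl | rfl <;> simp) (row_ksr t ht)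

theorem sm_tf40 (h : EX t p f L G K S .tf4 v f' tabTF4 (kTF4 f')) (ht : t ∈ kstf) : False :=
  h.row4 (by
    simp only [kstf, List.mem_cons, List.not_mem_nil, or_false] at ht
    rw [sm_iff]
    rcases ht with rfl | rfl | rfl | rfl <;> simp) (row_kstf t ht)

theorem sm_e60 (h : EX t p f L G K S .e6 v f' tabE6 (kcl clE6 (v ^ f'))) (ht : t ∈ ls6) : False :=
  h.row (h.gd_e6 (Or.inl (by
    simp only [ls6, List.mem_cons, List.not_mem_nil, or_false] at ht
    rcases ht with rfl | rfl | rfl | rfl <;> exact (by decide : 7 ≤ 8)))) (row_ls6 t ht)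

theorem sm_te60 (h : EX t p f L G K S .te6 v f' tabTE6 (kcl clTE6 (v ^ f'))) (ht : t ∈ lst6) : False :=
  h.row (h.gd_te6 (Or.inl (by
    simp only [lst6, List.mem_cons, List.not_mem_nil, or_false] at ht
    rcases ht with rfl | rfl | rfl | rfl <;> exact (by decide : 7 ≤ 8)))) (row_lst6 t ht)

theorem sm_f40 (h : EX t p f L G K S .f4 v f' tabF4 (kcl clF4 (v ^ f'))) (ht : t ∈ lsf) : False :=
  h.row (h.gd_f4 (Or.inl (by
    simp only [lsf, List.mem_cons, List.not_mem_nil, or_false] at ht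
    rcases ht with rfl | rfl | rfl | rfl | rfl | rfl | rfl
    · exact (by decide : 5 ≤ 7)
    · exact (by decide : 5 ≤ 7)
    · exact (by decide : 7 ≤ 7)
    · exact (by decide : 7 ≤ 7)
    · exact (by decide : 7 ≤ 7)
    · exact (by decide : 6 ≤ 7)
    · exact (by decide : 7 ≤ 7)))) (row_lsf t ht)

end

end Cfsg.Agent.R2.Spec.EE
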