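import Cfsg.Agent.R2.Spec.EE.SokE8
import Cfsg.Agent.R2.Spec.EE.CertTab2
import Cfsg.Agent.H378.OmE6
import Cfsg.Agent.H482.TwoCyc.Num

/-!
# The table of `E₆(q)` (helper11)
-/

set_option autoImplicit false

namespace Cfsg.Agent.R2.Spec.EE

open Cfsg Cfsg.Lie Polynomial
open Cfsg.Agent.H426.LieFam Cfsg.Agent.H493 Cfsg.Agent.H482.TwoCyc

universe u

namespace Sok

section Val

variable {q r : ℕ} (hq : 2 ≤ q) (hr : r.Prime) (h5 : 5 ≤ r)

theorem ndvd {n : ℕ} (hr : r.Prime) (h5 : 5 ≤ r) (h : ∃ a b, n = 2 ^ a * 3 ^ b) : ¬ r ∣ n := by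
  obtain ⟨a, b, rfl⟩ := h
  intro h1
  rcases hr.dvd_mul.1 h1 with h2 | h2
  · have h3 := Nat.le_of_dvd (by norm_num) (hr.dvd_of_dvd_pow h2)
    omega
  · have h3 := Nat.le_of_dvd (by norm_num) (hr.dvd_of_dvd_pow h2)
    omega

include hr h5

theorem e2 (h : r ∣ q + 1) : orderOf (q : ZMod r) = 2 :=
  od_cyc hr (by norm_num) (ndvd hr h5 ⟨1, 0, by norm_num⟩) (by
    rw [Num.v2]
    have h1 := Int.natCast_dvd_natCast.2 h
    push_cast at h1
    exact h1)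

include hq

theorem e3 (h : r ∣ q ^ 2 + q + 1) : orderOf (q : ZMod r) = 3 :=
  od_cyc hr (by norm_num) (ndvd hr h5 ⟨0, 1, by norm_num⟩) (by
    rw [Num.v3 q hq]
    have h1 := Int.natCast_dvd_natCast.2 h
    push_cast at h1
    exact h1)

theorem e4 (h : r ∣ q ^ 2 + 1) : orderOf (q : ZMod r) = 4 :=
  od_cyc hr (by norm_num) (ndvd hr h5 ⟨2, 0, by norm_num⟩) (by
    rw [Num.v4 q hq]
    have h1 := Int.natCast_dvd_natCast.2 h
    push_cast at h1
    exact h1)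

theorem e6 (h : r ∣ q ^ 2 - q + 1) : orderOf (q : ZMod r) = 6 :=
  od_cyc hr (by norm_num) (ndvd hr h5 ⟨1, 1, by norm_num⟩) (by
    rw [Num.v6 q hq]
    have h1 := Int.natCast_dvd_natCast.2 h
    have h2 : q ≤ q ^ 2 := by nlinarith
    push_cast [Nat.cast_sub h2] at h1
    exact h1)

theorem e8 (h : r ∣ q ^ 4 + 1) : orderOf (q : ZMod r) = 8 :=
  od_cyc hr (by norm_num) (ndvd hr h5 ⟨3, 0, by norm_num⟩) (by
    rw [Num.v8 q hq]
    have h1 := Int.natCast_dvd_natCast.2 h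
    push_cast at h1
    exact h1)

theorem e9 (h : r ∣ q ^ 6 + q ^ 3 + 1) : orderOf (q : ZMod r) = 9 :=
  od_cyc hr (by norm_num) (ndvd hr h5 ⟨0, 2, by norm_num⟩) (by
    rw [Num.v9 q hq]
    have h1 := Int.natCast_dvd_natCast.2 h
    push_cast at h1
    exact h1)

theorem e12 (h : r ∣ q ^ 4 - q ^ 2 + 1) : orderOf (q : ZMod r) = 12 :=
  od_cyc hr (by norm_num) (ndvd hr h5 ⟨2, 1, by norm_num⟩) (by
    rw [Num.v12 q hq]
    have h1 := Int.natCast_dvd_natCast.2 h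
    have h2 : q ^ 2 ≤ q ^ 4 := Nat.pow_le_pow_right (by omega) (by norm_num)
    push_cast [Nat.cast_sub h2] at h1
    exact h1)

theorem e18 (h : r ∣ q ^ 6 - q ^ 3 + 1) : orderOf (q : ZMod r) = 18 :=
  od_cyc hr (by norm_num) (ndvd hr h5 ⟨1, 2, by norm_num⟩) (by
    rw [Num.v18 q hq]
    have h1 := Int.natCast_dvd_natCast.2 h
    have h2 : q ^ 3 ≤ q ^ 6 := Nat.pow_le_pow_right (by omega) (by norm_num)
    push_cast [Nat.cast_sub h2] at h1
    exact h1)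

/-- `q³ + 1` -/
theorem e26 (h : r ∣ q ^ 3 + 1) : orderOf (q : ZMod r) = 2 ∨ orderOf (q : ZMod r) = 6 := by
  have h2 : q ≤ q ^ 2 := by nlinarith
  have h1 : q ^ 3 + 1 = (q + 1) * (q ^ 2 - q + 1) := by
    zify [h2]; ring
  rw [h1] at h
  rcases hr.dvd_mul.1 h with h3 | h3
  · exact Or.inl (e2 hr h5 h3)
  · exact Or.inr (e6 hq hr h5 h3)

omit h5 in
theorem es {n : ℕ} (hn : 0 < n) (h : r ∣ q ^ n - 1) : orderOf (q : ZMod r) ∈ n.divisors :=
  Nat.mem_divisors.2 ⟨od_dvd (by omega) h, hn.ne'⟩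

end Val

/-- the tori of `E₆` -/
def T6 : List (List ℕ) := [[8, 1, 2], [1, 5, 2], [1, 2, 4, 6], [1, 2, 3, 6], [12, 3], [9]]

/-- the tori, with an element of order `p` -/
def U6 : List (List ℕ) := [[1, 2, 3], [1, 2, 4], [1, 5], [2, 6, 3], [2, 6, 1]]

theorem sub_one {q r n : ℕ} (hq : 2 ≤ q) (hr : r.Prime) (hn : 0 < n) {L : List ℕ} (hL : ∀ x ∈ n.divisors, x ∈ L)
    (h : r ∣ q ^ n - 1) : orderOf (q : ZMod r) ∈ L := hL _ (es hq hr hn h)

/-- the classes in a torus -/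
theorem t6 {q m : ℕ} (hq : 2 ≤ q) (h : m ∣ (q ^ 4 + 1) * (q ^ 2 - 1) ∨ m ∣ (q ^ 5 - 1) * (q + 1) ∨
    m ∣ (q ^ 4 - 1) * (q ^ 2 - q + 1) ∨ m ∣ q ^ 6 - 1 ∨ m ∣ (q ^ 4 - q ^ 2 + 1) * (q ^ 2 + q + 1) ∨
    m ∣ q ^ 6 + q ^ 3 + 1) : ∃ T ∈ T6, ∀ r : ℕ, r.Prime → 5 ≤ r → r ∣ m → orderOf (q : ZMod r) ∈ T := by
  rcases h with h | h | h | h | h | h
  · refine ⟨[8, 1, 2], by decide, fun r hr h5 hm => ?_⟩
    rcases hr.dvd_mul.1 (hm.trans h) with h1 | h1
    · rw [e8 hq hr h5 h1]; decide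
    · exact sub_one hq hr (n := 2) (by norm_num) (by decide) h1
  · refine ⟨[1, 5, 2], by decide, fun r hr h5 hm => ?_⟩
    rcases hr.dvd_mul.1 (hm.trans h) with h1 | h1
    · exact sub_one hq hr (n := 5) (by norm_num) (by decide) h1
    · rw [e2 hr h5 h1]; decide
  · refine ⟨[1, 2, 4, 6], by decide, fun r hr h5 hm => ?_⟩
    rcases hr.dvd_mul.1 (hm.trans h) with h1 | h1
    · exact sub_one hq hr (n := 4) (by norm_num) (by decide) h1
    · rw [e6 hq hr h5 h1]; decide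
  · refine ⟨[1, 2, 3, 6], by decide, fun r hr h5 hm => ?_⟩
    exact sub_one hq hr (n := 6) (by norm_num) (by decide) (hm.trans h)
  · refine ⟨[12, 3], by decide, fun r hr h5 hm => ?_⟩
    rcases hr.dvd_mul.1 (hm.trans h) with h1 | h1
    · rw [e12 hq hr h5 h1]; decide
    · rw [e3 hq hr h5 h1]; decide
  · refine ⟨[9], by decide, fun r hr h5 hm => ?_⟩
    rw [e9 hq hr h5 (hm.trans h)]; decide

theorem u6 {q m : ℕ} (hq : 2 ≤ q) (h : m ∣ (q ^ 3 - 1) * (q + 1) ∨ m ∣ q ^ 4 - 1 ∨ m ∣ q ^ 5 - 1 ∨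
    m ∣ (q ^ 3 + 1) * (q ^ 2 + q + 1) ∨ m ∣ (q ^ 3 + 1) * (q - 1)) :
    ∃ T ∈ U6, ∀ r : ℕ, r.Prime → 5 ≤ r → r ∣ m → orderOf (q : ZMod r) ∈ T := by
  rcases h with h | h | h | h | h
  · refine ⟨[1, 2, 3], by decide, fun r hr h5 hm => ?_⟩
    rcases hr.dvd_mul.1 (hm.trans h) with h1 | h1
    · exact sub_one hq hr (n := 3) (by norm_num) (by decide) h1
    · rw [e2 hr h5 h1]; decide
  · refine ⟨[1, 2, 4], by decide, fun r hr h5 hm => ?_⟩
    exact sub_one hq hr (n := 4) (by norm_num) (by decide) (hm.trans h)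
  · refine ⟨[1, 5], by decide, fun r hr h5 hm => ?_⟩
    exact sub_one hq hr (n := 5) (by norm_num) (by decide) (hm.trans h)
  · refine ⟨[2, 6, 3], by decide, fun r hr h5 hm => ?_⟩
    rcases hr.dvd_mul.1 (hm.trans h) with h1 | h1
    · rcases e26 hq hr h5 h1 with h2 | h2 <;> rw [h2] <;> decide
    · rw [e3 hq hr h5 h1]; decide
  · refine ⟨[2, 6, 1], by decide, fun r hr h5 hm => ?_⟩
    rcases hr.dvd_mul.1 (hm.trans h) with h1 | h1
    · rcases e26 hq hr h5 h1 with h2 | h2 <;> rw [h2] <;> decide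
    · exact sub_one hq hr (n := 1) (by norm_num) (by decide) (by rwa [pow_one])

/-- the `p`-part is trivial -/
theorem eq_of_ne {p b m n r s : ℕ} (hp : p.Prime) (hr : r.Prime) (hs : s.Prime) (hrp : r ≠ p) (hsp : s ≠ p)
    (h : n = p ^ b * m) (hn : n = r * s) : m = r * s := by
  have hb : b = 0 := by
    by_contra hb
    have h2 : p ∣ r * s := by rw [← hn, h]; exact (dvd_pow_self p hb).mul_right m
    rcases hp.dvd_mul.1 h2 with h3 | h3
    · exact hrp ((Nat.prime_dvd_prime_iff_eq hp hr).1 h3).symm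
    · exact hsp ((Nat.prime_dvd_prime_iff_eq hp hs).1 h3).symm
  rw [hb, pow_zero, one_mul] at h
  rw [← h, hn]

theorem dvd_of_p {p b m n r : ℕ} (hp : p.Prime) (hr : r.Prime) (hrp : r ≠ p) (h : n = p ^ b * m) (hm : ¬ p ∣ m)
    (hn : n = r * p) : b ≠ 0 ∧ r ∣ m := by
  refine ⟨?_, ?_⟩
  · rintro rfl
    rw [pow_zero, one_mul] at h
    exact hm (by rw [← h, hn]; exact dvd_mul_left _ _)
  · have h2 : r ∣ p ^ b * m := by rw [← h, hn]; exact dvd_mul_right _ _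
    rcases hr.dvd_mul.1 h2 with h3 | h3
    · exact absurd ((Nat.prime_dvd_prime_iff_eq hr hp).1 (hr.dvd_of_dvd_pow h3)) hrp
    · exact h3

theorem adj6 (i : ℕ) (hi : i < 9) (j : ℕ) (hj : j < 9) (h : (tabE6.adj.getD i 0).testBit j = true) :
    (clE6.getD i 0, clE6.getD j 0) ∈ CertTab.L6 ∨ (clE6.getD j 0, clE6.getD i 0) ∈ CertTab.L6 := by
  have h1 : (List.range 9).all (fun i => (List.range 9).all fun j => !((tabE6.adj.getD i 0).testBit j) ||
      (CertTab.L6.contains (clE6.getD i 0, clE6.getD j 0) || CertTab.L6.contains (clE6.getD j 0, clE6.getD i 0))) =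
      true := by
    decide +kernel
  have h2 := all_two (A := fun i j => (tabE6.adj.getD i 0).testBit j) (B := fun i j =>
    (CertTab.L6.contains (clE6.getD i 0, clE6.getD j 0) || CertTab.L6.contains (clE6.getD j 0, clE6.getD i 0))) h1 hi
    hj h
  simpa only [Bool.or_eq_true, List.contains_iff_mem] using h2

theorem nab6 (i : ℕ) (hi : i < 9) (j : ℕ) (hj : j < 9) (h : (tabE6.na.getD i 0).testBit j = true) :
    ∀ T ∈ T6, clE6.getD i 0 ∈ T → clE6.getD j 0 ∈ T → False := by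
  have h1 : (List.range 9).all (fun i => (List.range 9).all fun j => !((tabE6.na.getD i 0).testBit j) ||
      (T6.all fun T => !(T.contains (clE6.getD i 0) && T.contains (clE6.getD j 0)))) = true := by
    decide +kernel
  have h2 := all_two (A := fun i j => (tabE6.na.getD i 0).testBit j) (B := fun i j =>
    (T6.all fun T => !(T.contains (clE6.getD i 0) && T.contains (clE6.getD j 0)))) h1 hi hj h
  intro T hT h3 h4
  rw [List.all_eq_true] at h2
  have h5 := h2 T hT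
  rw [List.contains_iff_mem.2 h3, List.contains_iff_mem.2 h4] at h5
  exact absurd h5 (by decide)

theorem mem6 : ∀ i < 9, clE6.getD i 0 ∈ clE8 := by decide +kernel

theorem tt6 : ∀ i < 9, tabE6.tt.testBit i = true → ∀ T ∈ U6, clE6.getD i 0 ∉ T := by decide +kernel

theorem nt6 : ∀ i < 9, tabE6.nt.testBit i = true → clE6.getD i 0 ∈ CertTab.P6 := by decide +kernel

end Sok

open Sok

theorem sok_e6 {S : Type u} [Group S] [Finite S] {v f : ℕ} (hv : v.Prime) (h : Fam.Is v f S .e6) :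
    SOk tabE6 S v (kcl clE6 (v ^ f)) := by
  obtain ⟨F, _, _, _, hc, ⟨e⟩⟩ := h
  have := Fact.mk hv
  have hq : Nat.card F = v ^ f := by rw [Nat.card_eq_fintype_card, hc]
  have h2q : 2 ≤ Nat.card F := Finite.one_lt_card
  have hf : f ≠ 0 := by
    rintro rfl
    rw [hq, pow_zero] at h2q
    omega
  have n3 : ∀ {r : ℕ}, r.Prime → 5 ≤ r → ¬ r ∣ 3 := fun hr h5 h => by
    have := Nat.le_of_dvd (by norm_num) h
    omega
  refine SOk.congr e ?_
  rw [← hq]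
  refine sok_kcl (by decide) ?_ ?_ ?_ ?_ ?_
  · intro r hr h5 hrv hd
    rcases H378.ExcAdj.od_E6 hr hd with h1 | h1
    · rw [hq] at h1
      exact absurd ((Nat.prime_dvd_prime_iff_eq hr hv).1 (hr.dvd_of_dvd_pow h1)) hrv
    · simp only [clE6, List.mem_cons, List.not_mem_nil, or_false]
      exact h1
  · intro i hi j hj hbit r s hr hs hr5 hs5 hrv hsv hrs hoa hob
    exact CertTab.rel6 hr hs hrs (n3 hr hr5) (n3 hs hs5) (adj6 i hi j hj hbit) (cyc_dvd hr (mem6 i hi) hoa)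
      (cyc_dvd hs (mem6 j hj) hob)
  · intro i hi j hj hbit r s hr hs hr5 hs5 hrv hsv hrs hoa hob g hg
    obtain ⟨b, m, hO⟩ := H378.OmE6.om_E6 (p := v) rfl g
    have hm := eq_of_ne hv hr hs hrv hsv hO.eq hg
    obtain ⟨T, hT, hall⟩ := t6 h2q hO.s0
    have h1 := hall r hr hr5 (by rw [hm]; exact dvd_mul_right _ _)
    have h2 := hall s hs hs5 (by rw [hm]; exact dvd_mul_left _ _)
    rw [hoa] at h1
    rw [hob] at h2
    exact nab6 i hi j hj hbit T hT h1 h2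
  · intro i hi hbit r hr h5 hrv hoa g hg
    obtain ⟨b, m, hO⟩ := H378.OmE6.om_E6 (p := v) rfl g
    obtain ⟨hb, hm⟩ := dvd_of_p hv hr hrv hO.eq hO.nd hg
    obtain ⟨T, hT, hall⟩ := u6 h2q (hO.s1 hb)
    have h1 := hall r hr h5 hm
    rw [hoa] at h1
    exact tt6 i hi hbit T hT h1
  · intro i hi hbit r hr h5 hrv hoa
    exact CertTab.relp6 hr hv (n3 hr h5) (nt6 i hi hbit) (cyc_dvd hr (mem6 i hi) hoa)
      (by rw [hq]; exact dvd_pow_self v hf)

end Cfsg.Agent.R2.Spec.EE
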