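import Cfsg.Agent.R2.Spec.EE.SokB

/-!
# The table of `E₇(q)` (helper6)

`sok_e7`.
-/

set_option autoImplicit false
set_option linter.unusedSectionVars false

namespace Cfsg.Agent.R2.Spec.EE.SokE7

open CoxeterSystem Cfsg Cfsg.Lie Cfsg.Lie.ChevalleyDatum Cfsg.Agent Cfsg.Agent.H493 Cfsg.Agent.H493.PGTorus Cfsg.Agent.H493.PGCyc
open Cfsg.Agent.ChevalleyStructure Cfsg.Agent.ChevalleyStructure.Elts Cfsg.Agent.ChevalleyStructure.CoxeterGeom
  Cfsg.Agent.ChevalleyStructure.CoxeterGeomTypes Cfsg.Agent.ChevalleyStructure.NPerm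
open Cfsg.Agent.Tits.Roots Cfsg.Agent.Tits.Core Cfsg.Agent.Nodes.Reps Cfsg.Agent.Nodes.BNOf
  Cfsg.Agent.Nodes.RGDChev Cfsg.Agent.Nodes.Bruhat
open Cfsg.Agent.KFacts.RgdField Cfsg.Agent.KFacts.RgdChevCoord Cfsg.Agent.BpExc.TorCent Cfsg.Agent.BpExc.TorChev
open Cfsg.Agent.BpExc.Tow Cfsg.Agent.BpExc.TowChev Cfsg.Agent.BpExc.FamExt Cfsg.Agent.BpExc.FamUntw
  Cfsg.Agent.BpExc.FamInst Cfsg.Agent.BpExc.LangFr Cfsg.Agent.BpExc.FamField Cfsg.Agent.BpExc.RowsUntw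
open Cfsg.Agent.H378.TorDual Cfsg.Agent.H378.TorChar Cfsg.Agent.H378.TorFin Cfsg.Agent.H378.LatRoot
  Cfsg.Agent.H378.Regular Cfsg.Agent.H378.ExcNear Cfsg.Agent.H378.RegFin
open Cfsg.Agent.H378.ExcAdj (od od_dvd)
open Cfsg.Agent.R2.Spec.EE.SokB Cfsg.Agent.H426.LieFam

universe u v

/-- no eigencharacters of order `v`, `v ∣ q` -/
theorem no_eig_char {l : ℕ} {M : CoxeterMatrix (Fin l)} {A : Fin l → Fin l → ℤ} (h : IsCartan M A) {W : Type*} [Group W]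
    (cs : CoxeterSystem M W) {k : Type u} [Field k] {q v : ℕ} (hv : v ∣ q) {w : W} {χ : Ch l k} (hE : IsEig cs h q v w χ) :
    False := by
  obtain ⟨h1, h2, h3⟩ := hE
  rw [mem_kerOf] at h1
  obtain ⟨m, rfl⟩ := hv
  have h4 : ∀ x, χ (Multiplicative.ofAdd (rep cs h w x)) = 1 := by
    intro x
    have h5 := h1 x
    have e : (rep cs h w - (((v * m : ℕ) : ℤ)) • (1 : Module.End ℤ (Fin l → ℤ))) x =
        rep cs h w x + -((((v * m : ℕ) : ℤ)) • x) := by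
      rw [← sub_eq_add_neg]
      rfl
    rw [e, ofAdd_add, map_mul, ofAdd_neg, map_inv, ofAdd_zsmul, map_zpow, zpow_natCast, mul_inv_eq_one] at h5
    rw [h5, pow_mul, ← MonoidHom.pow_apply, h3, MonoidHom.one_apply, one_pow]
  apply h2
  refine MonoidHom.ext fun x => ?_
  have h5 := h4 (rep cs h w⁻¹ (Multiplicative.toAdd x))
  have h6 : rep cs h w (rep cs h w⁻¹ (Multiplicative.toAdd x)) = Multiplicative.toAdd x := by
    rw [← Module.End.mul_apply, ← map_mul, mul_inv_cancel, map_one, Module.End.one_apply]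
  rw [h6] at h5
  rw [show x = Multiplicative.ofAdd (Multiplicative.toAdd x) from rfl, h5]
  rfl

/-! ### the facts for the group -/

section

variable {F : Type u} [Field F] [Fintype F]

/-- the classes -/
theorem cl_E7 {r : ℕ} (hr : r.Prime) (hrq : ¬ r ∣ Nat.card F) (hd : r ∣ Nat.card ↥(chevE7.group F)) :
    od (Nat.card F) r ∈ clE7 := by
  have hq : 1 ≤ Nat.card F := Nat.card_pos
  have h1 : r ∣ Nat.gcd 2 (Nat.card F - 1) * Nat.card ↥(chevE7.group F) := hd.mul_left _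
  rw [S1064.result Nat.card_eq_fintype_card.symm] at h1
  simp only [hr.dvd_mul] at h1
  have key : ∀ n ∈ [2, 6, 8, 10, 12, 14, 18], r ∣ Nat.card F ^ n - 1 → od (Nat.card F) r ∈ clE7 := by
    intro n hn h
    have h2 := od_dvd hq h
    have h3 : ∀ n ∈ [2, 6, 8, 10, 12, 14, 18], ∀ e ≤ 18, e ∣ n → e ∈ clE7 := by decide
    refine h3 n hn _ (le_trans (Nat.le_of_dvd ?_ h2) ?_) h2
    · have h4 : ∀ n ∈ [2, 6, 8, 10, 12, 14, 18], 0 < n := by decide
      exact h4 n hn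
    · have h4 : ∀ n ∈ [2, 6, 8, 10, 12, 14, 18], n ≤ 18 := by decide
      exact h4 n hn
  rcases h1 with ((((((h | h) | h) | h) | h) | h) | h) | h
  · exact absurd (hr.dvd_of_dvd_pow h) hrq
  all_goals exact key _ (by decide) h

/-- `v` is not adjacent to the classes 7, 9, 14, 18 -/
theorem char_E7 {r v : ℕ} (hr : r.Prime) (hv : v.Prime) (hvq : v ∣ Nat.card F)
    (h : od (Nat.card F) r = 7 ∨ od (Nat.card F) r = 9 ∨ od (Nat.card F) r = 14 ∨ od (Nat.card F) r = 18)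
    {x : ↥(chevE7.group F)} (hx : orderOf x = r * v) : False := by
  let cs : CoxeterSystem CoxeterMatrix.E₇ CoxeterMatrix.E₇.Group := CoxeterMatrix.E₇.toCoxeterSystem
  have := finite_W e7T cs
  have hy : orderOf (x ^ v) = r := by
    rw [orderOf_pow, hx, Nat.gcd_eq_right (dvd_mul_left v r)]
    exact Nat.mul_div_cancel _ hv.pos
  have hz : orderOf (x ^ r) = v := by
    rw [orderOf_pow, hx, Nat.gcd_eq_right (dvd_mul_right r v)]
    exact Nat.mul_div_cancel_left _ hr.pos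
  obtain ⟨w, -, φ, hφ⟩ := H378.RegE7.cent_E7 hr hy rfl h cs
  have hc : x ^ r ∈ Subgroup.centralizer {x ^ v} :=
    Subgroup.mem_centralizer_singleton_iff.2 ((Commute.refl x).pow_pow r v).eq
  obtain ⟨k, _, χ, hE⟩ := H378.RegE7.eig_of_order e7T cs hv (F := F) (w := w) (y := φ ⟨x ^ r, hc⟩) (by
    rw [orderOf_injective φ hφ, Subgroup.orderOf_mk, hz])
  exact no_eig_char e7T.isCartan cs hvq hE

/-- nonadjacent classes -/
theorem na_E7 {r s a b : ℕ} (hr : r.Prime) (hs : s.Prime) (hrq : ¬ r ∣ Nat.card F) (hsq : ¬ s ∣ Nat.card F)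
    (hab : a ≠ b) (ha : od (Nat.card F) r = a) (hb : od (Nat.card F) s = b) (ha3 : 3 ≤ a) (hb3 : 3 ≤ b)
    (h7 : 7 < a.totient + b.totient) {x : ↥(chevE7.group F)} (hx : orderOf x = r * s) : False := by
  obtain ⟨p, e, m, j, hp, he, hq, ho, hm, hmp, -, -, ⟨S, hS, hSl, hmS⟩, -⟩ := H482.TwoCyc.Untw.ords_E7 x
  have key : ∀ {r : ℕ}, r.Prime → ¬ r ∣ Nat.card F → r ∣ orderOf x →
      (r : ℤ) ∣ (∏ n ∈ S, Polynomial.cyclotomic n ℤ).eval ((Nat.card F : ℕ) : ℤ) := by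
    intro r hr hrq h
    rw [ho] at h
    rcases (hr.dvd_mul).1 h with h1 | h1
    · exact (Int.natCast_dvd_natCast.2 h1).trans hmS
    · exfalso
      apply hrq
      rw [hq, (Nat.prime_dvd_prime_iff_eq hr hp).1 (hr.dvd_of_dvd_pow h1)]
      exact dvd_pow_self p he.ne'
  have h1 := exists_two (q := Nat.card F) (l := 7) le_rfl hr hs hS hSl ha hb ha3 hb3 hab
    (key hr hrq (by rw [hx]; exact dvd_mul_right r s)) (key hs hsq (by rw [hx]; exact dvd_mul_left s r))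
  omega

end

theorem adj_mask : ∀ a ∈ clE7, ∀ b ∈ clE7, (tabE7.adj.getD (clE7.idxOf a) 0).testBit (clE7.idxOf b) = true →
    (a, b) ∈ CertTab.L7 ∨ (b, a) ∈ CertTab.L7 := by decide +kernel

theorem na_mask : ∀ a ∈ clE7, ∀ b ∈ clE7, (tabE7.na.getD (clE7.idxOf a) 0).testBit (clE7.idxOf b) = true →
    a ≠ b ∧ 3 ≤ a ∧ 3 ≤ b ∧ 7 < a.totient + b.totient := by decide +kernel

theorem tt_mask : ∀ a ∈ clE7, tabE7.tt.testBit (clE7.idxOf a) = true → a = 7 ∨ a = 9 ∨ a = 14 ∨ a = 18 := by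
  decide +kernel

theorem nt_mask : ∀ a ∈ clE7, tabE7.nt.testBit (clE7.idxOf a) = true → a ∈ CertTab.P7 := by decide +kernel

end Cfsg.Agent.R2.Spec.EE.SokE7

namespace Cfsg.Agent.R2.Spec.EE

open Cfsg Cfsg.Lie Cfsg.Agent Cfsg.Agent.H426.LieFam
open Cfsg.Agent.R2.Spec.EE.SokB Cfsg.Agent.R2.Spec.EE.SokE7
open Cfsg.Agent.H378.ExcAdj (od od_dvd)

universe u

/-- **The table of `E₇(q)`.** -/
theorem sok_e7 {S : Type u} [Group S] [Finite S] {v f : ℕ} (hv : v.Prime) (h : Fam.Is v f S .e7) :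
    SOk tabE7 S v (kcl clE7 (v ^ f)) := by
  obtain ⟨F, _, _, _, hF, ⟨e⟩⟩ := h
  have hq : Nat.card F = v ^ f := by rw [Nat.card_eq_fintype_card, hF]
  have hf : f ≠ 0 := by
    rintro rfl
    rw [pow_zero] at hF
    exact absurd hF Fintype.one_lt_card.ne'
  have hvq : v ∣ Nat.card F := by
    rw [hq]
    exact dvd_pow_self v hf
  have hcard : Nat.card S = Nat.card ↥(chevE7.group F) := Nat.card_congr e.toEquiv
  have hnq : ∀ {r : ℕ}, r.Prime → r ≠ v → ¬ r ∣ Nat.card F := by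
    intro r hr hrv h1
    rw [hq] at h1
    exact hrv ((Nat.prime_dvd_prime_iff_eq hr hv).1 (hr.dvd_of_dvd_pow h1))
  have hcl : ∀ {r : ℕ}, r.Prime → r ≠ v → r ∣ Nat.card S → od (v ^ f) r ∈ clE7 := by
    intro r hr hrv h1
    rw [hcard] at h1
    rw [← hq]
    exact cl_E7 hr (hnq hr hrv) h1
  have hk : ∀ r : ℕ, kcl clE7 (v ^ f) r = clE7.idxOf (od (v ^ f) r) := fun r => rfl
  have htr : ∀ {n : ℕ}, (∃ g : ↥(chevE7.group F), orderOf g = n) → ∃ g : S, orderOf g = n := by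
    rintro n ⟨g, hg⟩
    exact ⟨e.symm g, by rw [MulEquiv.orderOf_eq, hg]⟩
  have hcyc : ∀ {r : ℕ}, r.Prime → od (v ^ f) r ∈ clE7 → (r : ℤ) ∣ CertTab.cyc (od (v ^ f) r) ((Nat.card F : ℕ) : ℤ) := by
    intro r hr h1
    rw [hq]
    exact cyc_of_od hr h1 rfl
  have h2 : ∀ {r : ℕ}, r.Prime → 5 ≤ r → ¬ r ∣ 2 := fun hr h5 h1 => by
    have := Nat.le_of_dvd (by norm_num) h1
    omega
  refine ⟨fun r hr h5 hrv hd => ?_, fun r s hr hs h5 h5' hrv hsv hrs hd hd' hb => ?_,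
    fun r s hr hs h5 h5' hrv hsv hrs hd hd' hb => ?_, fun r hr h5 hrv hd hb => ?_, fun r hr h5 hrv hd hb => ?_⟩
  · exact List.idxOf_lt_length_of_mem (hcl hr hrv hd)
  · rw [hk, hk] at hb
    have h3 := adj_mask _ (hcl hr hrv hd) _ (hcl hs hsv hd') hb
    exact htr (CertTab.rel7 (F := F) hr hs hrs (h2 hr h5) (h2 hs h5') h3 (hcyc hr (hcl hr hrv hd))
      (hcyc hs (hcl hs hsv hd'))).2.2.2
  · rw [hk, hk] at hb
    obtain ⟨h3, h4, h6, h7⟩ := na_mask _ (hcl hr hrv hd) _ (hcl hs hsv hd') hb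
    rintro ⟨g, hg⟩
    exact na_E7 hr hs (hnq hr hrv) (hnq hs hsv) h3 (by rw [hq]) (by rw [hq]) h4 h6 h7
      (x := e g) (by rw [MulEquiv.orderOf_eq, hg])
  · rw [hk] at hb
    have h3 := tt_mask _ (hcl hr hrv hd) hb
    rintro ⟨g, hg⟩
    exact char_E7 hr hv hvq (by rw [hq]; exact h3) (x := e g) (by rw [MulEquiv.orderOf_eq, hg])
  · rw [hk] at hb
    have h3 := nt_mask _ (hcl hr hrv hd) hb
    exact htr (CertTab.relp7 (F := F) hr hv (h2 hr h5) h3 (hcyc hr (hcl hr hrv hd)) hvq).2.2.2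

end Cfsg.Agent.R2.Spec.EE
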