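import Cfsg.Agent.R2.Spec.EE.Lat8
import Cfsg.Agent.H482.TwoCyc.Untw
import Cfsg.Agent.H493.PGRed

/-!
# `E₈(q)` has no element of order `r s` for certain pairs of classes of primes (packet EE-O2)

`e(r)` is the order of `q` modulo `r`.

* `no_two` : `{e(r), e(s)}` one of `{5,8}, {5,10}, {5,12}, {8,10}, {8,12}, {10,12}, {7,3}, {7,4}, {7,6}, {9,4}, {9,6},
  {14,3}, {14,4}, {14,6}, {18,3}, {18,4}`: no element of `E₈(q)` has order `r s`.

The orders of the elements come from an isometry `R` of the lattice; here the characteristic polynomial of `R` would be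
`Φ_a Φ_b`, and `det (1 - R)` or `det (1 + R)` is exactly divisible by a prime, against `Lat8.no_exact`.
-/

set_option autoImplicit false
set_option linter.unusedSectionVars false

namespace Cfsg.Agent.R2.Spec.EE

open CoxeterSystem Cfsg Cfsg.Lie Cfsg.Lie.ChevalleyDatum
open Cfsg.Agent.ChevalleyStructure Cfsg.Agent.ChevalleyStructure.Elts Cfsg.Agent.ChevalleyStructure.CoxeterGeom
  Cfsg.Agent.ChevalleyStructure.CoxeterGeomTypes Cfsg.Agent.ChevalleyStructure.NPerm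
open Cfsg.Agent.Tits.Roots Cfsg.Agent.Tits.Core Cfsg.Agent.Nodes Cfsg.Agent.Nodes.Reps Cfsg.Agent.Nodes.BNOf
  Cfsg.Agent.Nodes.RGDChev Cfsg.Agent.Nodes.Bruhat
open Cfsg.Agent.KFacts.RgdField Cfsg.Agent.KFacts.RgdChevCoord
open Cfsg.Agent.BpExc Cfsg.Agent.BpExc.TorCent Cfsg.Agent.BpExc.TorChev Cfsg.Agent.BpExc.Tow
  Cfsg.Agent.BpExc.TowChev Cfsg.Agent.BpExc.Fr Cfsg.Agent.BpExc.NInst
open Cfsg.Agent.H129.TorusChar Cfsg.Agent.BpExc.LangFr
open Cfsg.Agent.GpExc.Field (glMap emb coe_emb glMap_xG emb_injective coe_glMap)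
open Cfsg.Agent.H482.TwoCyc Cfsg.Agent.H482.TwoCyc.Pair Cfsg.Agent.H482.TwoCyc.Eng Cfsg.Agent.H482.TwoCyc.Forms
open Cfsg.Agent.H482.TwoCyc.Lat
open Polynomial

universe u v

namespace O2

/-! ### the form of type `E₈` -/

theorem even_E8 (x : Fin 8 → ℤ) : ∃ t : ℤ, x ⬝ᵥ (Matrix.of AE8).mulVec x = 2 * t := by
  refine ⟨x 0 ^ 2 + x 1 ^ 2 + x 2 ^ 2 + x 3 ^ 2 + x 4 ^ 2 + x 5 ^ 2 + x 6 ^ 2 + x 7 ^ 2 - x 0 * x 2 - x 1 * x 3 -
    x 2 * x 3 - x 3 * x 4 - x 4 * x 5 - x 5 * x 6 - x 6 * x 7, ?_⟩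
  have h1 := bq_eq AE8 x
  rw [bq] at h1
  rw [h1]
  simp [Fin.sum_univ_succ, AE8]
  ring

/-- the inverse of the Cartan matrix -/
def IE8 : Matrix (Fin 8) (Fin 8) ℤ := !![4, 5, 7, 10, 8, 6, 4, 2; 5, 8, 10, 15, 12, 9, 6, 3; 7, 10, 14, 20, 16, 12, 8, 4;
  10, 15, 20, 30, 24, 18, 12, 6; 8, 12, 16, 24, 20, 15, 10, 5; 6, 9, 12, 18, 15, 12, 8, 4; 4, 6, 8, 12, 10, 8, 6, 3;
  2, 3, 4, 6, 5, 4, 3, 2]

theorem inv_E8 : IE8 * Matrix.of AE8 = 1 := by decide +kernel

/-! ### the values of the cyclotomic polynomials -/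

theorem eval_expand {p n : ℕ} (hp : p.Prime) (hn : ¬ p ∣ n) (x : ℤ) :
    (cyclotomic n ℤ).eval (x ^ p) = (cyclotomic (n * p) ℤ).eval x * (cyclotomic n ℤ).eval x := by
  rw [← eval_mul, ← cyclotomic_expand_eq_cyclotomic_mul hp hn, expand_eval]

theorem cls {q r a n : ℕ} (hr : r.Prime) (ha : orderOf (q : ZMod r) = a) (ha3 : 3 ≤ a) (hn : 0 < n)
    (hφ : n.totient ≤ 8) (h : (r : ℤ) ∣ (cyclotomic n ℤ).eval (q : ℤ)) : n = a ∨ (a = 4 ∧ n = 20) := by
  have := Fact.mk hr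
  obtain ⟨k, m, hm, hnm⟩ := Nat.exists_eq_pow_mul_and_not_dvd hn.ne' r hr.ne_one
  have hm0 : NeZero (m : ZMod r) := ⟨by
    rw [Ne, ZMod.natCast_eq_zero_iff]
    exact hm⟩
  have h1 : (cyclotomic (r ^ k * m) (ZMod r)).IsRoot (q : ZMod r) := by
    rw [IsRoot.def, ← hnm, ← map_cyclotomic_int n (ZMod r)]
    have h2 : ((cyclotomic n ℤ).map (Int.castRingHom (ZMod r))).eval ((q : ℤ) : ZMod r) =
        (((cyclotomic n ℤ).eval (q : ℤ) : ℤ) : ZMod r) := by
      rw [eval_intCast_map]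
      simp
    rw [Int.cast_natCast] at h2
    rw [h2, ZMod.intCast_zmod_eq_zero_iff_dvd]
    exact h
  rw [isRoot_cyclotomic_prime_pow_mul_iff_of_charP] at h1
  have hma : m = a := by rw [← ha, h1.eq_orderOf]
  subst hma
  have hq0 : (q : ZMod r) ≠ 0 := by
    intro h0
    rw [h0, orderOf_zero] at ha
    omega
  have hdvd : m ∣ r - 1 := by
    rw [← ha]
    exact ZMod.orderOf_dvd_card_sub_one hq0
  have hr1 : 0 < r - 1 := Nat.sub_pos_of_lt hr.one_lt
  have hle := Nat.le_of_dvd hr1 hdvd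
  rcases Nat.eq_zero_or_pos k with rfl | hk
  · left; rw [hnm, pow_zero, one_mul]
  right
  have hcop : (r ^ k).Coprime m := Nat.Coprime.pow_left k ((Nat.Prime.coprime_iff_not_dvd hr).2 hm)
  rw [hnm, Nat.totient_mul hcop, Nat.totient_prime_pow hr hk] at hφ
  have hφm : 2 ≤ m.totient := by
    have h2 : 0 < m.totient := Nat.totient_pos.2 (by omega)
    have h3 : m.totient ≠ 1 := by
      rw [Ne, Nat.totient_eq_one_iff]
      omega
    omega
  have h4 : (r ^ (k - 1) * (r - 1)) * 2 ≤ 8 := (Nat.mul_le_mul_left _ hφm).trans hφ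
  have h5 : 1 ≤ r ^ (k - 1) := Nat.one_le_pow _ _ hr.pos
  have h6 : r - 1 ≤ 4 := by nlinarith
  have hr5 : r = 5 ∧ m = 4 := by
    have h7 : m = 3 ∨ m = 4 := by omega
    rcases h7 with rfl | rfl
    · have h8 : r = 4 ∨ r = 5 := by omega
      rcases h8 with rfl | rfl
      · exact absurd hr (by norm_num)
      · exact absurd hdvd (by norm_num)
    · exact ⟨by omega, rfl⟩
  obtain ⟨rfl, rfl⟩ := hr5
  refine ⟨rfl, ?_⟩
  have hk1 : k = 1 := by
    by_contra hk1
    have h9 : 5 ^ 1 ≤ 5 ^ (k - 1) := Nat.pow_le_pow_right (by norm_num) (by omega)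
    omega
  rw [hnm, hk1]
  norm_num

/-! ### the characteristic polynomial -/

theorem charpoly_RQ (R : Module.End ℤ (Fin 8 → ℤ)) : (RQ R).charpoly = R.charpoly.map (Int.castRingHom ℚ) := by
  rw [← LinearMap.charpoly_toMatrix R (Pi.basisFun ℤ (Fin 8)), ← Matrix.charpoly_map,
    ← LinearMap.charpoly_toMatrix (RQ R) (Pi.basisFun ℚ (Fin 8))]
  congr 1
  rw [RQ]
  exact LinearMap.toMatrix'_toLin' _

/-- the characteristic polynomial is `Φ_a Φ_b` -/
theorem charpoly_eq {k : Type*} [Field k] {χ : (Fin 8 → ℤ) → k} (hχ : IsMC χ) {q : ℕ} {R : Module.End ℤ (Fin 8 → ℤ)}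
    (hR : ∀ x, χ (R x) = χ x ^ q) {M : ℕ} (hM : 0 < M) (hRM : R ^ M = 1) {r s a b : ℕ} (hr : r.Prime) (hs : s.Prime)
    (ha : orderOf (q : ZMod r) = a) (hb : orderOf (q : ZMod s) = b) (ha3 : 3 ≤ a) (hb3 : 3 ≤ b) (hab : a ≠ b)
    (hφ : a.totient + b.totient = 8) (hdvd : ∀ z : ℤ, (∀ y, χ y ^ z = 1) → ((r * s : ℕ) : ℤ) ∣ z) :
    R.charpoly = cyclotomic a ℤ * cyclotomic b ℤ := by
  classical
  have hchi : ∀ P : ℤ[X], aeval (RQ R) (P.map (Int.castRingHom ℚ)) = 0 → ((r * s : ℕ) : ℤ) ∣ P.eval (q : ℤ) := by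
    intro P hP
    apply hdvd
    intro y
    rw [← chi_poly hχ hR]
    have h1 := aeval_cst R P y
    rw [hP, LinearMap.zero_apply] at h1
    have h2 : aeval R P y = 0 := cst_inj (by rw [← h1]; funext j; simp [cst])
    rw [h2, hχ.zero]
  obtain ⟨S, hS, h1, h2⟩ := Poly.exists_poly (RQ R) hM (RQ_pow hRM) ⊥ (fun x hx => by
    rw [Submodule.mem_bot] at hx ⊢
    rw [hx, map_zero])
  rw [finrank_bot, add_zero, Module.finrank_fin_fun] at h1
  have h3 : aeval (RQ R) (∏ n ∈ S, cyclotomic n ℚ) = 0 :=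
    LinearMap.ext fun v => (Submodule.mem_bot ℚ).1 (h2 v)
  have h4 : (∏ n ∈ S, cyclotomic n ℚ) = (∏ n ∈ S, cyclotomic n ℤ).map (Int.castRingHom ℚ) := by
    rw [Polynomial.map_prod]
    exact Finset.prod_congr rfl fun n _ => (map_cyclotomic n _).symm
  have h5 := hchi _ (h4 ▸ h3)
  have hmem : ∀ t : ℕ, t.Prime → (t : ℤ) ∣ ((r * s : ℕ) : ℤ) → ∃ n ∈ S, (t : ℤ) ∣ (cyclotomic n ℤ).eval (q : ℤ) := by
    intro t ht h
    have h6 := h.trans h5
    rw [eval_prod] at h6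
    exact (Nat.prime_iff_prime_int.1 ht).exists_mem_finset_dvd h6
  have hle : ∀ n ∈ S, n.totient ≤ 8 := fun n hn => (Finset.single_le_sum (fun _ _ => Nat.zero_le _) hn).trans h1
  obtain ⟨n₁, hn₁, hd₁⟩ := hmem r hr (by push_cast; exact dvd_mul_right _ _)
  obtain ⟨n₂, hn₂, hd₂⟩ := hmem s hs (by push_cast; exact dvd_mul_left _ _)
  have hc₁ := cls hr ha ha3 (hS _ hn₁) (hle _ hn₁) hd₁
  have hc₂ := cls hs hb hb3 (hS _ hn₂) (hle _ hn₂) hd₂
  have htpos : ∀ n ∈ S, 0 < n.totient := fun n hn => Nat.totient_pos.2 (hS n hn)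
  have hne : n₁ ≠ n₂ := by
    rintro rfl
    rcases hc₁ with h | h <;> rcases hc₂ with h' | h'
    · exact hab (h.symm.trans h')
    · rw [← h, h'.2, h'.1] at hφ
      exact absurd hφ (by decide)
    · rw [← h', h.2, h.1] at hφ
      exact absurd hφ (by decide)
    · exact hab (h.1.trans h'.1.symm)
  have hpair : n₁.totient + n₂.totient ≤ 8 := by
    rw [← Finset.sum_pair (f := Nat.totient) hne]
    refine (Finset.sum_le_sum_of_subset ?_).trans h1
    intro n hn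
    rw [Finset.mem_insert, Finset.mem_singleton] at hn
    rcases hn with rfl | rfl
    · exact hn₁
    · exact hn₂
  have h20 : Nat.totient 20 = 8 := by decide
  have hn₁a : n₁ = a := by
    refine hc₁.resolve_right fun h => ?_
    rw [h.2, h20] at hpair
    have := htpos n₂ hn₂
    omega
  have hn₂b : n₂ = b := by
    refine hc₂.resolve_right fun h => ?_
    rw [h.2, h20] at hpair
    have := htpos n₁ hn₁
    omega
  subst hn₁a
  subst hn₂b
  -- the factors divide the minimal polynomial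
  have hSab : S = {n₁, n₂} := by
    symm
    apply Finset.eq_of_subset_of_card_le
    · intro n hn
      rw [Finset.mem_insert, Finset.mem_singleton] at hn
      rcases hn with rfl | rfl
      · exact hn₁
      · exact hn₂
    · by_contra hlt
      rw [not_le] at hlt
      have hsub : ({n₁, n₂} : Finset ℕ) ⊆ S := by
        intro n hn
        rw [Finset.mem_insert, Finset.mem_singleton] at hn
        rcases hn with rfl | rfl
        · exact hn₁
        · exact hn₂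
      obtain ⟨n, hn, hn'⟩ := Finset.exists_mem_notMem_of_card_lt_card hlt
      have h6 : ∑ x ∈ insert n {n₁, n₂}, Nat.totient x ≤ ∑ x ∈ S, Nat.totient x :=
        Finset.sum_le_sum_of_subset (Finset.insert_subset hn hsub)
      rw [Finset.sum_insert hn', Finset.sum_pair hne] at h6
      have := htpos n hn
      omega
  rw [hSab, Finset.prod_pair hne] at h3
  have hcop : IsCoprime (cyclotomic n₁ ℚ) (cyclotomic n₂ ℚ) := cyclotomic.isCoprime_rat hne
  have hμ : minpoly ℚ (RQ R) ∣ cyclotomic n₁ ℚ * cyclotomic n₂ ℚ := minpoly.dvd _ _ h3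
  have hkey : ∀ n m : ℕ, ∀ t : ℕ, (t = r ∨ t = s) → ¬ (t : ℤ) ∣ (cyclotomic m ℤ).eval (q : ℤ) → 0 < n →
      minpoly ℚ (RQ R) ∣ cyclotomic n ℚ * cyclotomic m ℚ → cyclotomic n ℚ ∣ minpoly ℚ (RQ R) := by
    intro n m t ht hnd hn0 hμ
    by_contra hcon
    have h6 : IsCoprime (cyclotomic n ℚ) (minpoly ℚ (RQ R)) :=
      ((cyclotomic.irreducible_rat hn0).coprime_iff_not_dvd).2 hcon
    have h7 := h6.symm.dvd_of_dvd_mul_left hμ
    have h8 : aeval (RQ R) ((cyclotomic m ℤ).map (Int.castRingHom ℚ)) = 0 := by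
      rw [map_cyclotomic]
      obtain ⟨c, hc⟩ := h7
      rw [hc, map_mul, minpoly.aeval, zero_mul]
    have h9 := hchi _ h8
    apply hnd
    refine Dvd.dvd.trans ?_ h9
    push_cast
    rcases ht with rfl | rfl
    · exact dvd_mul_right _ _
    · exact dvd_mul_left _ _
  have hnd₁ : ¬ (r : ℤ) ∣ (cyclotomic n₂ ℤ).eval (q : ℤ) := by
    intro h
    rcases cls hr ha ha3 (hS _ hn₂) (hle _ hn₂) h with h' | h'
    · exact hne h'.symm
    · rw [h'.2, h20] at hφ
      have := htpos n₁ hn₁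
      omega
  have hnd₂ : ¬ (s : ℤ) ∣ (cyclotomic n₁ ℤ).eval (q : ℤ) := by
    intro h
    rcases cls hs hb hb3 (hS _ hn₁) (hle _ hn₁) h with h' | h'
    · exact hne h'
    · rw [h'.2, h20] at hφ
      have := htpos n₂ hn₂
      omega
  have hd1 := hkey n₁ n₂ r (Or.inl rfl) hnd₁ (hS _ hn₁) hμ
  have hd2 := hkey n₂ n₁ s (Or.inr rfl) hnd₂ (hS _ hn₂) (by rwa [mul_comm])
  have hd3 : cyclotomic n₁ ℚ * cyclotomic n₂ ℚ ∣ (RQ R).charpoly :=
    (hcop.mul_dvd hd1 hd2).trans (LinearMap.minpoly_dvd_charpoly _)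
  have hmon : (cyclotomic n₁ ℚ * cyclotomic n₂ ℚ).Monic := (cyclotomic.monic _ _).mul (cyclotomic.monic _ _)
  have hdeg : (cyclotomic n₁ ℚ * cyclotomic n₂ ℚ).natDegree = 8 := by
    rw [(cyclotomic.monic n₁ ℚ).natDegree_mul (cyclotomic.monic n₂ ℚ), natDegree_cyclotomic, natDegree_cyclotomic, hφ]
  have h6 : (RQ R).charpoly = cyclotomic n₁ ℚ * cyclotomic n₂ ℚ :=
    (Polynomial.eq_of_monic_of_dvd_of_natDegree_le hmon (LinearMap.charpoly_monic _) hd3 (by
      rw [hdeg, LinearMap.charpoly_natDegree, Module.finrank_fin_fun]))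
  rw [charpoly_RQ, ← map_cyclotomic n₁ (Int.castRingHom ℚ), ← map_cyclotomic n₂ (Int.castRingHom ℚ),
    ← Polynomial.map_mul] at h6
  exact Polynomial.map_injective _ Int.cast_injective h6

/-! ### the values at `1` and `-1` -/

/-- some value at `1` or `-1` is exactly divisible by a prime -/
def Bad (a b : ℕ) : Prop :=
  (∃ (p : ℕ) (m : ℤ), p.Prime ∧ ¬ (p : ℤ) ∣ m ∧ (cyclotomic a ℤ * cyclotomic b ℤ).eval 1 = p * m) ∨
  (∃ (p : ℕ) (m : ℤ), p.Prime ∧ ¬ (p : ℤ) ∣ m ∧ (cyclotomic a ℤ * cyclotomic b ℤ).eval (-1) = p * m)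

theorem Bad.symm {a b : ℕ} (h : Bad a b) : Bad b a := by
  rw [Bad, mul_comm (cyclotomic b ℤ)]
  exact h

/-- no isometry has such a characteristic polynomial -/
theorem Bad.false {a b : ℕ} (h : Bad a b) {R : Module.End ℤ (Fin 8 → ℤ)} (hR : ∀ x, bq AE8 (R x) = bq AE8 x)
    (hc : R.charpoly = cyclotomic a ℤ * cyclotomic b ℤ) : False := by
  have hA : (Matrix.of AE8).IsSymm := by decide +kernel
  rcases h with ⟨p, m, hp, hm, h⟩ | ⟨p, m, hp, hm, h⟩
  · refine Lat8.no_exact (Matrix.of AE8) hA even_E8 IE8 inv_E8 R hR hp hm ?_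
    rw [← h, ← hc, LinearMap.eval_charpoly, map_one]
  · refine Lat8.no_exact (Matrix.of AE8) hA even_E8 IE8 inv_E8 (-R) ?_ hp hm ?_
    · intro x
      rw [LinearMap.neg_apply]
      have h1 := hR x
      rw [bq, bq] at h1
      rw [Matrix.mulVec_neg, dotProduct_neg, neg_dotProduct, neg_neg, h1]
    · have h2 : (1 - -R : Module.End ℤ (Fin 8 → ℤ)) = (-1 : ℤ) • (algebraMap ℤ (Module.End ℤ (Fin 8 → ℤ)) (-1) - R) := by
        rw [map_neg, map_one, neg_smul, one_smul, neg_sub, sub_neg_eq_add, sub_neg_eq_add, add_comm]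
      rw [h2, LinearMap.det_smul, Module.finrank_fin_fun, ← LinearMap.eval_charpoly, hc, h]
      norm_num

theorem one_prime {p : ℕ} (hp : p.Prime) : (cyclotomic p ℤ).eval 1 = p := by
  have := Fact.mk hp
  exact eval_one_cyclotomic_prime

theorem one_prime_pow {p : ℕ} (hp : p.Prime) (k : ℕ) : (cyclotomic (p ^ (k + 1)) ℤ).eval 1 = p := by
  have := Fact.mk hp
  exact eval_one_cyclotomic_prime_pow k

theorem neg_one_prime {p : ℕ} (hp : p.Prime) (h2 : Odd p) : (cyclotomic p ℤ).eval (-1) = 1 := by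
  have := Fact.mk hp
  rw [cyclotomic_prime, eval_geom_sum, neg_one_geom_sum, if_neg (Nat.not_even_iff_odd.2 h2)]

theorem v3 : (cyclotomic 3 ℤ).eval 1 = 3 := one_prime (by norm_num)

theorem v5 : (cyclotomic 5 ℤ).eval 1 = 5 := one_prime (by norm_num)

theorem v7 : (cyclotomic 7 ℤ).eval 1 = 7 := one_prime (by norm_num)

theorem v4 : (cyclotomic 4 ℤ).eval 1 = 2 := one_prime_pow (p := 2) (by norm_num) 1

theorem v8 : (cyclotomic 8 ℤ).eval 1 = 2 := one_prime_pow (p := 2) (by norm_num) 2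

theorem v9 : (cyclotomic 9 ℤ).eval 1 = 3 := one_prime_pow (p := 3) (by norm_num) 1

theorem v6 : (cyclotomic 6 ℤ).eval 1 = 1 := by
  have h := eval_expand (p := 2) (n := 3) (by norm_num) (by norm_num) 1
  rw [one_pow, v3] at h
  have h' : (3 : ℤ) = (cyclotomic 6 ℤ).eval 1 * 3 := h
  linarith

theorem v10 : (cyclotomic 10 ℤ).eval 1 = 1 := by
  have h := eval_expand (p := 2) (n := 5) (by norm_num) (by norm_num) 1
  rw [one_pow, v5] at h
  have h' : (5 : ℤ) = (cyclotomic 10 ℤ).eval 1 * 5 := h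
  linarith

theorem v12 : (cyclotomic 12 ℤ).eval 1 = 1 := by
  have h := eval_expand (p := 3) (n := 4) (by norm_num) (by norm_num) 1
  rw [one_pow, v4] at h
  have h' : (2 : ℤ) = (cyclotomic 12 ℤ).eval 1 * 2 := h
  linarith

theorem v14 : (cyclotomic 14 ℤ).eval 1 = 1 := by
  have h := eval_expand (p := 2) (n := 7) (by norm_num) (by norm_num) 1
  rw [one_pow, v7] at h
  have h' : (7 : ℤ) = (cyclotomic 14 ℤ).eval 1 * 7 := h
  linarith

theorem v18 : (cyclotomic 18 ℤ).eval 1 = 1 := by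
  have h := eval_expand (p := 2) (n := 9) (by norm_num) (by norm_num) 1
  rw [one_pow, v9] at h
  have h' : (3 : ℤ) = (cyclotomic 18 ℤ).eval 1 * 3 := h
  linarith

theorem w6 : (cyclotomic 6 ℤ).eval (-1) = 3 := by
  have h := eval_expand (p := 2) (n := 3) (by norm_num) (by norm_num) (-1)
  rw [neg_one_sq, v3, neg_one_prime (p := 3) (by norm_num) (by decide), mul_one] at h
  exact h.symm

theorem w10 : (cyclotomic 10 ℤ).eval (-1) = 5 := by
  have h := eval_expand (p := 2) (n := 5) (by norm_num) (by norm_num) (-1)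
  rw [neg_one_sq, v5, neg_one_prime (p := 5) (by norm_num) (by decide), mul_one] at h
  exact h.symm

theorem w14 : (cyclotomic 14 ℤ).eval (-1) = 7 := by
  have h := eval_expand (p := 2) (n := 7) (by norm_num) (by norm_num) (-1)
  rw [neg_one_sq, v7, neg_one_prime (p := 7) (by norm_num) (by decide), mul_one] at h
  exact h.symm

theorem w4 : (cyclotomic 4 ℤ).eval (-1) = 2 := by
  have := Fact.mk Nat.prime_two
  have h : cyclotomic (2 ^ (1 + 1)) ℤ = ∑ i ∈ Finset.range 2, (X ^ 2 ^ 1) ^ i := cyclotomic_prime_pow_eq_geom_sum Nat.prime_two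
  have h1 : (2 ^ (1 + 1) : ℕ) = 4 := by norm_num
  rw [h1] at h
  rw [h]
  simp [Finset.sum_range_succ]

theorem w12 : (cyclotomic 12 ℤ).eval (-1) = 1 := by
  have h := eval_expand (p := 3) (n := 4) (by norm_num) (by norm_num) (-1)
  have h1 : ((-1 : ℤ)) ^ 3 = -1 := by norm_num
  rw [h1, w4] at h
  have h' : (2 : ℤ) = (cyclotomic 12 ℤ).eval (-1) * 2 := h
  linarith

/-- the pairs of classes -/
def pairs : List (ℕ × ℕ) := [(5, 8), (5, 10), (5, 12), (8, 10), (8, 12), (10, 12), (7, 3), (7, 4), (7, 6), (9, 4), (9, 6),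
  (14, 3), (14, 4), (14, 6), (18, 3), (18, 4)]

theorem bad_pairs : ∀ x ∈ pairs, Bad x.1 x.2 := by
  intro x hx
  simp only [pairs, List.mem_cons, List.not_mem_nil, or_false] at hx
  rcases hx with rfl | rfl | rfl | rfl | rfl | rfl | rfl | rfl | rfl | rfl | rfl | rfl | rfl | rfl | rfl | rfl
  · exact Or.inl ⟨5, 2, by norm_num, by norm_num, by rw [eval_mul, v5, v8]; norm_num⟩
  · exact Or.inl ⟨5, 1, by norm_num, by norm_num, by rw [eval_mul, v5, v10]; norm_num⟩
  · exact Or.inl ⟨5, 1, by norm_num, by norm_num, by rw [eval_mul, v5, v12]; norm_num⟩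
  · exact Or.inl ⟨2, 1, by norm_num, by norm_num, by rw [eval_mul, v8, v10]; norm_num⟩
  · exact Or.inl ⟨2, 1, by norm_num, by norm_num, by rw [eval_mul, v8, v12]; norm_num⟩
  · exact Or.inr ⟨5, 1, by norm_num, by norm_num, by rw [eval_mul, w10, w12]; norm_num⟩
  · exact Or.inl ⟨7, 3, by norm_num, by norm_num, by rw [eval_mul, v7, v3]; norm_num⟩
  · exact Or.inl ⟨7, 2, by norm_num, by norm_num, by rw [eval_mul, v7, v4]; norm_num⟩
  · exact Or.inl ⟨7, 1, by norm_num, by norm_num, by rw [eval_mul, v7, v6]; norm_num⟩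
  · exact Or.inl ⟨3, 2, by norm_num, by norm_num, by rw [eval_mul, v9, v4]; norm_num⟩
  · exact Or.inl ⟨3, 1, by norm_num, by norm_num, by rw [eval_mul, v9, v6]; norm_num⟩
  · exact Or.inl ⟨3, 1, by norm_num, by norm_num, by rw [eval_mul, v14, v3]; norm_num⟩
  · exact Or.inl ⟨2, 1, by norm_num, by norm_num, by rw [eval_mul, v14, v4]; norm_num⟩
  · exact Or.inr ⟨7, 3, by norm_num, by norm_num, by rw [eval_mul, w14, w6]; norm_num⟩
  · exact Or.inl ⟨3, 1, by norm_num, by norm_num, by rw [eval_mul, v18, v3]; norm_num⟩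
  · exact Or.inl ⟨2, 1, by norm_num, by norm_num, by rw [eval_mul, v18, v4]; norm_num⟩

theorem tot_pairs : ∀ x ∈ pairs, x.1.totient + x.2.totient = 8 ∧ 3 ≤ x.1 ∧ 3 ≤ x.2 ∧ x.1 ≠ x.2 := by
  decide +kernel

end O2

open O2

/-- the isometry and the character of an element of an untwisted group -/
theorem O2.untw_raw {D : ChevalleyDatum} {l : ℕ} {M : CoxeterMatrix (Fin l)} (hp : IsType D l M)
    {A : Fin l → Fin l → ℤ} (hAs : ∀ i j, A i j = A j i) (hAc : ∀ i j, 2 * A i j = A i i * cartanOf D l i j)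
    {F : Type u} [Field F] [Finite F] (x : ↥(D.group F)) :
    ∃ p e m j : ℕ, p.Prime ∧ 0 < e ∧ Nat.card F = p ^ e ∧ orderOf x = m * p ^ j ∧
      ∃ (k : Type u) (_ : Field k) (χ : (Fin l → ℤ) → k) (R : Module.End ℤ (Fin l → ℤ)) (M' : ℕ), IsMC χ ∧ 0 < M' ∧
        R ^ M' = 1 ∧ (∀ x, bq A (R x) = bq A x) ∧ (∀ y, χ (R y) = χ y ^ Nat.card F) ∧
        (∀ z : ℤ, (∀ y, χ y ^ z = 1) → (m : ℤ) ∣ z) := by
  have := Fintype.ofFinite F
  have : Finite (GL D.Idx F) := inferInstance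
  obtain ⟨k, hkf, _, f, p, hpf, _, e, hk, hka, he, hn⟩ := H378.TorFin.exists_closure F
  have hfin := finite_W hp M.toCoxeterSystem
  obtain ⟨m, j, h1, -, hm0, χ, R, hχ, ⟨w, hRw⟩, hR, hdvd, -⟩ := Eng.raw hp M.toCoxeterSystem hk hka
    (H129.TorusUntw.isFrob_phi (p := p) (e := e)) (H129.TorusUntw.fr_phi hp M.toCoxeterSystem)
    (emb hp.inList f) (emb_injective hp.inList f) x
    (H129.TorusUntw.phi_emb hp f (by rw [← Nat.card_eq_fintype_card, hn]) x) (orderOf_pos x)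
  have hRinj : Function.Injective R := by
    intro a b hab
    rw [hRw, hRw] at hab
    have h2 := rep_inv_apply M.toCoxeterSystem hp.isCartan w a
    rw [show rep M.toCoxeterSystem hp.isCartan w a = rep M.toCoxeterSystem hp.isCartan w b from hab,
      rep_inv_apply] at h2
    exact h2.symm
  obtain ⟨M', hM', hRM⟩ := exists_pow hp M.toCoxeterSystem hRinj (fun a ha => by
    rw [hRw]; exact ha.act w)
  have hbR : ∀ x, bq A (R x) = bq A x := by
    intro x
    rw [hRw, bq_rep hp M.toCoxeterSystem hAs hAc]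
    rfl
  refine ⟨p, e, m, j, hpf.out, he, hn, h1, k, hkf, χ, R, M', hχ, hM', hRM, hbR, ?_, ?_⟩
  · intro y
    rw [hn]
    exact hR y
  · intro z hz
    have h2 : ∀ y, χ y ^ z.natAbs = 1 := by
      intro y
      have h3 := hz y
      rcases Int.natAbs_eq z with h4 | h4
      · rw [h4, zpow_natCast] at h3; exact h3
      · rw [h4, _root_.zpow_neg, inv_eq_one, zpow_natCast] at h3; exact h3
    exact Int.natCast_dvd.2 (hdvd _ h2)

/-- **No element of `E₈(q)` has order `r s`.** -/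
theorem no_two {F : Type u} [Field F] [Finite F] {r s a b : ℕ} (hr : r.Prime) (hs : s.Prime)
    (ha : orderOf ((Nat.card F : ℕ) : ZMod r) = a) (hb : orderOf ((Nat.card F : ℕ) : ZMod s) = b)
    (hab : (a, b) ∈ pairs ∨ (b, a) ∈ pairs) (x : ↥(chevE8.group F)) : orderOf x ≠ r * s := by
  intro hx
  have hbad : Bad a b := by
    rcases hab with h | h
    · exact bad_pairs (a, b) h
    · exact (bad_pairs (b, a) h).symm
  have htot : a.totient + b.totient = 8 ∧ 3 ≤ a ∧ 3 ≤ b ∧ a ≠ b := by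
    rcases hab with h | h
    · exact tot_pairs (a, b) h
    · obtain ⟨h1, h2, h3, h4⟩ := tot_pairs (b, a) h
      have h1' : b.totient + a.totient = 8 := h1
      exact ⟨by rw [add_comm]; exact h1', h3, h2, h4.symm⟩
  obtain ⟨hφ, ha3, hb3, hne⟩ := htot
  obtain ⟨p, e, m, j, hpp, he, hn, h1, k, _, χ, R, M', hχ, hM', hRM, hbR, hR, hdvd⟩ :=
    untw_raw RowsUntw.e8T cert_E8.2.2.1 cart_E8 x
  -- `p` does not divide `r s`
  have hpr : ∀ {t c : ℕ}, t.Prime → orderOf ((Nat.card F : ℕ) : ZMod t) = c → 3 ≤ c → ¬ p ∣ t := by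
    intro t c ht hc hc3 hpt
    have h2 : p = t := (Nat.prime_dvd_prime_iff_eq hpp ht).1 hpt
    subst h2
    have h3 : ((Nat.card F : ℕ) : ZMod p) = 0 := by
      rw [hn, Nat.cast_pow, ZMod.natCast_self, zero_pow he.ne']
    have := Fact.mk hpp
    rw [h3, orderOf_zero] at hc
    omega
  have hj : j = 0 := by
    by_contra hj
    have h2 : p ∣ r * s := by
      rw [← hx, h1]
      exact (dvd_pow_self p hj).mul_left m
    rcases hpp.dvd_mul.1 h2 with h3 | h3
    · exact hpr hr ha ha3 h3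
    · exact hpr hs hb hb3 h3
  rw [hj, pow_zero, mul_one, hx] at h1
  rw [← h1] at hdvd
  exact hbad.false hbR (charpoly_eq hχ hR hM' hRM hr hs ha hb ha3 hb3 hne hφ hdvd)

theorem no_two_rel {F : Type u} [Field F] [Finite F] {r s a b : ℕ}
    (ha : orderOf ((Nat.card F : ℕ) : ZMod r) = a) (hb : orderOf ((Nat.card F : ℕ) : ZMod s) = b)
    (hab : (a, b) ∈ pairs ∨ (b, a) ∈ pairs) : ¬ H493.PG.Rel ↥(chevE8.group F) r s := by
  rintro ⟨hr, hs, -, x, hx⟩
  exact no_two hr hs ha hb hab x hx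

end Cfsg.Agent.R2.Spec.EE
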