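import Cfsg.Agent.R2.Spec.EE.SokBase
import Cfsg.Agent.R2.Spec.EE.O2
import Cfsg.Agent.R2.Spec.EE.CertTab
import Cfsg.Agent.H378.ExcAdj

/-!
# The table of `E₈(q)` (helper11)
-/

set_option autoImplicit false

namespace Cfsg.Agent.R2.Spec.EE

open Cfsg Cfsg.Lie Polynomial
open Cfsg.Agent.H426.LieFam Cfsg.Agent.H493 Cfsg.Agent.H482.TwoCyc.Untw

universe u

namespace Sok

open H493.PGCyc in
/-- the value of the cyclotomic polynomial -/
theorem cyc_dvd {q r : ℕ} (hr : r.Prime) {a : ℕ} (ha : a ∈ clE8) (h : orderOf (q : ZMod r) = a) :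
    (r : ℤ) ∣ CertTab.cyc a (q : ℤ) := by
  simp only [clE8, List.mem_cons, List.not_mem_nil, or_false] at ha
  rcases ha with rfl | rfl | rfl | rfl | rfl | rfl | rfl | rfl | rfl | rfl | rfl | rfl | rfl | rfl | rfl | rfl | rfl
  · have h1 := H378.CycTab.dvd1 h
    rw [H378.CycTab.pv1] at h1
    rw [CertTab.cyc, pv_c1]; exact h1
  · have h1 := H378.CycTab.dvd2 hr h
    rw [H378.CycTab.pv2] at h1
    rw [CertTab.cyc, pv_c2]; exact h1
  · have h1 := H378.CycTab.dvd3 hr h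
    rw [H378.CycTab.pv3] at h1
    rw [CertTab.cyc, pv_c3]; exact h1
  · have h1 := H378.CycTab.dvd4 hr h
    rw [H378.CycTab.pv4] at h1
    rw [CertTab.cyc, pv_c4]; exact h1
  · have h1 := H378.CycTab.dvd5 hr h
    rw [H378.CycTab.pv5] at h1
    rw [CertTab.cyc, pv_c5]; exact h1
  · have h1 := H378.CycTab.dvd6 hr h
    rw [H378.CycTab.pv6] at h1
    rw [CertTab.cyc, pv_c6]; exact h1
  · have h1 := H378.CycTab.dvd7 hr h
    rw [H378.CycTab.pv7] at h1
    rw [CertTab.cyc, pv_c7]; exact h1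
  · have h1 := H378.CycTab.dvd8 hr h
    rw [H378.CycTab.pv8] at h1
    rw [CertTab.cyc, pv_c8]; exact h1
  · have h1 := H378.CycTab.dvd9 hr h
    rw [H378.CycTab.pv9] at h1
    rw [CertTab.cyc, pv_c9]; exact h1
  · have h1 := H378.CycTab.dvd10 hr h
    rw [H378.CycTab.pv10] at h1
    rw [CertTab.cyc, pv_c10]; exact h1
  · have h1 := H378.CycTab.dvd12 hr h
    rw [H378.CycTab.pv12] at h1
    rw [CertTab.cyc, pv_c12]; exact h1
  · rw [CertTab.cyc, pv_c14]
    exact H378.CycTab.of_factor hr h (a := 7) (b := 2) (c := 1) (by decide) (by decide) (by decide)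
      (⟨1, by ring⟩) (⟨(q : ℤ) - 1, by ring⟩) (one_dvd _)
      (show _ = ((q : ℤ) ^ 7 - 1) * ((q : ℤ) + 1) * (1) * _ by ring)
  · rw [CertTab.cyc, pv_c15]
    exact H378.CycTab.of_factor hr h (a := 5) (b := 3) (c := 1) (by decide) (by decide) (by decide)
      (⟨1, by ring⟩) (⟨(q : ℤ) - 1, by ring⟩) (one_dvd _)
      (show _ = ((q : ℤ) ^ 5 - 1) * ((q : ℤ) ^ 2 + q + 1) * (1) * _ by ring)
  · rw [CertTab.cyc, pv_c18]
    exact H378.CycTab.of_factor hr h (a := 9) (b := 6) (c := 1) (by decide) (by decide) (by decide)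
      (⟨1, by ring⟩) (⟨(q : ℤ) ^ 3 - 1, by ring⟩) (one_dvd _)
      (show _ = ((q : ℤ) ^ 9 - 1) * ((q : ℤ) ^ 3 + 1) * (1) * _ by ring)
  · rw [CertTab.cyc, pv_c20]
    exact H378.CycTab.of_factor hr h (a := 10) (b := 4) (c := 1) (by decide) (by decide) (by decide)
      (⟨1, by ring⟩) (⟨(q : ℤ) ^ 2 - 1, by ring⟩) (one_dvd _)
      (show _ = ((q : ℤ) ^ 10 - 1) * ((q : ℤ) ^ 2 + 1) * (1) * _ by ring)
  · rw [CertTab.cyc, pv_c24]
    exact H378.CycTab.of_factor hr h (a := 12) (b := 8) (c := 1) (by decide) (by decide) (by decide)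
      (⟨1, by ring⟩) (⟨(q : ℤ) ^ 4 - 1, by ring⟩) (one_dvd _)
      (show _ = ((q : ℤ) ^ 12 - 1) * ((q : ℤ) ^ 4 + 1) * (1) * _ by ring)
  · rw [CertTab.cyc, pv_c30]
    exact H378.CycTab.of_factor hr h (a := 15) (b := 10) (c := 6) (by decide) (by decide) (by decide)
      (⟨1, by ring⟩) (⟨(q : ℤ) ^ 5 - 1, by ring⟩) (⟨((q : ℤ) ^ 2 - 1) * ((q : ℤ) ^ 2 + q + 1), by ring⟩)
      (show _ = ((q : ℤ) ^ 15 - 1) * ((q : ℤ) ^ 5 + 1) * ((q : ℤ) ^ 2 - q + 1) * _ by ring)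

/-- the orders, class 17 : 4 -/
def cl8 : List ℕ := [1, 2, 3, 4, 5, 6, 7, 8, 9, 10, 12, 14, 15, 18, 20, 24, 30, 4]

/-- the primes of the class `i` -/
def C8 (q i r : ℕ) : Prop := orderOf ((q : ℕ) : ZMod r) = cl8.getD i 0 ∧ (i = 3 → r ≠ 5) ∧ (i = 17 → r = 5)

/-- the possible indices for the class `i` -/
def poss8 (i : ℕ) : List ℕ :=
  if i = 0 then [1, 5, 7] else if i = 1 then [2, 10, 14] else if i = 17 then [4, 20] else [cl8.getD i 0]

/-- the indices `n` with `φ(n) ≤ 8` -/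
theorem cyc_small {q r n a : ℕ} (hr : r.Prime) (h5 : 5 ≤ r) (hn : 0 < n) (hφ : n.totient ≤ 8)
    (h : (r : ℤ) ∣ (cyclotomic n ℤ).eval (q : ℤ)) (ha : orderOf (q : ZMod r) = a) :
    n = a ∨ (r = 5 ∧ n = 5 * a ∧ (a = 1 ∨ a = 2 ∨ a = 4)) ∨ (r = 7 ∧ n = 7 * a ∧ (a = 1 ∨ a = 2)) := by
  obtain ⟨k, hk⟩ := cyc_pow hr hn h
  rw [ha] at hk
  have ha0 : a ≠ 0 := by
    rintro rfl
    rw [mul_zero] at hk
    omega
  rcases Nat.eq_zero_or_pos k with rfl | h0
  · rw [pow_zero, one_mul] at hk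
    exact Or.inl hk
  have hdvd : a ∣ r - 1 := by
    rw [← ha]
    exact od_dvd_sub hr (by rw [ha]; exact ha0)
  have hr1 : 0 < r - 1 := by omega
  have ha1 : 1 ≤ a := by omega
  have hle := Nat.le_of_dvd hr1 hdvd
  have hcop : (r ^ k).Coprime a := Nat.Coprime.pow_left k ((Nat.Prime.coprime_iff_not_dvd hr).2 fun h =>
    absurd (Nat.le_of_dvd (by omega) h) (by omega))
  rw [hk, Nat.totient_mul hcop, Nat.totient_prime_pow hr h0] at hφ
  have h2 : 0 < a.totient := Nat.totient_pos.2 (by omega)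
  have h4 : 1 ≤ r ^ (k - 1) := Nat.one_le_pow _ _ hr.pos
  have h6 : (r - 1) ≤ 8 := by
    refine le_trans ?_ hφ
    calc r - 1 = 1 * (r - 1) * 1 := by ring
      _ ≤ _ := Nat.mul_le_mul (Nat.mul_le_mul_right _ h4) h2
  have hr57 : r = 5 ∨ r = 7 := by
    have h7 : r ≤ 9 := by omega
    interval_cases r
    · exact Or.inl rfl
    · exact absurd hr (by norm_num)
    · exact Or.inr rfl
    · exact absurd hr (by norm_num)
    · exact absurd hr (by norm_num)
  have hk1 : k = 1 := by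
    by_contra hk1
    have h9 : r ^ 1 ≤ r ^ (k - 1) := Nat.pow_le_pow_right hr.pos (by omega)
    rw [pow_one] at h9
    have h10 : 5 * 4 ≤ r ^ (k - 1) * (r - 1) := Nat.mul_le_mul (h5.trans h9) (by omega)
    have h11 : r ^ (k - 1) * (r - 1) * 1 ≤ r ^ (k - 1) * (r - 1) * a.totient := Nat.mul_le_mul_left _ h2
    omega
  subst hk1
  rw [pow_one] at hk
  rw [Nat.sub_self, pow_zero, one_mul] at hφ
  rcases hr57 with rfl | rfl
  · right; left
    refine ⟨rfl, hk, ?_⟩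
    have h8 : a ≤ 4 := by omega
    interval_cases a
    · exact Or.inl rfl
    · exact Or.inr (Or.inl rfl)
    · exact absurd hdvd (by decide)
    · exact Or.inr (Or.inr rfl)
  · right; right
    refine ⟨rfl, hk, ?_⟩
    have h8 : a ≤ 6 := by omega
    interval_cases a
    · exact Or.inl rfl
    · exact Or.inr rfl
    · exact absurd hφ (by decide)
    · exact absurd hdvd (by decide)
    · exact absurd hdvd (by decide)
    · exact absurd hφ (by decide)

theorem idx8 : ∀ i < 18, (cl8.getD i 0 = 1 → i = 0) ∧ (cl8.getD i 0 = 2 → i = 1) ∧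
    (cl8.getD i 0 = 4 → i = 3 ∨ i = 17) := by decide +kernel

theorem self8 : ∀ i < 18, cl8.getD i 0 ∈ poss8 i := by decide +kernel

theorem mem_poss8 {q r n i : ℕ} (hr : r.Prime) (h5 : 5 ≤ r) (hn : 0 < n) (hφ : n.totient ≤ 8)
    (h : (r : ℤ) ∣ (cyclotomic n ℤ).eval (q : ℤ)) (hi : i < 18) (ha : C8 q i r) : n ∈ poss8 i := by
  obtain ⟨ha, hb, -⟩ := ha
  obtain ⟨j1, j2, j3⟩ := idx8 i hi
  rcases cyc_small hr h5 hn hφ h ha with h1 | ⟨h1, h2, h3⟩ | ⟨-, h2, h3⟩
  · rw [h1]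
    exact self8 i hi
  · rcases h3 with h3 | h3 | h3
    · rw [h2, h3, j1 h3]; decide
    · rw [h2, h3, j2 h3]; decide
    · rcases j3 h3 with h4 | h4
      · exact absurd h1 (hb h4)
      · rw [h2, h3, h4]; decide
  · rcases h3 with h3 | h3
    · rw [h2, h3, j1 h3]; decide
    · rw [h2, h3, j2 h3]; decide

/-- no index for both -/
def no8 (i j : ℕ) : Bool := (poss8 i).all fun n => (poss8 j).all fun m => n != m && Nat.blt 8 (n.totient + m.totient)

/-- the order is prime to the characteristic -/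
theorem ords_ne {G : Type*} [Group G] {q v f l N J2 J3 : ℕ} {x : G} (hv : v.Prime) (hq : q = v ^ f)
    (h : Ords q l N J2 J3 x) {r s : ℕ} (hr : r.Prime) (hs : s.Prime) (hrv : r ≠ v) (hsv : s ≠ v)
    (hx : orderOf x = r * s) : ∃ S : Finset ℕ, (∀ n ∈ S, 0 < n) ∧ ∑ n ∈ S, Nat.totient n ≤ l ∧
      ((r * s : ℕ) : ℤ) ∣ (∏ n ∈ S, cyclotomic n ℤ).eval (q : ℤ) := by
  obtain ⟨p, e, m, j, hp, he, hqe, ho, -, -, -, -, h1, -⟩ := h
  have hpv : p = v := by
    have h2 : p ∣ v ^ f := by rw [← hq, hqe]; exact dvd_pow_self p he.ne'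
    exact (Nat.prime_dvd_prime_iff_eq hp hv).1 (hp.dvd_of_dvd_pow h2)
  subst hpv
  have hj : j = 0 := by
    by_contra hj
    have h2 : p ∣ r * s := by
      rw [← hx, ho]
      exact (dvd_pow_self p hj).mul_left m
    rcases hp.dvd_mul.1 h2 with h3 | h3
    · exact hrv ((Nat.prime_dvd_prime_iff_eq hp hr).1 h3).symm
    · exact hsv ((Nat.prime_dvd_prime_iff_eq hp hs).1 h3).symm
  rw [hj, pow_zero, mul_one, hx] at ho
  rw [← ho] at h1
  exact h1

/-- the order is divisible by the characteristic -/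
theorem ords_v {G : Type*} [Group G] {q v f l N J2 J3 : ℕ} {x : G} (hv : v.Prime) (hq : q = v ^ f)
    (h : Ords q l N J2 J3 x) {r : ℕ} (hr : r.Prime) (hrv : r ≠ v) (hx : orderOf x = r * v) :
    ∃ d c : ℕ, 1 ≤ d ∧ 0 < c ∧ c ^ 2 ≤ N ^ d ∧ (d = 1 → c = 1) ∧
      ∃ S : Finset ℕ, (∀ n ∈ S, 0 < n) ∧ ∑ n ∈ S, Nat.totient n + d ≤ l ∧
        (r : ℤ) ∣ c * (∏ n ∈ S, cyclotomic n ℤ).eval (q : ℤ) := by
  obtain ⟨p, e, m, j, hp, he, hqe, ho, -, hmp, -, -, -, h1⟩ := h
  have hpv : p = v := by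
    have h2 : p ∣ v ^ f := by rw [← hq, hqe]; exact dvd_pow_self p he.ne'
    exact (Nat.prime_dvd_prime_iff_eq hp hv).1 (hp.dvd_of_dvd_pow h2)
  subst hpv
  have hj : j ≠ 0 := by
    rintro rfl
    rw [pow_zero, mul_one, hx] at ho
    have h2 : p ∣ m := by rw [← ho]; exact dvd_mul_left _ _
    exact (Nat.Prime.coprime_iff_not_dvd hp).1 hmp.symm h2
  have hrm : r ∣ m := by
    have h2 : r ∣ m * p ^ j := by rw [← ho, hx]; exact dvd_mul_right _ _
    rcases hr.dvd_mul.1 h2 with h3 | h3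
    · exact h3
    · exact absurd ((Nat.prime_dvd_prime_iff_eq hr hp).1 (hr.dvd_of_dvd_pow h3)) hrv
  obtain ⟨d, c, h2, h3, h4, h5, S, h6, h7, h8⟩ := h1 hj
  exact ⟨d, c, h2, h3, h4, h5, S, h6, h7, (Int.natCast_dvd_natCast.2 hrm).trans h8⟩

/-- a factor of the product -/
theorem exists_factor {q r : ℕ} (hr : r.Prime) {S : Finset ℕ}
    (h : (r : ℤ) ∣ (∏ n ∈ S, cyclotomic n ℤ).eval (q : ℤ)) : ∃ n ∈ S, (r : ℤ) ∣ (cyclotomic n ℤ).eval (q : ℤ) := by
  rw [eval_prod] at h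
  exact (Nat.prime_iff_prime_int.1 hr).exists_mem_finset_dvd h

/-- two classes -/
theorem na8 {q r s i j : ℕ} (hr : r.Prime) (hs : s.Prime) (hr5 : 5 ≤ r) (hs5 : 5 ≤ s) (hi : i < 18) (hj : j < 18)
    (ha : C8 q i r) (hb : C8 q j s) (hno : no8 i j = true) {S : Finset ℕ}
    (h0 : ∀ n ∈ S, 0 < n) (h1 : ∑ n ∈ S, Nat.totient n ≤ 8)
    (h2 : ((r * s : ℕ) : ℤ) ∣ (∏ n ∈ S, cyclotomic n ℤ).eval (q : ℤ)) : False := by
  have hle : ∀ n ∈ S, n.totient ≤ 8 := fun n hn => (Finset.single_le_sum (fun _ _ => Nat.zero_le _) hn).trans h1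
  obtain ⟨n, hn, h3⟩ := exists_factor hr ((Int.natCast_dvd_natCast.2 (dvd_mul_right r s)).trans h2)
  obtain ⟨m, hm, h4⟩ := exists_factor hs ((Int.natCast_dvd_natCast.2 (dvd_mul_left s r)).trans h2)
  have h5 := mem_poss8 hr hr5 (h0 _ hn) (hle _ hn) h3 hi ha
  have h6 := mem_poss8 hs hs5 (h0 _ hm) (hle _ hm) h4 hj hb
  rw [no8, List.all_eq_true] at hno
  have h7 := hno n h5
  rw [List.all_eq_true] at h7
  have h8 := h7 m h6
  rw [Bool.and_eq_true, bne_iff_ne, Nat.blt_eq] at h8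
  have h9 : n.totient + m.totient ≤ 8 := by
    rw [← Finset.sum_pair (f := Nat.totient) h8.1]
    refine (Finset.sum_le_sum_of_subset ?_).trans h1
    intro x hx
    rw [Finset.mem_insert, Finset.mem_singleton] at hx
    rcases hx with rfl | rfl
    · exact hn
    · exact hm
  omega

theorem mem8 : ∀ i < 18, cl8.getD i 0 ∈ clE8 := by decide +kernel

theorem all_two {n : ℕ} {A B : ℕ → ℕ → Bool} (h : (List.range n).all (fun i => (List.range n).all fun j => !(A i j) || B i j) = true)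
    {i j : ℕ} (hi : i < n) (hj : j < n) (hA : A i j = true) : B i j = true := by
  rw [List.all_eq_true] at h
  have h1 := h i (List.mem_range.2 hi)
  rw [List.all_eq_true] at h1
  have h2 := h1 j (List.mem_range.2 hj)
  rw [hA, Bool.not_true, Bool.false_or] at h2
  exact h2

theorem adj8 (i : ℕ) (hi : i < 18) (j : ℕ) (hj : j < 18) (h : (tabE8.adj.getD i 0).testBit j = true) :
    (cl8.getD i 0, cl8.getD j 0) ∈ CertTab.L8 ∨ (cl8.getD j 0, cl8.getD i 0) ∈ CertTab.L8 := by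
  have h1 : (List.range 18).all (fun i => (List.range 18).all fun j => !((tabE8.adj.getD i 0).testBit j) ||
      (CertTab.L8.contains (cl8.getD i 0, cl8.getD j 0) || CertTab.L8.contains (cl8.getD j 0, cl8.getD i 0))) = true := by
    decide +kernel
  have h2 := all_two (A := fun i j => (tabE8.adj.getD i 0).testBit j) (B := fun i j =>
    (CertTab.L8.contains (cl8.getD i 0, cl8.getD j 0) || CertTab.L8.contains (cl8.getD j 0, cl8.getD i 0))) h1 hi hj h
  simpa only [Bool.or_eq_true, List.contains_iff_mem] using h2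

theorem nab8 (i : ℕ) (hi : i < 18) (j : ℕ) (hj : j < 18) (h : (tabE8.na.getD i 0).testBit j = true) :
    ((cl8.getD i 0, cl8.getD j 0) ∈ O2.pairs ∨ (cl8.getD j 0, cl8.getD i 0) ∈ O2.pairs) ∨ no8 i j = true := by
  have h1 : (List.range 18).all (fun i => (List.range 18).all fun j => !((tabE8.na.getD i 0).testBit j) ||
      ((O2.pairs.contains (cl8.getD i 0, cl8.getD j 0) || O2.pairs.contains (cl8.getD j 0, cl8.getD i 0)) ||
        no8 i j)) = true := by
    decide +kernel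
  have h2 := all_two (A := fun i j => (tabE8.na.getD i 0).testBit j) (B := fun i j =>
    ((O2.pairs.contains (cl8.getD i 0, cl8.getD j 0) || O2.pairs.contains (cl8.getD j 0, cl8.getD i 0)) ||
      no8 i j)) h1 hi hj h
  simpa only [Bool.or_eq_true, List.contains_iff_mem] using h2

theorem tt8 : ∀ i < 18, tabE8.tt.testBit i = true → 15 ≤ cl8.getD i 0 ∧ ∀ n ∈ poss8 i, 7 < n.totient := by
  decide +kernel

theorem nt8 : ∀ i < 18, tabE8.nt.testBit i = true → cl8.getD i 0 ∈ CertTab.P8 := by decide +kernel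

/-- the classes are correct -/
theorem kE8_spec {q r : ℕ} (h : orderOf ((q : ℕ) : ZMod r) ∈ clE8) : kE8 q r < 18 ∧ C8 q (kE8 q r) r := by
  rw [kE8]
  split_ifs with h1
  · exact ⟨by norm_num, h1.2, by norm_num, fun _ => h1.1⟩
  · have h2 := List.idxOf_lt_length_of_mem h
    have h3 : clE8.length = 17 := by decide
    rw [h3] at h2
    have h4 : cl8.getD (kcl clE8 q r) 0 = orderOf ((q : ℕ) : ZMod r) := by
      have h5 : ∀ a ∈ clE8, cl8.getD (clE8.idxOf a) 0 = a := by decide +kernel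
      exact h5 _ h
    refine ⟨h2.trans (by norm_num), h4.symm, fun h5 h6 => h1 ⟨h6, ?_⟩, fun h5 => absurd h5 (ne_of_lt h2)⟩
    rw [← h4, h5]
    decide

end Sok

open Sok

theorem sok_e8 {S : Type u} [Group S] [Finite S] {v f : ℕ} (hv : v.Prime) (h : Fam.Is v f S .e8) :
    SOk tabE8 S v (kE8 (v ^ f)) := by
  obtain ⟨F, _, _, _, hc, ⟨e⟩⟩ := h
  have hq : Nat.card F = v ^ f := by rw [Nat.card_eq_fintype_card, hc]
  have hf : f ≠ 0 := by
    rintro rfl
    have h1 : 1 < Nat.card F := Finite.one_lt_card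
    rw [hq, pow_zero] at h1
    omega
  refine SOk.congr e ?_
  rw [← hq]
  refine sok_of (C8 (Nat.card F)) ?_ ?_ ?_ ?_ ?_
  · intro r hr h5 hrv hd
    apply kE8_spec
    rcases H378.ExcAdj.od_E8 hr hd with h1 | h1
    · rw [hq] at h1
      exact absurd ((Nat.prime_dvd_prime_iff_eq hr hv).1 (hr.dvd_of_dvd_pow h1)) hrv
    · simp only [clE8, List.mem_cons, List.not_mem_nil, or_false]
      exact h1
  · intro i hi j hj hbit r s hr hs hr5 hs5 hrv hsv hrs hoa hob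
    exact CertTab.rel8 hr hs hrs (adj8 i hi j hj hbit) (cyc_dvd hr (mem8 i hi) hoa.1) (cyc_dvd hs (mem8 j hj) hob.1)
  · intro i hi j hj hbit r s hr hs hr5 hs5 hrv hsv hrs hoa hob g hg
    rcases nab8 i hi j hj hbit with h1 | h1
    · exact no_two hr hs hoa.1 hob.1 h1 g hg
    · obtain ⟨S, h2, h3, h4⟩ := ords_ne hv hq (ords_E8 g) hr hs hrv hsv hg
      exact na8 hr hs hr5 hs5 hi hj hoa hob h1 h2 h3 h4
  · intro i hi hbit r hr h5 hrv hoa g hg
    obtain ⟨h15, h16⟩ := tt8 i hi hbit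
    obtain ⟨d, c, hd, hc0, hcd, -, S, h2, h3, h4⟩ := ords_v hv hq (ords_E8 g) hr hrv hg
    have hdvd : cl8.getD i 0 ∣ r - 1 := by
      rw [← hoa.1]
      exact od_dvd_sub hr (by rw [hoa.1]; omega)
    have hle := Nat.le_of_dvd (by omega) hdvd
    have hr17 : 17 ≤ r := by
      rcases Nat.lt_or_ge r 17 with h6 | h6
      · have h7 : r = 16 := by omega
        rw [h7] at hr
        exact absurd hr (by norm_num)
      · exact h6
    rcases (Nat.prime_iff_prime_int.1 hr).dvd_or_dvd h4 with h6 | h6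
    · have h7 := Nat.le_of_dvd hc0 (Int.natCast_dvd_natCast.1 h6)
      have h8 : 2 ^ d ≤ 2 ^ 8 := Nat.pow_le_pow_right (by norm_num) (by omega)
      have h9 : 17 ^ 2 ≤ c ^ 2 := Nat.pow_le_pow_left (hr17.trans h7) 2
      omega
    · obtain ⟨n, hn, h7⟩ := exists_factor hr h6
      have h8 : n.totient ≤ ∑ n ∈ S, n.totient := Finset.single_le_sum (fun _ _ => Nat.zero_le _) hn
      have h9 := mem_poss8 hr h5 (h2 n hn) (by omega) h7 hi hoa
      have h10 := h16 n h9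
      omega
  · intro i hi hbit r hr h5 hrv hoa
    exact CertTab.relp8 hr hv (nt8 i hi hbit) (cyc_dvd hr (mem8 i hi) hoa.1) (by rw [hq]; exact dvd_pow_self v hf)

/-- the special class -/
theorem spe_e8 {S : Type u} [Group S] [Finite S] {v f : ℕ} (hv : v.Prime) (h : Fam.Is v f S .e8) {r : ℕ}
    (hr : r.Prime) (hrv : r ≠ v) (hd : r ∣ Nat.card S) (hb : tabE8.sp.testBit (kE8 (v ^ f) r) = true) : r = 5 := by
  obtain ⟨F, _, _, _, hc, ⟨e⟩⟩ := h
  have hq : Nat.card F = v ^ f := by rw [Nat.card_eq_fintype_card, hc]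
  have h1 : tabE8.sp = 2 ^ 17 := by decide
  rw [h1, Nat.testBit_two_pow, decide_eq_true_iff] at hb
  have h2 : orderOf ((v ^ f : ℕ) : ZMod r) ∈ clE8 := by
    rw [Nat.card_congr e.toEquiv] at hd
    rcases H378.ExcAdj.od_E8 hr hd with h1 | h1
    · rw [hq] at h1
      exact absurd ((Nat.prime_dvd_prime_iff_eq hr hv).1 (hr.dvd_of_dvd_pow h1)) hrv
    · rw [hq] at h1
      simp only [clE8, List.mem_cons, List.not_mem_nil, or_false]
      exact h1
  exact (kE8_spec h2).2.2.2 hb.symm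

end Cfsg.Agent.R2.Spec.EE
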