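import Cfsg.Agent.H168.ExcF4

/-!
# More adjacency of the prime divisors of two cyclotomic values through one torus, type F4 (helper1)
-/

set_option autoImplicit false

namespace Cfsg.Agent.R2.Spec.EE.CertF4

open Cfsg.Agent.H129.WData Cfsg.Agent.ChevalleyStructure.CoxeterGeomTypes Cfsg.Agent.Nodes.RGDChev
open Cfsg.Lie Cfsg.Lie.ChevalleyDatum
open Cfsg.Agent Cfsg.Agent.H493 Cfsg.Agent.H493.PGTorus Cfsg.Agent.H493.PGCyc Cfsg.Agent.H493.PGF4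
open Cfsg.Agent.H168.ExcAdj

universe u

/-- partial products of an element with eigenvalues of orders [4, 1, 2] -/
def kc4_1_2 : List (Fin 4 × Mat 4) := [
    (3, ![![-1, 0, 0, 0], ![0, -1, -1, -1], ![0, 0, 1, 1], ![2, 4, 2, 1]]),
    (1, ![![-1, 0, 0, 0], ![0, -1, -1, 0], ![0, 0, 1, 0], ![2, 4, 2, 1]]),
    (2, ![![-1, -1, 0, 0], ![0, -1, -1, 0], ![0, 2, 1, 0], ![2, 2, 2, 1]]),
    (0, ![![-1, -1, -1, 0], ![0, -1, 0, 0], ![0, 2, 1, 0], ![2, 2, 1, 1]]),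
    (1, ![![0, -1, -1, 0], ![-1, -1, 0, 0], ![2, 2, 1, 0], ![0, 2, 1, 1]]),
    (2, ![![0, -1, -1, 0], ![-1, 0, 0, 0], ![2, 2, 1, 0], ![0, 0, 1, 1]]),
    (0, ![![0, -1, 0, 0], ![-1, 0, 0, 0], ![2, 2, 1, 0], ![0, 0, 0, 1]]),
    (1, ![![-1, -1, 0, 0], ![1, 0, 0, 0], ![0, 2, 1, 0], ![0, 0, 0, 1]]),
    (0, ![![-1, 0, 0, 0], ![1, 1, 0, 0], ![0, 0, 1, 0], ![0, 0, 0, 1]])]

theorem kc4_1_2_ok : ChainOK Am kc4_1_2 := by decide +kernel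

/-- coefficients of the eigenvector -/
def kV4_1_2_at4 : Fin 2 → Fin 4 → ℤ := ![![-1, -2, -1, 0], ![-1, -2, -1, -1]]

/-- the functional -/
def kU4_1_2_at4 : Fin 4 → ℤ := ![-2, 0, 1, 1]

theorem keig4_1_2_at4 : EigOK (hd kc4_1_2) c4 kV4_1_2_at4 kU4_1_2_at4 := by decide +kernel

/-- coefficients of the eigenvector -/
def kV4_1_2_at1 : Fin 1 → Fin 4 → ℤ := ![![1, 2, 2, 1]]

/-- the functional -/
def kU4_1_2_at1 : Fin 4 → ℤ := ![-2, -1, 2, 1]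

theorem keig4_1_2_at1 : EigOK (hd kc4_1_2) c1 kV4_1_2_at1 kU4_1_2_at1 := by decide +kernel

/-- coefficients of the eigenvector -/
def kV4_1_2_at2 : Fin 1 → Fin 4 → ℤ := ![![-1, 0, 0, 0]]

/-- the functional -/
def kU4_1_2_at2 : Fin 4 → ℤ := ![-1, -2, -2, -2]

theorem keig4_1_2_at2 : EigOK (hd kc4_1_2) c2 kV4_1_2_at2 kU4_1_2_at2 := by decide +kernel

theorem relA_4_1 {F : Type u} [Field F] [Finite F] {r s : ℕ} (hr : r.Prime) (hs : s.Prime) (hrs : r ≠ s)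
    (h1 : phiC c4 (Nat.card F) 1 r) (h2 : phiC c1 (Nat.card F) 1 s) :
    PG.Rel ↥(chevF4.group F) r s := by
  have := finW
  exact rel_of_eig hp CoxeterMatrix.F₄.toCoxeterSystem H129.TorusChar.invC_F4 one_ne_zero
    (chain_rep hp CoxeterMatrix.F₄.toCoxeterSystem hA kc4_1_2_ok) keig4_1_2_at4 keig4_1_2_at1 hr hs hrs h1.1 h2.1 h1.2 h2.2

theorem relA_4_2 {F : Type u} [Field F] [Finite F] {r s : ℕ} (hr : r.Prime) (hs : s.Prime) (hrs : r ≠ s)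
    (h1 : phiC c4 (Nat.card F) 1 r) (h2 : phiC c2 (Nat.card F) 1 s) :
    PG.Rel ↥(chevF4.group F) r s := by
  have := finW
  exact rel_of_eig hp CoxeterMatrix.F₄.toCoxeterSystem H129.TorusChar.invC_F4 one_ne_zero
    (chain_rep hp CoxeterMatrix.F₄.toCoxeterSystem hA kc4_1_2_ok) keig4_1_2_at4 keig4_1_2_at2 hr hs hrs h1.1 h2.1 h1.2 h2.2

/-- partial products of an element with eigenvalues of orders [6, 1, 2] -/
def kc6_1_2 : List (Fin 4 × Mat 4) := [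
    (3, ![![-1, -2, -1, -1], ![1, 1, 0, 0], ![0, 0, 1, 1], ![0, 2, 1, 0]]),
    (1, ![![-1, -2, -1, 0], ![1, 1, 0, 0], ![0, 0, 1, 0], ![0, 2, 1, 1]]),
    (2, ![![-1, -1, -1, 0], ![1, 0, 0, 0], ![0, 2, 1, 0], ![0, 0, 1, 1]]),
    (1, ![![-1, -1, 0, 0], ![1, 0, 0, 0], ![0, 2, 1, 0], ![0, 0, 0, 1]]),
    (0, ![![-1, 0, 0, 0], ![1, 1, 0, 0], ![0, 0, 1, 0], ![0, 0, 0, 1]])]

theorem kc6_1_2_ok : ChainOK Am kc6_1_2 := by decide +kernel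

/-- coefficients of the eigenvector -/
def kV6_1_2_at6 : Fin 2 → Fin 4 → ℤ := ![![2, 2, 1, 0], ![0, 2, 1, 1]]

/-- the functional -/
def kU6_1_2_at6 : Fin 4 → ℤ := ![0, 0, 1, -1]

theorem keig6_1_2_at6 : EigOK (hd kc6_1_2) c6 kV6_1_2_at6 kU6_1_2_at6 := by decide +kernel

/-- coefficients of the eigenvector -/
def kV6_1_2_at1 : Fin 1 → Fin 4 → ℤ := ![![1, 2, 2, 1]]

/-- the functional -/
def kU6_1_2_at1 : Fin 4 → ℤ := ![-2, -1, 2, 1]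

theorem keig6_1_2_at1 : EigOK (hd kc6_1_2) c1 kV6_1_2_at1 kU6_1_2_at1 := by decide +kernel

/-- coefficients of the eigenvector -/
def kV6_1_2_at2 : Fin 1 → Fin 4 → ℤ := ![![-1, 0, 0, -1]]

/-- the functional -/
def kU6_1_2_at2 : Fin 4 → ℤ := ![-2, -2, -2, 1]

theorem keig6_1_2_at2 : EigOK (hd kc6_1_2) c2 kV6_1_2_at2 kU6_1_2_at2 := by decide +kernel

theorem relA_6_1 {F : Type u} [Field F] [Finite F] {r s : ℕ} (hr : r.Prime) (hs : s.Prime) (hrs : r ≠ s)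
    (h1 : phiC c6 (Nat.card F) 1 r) (h2 : phiC c1 (Nat.card F) 1 s) :
    PG.Rel ↥(chevF4.group F) r s := by
  have := finW
  exact rel_of_eig hp CoxeterMatrix.F₄.toCoxeterSystem H129.TorusChar.invC_F4 one_ne_zero
    (chain_rep hp CoxeterMatrix.F₄.toCoxeterSystem hA kc6_1_2_ok) keig6_1_2_at6 keig6_1_2_at1 hr hs hrs h1.1 h2.1 h1.2 h2.2

theorem relA_6_2 {F : Type u} [Field F] [Finite F] {r s : ℕ} (hr : r.Prime) (hs : s.Prime) (hrs : r ≠ s)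
    (h1 : phiC c6 (Nat.card F) 1 r) (h2 : phiC c2 (Nat.card F) 1 s) :
    PG.Rel ↥(chevF4.group F) r s := by
  have := finW
  exact rel_of_eig hp CoxeterMatrix.F₄.toCoxeterSystem H129.TorusChar.invC_F4 one_ne_zero
    (chain_rep hp CoxeterMatrix.F₄.toCoxeterSystem hA kc6_1_2_ok) keig6_1_2_at6 keig6_1_2_at2 hr hs hrs h1.1 h2.1 h1.2 h2.2

end Cfsg.Agent.R2.Spec.EE.CertF4
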