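import Cfsg.Agent.R2.Spec.EE.O2

/-!
# `F₄(q)` has no element of order `r s` for the classes 3, 4, 6 (helper1)

* `no_exact_odd` : an isometry of a lattice whose discriminant is prime to the odd prime `p`: `p` does not divide
  `det (1 - R)` exactly once;
* `charpolyN` : the characteristic polynomial is `Φ_a Φ_b` if `φ(a) + φ(b)` is the rank (`< 8`);
* `no_F4` : `{e(r), e(s)}` one of `{3, 4}, {3, 6}, {4, 6}`: no element of `F₄(q)` has order `r s`.
-/

set_option autoImplicit false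
set_option linter.unusedSectionVars false

namespace Cfsg.Agent.R2.Spec.EE.F4No

open CoxeterSystem Cfsg Cfsg.Lie Cfsg.Lie.ChevalleyDatum
open Cfsg.Agent.ChevalleyStructure Cfsg.Agent.ChevalleyStructure.Elts Cfsg.Agent.ChevalleyStructure.CoxeterGeom
  Cfsg.Agent.ChevalleyStructure.CoxeterGeomTypes Cfsg.Agent.ChevalleyStructure.NPerm
open Cfsg.Agent.Tits.Roots Cfsg.Agent.Tits.Core Cfsg.Agent.Nodes Cfsg.Agent.Nodes.Reps Cfsg.Agent.Nodes.BNOf
  Cfsg.Agent.Nodes.RGDChev Cfsg.Agent.Nodes.Bruhat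
open Cfsg.Agent.KFacts.RgdField Cfsg.Agent.KFacts.RgdChevCoord
open Cfsg.Agent.BpExc Cfsg.Agent.BpExc.TorCent Cfsg.Agent.BpExc.TorChev Cfsg.Agent.BpExc.Tow
  Cfsg.Agent.BpExc.TowChev Cfsg.Agent.BpExc.Fr Cfsg.Agent.BpExc.NInst
open Cfsg.Agent.H129.TorusChar Cfsg.Agent.BpExc.LangFr
open Cfsg.Agent.H482.TwoCyc Cfsg.Agent.H482.TwoCyc.Pair Cfsg.Agent.H482.TwoCyc.Eng Cfsg.Agent.H482.TwoCyc.Forms
open Cfsg.Agent.H482.TwoCyc.Lat
open Polynomial

universe u v

/-- **No odd prime outside the discriminant divides `det (1 - R)` exactly once.** -/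
theorem no_exact_odd {n : ℕ} (A : Matrix (Fin n) (Fin n) ℤ) (hA : A.IsSymm) (B : Matrix (Fin n) (Fin n) ℤ) {c : ℤ}
    (hB : B * A = c • (1 : Matrix (Fin n) (Fin n) ℤ))
    (R : Module.End ℤ (Fin n → ℤ)) (hR : ∀ x, R x ⬝ᵥ A.mulVec (R x) = x ⬝ᵥ A.mulVec x)
    {p : ℕ} (hp : p.Prime) (h2 : p ≠ 2) (hc : ¬ (p : ℤ) ∣ c) {m : ℤ} (hm : ¬ (p : ℤ) ∣ m)
    (hd : LinearMap.det (1 - R) = p * m) : False := by
  obtain ⟨y, hy, ⟨w, hw⟩, hg⟩ := Lat8.exists_tors (1 - R) hp hm hd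
  have hp0 : (p : ℤ) ≠ 0 := by exact_mod_cast hp.ne_zero
  let b : (Fin n → ℤ) → (Fin n → ℤ) → ℤ := fun x y => x ⬝ᵥ A.mulVec y
  have hb : ∀ x y, b x y = x ⬝ᵥ A.mulVec y := fun _ _ => rfl
  have hsym : ∀ x y, b x y = b y x := by
    intro x y
    rw [hb, hb, Matrix.dotProduct_mulVec, ← Matrix.mulVec_transpose, hA.eq, dotProduct_comm]
  have hadd : ∀ x y z, b x (y + z) = b x y + b x z := fun x y z => by
    rw [hb, hb, hb, Matrix.mulVec_add, dotProduct_add]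
  have hsub : ∀ x y z, b x (y - z) = b x y - b x z := fun x y z => by
    rw [hb, hb, hb, Matrix.mulVec_sub, dotProduct_sub]
  have hsub' : ∀ x y z, b (x - y) z = b x z - b y z := fun x y z => by
    rw [hb, hb, hb, sub_dotProduct]
  have hadd' : ∀ x y z, b (x + y) z = b x z + b y z := fun x y z => by
    rw [hb, hb, hb, add_dotProduct]
  have hsmul : ∀ (c : ℤ) x y, b x (c • y) = c * b x y := fun c x y => by
    rw [hb, hb, Matrix.mulVec_smul, dotProduct_smul, smul_eq_mul]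
  have hsmul' : ∀ (c : ℤ) x y, b (c • x) y = c * b x y := fun c x y => by
    rw [hb, hb, smul_dotProduct, smul_eq_mul]
  have hRR : ∀ x y, b (R x) (R y) = b x y := by
    intro x y
    have h1 := hR (x + y)
    have h2 : b (R (x + y)) (R (x + y)) = b (x + y) (x + y) := h1
    rw [map_add, hadd, hadd', hadd', hadd, hadd', hadd', hsym (R y) (R x), hsym y x] at h2
    have h3 : b (R x) (R x) = b x x := hR x
    have h4 : b (R y) (R y) = b y y := hR y
    linarith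
  have hN : ∀ x, (1 - R) x = x - R x := fun x => rfl
  have h1 : 2 * b w ((1 - R) w) = b ((1 - R) w) ((1 - R) w) := by
    rw [hN, hsub, hsub, hsub', hsub', hRR, hsym (R w) w]
    ring
  have h2' : (p : ℤ) ∣ b w y := by
    rw [hw, hsmul, hsmul, hsmul'] at h1
    have h4 : (p : ℤ) * (2 * b w y) = p * (p * b y y) := by linarith
    have h5 : 2 * b w y = p * b y y := mul_left_cancel₀ hp0 h4
    have h6 : (p : ℤ) ∣ 2 * b w y := ⟨_, h5⟩
    refine (Int.Prime.dvd_mul' hp h6).resolve_left fun h => h2 ?_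
    exact (Nat.prime_dvd_prime_iff_eq hp Nat.prime_two).1 (by exact_mod_cast h)
  obtain ⟨t, h2⟩ := h2'
  have h3 : ∀ z, b w ((1 - R) z) = - (p * b y (R z)) := by
    intro z
    rw [hN, hsub, ← hRR w z]
    have h4 : b (R w) (R z) - b w (R z) = - b ((1 - R) w) (R z) := by
      rw [hN, hsub']; ring
    rw [h4, hw, hsmul']
  have h4 : ∀ g, (p : ℤ) ∣ b w g := by
    intro g
    obtain ⟨c, z, hcz⟩ := hg g
    have h5 : m * b w g = p * (c * t - b y (R z)) := by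
      rw [← hsmul, hcz, hadd, hsmul, h2, h3]
      ring
    have h6 : (p : ℤ) ∣ m * b w g := ⟨_, h5⟩
    exact (Int.Prime.dvd_mul' hp h6).resolve_left hm
  choose u hu using fun i => h4 (Pi.single i 1)
  have h5 : A.mulVec w = (p : ℤ) • u := by
    funext i
    have h6 := hu i
    rw [hsym, hb, single_one_dotProduct] at h6
    rw [h6, Pi.smul_apply, smul_eq_mul]
  have h6 : c • w = (p : ℤ) • (B.mulVec u) := by
    rw [← Matrix.mulVec_smul, ← h5, Matrix.mulVec_mulVec, hB, Matrix.smul_mulVec, Matrix.one_mulVec]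
  -- `w` is divisible by `p`
  have h7 : ∀ i, (p : ℤ) ∣ w i := fun i => by
    have h8 := congrFun h6 i
    rw [Pi.smul_apply, Pi.smul_apply, smul_eq_mul, smul_eq_mul] at h8
    exact (Int.Prime.dvd_mul' hp ⟨_, h8⟩).resolve_left hc
  choose w' hw' using h7
  have h8 : w = (p : ℤ) • w' := by
    funext i
    rw [Pi.smul_apply, smul_eq_mul, hw']
  apply hy
  refine ⟨w', ?_⟩
  have h9 : (p : ℤ) • (1 - R) w' = (p : ℤ) • y := by
    rw [← map_smul, ← h8, hw]
  exact smul_right_injective (Fin n → ℤ) hp0 h9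

/-! ### the characteristic polynomial -/

theorem charpoly_RQN {n : ℕ} (R : Module.End ℤ (Fin n → ℤ)) :
    (RQ R).charpoly = R.charpoly.map (Int.castRingHom ℚ) := by
  rw [← LinearMap.charpoly_toMatrix R (Pi.basisFun ℤ (Fin n)), ← Matrix.charpoly_map,
    ← LinearMap.charpoly_toMatrix (RQ R) (Pi.basisFun ℚ (Fin n))]
  congr 1
  rw [RQ]
  exact LinearMap.toMatrix'_toLin' _

theorem clsN {q r a n N : ℕ} (hr : r.Prime) (ha : orderOf (q : ZMod r) = a) (ha3 : 3 ≤ a) (hn : 0 < n) (hN : N < 8)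
    (hφ : n.totient ≤ N) (h : (r : ℤ) ∣ (cyclotomic n ℤ).eval (q : ℤ)) : n = a := by
  refine (O2.cls hr ha ha3 hn (by omega) h).resolve_right fun h1 => ?_
  rw [h1.2, show Nat.totient 20 = 8 by decide] at hφ
  omega

/-- the characteristic polynomial is `Φ_a Φ_b` -/
theorem charpolyN {N : ℕ} {k : Type*} [Field k] {χ : (Fin N → ℤ) → k} (hχ : IsMC χ) {q : ℕ}
    {R : Module.End ℤ (Fin N → ℤ)}
    (hR : ∀ x, χ (R x) = χ x ^ q) {M : ℕ} (hM : 0 < M) (hRM : R ^ M = 1) {r s a b : ℕ} (hr : r.Prime) (hs : s.Prime)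
    (ha : orderOf (q : ZMod r) = a) (hb : orderOf (q : ZMod s) = b) (ha3 : 3 ≤ a) (hb3 : 3 ≤ b) (hab : a ≠ b)
    (hφ : a.totient + b.totient = N) (hN : N < 8) (hdvd : ∀ z : ℤ, (∀ y, χ y ^ z = 1) → ((r * s : ℕ) : ℤ) ∣ z) :
    R.charpoly = cyclotomic a ℤ * cyclotomic b ℤ := by
  classical
  have hchi : ∀ P : ℤ[X], aeval (RQ R) (P.map (Int.castRingHom ℚ)) = 0 → ((r * s : ℕ) : ℤ) ∣ P.eval (q : ℤ) := by
    intro P hP
    apply hdvd
    intro y
    rw [← chi_poly hχ hR]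
    have h1 := aeval_cst R P y
    rw [hP, LinearMap.zero_apply] at h1
    have h2 : aeval R P y = 0 := cst_inj (by rw [← h1]; funext j; simp [cst])
    rw [h2, hχ.zero]
  obtain ⟨S, hS, h1, h2⟩ := Poly.exists_poly (RQ R) hM (RQ_pow hRM) ⊥ (fun x hx => by
    rw [Submodule.mem_bot] at hx ⊢
    rw [hx, map_zero])
  rw [finrank_bot, add_zero, Module.finrank_fin_fun] at h1
  have h3 : aeval (RQ R) (∏ n ∈ S, cyclotomic n ℚ) = 0 :=
    LinearMap.ext fun v => (Submodule.mem_bot ℚ).1 (h2 v)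
  have h4 : (∏ n ∈ S, cyclotomic n ℚ) = (∏ n ∈ S, cyclotomic n ℤ).map (Int.castRingHom ℚ) := by
    rw [Polynomial.map_prod]
    exact Finset.prod_congr rfl fun n _ => (map_cyclotomic n _).symm
  have h5 := hchi _ (h4 ▸ h3)
  have hmem : ∀ t : ℕ, t.Prime → (t : ℤ) ∣ ((r * s : ℕ) : ℤ) → ∃ n ∈ S, (t : ℤ) ∣ (cyclotomic n ℤ).eval (q : ℤ) := by
    intro t ht h
    have h6 := h.trans h5
    rw [eval_prod] at h6
    exact (Nat.prime_iff_prime_int.1 ht).exists_mem_finset_dvd h6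
  have hle : ∀ n ∈ S, n.totient ≤ N := fun n hn => (Finset.single_le_sum (fun _ _ => Nat.zero_le _) hn).trans h1
  obtain ⟨n₁, hn₁, hd₁⟩ := hmem r hr (by push_cast; exact dvd_mul_right _ _)
  obtain ⟨n₂, hn₂, hd₂⟩ := hmem s hs (by push_cast; exact dvd_mul_left _ _)
  have hn₁a := clsN hr ha ha3 (hS _ hn₁) hN (hle _ hn₁) hd₁
  have hn₂b := clsN hs hb hb3 (hS _ hn₂) hN (hle _ hn₂) hd₂
  have htpos : ∀ n ∈ S, 0 < n.totient := fun n hn => Nat.totient_pos.2 (hS n hn)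
  subst hn₁a
  subst hn₂b
  have hne : n₁ ≠ n₂ := hab
  -- the factors divide the minimal polynomial
  have hSab : S = {n₁, n₂} := by
    symm
    apply Finset.eq_of_subset_of_card_le
    · intro n hn
      rw [Finset.mem_insert, Finset.mem_singleton] at hn
      rcases hn with rfl | rfl
      · exact hn₁
      · exact hn₂
    · by_contra hlt
      rw [not_le] at hlt
      have hsub : ({n₁, n₂} : Finset ℕ) ⊆ S := by
        intro n hn
        rw [Finset.mem_insert, Finset.mem_singleton] at hn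
        rcases hn with rfl | rfl
        · exact hn₁
        · exact hn₂
      obtain ⟨n, hn, hn'⟩ := Finset.exists_mem_notMem_of_card_lt_card hlt
      have h6 : ∑ x ∈ insert n {n₁, n₂}, Nat.totient x ≤ ∑ x ∈ S, Nat.totient x :=
        Finset.sum_le_sum_of_subset (Finset.insert_subset hn hsub)
      rw [Finset.sum_insert hn', Finset.sum_pair hne] at h6
      have := htpos n hn
      omega
  rw [hSab, Finset.prod_pair hne] at h3
  have hcop : IsCoprime (cyclotomic n₁ ℚ) (cyclotomic n₂ ℚ) := cyclotomic.isCoprime_rat hne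
  have hμ : minpoly ℚ (RQ R) ∣ cyclotomic n₁ ℚ * cyclotomic n₂ ℚ := minpoly.dvd _ _ h3
  have hkey : ∀ n m : ℕ, ∀ t : ℕ, (t = r ∨ t = s) → ¬ (t : ℤ) ∣ (cyclotomic m ℤ).eval (q : ℤ) → 0 < n →
      minpoly ℚ (RQ R) ∣ cyclotomic n ℚ * cyclotomic m ℚ → cyclotomic n ℚ ∣ minpoly ℚ (RQ R) := by
    intro n m t ht hnd hn0 hμ
    by_contra hcon
    have h6 : IsCoprime (cyclotomic n ℚ) (minpoly ℚ (RQ R)) :=
      ((cyclotomic.irreducible_rat hn0).coprime_iff_not_dvd).2 hcon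
    have h7 := h6.symm.dvd_of_dvd_mul_left hμ
    have h8 : aeval (RQ R) ((cyclotomic m ℤ).map (Int.castRingHom ℚ)) = 0 := by
      rw [map_cyclotomic]
      obtain ⟨c, hc⟩ := h7
      rw [hc, map_mul, minpoly.aeval, zero_mul]
    have h9 := hchi _ h8
    apply hnd
    refine Dvd.dvd.trans ?_ h9
    push_cast
    rcases ht with rfl | rfl
    · exact dvd_mul_right _ _
    · exact dvd_mul_left _ _
  have hnd₁ : ¬ (r : ℤ) ∣ (cyclotomic n₂ ℤ).eval (q : ℤ) := fun h =>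
    hne (clsN hr ha ha3 (hS _ hn₂) hN (hle _ hn₂) h).symm
  have hnd₂ : ¬ (s : ℤ) ∣ (cyclotomic n₁ ℤ).eval (q : ℤ) := fun h =>
    hne (clsN hs hb hb3 (hS _ hn₁) hN (hle _ hn₁) h)
  have hd1 := hkey n₁ n₂ r (Or.inl rfl) hnd₁ (hS _ hn₁) hμ
  have hd2 := hkey n₂ n₁ s (Or.inr rfl) hnd₂ (hS _ hn₂) (by rwa [mul_comm])
  have hd3 : cyclotomic n₁ ℚ * cyclotomic n₂ ℚ ∣ (RQ R).charpoly :=
    (hcop.mul_dvd hd1 hd2).trans (LinearMap.minpoly_dvd_charpoly _)
  have hmon : (cyclotomic n₁ ℚ * cyclotomic n₂ ℚ).Monic := (cyclotomic.monic _ _).mul (cyclotomic.monic _ _)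
  have hdeg : (cyclotomic n₁ ℚ * cyclotomic n₂ ℚ).natDegree = N := by
    rw [(cyclotomic.monic n₁ ℚ).natDegree_mul (cyclotomic.monic n₂ ℚ), natDegree_cyclotomic, natDegree_cyclotomic, hφ]
  have h6 : (RQ R).charpoly = cyclotomic n₁ ℚ * cyclotomic n₂ ℚ :=
    (Polynomial.eq_of_monic_of_dvd_of_natDegree_le hmon (LinearMap.charpoly_monic _) hd3 (by
      rw [hdeg, LinearMap.charpoly_natDegree, Module.finrank_fin_fun]))
  rw [charpoly_RQN, ← map_cyclotomic n₁ (Int.castRingHom ℚ), ← map_cyclotomic n₂ (Int.castRingHom ℚ),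
    ← Polynomial.map_mul] at h6
  exact Polynomial.map_injective _ Int.cast_injective h6

/-! ### type `F₄` -/

/-- four times the inverse of the form -/
def IF4 : Matrix (Fin 4) (Fin 4) ℤ := !![8, 12, 8, 4; 12, 24, 16, 8; 8, 16, 12, 6; 4, 8, 6, 4]

theorem inv_F4' : IF4 * Matrix.of AF4 = (4 : ℤ) • (1 : Matrix (Fin 4) (Fin 4) ℤ) := by decide +kernel

/-- some value at `1` or `-1` is exactly divisible by 3 -/
def BadT (a b : ℕ) : Prop :=
  (∃ m : ℤ, ¬ (3 : ℤ) ∣ m ∧ (cyclotomic a ℤ * cyclotomic b ℤ).eval 1 = 3 * m) ∨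
  (∃ m : ℤ, ¬ (3 : ℤ) ∣ m ∧ (cyclotomic a ℤ * cyclotomic b ℤ).eval (-1) = 3 * m)

theorem BadT.false {a b : ℕ} (h : BadT a b) {R : Module.End ℤ (Fin 4 → ℤ)} (hR : ∀ x, bq AF4 (R x) = bq AF4 x)
    (hc : R.charpoly = cyclotomic a ℤ * cyclotomic b ℤ) : False := by
  have hA : (Matrix.of AF4).IsSymm := by decide +kernel
  rcases h with ⟨m, hm, h⟩ | ⟨m, hm, h⟩
  · refine no_exact_odd (Matrix.of AF4) hA IF4 inv_F4' R hR Nat.prime_three (by norm_num) (by norm_num)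
      (by exact_mod_cast hm) ?_
    rw [show ((3 : ℕ) : ℤ) = 3 from rfl, ← h, ← hc, LinearMap.eval_charpoly, map_one]
  · refine no_exact_odd (Matrix.of AF4) hA IF4 inv_F4' (-R) ?_ Nat.prime_three (by norm_num) (by norm_num)
      (by exact_mod_cast hm) ?_
    · intro x
      rw [LinearMap.neg_apply]
      have h1 := hR x
      rw [bq, bq] at h1
      rw [Matrix.mulVec_neg, dotProduct_neg, neg_dotProduct, neg_neg, h1]
    · have h2 : (1 - -R : Module.End ℤ (Fin 4 → ℤ)) = (-1 : ℤ) • (algebraMap ℤ (Module.End ℤ (Fin 4 → ℤ)) (-1) - R) := by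
        rw [map_neg, map_one, neg_smul, one_smul, neg_sub, sub_neg_eq_add, sub_neg_eq_add, add_comm]
      rw [h2, LinearMap.det_smul, Module.finrank_fin_fun, ← LinearMap.eval_charpoly, hc, h]
      norm_num

theorem bad34 : BadT 3 4 := Or.inl ⟨2, by norm_num, by rw [eval_mul, O2.v3, O2.v4]⟩

theorem bad36 : BadT 3 6 := Or.inl ⟨1, by norm_num, by rw [eval_mul, O2.v3, O2.v6]⟩

theorem bad46 : BadT 4 6 := Or.inr ⟨2, by norm_num, by rw [eval_mul, O2.w4, O2.w6]; norm_num⟩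

/-- **No element of `F₄(q)` has order `r s`.** -/
theorem no_F4 {F : Type u} [Field F] [Finite F] {r s a b : ℕ} (hr : r.Prime) (hs : s.Prime)
    (ha : orderOf ((Nat.card F : ℕ) : ZMod r) = a) (hb : orderOf ((Nat.card F : ℕ) : ZMod s) = b)
    (hab : (a = 3 ∧ b = 4) ∨ (a = 3 ∧ b = 6) ∨ (a = 4 ∧ b = 6)) : ¬ ∃ x : ↥(chevF4.group F), orderOf x = r * s := by
  rintro ⟨x, hx⟩
  have hbad : BadT a b := by
    rcases hab with ⟨rfl, rfl⟩ | ⟨rfl, rfl⟩ | ⟨rfl, rfl⟩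
    · exact bad34
    · exact bad36
    · exact bad46
  have htot : a.totient + b.totient = 4 ∧ 3 ≤ a ∧ 3 ≤ b ∧ a ≠ b := by
    rcases hab with ⟨rfl, rfl⟩ | ⟨rfl, rfl⟩ | ⟨rfl, rfl⟩ <;> decide +kernel
  obtain ⟨hφ, ha3, hb3, hne⟩ := htot
  obtain ⟨p, e, m, j, hpp, he, hn, h1, k, _, χ, R, M', hχ, hM', hRM, hbR, hR, hdvd⟩ :=
    O2.untw_raw RowsUntw.f4T cert_F4.2.2.1 cart_F4 x
  -- `p` does not divide `r s`
  have hpr : ∀ {t c : ℕ}, t.Prime → orderOf ((Nat.card F : ℕ) : ZMod t) = c → 3 ≤ c → ¬ p ∣ t := by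
    intro t c ht hc hc3 hpt
    have h2 : p = t := (Nat.prime_dvd_prime_iff_eq hpp ht).1 hpt
    subst h2
    have h3 : ((Nat.card F : ℕ) : ZMod p) = 0 := by
      rw [hn, Nat.cast_pow, ZMod.natCast_self, zero_pow he.ne']
    have := Fact.mk hpp
    rw [h3, orderOf_zero] at hc
    omega
  have hj : j = 0 := by
    by_contra hj
    have h2 : p ∣ r * s := by
      rw [← hx, h1]
      exact (dvd_pow_self p hj).mul_left m
    rcases hpp.dvd_mul.1 h2 with h3 | h3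
    · exact hpr hr ha ha3 h3
    · exact hpr hs hb hb3 h3
  rw [hj, pow_zero, mul_one, hx] at h1
  rw [← h1] at hdvd
  exact hbad.false hbR (charpolyN hχ hR hM' hRM hr hs ha hb ha3 hb3 hne hφ (by norm_num) hdvd)

end Cfsg.Agent.R2.Spec.EE.F4No
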