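import Cfsg.Agent.R2.Spec.EE.SokSm
import Cfsg.Agent.R2.Spec.EE.CertSm
import Cfsg.Agent.R2.Spec.EE.CertF4
import Cfsg.Agent.R2.Spec.EE.F4No
import Cfsg.Agent.H168.ExcPairF4

/-!
# The table of `F₄(q)` (helper1)
-/

set_option autoImplicit false

namespace Cfsg.Agent.R2.Spec.EE

open Cfsg Cfsg.Lie Cfsg.Agent.H426.LieFam
open Cfsg.Agent.H378.ExcAdj Cfsg.Agent.H371.CycEval Cfsg.Agent.H371.Core
open Cfsg.Agent.H168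

universe u w

namespace F4Tab

/-- the adjacent pairs -/
def L : List (ℕ × ℕ) := [(1, 1), (2, 2), (3, 3), (4, 4), (6, 6), (8, 8), (12, 12), (3, 1), (3, 2), (1, 2), (1, 3), (2, 3), (2, 1), (4, 1), (1, 4), (4, 2), (2, 4), (6, 1), (1, 6), (6, 2), (2, 6)]

theorem L_ok : ∀ a ∈ clF4, ∀ b ∈ clF4, (tabF4.adj.getD (clF4.idxOf a) 0).testBit (clF4.idxOf b) = true →
    (a, b) ∈ L := by decide +kernel

theorem N_ok : ∀ a ∈ clF4, ∀ b ∈ clF4, (tabF4.na.getD (clF4.idxOf a) 0).testBit (clF4.idxOf b) = true →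
    (a = 8 ∧ b ≠ 8) ∨ (b = 8 ∧ a ≠ 8) ∨ (a = 12 ∧ b ≠ 12) ∨ (b = 12 ∧ a ≠ 12) ∨
      ((a = 3 ∧ b = 4) ∨ (a = 3 ∧ b = 6) ∨ (a = 4 ∧ b = 6)) ∨
      ((b = 3 ∧ a = 4) ∨ (b = 3 ∧ a = 6) ∨ (b = 4 ∧ a = 6)) := by decide +kernel

theorem T_ok : ∀ a ∈ clF4, tabF4.tt.testBit (clF4.idxOf a) = true → a = 8 ∨ a = 12 := by decide +kernel

theorem V_ok : ∀ a ∈ clF4, tabF4.nt.testBit (clF4.idxOf a) = true → a = 1 ∨ a = 2 ∨ a = 3 ∨ a = 4 ∨ a = 6 := by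
  decide +kernel

end F4Tab

theorem sok_f4X {F : Type w} [Field F] [Finite F] {v f : ℕ} (hv : v.Prime) (hf : f ≠ 0) (hF : Nat.card F = v ^ f) :
    SOk tabF4 ↥(chevF4.group F) v (kcl clF4 (v ^ f)) := by
  rw [← hF]
  have hvq : v ∣ Nat.card F := hF ▸ dvd_pow_self v hf
  have cls : ∀ r : ℕ, r.Prime → r ≠ v → r ∣ Nat.card ↥(chevF4.group F) → od (Nat.card F) r ∈ clF4 := by
    intro r hr hne hd
    rcases od_F4 hr hd with h | h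
    · rw [hF] at h
      exact (hne (Sm.eq_of_dvd_pow hv hr h)).elim
    · simp only [clF4, List.mem_cons, List.not_mem_nil, or_false]
      exact h
  have t8 := tor_F4_8 F
  have t12 := tor_F4_12 F
  constructor
  · intro r hr _ hne hd
    exact List.idxOf_lt_length_of_mem (cls r hr hne hd)
  · intro r s hr hs _ _ hne hne' hrs hd hd' ht
    have h := F4Tab.L_ok _ (cls r hr hne hd) _ (cls s hs hne' hd') ht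
    simp only [F4Tab.L, List.mem_cons, List.not_mem_nil, or_false, Prod.mk.injEq] at h
    rcases h with ⟨ha, hb⟩ | ⟨ha, hb⟩ | ⟨ha, hb⟩ | ⟨ha, hb⟩ | ⟨ha, hb⟩ | ⟨ha, hb⟩ | ⟨ha, hb⟩ | ⟨ha, hb⟩ | ⟨ha, hb⟩ | ⟨ha, hb⟩ | ⟨ha, hb⟩ | ⟨ha, hb⟩ | ⟨ha, hb⟩ | ⟨ha, hb⟩ | ⟨ha, hb⟩ | ⟨ha, hb⟩ | ⟨ha, hb⟩ | ⟨ha, hb⟩ | ⟨ha, hb⟩ | ⟨ha, hb⟩ | ⟨ha, hb⟩
    · exact (ExcF4.rel1 hr hs hrs (Sm.p1 hr ha) (Sm.p1 hs hb)).2.2.2
    · exact (ExcF4.rel2 hr hs hrs (Sm.p2 hr ha) (Sm.p2 hs hb)).2.2.2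
    · exact (ExcF4.rel3 hr hs hrs (Sm.p3 hr ha) (Sm.p3 hs hb)).2.2.2
    · exact (ExcF4.rel4 hr hs hrs (Sm.p4 hr ha) (Sm.p4 hs hb)).2.2.2
    · exact (ExcF4.rel6 hr hs hrs (Sm.p6 hr ha) (Sm.p6 hs hb)).2.2.2
    · exact (ExcF4.rel8 hr hs hrs (Sm.p8 hr ha) (Sm.p8 hs hb)).2.2.2
    · exact (ExcF4.rel12 hr hs hrs (Sm.p12 hr ha) (Sm.p12 hs hb)).2.2.2
    · exact (ExcF4.rel_3_1 hr hs hrs (Sm.p3 hr ha) (Sm.p1 hs hb)).2.2.2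
    · exact (ExcF4.rel_3_2 hr hs hrs (Sm.p3 hr ha) (Sm.p2 hs hb)).2.2.2
    · exact (ExcF4.rel_1_2 hr hs hrs (Sm.p1 hr ha) (Sm.p2 hs hb)).2.2.2
    · exact (ExcF4.rel_3_1 hs hr hrs.symm (Sm.p3 hs hb) (Sm.p1 hr ha)).symm.2.2.2
    · exact (ExcF4.rel_3_2 hs hr hrs.symm (Sm.p3 hs hb) (Sm.p2 hr ha)).symm.2.2.2
    · exact (ExcF4.rel_1_2 hs hr hrs.symm (Sm.p1 hs hb) (Sm.p2 hr ha)).symm.2.2.2
    · exact (CertF4.relA_4_1 hr hs hrs (Sm.p4 hr ha) (Sm.p1 hs hb)).2.2.2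
    · exact (CertF4.relA_4_1 hs hr hrs.symm (Sm.p4 hs hb) (Sm.p1 hr ha)).symm.2.2.2
    · exact (CertF4.relA_4_2 hr hs hrs (Sm.p4 hr ha) (Sm.p2 hs hb)).2.2.2
    · exact (CertF4.relA_4_2 hs hr hrs.symm (Sm.p4 hs hb) (Sm.p2 hr ha)).symm.2.2.2
    · exact (CertF4.relA_6_1 hr hs hrs (Sm.p6 hr ha) (Sm.p1 hs hb)).2.2.2
    · exact (CertF4.relA_6_1 hs hr hrs.symm (Sm.p6 hs hb) (Sm.p1 hr ha)).symm.2.2.2
    · exact (CertF4.relA_6_2 hr hs hrs (Sm.p6 hr ha) (Sm.p2 hs hb)).2.2.2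
    · exact (CertF4.relA_6_2 hs hr hrs.symm (Sm.p6 hs hb) (Sm.p2 hr ha)).symm.2.2.2
  · intro r s hr hs hr5 hs5 hne hne' hrs hd hd' ht
    rcases F4Tab.N_ok _ (cls r hr hne hd) _ (cls s hs hne' hd') ht with ⟨ha, hb⟩ | ⟨ha, hb⟩ | ⟨ha, hb⟩ | ⟨ha, hb⟩ | h | h
    · exact Sm.na_of_tor t8 hr hs ha (Sm.ndvd hs hs5 (by norm_num)) hb
    · exact Sm.swap (Sm.na_of_tor t8 hs hr ha (Sm.ndvd hr hr5 (by norm_num)) hb)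
    · exact Sm.na_of_tor t12 hr hs ha (Sm.ndvd hs hs5 (by norm_num)) hb
    · exact Sm.swap (Sm.na_of_tor t12 hs hr ha (Sm.ndvd hr hr5 (by norm_num)) hb)
    · exact F4No.no_F4 hr hs rfl rfl h
    · exact Sm.swap (F4No.no_F4 hs hr rfl rfl h)
  · intro r hr _ hne hd ht
    rcases F4Tab.T_ok _ (cls r hr hne hd) ht with ha | ha
    · exact Sm.tt_of_tor t8 hr hv hvq ha (by norm_num)
    · exact Sm.tt_of_tor t12 hr hv hvq ha (by norm_num)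
  · intro r hr _ hne hd ht
    rcases F4Tab.V_ok _ (cls r hr hne hd) ht with ha | ha | ha | ha | ha
    · exact (CertSm.rel_F_1_p hr hv (Sm.p1 hr ha).2 hvq).2.2.2
    · exact (CertSm.rel_F_2_p hr hv (Sm.p2 hr ha).2 hvq).2.2.2
    · exact (CertSm.rel_F_3_p hr hv (Sm.p3 hr ha).2 hvq).2.2.2
    · exact (CertSm.rel_F_4_p hr hv (Sm.p4 hr ha).2 hvq).2.2.2
    · exact (CertSm.rel_F_6_p hr hv (Sm.p6 hr ha).2 hvq).2.2.2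

/-- **`F₄(q)`** -/
theorem sok_f4 {S : Type u} [Group S] [Finite S] {v f : ℕ} (hv : v.Prime) (h : Fam.Is v f S .f4) :
    SOk tabF4 S v (kcl clF4 (v ^ f)) := by
  obtain ⟨F, _, _, _, hF, ⟨e⟩⟩ := h
  have hf : f ≠ 0 := by
    rintro rfl
    have h1 : 1 < Fintype.card F := Fintype.one_lt_card
    rw [hF, pow_zero] at h1
    omega
  exact Sm.of_equiv e (sok_f4X hv hf (by rw [Nat.card_eq_fintype_card, hF]))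

end Cfsg.Agent.R2.Spec.EE
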