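import Cfsg.Agent.R2.Spec.EE.SokSm
import Cfsg.Agent.R2.Spec.EE.CertSm
import Cfsg.Agent.H168.ExcPairG2

/-!
# The table of `G₂(q)` (helper1)
-/

set_option autoImplicit false

namespace Cfsg.Agent.R2.Spec.EE

open Cfsg Cfsg.Lie Cfsg.Agent.H426.LieFam
open Cfsg.Agent.H378.ExcAdj Cfsg.Agent.H371.CycEval Cfsg.Agent.H371.Core
open Cfsg.Agent.H168

universe u w

theorem sok_g2X {F : Type w} [Field F] [Finite F] {v f : ℕ} (hv : v.Prime) (hf : f ≠ 0) (hF : Nat.card F = v ^ f) :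
    SOk tabG2 ↥(chevG2.group F) v (kcl clG2 (v ^ f)) := by
  rw [← hF]
  have hvq : v ∣ Nat.card F := hF ▸ dvd_pow_self v hf
  have cls : ∀ r : ℕ, r.Prime → r ≠ v → r ∣ Nat.card ↥(chevG2.group F) →
      od (Nat.card F) r = 1 ∨ od (Nat.card F) r = 2 ∨ od (Nat.card F) r = 3 ∨ od (Nat.card F) r = 6 := by
    intro r hr hne hd
    rcases od_G2 hr hd with h | h
    · rw [hF] at h
      exact (hne (Sm.eq_of_dvd_pow hv hr h)).elim
    · exact h
  have t3 := tor_G2_3 F
  have t6 := tor_G2_6 F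
  constructor
  · intro r hr _ hne hd
    rcases cls r hr hne hd with ha | ha | ha | ha <;> rw [Sm.kcl_eq ha] <;> decide
  · intro r s hr hs _ _ hne hne' hrs hd hd' ht
    have g11 : od (Nat.card F) r = 1 → od (Nat.card F) s = 1 → ∃ g : ↥(chevG2.group F), orderOf g = r * s :=
      fun ha hb => (ExcG2.rel1 hr hs hrs (Sm.p1 hr ha) (Sm.p1 hs hb)).2.2.2
    have g12 : od (Nat.card F) r = 1 → od (Nat.card F) s = 2 → ∃ g : ↥(chevG2.group F), orderOf g = r * s :=
      fun ha hb => (ExcG2.rel_1_2 hr hs hrs (Sm.p1 hr ha) (Sm.p2 hs hb)).2.2.2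
    have g21 : od (Nat.card F) r = 2 → od (Nat.card F) s = 1 → ∃ g : ↥(chevG2.group F), orderOf g = r * s :=
      fun ha hb => (ExcG2.rel_1_2 hs hr hrs.symm (Sm.p1 hs hb) (Sm.p2 hr ha)).symm.2.2.2
    have g22 : od (Nat.card F) r = 2 → od (Nat.card F) s = 2 → ∃ g : ↥(chevG2.group F), orderOf g = r * s :=
      fun ha hb => (ExcG2.rel2 hr hs hrs (Sm.p2 hr ha) (Sm.p2 hs hb)).2.2.2
    have g33 : od (Nat.card F) r = 3 → od (Nat.card F) s = 3 → ∃ g : ↥(chevG2.group F), orderOf g = r * s :=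
      fun ha hb => (ExcG2.rel3 hr hs hrs (Sm.p3 hr ha) (Sm.p3 hs hb)).2.2.2
    have g66 : od (Nat.card F) r = 6 → od (Nat.card F) s = 6 → ∃ g : ↥(chevG2.group F), orderOf g = r * s :=
      fun ha hb => (ExcG2.rel6 hr hs hrs (Sm.p6 hr ha) (Sm.p6 hs hb)).2.2.2
    rcases cls r hr hne hd with ha | ha | ha | ha <;> rcases cls s hs hne' hd' with hb | hb | hb | hb <;>
      rw [Sm.kcl_eq ha, Sm.kcl_eq hb] at ht <;>
      first
      | exact absurd ht (by decide)
      | exact g11 ha hb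
      | exact g12 ha hb
      | exact g21 ha hb
      | exact g22 ha hb
      | exact g33 ha hb
      | exact g66 ha hb
  · intro r s hr hs hr5 hs5 hne hne' hrs hd hd' ht
    have g3 : od (Nat.card F) r = 3 → od (Nat.card F) s ≠ 3 → ¬ ∃ g : ↥(chevG2.group F), orderOf g = r * s :=
      fun ha hb => Sm.na_of_tor t3 hr hs ha (Sm.ndvd hs hs5 (by tauto)) hb
    have g6 : od (Nat.card F) r = 6 → od (Nat.card F) s ≠ 6 → ¬ ∃ g : ↥(chevG2.group F), orderOf g = r * s :=
      fun ha hb => Sm.na_of_tor t6 hr hs ha (Sm.ndvd hs hs5 (by tauto)) hb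
    have g3' : od (Nat.card F) s = 3 → od (Nat.card F) r ≠ 3 → ¬ ∃ g : ↥(chevG2.group F), orderOf g = r * s :=
      fun ha hb => Sm.swap (Sm.na_of_tor t3 hs hr ha (Sm.ndvd hr hr5 (by tauto)) hb)
    have g6' : od (Nat.card F) s = 6 → od (Nat.card F) r ≠ 6 → ¬ ∃ g : ↥(chevG2.group F), orderOf g = r * s :=
      fun ha hb => Sm.swap (Sm.na_of_tor t6 hs hr ha (Sm.ndvd hr hr5 (by tauto)) hb)
    rcases cls r hr hne hd with ha | ha | ha | ha <;> rcases cls s hs hne' hd' with hb | hb | hb | hb <;>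
      rw [Sm.kcl_eq ha, Sm.kcl_eq hb] at ht <;>
      first
      | exact absurd ht (by decide)
      | exact g3 ha (by rw [hb]; decide)
      | exact g6 ha (by rw [hb]; decide)
      | exact g3' hb (by rw [ha]; decide)
      | exact g6' hb (by rw [ha]; decide)
  · intro r hr _ hne hd ht
    rcases cls r hr hne hd with ha | ha | ha | ha <;> rw [Sm.kcl_eq ha] at ht <;>
      first
      | exact absurd ht (by decide)
      | exact Sm.tt_of_tor t3 hr hv hvq ha (by norm_num)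
      | exact Sm.tt_of_tor t6 hr hv hvq ha (by norm_num)
  · intro r hr _ hne hd ht
    rcases cls r hr hne hd with ha | ha | ha | ha <;> rw [Sm.kcl_eq ha] at ht <;>
      first
      | exact absurd ht (by decide)
      | exact (CertSm.rel_G_1_p hr hv (Sm.p1 hr ha).2 hvq).2.2.2
      | exact (CertSm.rel_G_2_p hr hv (Sm.p2 hr ha).2 hvq).2.2.2

/-- **`G₂(q)`** -/
theorem sok_g2 {S : Type u} [Group S] [Finite S] {v f : ℕ} (hv : v.Prime) (h : Fam.Is v f S .g2) :
    SOk tabG2 S v (kcl clG2 (v ^ f)) := by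
  obtain ⟨h3, F, _, _, _, hF, ⟨e⟩⟩ := h
  have hf : f ≠ 0 := by rintro rfl; norm_num at h3
  exact Sm.of_equiv e (sok_g2X hv hf (by rw [Nat.card_eq_fintype_card, hF]))

end Cfsg.Agent.R2.Spec.EE
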