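import Cfsg.Agent.R2.Spec.EE.TabDef
import Cfsg.Agent.S1159

/-!
# The table of the Ree groups (helper20)
-/

set_option autoImplicit false
set_option linter.unusedSectionVars false
set_option linter.unusedVariables false

namespace Cfsg.Agent.R2.Spec.EE

open Cfsg Cfsg.Agent.H426.LieFam

universe u

/-- primes dividing small integers -/
theorem not_dvd_small {r : ℕ} (hr : r.Prime) (h5 : 5 ≤ r) {n : ℤ} (h0 : 0 < n) (h4 : n < 5) : ¬ (r : ℤ) ∣ n := by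
  intro h
  have := Int.le_of_dvd h0 h
  omega

/-- the numbers of the Ree groups -/
def NRee (f : ℕ) : ℕ → ℤ
  | 0 => 3 ^ f - 1
  | 1 => 3 ^ f + 1
  | 2 => 3 ^ f + 3 ^ ((f + 1) / 2) + 1
  | _ => 3 ^ f - 3 ^ ((f + 1) / 2) + 1

theorem NRee_uniq {m f r : ℕ} (hf : f = 2 * m + 1) (hr : r.Prime) (h5 : 5 ≤ r) {i j : ℕ} (hi : i < 4) (hj : j < 4)
    (h1 : (r : ℤ) ∣ NRee f i) (h2 : (r : ℤ) ∣ NRee f j) : i = j := by
  have hr' := Nat.prime_iff_prime_int.1 hr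
  have e1 : (f + 1) / 2 = m + 1 := by omega
  have e2 : ((3 : ℤ) ^ (m + 1)) ^ 2 = 3 * 3 ^ f := by rw [hf, ← pow_mul, ← pow_succ']; ring
  have h3 : ¬ (r : ℤ) ∣ 3 := not_dvd_small hr h5 (by norm_num) (by norm_num)
  have h2' : ¬ (r : ℤ) ∣ 2 := not_dvd_small hr h5 (by norm_num) (by norm_num)
  have h1' : ¬ (r : ℤ) ∣ 1 := not_dvd_small hr h5 (by norm_num) (by norm_num)
  have hw : ¬ (r : ℤ) ∣ 3 ^ (m + 1) := fun h => h3 (hr'.dvd_of_dvd_pow h)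
  have key : ∀ i j : ℕ, i < j → j < 4 → (r : ℤ) ∣ NRee f i → (r : ℤ) ∣ NRee f j → False := by
    intro i j hij hj h1 h2
    have hj' : (i = 0 ∧ j = 1) ∨ (i = 0 ∧ j = 2) ∨ (i = 0 ∧ j = 3) ∨ (i = 1 ∧ j = 2) ∨ (i = 1 ∧ j = 3) ∨
      (i = 2 ∧ j = 3) := by omega
    rcases hj' with ⟨rfl, rfl⟩ | ⟨rfl, rfl⟩ | ⟨rfl, rfl⟩ | ⟨rfl, rfl⟩ | ⟨rfl, rfl⟩ | ⟨rfl, rfl⟩ <;>
      simp only [NRee, e1] at h1 h2
    · refine h2' ?_
      have := dvd_sub h2 h1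
      rwa [show (3 : ℤ) ^ f + 1 - (3 ^ f - 1) = 2 by ring] at this
    · refine h1' ?_
      have := dvd_sub (h2.mul_right (3 ^ f - 3 ^ (m + 1) + 1)) (h1.mul_right (3 ^ f))
      rwa [show ((3 : ℤ) ^ f + 3 ^ (m + 1) + 1) * (3 ^ f - 3 ^ (m + 1) + 1) - (3 ^ f - 1) * 3 ^ f = 1 by
        linear_combination (-1 : ℤ) * e2] at this
    · refine h1' ?_
      have := dvd_sub (h2.mul_right (3 ^ f + 3 ^ (m + 1) + 1)) (h1.mul_right (3 ^ f))
      rwa [show ((3 : ℤ) ^ f - 3 ^ (m + 1) + 1) * (3 ^ f + 3 ^ (m + 1) + 1) - (3 ^ f - 1) * 3 ^ f = 1 by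
        linear_combination (-1 : ℤ) * e2] at this
    · refine h3 ?_
      have := dvd_sub (h2.mul_right (3 ^ f - 3 ^ (m + 1) + 1)) (h1.mul_right (3 ^ f - 2))
      rwa [show ((3 : ℤ) ^ f + 3 ^ (m + 1) + 1) * (3 ^ f - 3 ^ (m + 1) + 1) - (3 ^ f + 1) * (3 ^ f - 2) = 3 by
        linear_combination (-1 : ℤ) * e2] at this
    · refine h3 ?_
      have := dvd_sub (h2.mul_right (3 ^ f + 3 ^ (m + 1) + 1)) (h1.mul_right (3 ^ f - 2))
      rwa [show ((3 : ℤ) ^ f - 3 ^ (m + 1) + 1) * (3 ^ f + 3 ^ (m + 1) + 1) - (3 ^ f + 1) * (3 ^ f - 2) = 3 by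
        linear_combination (-1 : ℤ) * e2] at this
    · have := dvd_sub h1 h2
      rw [show ((3 : ℤ) ^ f + 3 ^ (m + 1) + 1) - (3 ^ f - 3 ^ (m + 1) + 1) = 2 * 3 ^ (m + 1) by ring] at this
      rcases hr'.dvd_or_dvd this with h | h
      · exact h2' h
      · exact hw h
  rcases Nat.lt_trichotomy i j with h | h | h
  · exact (key i j h hj h1 h2).elim
  · exact h
  · exact (key j i h hi h2 h1).elim

/-- **the table of `Ree(u)`** -/
theorem sok_ree {S : Type u} [Group S] [Finite S] {v f : ℕ} (hv : v.Prime) (h : Fam.Is v f S .ree) :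
    SOk tabRee S v (kRee f) := by
  obtain ⟨rfl, m, hm, hf, K, _, _, hK, ⟨e⟩⟩ := h
  have e1 : (f + 1) / 2 = m + 1 := by omega
  have hle : 3 ^ (m + 1) ≤ 3 ^ f := Nat.pow_le_pow_right (by norm_num) (by omega)
  have hone : 1 ≤ 3 ^ f := Nat.one_le_pow _ _ (by norm_num)
  have hodd : (3 ^ f + 1) / 2 * 2 = 3 ^ f + 1 := by
    have : 3 ^ f % 2 = 1 := by rw [Nat.pow_mod]; norm_num
    omega
  have o1 : ∀ d, (∃ g : S, orderOf g = d) ↔ (d ∣ 6 ∨ d ∣ 9 ∨ d ∣ 3 ^ f - 1 ∨ d ∣ (3 ^ f + 1) / 2 ∨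
        d ∣ 3 ^ f - 3 ^ (m + 1) + 1 ∨ d ∣ 3 ^ f + 3 ^ (m + 1) + 1) := by
    intro d
    rw [hf, ← S1159.result hm hK d]
    constructor
    · rintro ⟨g, hg⟩
      exact ⟨e g, by rw [MulEquiv.orderOf_eq, hg]⟩
    · rintro ⟨g, hg⟩
      exact ⟨e.symm g, by rw [MulEquiv.orderOf_eq, hg]⟩
  -- the classes
  have c0 : ∀ d : ℕ, d ∣ 3 ^ f - 1 ↔ (d : ℤ) ∣ NRee f 0 := fun d => by
    simp only [NRee]; rw [← Int.natCast_dvd_natCast, Nat.cast_sub hone]; push_cast; rfl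
  have c1 : ∀ d : ℕ, d ∣ 3 ^ f + 1 ↔ (d : ℤ) ∣ NRee f 1 := fun d => by
    simp only [NRee]; rw [← Int.natCast_dvd_natCast]; push_cast; rfl
  have c2 : ∀ d : ℕ, d ∣ 3 ^ f + 3 ^ (m + 1) + 1 ↔ (d : ℤ) ∣ NRee f 2 := fun d => by
    simp only [NRee, e1]; rw [← Int.natCast_dvd_natCast]; push_cast; rfl
  have c3 : ∀ d : ℕ, d ∣ 3 ^ f - 3 ^ (m + 1) + 1 ↔ (d : ℤ) ∣ NRee f 3 := fun d => by
    simp only [NRee, e1]; rw [← Int.natCast_dvd_natCast, Nat.cast_add, Nat.cast_sub hle]; push_cast; rfl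
  have n6 : ∀ r s : ℕ, 5 ≤ r → r.Prime → ¬ r * s ∣ 6 := by
    intro r s h5 hr hd
    have h1 := (dvd_mul_right r s).trans hd
    have h2 := Nat.le_of_dvd (by norm_num) h1
    interval_cases r
    · revert h1; norm_num
    · exact absurd hr (by norm_num)
  have n9 : ∀ r s : ℕ, 5 ≤ r → r.Prime → ¬ r * s ∣ 9 := by
    intro r s h5 hr hd
    have h1 := (dvd_mul_right r s).trans hd
    have h2 : r ∣ 3 ^ 2 := h1
    have h3 := hr.dvd_of_dvd_pow h2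
    have := Nat.le_of_dvd (by norm_num) h3
    omega
  -- elements of order `r s`
  have all : ∀ r s : ℕ, 5 ≤ r → r.Prime → (∃ g : S, orderOf g = r * s) → ∃ i < 4, (r : ℤ) ∣ NRee f i ∧ (s : ℤ) ∣ NRee f i := by
    intro r s h5 hr hg
    have dd : ∀ {i : ℕ}, ((r * s : ℕ) : ℤ) ∣ NRee f i → (r : ℤ) ∣ NRee f i ∧ (s : ℤ) ∣ NRee f i := by
      intro i hi
      push_cast at hi
      exact ⟨(dvd_mul_right _ _).trans hi, (dvd_mul_left _ _).trans hi⟩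
    rcases (o1 _).1 hg with h | h | h | h | h | h
    · exact (n6 r s h5 hr h).elim
    · exact (n9 r s h5 hr h).elim
    · exact ⟨0, by norm_num, dd ((c0 _).1 h)⟩
    · exact ⟨1, by norm_num, dd ((c1 _).1 (by rw [← hodd]; exact h.mul_right 2))⟩
    · exact ⟨3, by norm_num, dd ((c3 _).1 h)⟩
    · exact ⟨2, by norm_num, dd ((c2 _).1 h)⟩
  have cov : ∀ r : ℕ, r.Prime → 5 ≤ r → r ∣ Nat.card S → ∃ i < 4, (r : ℤ) ∣ NRee f i := by
    intro r hr h5 hd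
    have := Fact.mk hr
    obtain ⟨x, hx⟩ := exists_prime_orderOf_dvd_card' r hd
    obtain ⟨i, hi, h1, -⟩ := all r 1 h5 hr ⟨x, by rw [hx, mul_one]⟩
    exact ⟨i, hi, h1⟩
  have kk : ∀ r : ℕ, r.Prime → 5 ≤ r → r ∣ Nat.card S → (r : ℤ) ∣ NRee f (kRee f r) ∧ kRee f r < 4 := by
    intro r hr h5 hd
    unfold kRee
    rw [e1]
    split_ifs with a0 a1 a2
    · exact ⟨(c0 r).1 a0, by norm_num⟩
    · exact ⟨(c1 r).1 a1, by norm_num⟩
    · exact ⟨(c2 r).1 a2, by norm_num⟩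
    · obtain ⟨i, hi, h1⟩ := cov r hr h5 hd
      have : i = 3 := by
        rcases (by omega : i = 0 ∨ i = 1 ∨ i = 2 ∨ i = 3) with rfl | rfl | rfl | rfl
        · exact absurd ((c0 r).2 h1) a0
        · exact absurd ((c1 r).2 h1) a1
        · exact absurd ((c2 r).2 h1) a2
        · rfl
      subst this
      exact ⟨h1, by norm_num⟩
  have mk : ∀ a b : ℕ, a < 4 → b < 4 → ((tabRee.adj.getD a 0).testBit b = true → a = b) ∧
      ((tabRee.na.getD a 0).testBit b = true → a ≠ b) := by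
    intro a b ha hb
    interval_cases a <;> interval_cases b <;> decide
  refine ⟨fun r hr h5 hrv hd => (kk r hr h5 hd).2, ?_, ?_, ?_, ?_⟩
  · intro r s hr hs h5 h5' hrv hsv hrs hd hd' ht
    obtain ⟨a1, a2⟩ := kk r hr h5 hd
    obtain ⟨b1, b2⟩ := kk s hs h5' hd'
    have hab := (mk _ _ a2 b2).1 ht
    rw [← hab] at b1
    have hco : Nat.Coprime r s := (Nat.coprime_primes hr hs).2 hrs
    have hdv : ((r * s : ℕ) : ℤ) ∣ NRee f (kRee f r) := by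
      push_cast
      exact (Nat.isCoprime_iff_coprime.2 hco).mul_dvd a1 b1
    rw [o1]
    generalize kRee f r = i at a1 a2 hdv
    rcases (by omega : i = 0 ∨ i = 1 ∨ i = 2 ∨ i = 3) with rfl | rfl | rfl | rfl
    · exact Or.inr (Or.inr (Or.inl ((c0 _).2 hdv)))
    · refine Or.inr (Or.inr (Or.inr (Or.inl ?_)))
      have h1 := (c1 _).2 hdv
      rw [← hodd] at h1
      refine Nat.Coprime.dvd_of_dvd_mul_right ?_ h1
      exact Nat.Coprime.mul_left ((Nat.coprime_primes hr Nat.prime_two).2 (by omega))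
        ((Nat.coprime_primes hs Nat.prime_two).2 (by omega))
    · exact Or.inr (Or.inr (Or.inr (Or.inr (Or.inr ((c2 _).2 hdv)))))
    · exact Or.inr (Or.inr (Or.inr (Or.inr (Or.inl ((c3 _).2 hdv)))))
  · intro r s hr hs h5 h5' hrv hsv hrs hd hd' ht hg
    obtain ⟨a1, a2⟩ := kk r hr h5 hd
    obtain ⟨b1, b2⟩ := kk s hs h5' hd'
    refine (mk _ _ a2 b2).2 ht ?_
    obtain ⟨i, hi, hri, hsi⟩ := all r s h5 hr hg
    rw [NRee_uniq hf hr h5 a2 hi a1 hri, NRee_uniq hf hs h5' b2 hi b1 hsi]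
  · intro r hr h5 hrv hd ht hg
    obtain ⟨i, hi, hri, hsi⟩ := all r 3 h5 hr hg
    have hf3 : (3 : ℤ) ∣ 3 ^ f := dvd_pow_self _ (by omega)
    have hm3 : (3 : ℤ) ∣ 3 ^ (m + 1) := dvd_pow_self _ (by omega)
    have hsi' : (3 : ℤ) ∣ NRee f i := by exact_mod_cast hsi
    rcases (by omega : i = 0 ∨ i = 1 ∨ i = 2 ∨ i = 3) with rfl | rfl | rfl | rfl <;>
      simp only [NRee, e1] at hsi' <;> omega
  · intro r hr h5 hrv hd ht
    simp [tabRee] at ht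

end Cfsg.Agent.R2.Spec.EE
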