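import Cfsg.Agent.R2.Spec.EE.SokRee
import Cfsg.Agent.H168.TwF4Cover

/-!
# The table of the Suzuki groups (helper20)
-/

set_option autoImplicit false
set_option linter.unusedSectionVars false
set_option linter.unusedVariables false

namespace Cfsg.Agent.R2.Spec.EE

open Cfsg Cfsg.Agent.H426.LieFam

universe u

/-- the numbers of the Suzuki groups -/
def NSz (f : ℕ) : ℕ → ℤ
  | 0 => 2 ^ f - 1
  | 1 => 2 ^ f + 2 ^ ((f + 1) / 2) + 1
  | _ => 2 ^ f - 2 ^ ((f + 1) / 2) + 1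

theorem NSz_uniq {m f r : ℕ} (hf : f = 2 * m + 1) (hr : r.Prime) (h5 : 5 ≤ r) {i j : ℕ} (hi : i < 3) (hj : j < 3)
    (h1 : (r : ℤ) ∣ NSz f i) (h2 : (r : ℤ) ∣ NSz f j) : i = j := by
  have hr' := Nat.prime_iff_prime_int.1 hr
  have e1 : (f + 1) / 2 = m + 1 := by omega
  have e2 : ((2 : ℤ) ^ (m + 1)) ^ 2 = 2 * 2 ^ f := by rw [hf, ← pow_mul, ← pow_succ']; ring
  have h2' : ¬ (r : ℤ) ∣ 2 := not_dvd_small hr h5 (by norm_num) (by norm_num)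
  have hw : ¬ (r : ℤ) ∣ 2 ^ (m + 1) := fun h => h2' (hr'.dvd_of_dvd_pow h)
  have key : ∀ i j : ℕ, i < j → j < 3 → (r : ℤ) ∣ NSz f i → (r : ℤ) ∣ NSz f j → False := by
    intro i j hij hj h1 h2
    have hj' : (i = 0 ∧ j = 1) ∨ (i = 0 ∧ j = 2) ∨ (i = 1 ∧ j = 2) := by omega
    rcases hj' with ⟨rfl, rfl⟩ | ⟨rfl, rfl⟩ | ⟨rfl, rfl⟩ <;>
      simp only [NSz, e1] at h1 h2
    · refine h2' ?_
      have := dvd_sub (h2.mul_right (2 ^ f - 2 ^ (m + 1) + 1)) (h1.mul_right (2 ^ f + 1))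
      rwa [show ((2 : ℤ) ^ f + 2 ^ (m + 1) + 1) * (2 ^ f - 2 ^ (m + 1) + 1) - (2 ^ f - 1) * (2 ^ f + 1) = 2 by
        linear_combination (-1 : ℤ) * e2] at this
    · refine h2' ?_
      have := dvd_sub (h2.mul_right (2 ^ f + 2 ^ (m + 1) + 1)) (h1.mul_right (2 ^ f + 1))
      rwa [show ((2 : ℤ) ^ f - 2 ^ (m + 1) + 1) * (2 ^ f + 2 ^ (m + 1) + 1) - (2 ^ f - 1) * (2 ^ f + 1) = 2 by
        linear_combination (-1 : ℤ) * e2] at this
    · have := dvd_sub h1 h2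
      rw [show ((2 : ℤ) ^ f + 2 ^ (m + 1) + 1) - (2 ^ f - 2 ^ (m + 1) + 1) = 2 * 2 ^ (m + 1) by ring] at this
      rcases hr'.dvd_or_dvd this with h | h
      · exact h2' h
      · exact hw h
  rcases Nat.lt_trichotomy i j with h | h | h
  · exact (key i j h hj h1 h2).elim
  · exact h
  · exact (key j i h hi h2 h1).elim

/-- **the table of `Sz(u)`** -/
theorem sok_sz {S : Type u} [Group S] [Finite S] {v f : ℕ} (hv : v.Prime) (h : Fam.Is v f S .sz) :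
    SOk tabSz S v (kSz f) := by
  obtain ⟨rfl, m, hm, hf, F, _, _, hF, ⟨e0⟩⟩ := h
  obtain ⟨e'⟩ := Cfsg.Agent.OddCyclic.ClaimC.SzIso.iso hm hF
  have e : S ≃* ↥(Cfsg.Sz F m) := e0.trans e'.symm
  have e1 : (f + 1) / 2 = m + 1 := by omega
  have hle : 2 ^ (m + 1) ≤ 2 ^ f := Nat.pow_le_pow_right (by norm_num) (by omega)
  have hone : 1 ≤ 2 ^ f := Nat.one_le_pow _ _ (by norm_num)
  -- the classes
  have c0 : ∀ d : ℕ, d ∣ 2 ^ f - 1 ↔ (d : ℤ) ∣ NSz f 0 := fun d => by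
    simp only [NSz]; rw [← Int.natCast_dvd_natCast, Nat.cast_sub hone]; push_cast; rfl
  have c1 : ∀ d : ℕ, d ∣ 2 ^ f + 2 ^ (m + 1) + 1 ↔ (d : ℤ) ∣ NSz f 1 := fun d => by
    simp only [NSz, e1]; rw [← Int.natCast_dvd_natCast]; push_cast; rfl
  have c2 : ∀ d : ℕ, d ∣ 2 ^ f - 2 ^ (m + 1) + 1 ↔ (d : ℤ) ∣ NSz f 2 := fun d => by
    simp only [NSz, e1]; rw [← Int.natCast_dvd_natCast, Nat.cast_add, Nat.cast_sub hle]; push_cast; rfl
  -- elements of order divisible by a prime `r ≥ 5`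
  have all : ∀ (x : ↥(Cfsg.Sz F m)) (r : ℕ), 5 ≤ r → r.Prime → r ∣ orderOf x →
      ∃ i < 3, ∃ U : Subgroup ↥(Cfsg.Sz F m), IsCyclic ↥U ∧ x ∈ U ∧ ∀ d : ℕ, d ∣ Nat.card ↥U ↔ (d : ℤ) ∣ NSz f i := by
    intro x r h5 hr hx
    have hx1 : x ≠ 1 := by
      rintro rfl
      rw [orderOf_one] at hx
      exact hr.one_lt.ne' (Nat.dvd_one.1 hx)
    obtain ⟨U, ⟨hU, hxU⟩, -⟩ := Cfsg.Agent.S2238.result hm hF x hx1
    rcases hU with ⟨P, rfl⟩ | ⟨hc, hN⟩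
    · exfalso
      obtain ⟨k, hk⟩ := P.isPGroup' ⟨x, hxU⟩
      have h3 : x ^ 2 ^ k = 1 := congrArg Subtype.val hk
      have h4 : r ∣ 2 ^ k := hx.trans (orderOf_dvd_of_pow_eq_one h3)
      have h6 := (Nat.prime_dvd_prime_iff_eq hr Nat.prime_two).1 (hr.dvd_of_dvd_pow h4)
      omega
    · rw [← hf] at hN
      rcases hN with hN | hN | hN
      · exact ⟨0, by norm_num, U, hc, hxU, fun d => by rw [hN]; exact c0 d⟩
      · exact ⟨1, by norm_num, U, hc, hxU, fun d => by rw [hN]; exact c1 d⟩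
      · exact ⟨2, by norm_num, U, hc, hxU, fun d => by
          rw [show Nat.card ↥U = 2 ^ f - 2 ^ (m + 1) + 1 from hN]; exact c2 d⟩
  have cov : ∀ r : ℕ, r.Prime → 5 ≤ r → r ∣ Nat.card S → ∃ i < 3, ∃ U : Subgroup ↥(Cfsg.Sz F m), IsCyclic ↥U ∧
      (∀ d : ℕ, d ∣ Nat.card ↥U ↔ (d : ℤ) ∣ NSz f i) ∧ (r : ℤ) ∣ NSz f i := by
    intro r hr h5 hd
    have := Fact.mk hr
    rw [Nat.card_congr e.toEquiv] at hd
    obtain ⟨x, hx⟩ := exists_prime_orderOf_dvd_card' r hd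
    obtain ⟨i, hi, U, hU, hxU, hd⟩ := all x r h5 hr (by rw [hx])
    refine ⟨i, hi, U, hU, hd, (hd r).1 ?_⟩
    rw [← hx, ← Subgroup.orderOf_mk x hxU]
    exact orderOf_dvd_natCard _
  have kk : ∀ r : ℕ, r.Prime → 5 ≤ r → r ∣ Nat.card S → (r : ℤ) ∣ NSz f (kSz f r) ∧ kSz f r < 3 := by
    intro r hr h5 hd
    unfold kSz
    rw [e1]
    split_ifs with a0 a1
    · exact ⟨(c0 r).1 a0, by norm_num⟩
    · exact ⟨(c1 r).1 a1, by norm_num⟩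
    · obtain ⟨i, hi, -, -, -, h1⟩ := cov r hr h5 hd
      have : i = 2 := by
        rcases (by omega : i = 0 ∨ i = 1 ∨ i = 2) with rfl | rfl | rfl
        · exact absurd ((c0 r).2 h1) a0
        · exact absurd ((c1 r).2 h1) a1
        · rfl
      subst this
      exact ⟨h1, by norm_num⟩
  have mk : ∀ a b : ℕ, a < 3 → b < 3 → ((tabSz.adj.getD a 0).testBit b = true → a = b) ∧
      ((tabSz.na.getD a 0).testBit b = true → a ≠ b) := by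
    intro a b ha hb
    interval_cases a <;> interval_cases b <;> decide
  have two : ∀ r s : ℕ, 5 ≤ r → r.Prime → (∃ g : S, orderOf g = r * s) → ∃ i < 3, (r : ℤ) ∣ NSz f i ∧ (s : ℤ) ∣ NSz f i := by
    rintro r s h5 hr ⟨g, hg⟩
    obtain ⟨i, hi, U, hU, hxU, hd⟩ := all (e g) r h5 hr (by rw [MulEquiv.orderOf_eq, hg]; exact dvd_mul_right _ _)
    have h1 : ((r * s : ℕ) : ℤ) ∣ NSz f i := by
      rw [← hd, ← hg, ← MulEquiv.orderOf_eq e, ← Subgroup.orderOf_mk (e g) hxU]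
      exact orderOf_dvd_natCard _
    push_cast at h1
    exact ⟨i, hi, (dvd_mul_right _ _).trans h1, (dvd_mul_left _ _).trans h1⟩
  refine ⟨fun r hr h5 hrv hd => (kk r hr h5 hd).2, ?_, ?_, ?_, ?_⟩
  · intro r s hr hs h5 h5' hrv hsv hrs hd hd' ht
    obtain ⟨a1, a2⟩ := kk r hr h5 hd
    obtain ⟨b1, b2⟩ := kk s hs h5' hd'
    have hab := (mk _ _ a2 b2).1 ht
    rw [← hab] at b1
    obtain ⟨i, hi, U, hU, hdU, hri⟩ := cov r hr h5 hd
    have hii := NSz_uniq hf hr h5 a2 hi a1 hri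
    rw [hii] at a1 b1
    obtain ⟨-, -, -, x, hx⟩ := H168.TwF4Cover.rel_of_cyclic hU hr hs hrs ((hdU r).2 a1) ((hdU s).2 b1) Nat.card_pos.ne'
    exact ⟨e.symm x, by rw [MulEquiv.orderOf_eq, hx]⟩
  · intro r s hr hs h5 h5' hrv hsv hrs hd hd' ht hg
    obtain ⟨a1, a2⟩ := kk r hr h5 hd
    obtain ⟨b1, b2⟩ := kk s hs h5' hd'
    refine (mk _ _ a2 b2).2 ht ?_
    obtain ⟨i, hi, hri, hsi⟩ := two r s h5 hr hg
    rw [NSz_uniq hf hr h5 a2 hi a1 hri, NSz_uniq hf hs h5' b2 hi b1 hsi]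
  · intro r hr h5 hrv hd ht hg
    obtain ⟨i, hi, hri, hsi⟩ := two r 2 h5 hr hg
    have hf2 : (2 : ℤ) ∣ 2 ^ f := dvd_pow_self _ (by omega)
    have hm2 : (2 : ℤ) ∣ 2 ^ (m + 1) := dvd_pow_self _ (by omega)
    have hsi' : (2 : ℤ) ∣ NSz f i := by exact_mod_cast hsi
    rcases (by omega : i = 0 ∨ i = 1 ∨ i = 2) with rfl | rfl | rfl <;>
      simp only [NSz, e1] at hsi' <;> omega
  · intro r hr h5 hrv hd ht
    simp [tabSz] at ht

end Cfsg.Agent.R2.Spec.EE
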