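import Cfsg.Agent.R2.Spec.EE.SokSm
import Cfsg.Agent.H378.TwRows
import Cfsg.Agent.H168.TwCover
import Cfsg.Agent.H169.ExcD4

/-!
# The table of `³D₄(q)` (helper1)
-/

set_option autoImplicit false

namespace Cfsg.Agent.R2.Spec.EE

open Cfsg Cfsg.Lie Cfsg.Agent.H426.LieFam
open Cfsg.Agent.H378.ExcAdj Cfsg.Agent.H371.CycEval
open Cfsg.Agent.H168 Cfsg.Agent.H168.TwCover Cfsg.Agent.H168.ExcAdj
open Cfsg.Agent.H493.PGTorus Cfsg.Agent.H493.PGCyc Cfsg.Agent.H129.WData Cfsg.Agent.H493.PGD4T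

universe u w

namespace D4Tab

/-- the adjacent pairs -/
def L : List (ℕ × ℕ) := [(1, 1), (2, 2), (3, 3), (6, 6), (12, 12), (1, 2), (2, 1), (1, 3), (3, 1), (2, 3), (3, 2),
  (1, 6), (6, 1), (2, 6), (6, 2)]

theorem L_ok : ∀ a ∈ clTD4, ∀ b ∈ clTD4, (tabTD4.adj.getD (clTD4.idxOf a) 0).testBit (clTD4.idxOf b) = true →
    (a, b) ∈ L := by decide +kernel

theorem N_ok : ∀ a ∈ clTD4, ∀ b ∈ clTD4, (tabTD4.na.getD (clTD4.idxOf a) 0).testBit (clTD4.idxOf b) = true →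
    (a = 12 ∧ b ≠ 12) ∨ (b = 12 ∧ a ≠ 12) ∨ (a = 3 ∧ b = 6) ∨ (b = 3 ∧ a = 6) := by decide +kernel

theorem T_ok : ∀ a ∈ clTD4, tabTD4.tt.testBit (clTD4.idxOf a) = true → a = 12 := by decide +kernel

theorem V_ok : ∀ a ∈ clTD4, tabTD4.nt.testBit (clTD4.idxOf a) = true → a = 1 ∨ a = 2 ∨ a = 3 ∨ a = 6 := by
  decide +kernel

/-- coefficients of the eigenvector -/
def VB_1 : Fin 1 → Fin 4 → ℤ := ![![0, -1, 0, 0]]

theorem eigB_1 : EigOK (fun i j => H493.PGD4T.ThB j i) c1 VB_1 ![0, -1, 0, 0] := by decide +kernel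

/-- the product of commuting elements -/
theorem ex_of_pr {G : Type*} [Group G] {r s : ℕ} (hr : r.Prime) (hs : s.Prime) (hrs : r ≠ s)
    (h : H378.TwAdj.Pr G r s) : ∃ g : G, orderOf g = r * s := by
  obtain ⟨x, y, hx, hy, hc⟩ := h
  refine ⟨x * y, ?_⟩
  rw [hc.orderOf_mul_eq_mul_orderOf_of_coprime (by rw [hx, hy]; exact (Nat.coprime_primes hr hs).2 hrs), hx, hy]

end D4Tab

theorem sok_td4X {K : Type w} [Field K] [Fintype K] {v f : ℕ} (hv : v.Prime) (hf : f ≠ 0)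
    (hK : Fintype.card K = (v ^ f) ^ 3) : SOk tabTD4 ↥(twistedD4 K (v ^ f)) v (kcl clTD4 (v ^ f)) := by
  have hvf : Fact v.Prime := ⟨hv⟩
  have hq : IsPrimePow (v ^ f) := hv.isPrimePow.pow hf
  have hvq : v ∣ v ^ f := dvd_pow_self v hf
  have hq0 : 0 < v ^ f := pow_pos hv.pos f
  have hch : CharP K v := by
    obtain ⟨p', hp'⟩ := CharP.exists K
    obtain ⟨n, hpp, hn⟩ := FiniteField.card K p'
    rw [hK, ← pow_mul] at hn
    have h1 : v = p' := by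
      have h2 : p' ∣ v ^ (f * 3) := by rw [hn]; exact dvd_pow_self p' n.pos.ne'
      exact ((Nat.prime_dvd_prime_iff_eq hpp hv).1 (hpp.dvd_of_dvd_pow h2)).symm
    rw [h1]; exact hp'
  have hnd : ∀ {r : ℕ}, r.Prime → r ≠ v → ¬ r ∣ v ^ f := fun hr hne h => hne (Sm.eq_of_dvd_pow hv hr h)
  have nd : ∀ {r : ℕ}, r.Prime → 5 ≤ r → ∀ m : ℕ, m = 1 ∨ m = 2 ∨ m = 3 ∨ m = 6 ∨ m = 12 → ¬ r ∣ m := by
    intro r hr h5 m hm h
    have h23 : r ∣ 2 ^ 3 * 3 := by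
      rcases hm with rfl | rfl | rfl | rfl | rfl <;> exact h.trans (by norm_num)
    rcases hr.dvd_mul.1 h23 with h1 | h1
    · have := Nat.le_of_dvd (by norm_num) (hr.dvd_of_dvd_pow h1)
      omega
    · have := Nat.le_of_dvd (by norm_num) h1
      omega
  have cls : ∀ r : ℕ, r.Prime → 5 ≤ r → r ≠ v → r ∣ Nat.card ↥(twistedD4 K (v ^ f)) → od (v ^ f) r ∈ clTD4 := by
    intro r hr h5 hne hd
    simp only [clTD4, List.mem_cons, List.not_mem_nil, or_false]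
    rcases dvd_3D4 hq hK hr (hnd hr hne) hd with h | h | h | h | h
    · left
      refine Sm.od_of_ev hr (nd hr h5 1 (by norm_num)) ?_
      rw [pv_c1] at h
      have e : ev 1 ((v ^ f : ℕ) : ℤ) = ((v ^ f : ℕ) : ℤ) - 1 := by simp [ev, Polynomial.cyclotomic_one]
      rw [e]
      exact h
    · right; left
      refine Sm.od_of_ev hr (nd hr h5 2 (by norm_num)) ?_
      rw [pv_c2] at h
      rw [ev2]
      exact h
    · right; right; left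
      refine Sm.od_of_ev hr (nd hr h5 3 (by norm_num)) ?_
      rw [pv_c3] at h
      rw [ev3]
      exact h
    · right; right; right; left
      refine Sm.od_of_ev hr (nd hr h5 6 (by norm_num)) ?_
      rw [pv_c6] at h
      rw [ev6]
      exact h
    · right; right; right; right
      refine Sm.od_of_ev hr (nd hr h5 12 (by norm_num)) ?_
      rw [pv_c12] at h
      rw [ev12]
      exact h
  -- the isolated class
  have c12no : ∀ {r s : ℕ}, r.Prime → s.Prime → od (v ^ f) r = 12 →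
      (∃ g : ↥(twistedD4 K (v ^ f)), orderOf g = r * s) → (s : ℤ) ∣ ev 12 ((v ^ f : ℕ) : ℤ) := by
    rintro r s hr hs hrm ⟨g, hg⟩
    have h1 : orderOf (g ^ s) = r := by
      rw [orderOf_pow_of_dvd hs.ne_zero (by rw [hg]; exact dvd_mul_left _ _), hg, Nat.mul_div_cancel _ hs.pos]
    have h2 : orderOf (g ^ r) = s := by
      rw [orderOf_pow_of_dvd hr.ne_zero (by rw [hg]; exact dvd_mul_right _ _), hg, Nat.mul_div_cancel_left _ hr.pos]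
    have h3 : g ^ r ∈ Subgroup.centralizer {g ^ s} :=
      Subgroup.mem_centralizer_singleton_iff.2 ((Commute.refl g).pow_pow r s).eq
    have h4 : orderOf (⟨g ^ r, h3⟩ : Subgroup.centralizer {g ^ s}) = s := by rw [Subgroup.orderOf_mk, h2]
    have h5 := orderOf_dvd_natCard (⟨g ^ r, h3⟩ : Subgroup.centralizer {g ^ s})
    rw [h4] at h5
    exact Int.natCast_dvd.2 (h5.trans (H378.TwRows.cent_3D4 hq hK hr h1 hrm).2)
  have k12 := clique_3D4 K hq hK _ (List.mem_cons_self)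
  have k3 := clique_3D4 K hq hK _ (List.mem_cons_of_mem _ List.mem_cons_self)
  have k6 := clique_3D4 K hq hK _ (List.mem_cons_of_mem _ (List.mem_cons_of_mem _ List.mem_cons_self))
  constructor
  · intro r hr h5 hne hd
    exact List.idxOf_lt_length_of_mem (cls r hr h5 hne hd)
  · intro r s hr hs hr5 hs5 hne hne' hrs hd hd' ht
    have h := D4Tab.L_ok _ (cls r hr hr5 hne hd) _ (cls s hs hs5 hne' hd') ht
    simp only [D4Tab.L, List.mem_cons, List.not_mem_nil, or_false, Prod.mk.injEq] at h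
    have nr := hnd hr hne
    have ns := hnd hs hne'
    rcases h with ⟨ha, hb⟩ | ⟨ha, hb⟩ | ⟨ha, hb⟩ | ⟨ha, hb⟩ | ⟨ha, hb⟩ | ⟨ha, hb⟩ | ⟨ha, hb⟩ | ⟨ha, hb⟩ | ⟨ha, hb⟩ |
      ⟨ha, hb⟩ | ⟨ha, hb⟩ | ⟨ha, hb⟩ | ⟨ha, hb⟩ | ⟨ha, hb⟩ | ⟨ha, hb⟩
    · exact (k3 r s hr hs hrs (.inr (.inl ⟨nr, (Sm.p1 hr ha).2⟩)) (.inr (.inl ⟨ns, (Sm.p1 hs hb).2⟩))).2.2.2
    · exact (k3 r s hr hs hrs (.inr (.inr ⟨nr, (Sm.p2 hr ha).2⟩)) (.inr (.inr ⟨ns, (Sm.p2 hs hb).2⟩))).2.2.2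
    · exact (k3 r s hr hs hrs (.inl ⟨nr, (Sm.p3 hr ha).2⟩) (.inl ⟨ns, (Sm.p3 hs hb).2⟩)).2.2.2
    · exact (k6 r s hr hs hrs ⟨nr, (Sm.p6 hr ha).2⟩ ⟨ns, (Sm.p6 hs hb).2⟩).2.2.2
    · exact (k12 r s hr hs hrs ⟨nr, (Sm.p12 hr ha).2⟩ ⟨ns, (Sm.p12 hs hb).2⟩).2.2.2
    · exact (k3 r s hr hs hrs (.inr (.inl ⟨nr, (Sm.p1 hr ha).2⟩)) (.inr (.inr ⟨ns, (Sm.p2 hs hb).2⟩))).2.2.2
    · exact (k3 r s hr hs hrs (.inr (.inr ⟨nr, (Sm.p2 hr ha).2⟩)) (.inr (.inl ⟨ns, (Sm.p1 hs hb).2⟩))).2.2.2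
    · exact (k3 r s hr hs hrs (.inr (.inl ⟨nr, (Sm.p1 hr ha).2⟩)) (.inl ⟨ns, (Sm.p3 hs hb).2⟩)).2.2.2
    · exact (k3 r s hr hs hrs (.inl ⟨nr, (Sm.p3 hr ha).2⟩) (.inr (.inl ⟨ns, (Sm.p1 hs hb).2⟩))).2.2.2
    · exact (k3 r s hr hs hrs (.inr (.inr ⟨nr, (Sm.p2 hr ha).2⟩)) (.inl ⟨ns, (Sm.p3 hs hb).2⟩)).2.2.2
    · exact (k3 r s hr hs hrs (.inl ⟨nr, (Sm.p3 hr ha).2⟩) (.inr (.inr ⟨ns, (Sm.p2 hs hb).2⟩))).2.2.2
    · exact D4Tab.ex_of_pr hr hs hrs (H378.TwAdj.pairD_gen hq hK chainB_ok hThB D4Tab.eigB_1 (by decide) eigB_6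
        (by decide) hr hs (Sm.p1 hr ha).2 (Sm.p6 hs hb).2)
    · exact D4Tab.ex_of_pr hr hs hrs (H378.TwAdj.pairD_gen hq hK chainB_ok hThB eigB_6 (by decide) D4Tab.eigB_1
        (by decide) hr hs (Sm.p6 hr ha).2 (Sm.p1 hs hb).2)
    · exact D4Tab.ex_of_pr hr hs hrs (H378.TwAdj.pairD_gen hq hK chainB_ok hThB eigB_2 (by decide) eigB_6
        (by decide) hr hs (Sm.p2 hr ha).2 (Sm.p6 hs hb).2)
    · exact D4Tab.ex_of_pr hr hs hrs (H378.TwAdj.pairD_gen hq hK chainB_ok hThB eigB_6 (by decide) eigB_2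
        (by decide) hr hs (Sm.p6 hr ha).2 (Sm.p2 hs hb).2)
  · intro r s hr hs hr5 hs5 hne hne' hrs hd hd' ht
    have n36 : ∀ {r s : ℕ}, r.Prime → s.Prime → 5 ≤ r → 5 ≤ s → r ≠ v → s ≠ v → od (v ^ f) r = 3 → od (v ^ f) s = 6 →
        ¬ ∃ g : ↥(twistedD4 K (v ^ f)), orderOf g = r * s := by
      intro r s hr hs hr5 hs5 hne hne' ha hb
      refine H169.ExcD4.four_no_36 (Nat.pos_of_ne_zero hf) hK hr hs (by omega) (by omega) (hnd hr hne) (hnd hs hne')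
        ?_ ?_
      · intro j
        rw [← H169.ExcD4.int_dvd_iff hq0, H378.CycTab.dvd_iff]
        exact iff_of_eq (congrArg (· ∣ j) ha)
      · intro j
        rw [← H169.ExcD4.int_dvd_iff hq0, H378.CycTab.dvd_iff]
        exact iff_of_eq (congrArg (· ∣ j) hb)
    rcases D4Tab.N_ok _ (cls r hr hr5 hne hd) _ (cls s hs hs5 hne' hd') ht with ⟨ha, hb⟩ | ⟨ha, hb⟩ | ⟨ha, hb⟩ | ⟨ha, hb⟩
    · exact fun h => hb (Sm.od_of_ev hs (nd hs hs5 12 (by norm_num)) (c12no hr hs ha h))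
    · exact Sm.swap fun h => hb (Sm.od_of_ev hr (nd hr hr5 12 (by norm_num)) (c12no hs hr ha h))
    · exact n36 hr hs hr5 hs5 hne hne' ha hb
    · exact Sm.swap (n36 hs hr hs5 hr5 hne' hne ha hb)
  · intro r hr h5 hne hd ht
    have ha := D4Tab.T_ok _ (cls r hr h5 hne hd) ht
    exact fun h => Sm.not_dvd_ev hv hvq (by norm_num) (c12no hr hv ha h)
  · intro r hr h5 hne hd ht
    rcases D4Tab.V_ok _ (cls r hr h5 hne hd) ht with ha | ha | ha | ha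
    · exact D4Tab.ex_of_pr hr hv hne (H378.TwAdj.pairD_p hq hK chainA_ok hThA eigA_1 (by decide) (by decide) fixA vanA_1
        hr hv (Sm.p1 hr ha).2 hvq)
    · exact D4Tab.ex_of_pr hr hv hne (H378.TwAdj.pairD_p hq hK chainB_ok hThB eigB_2 (by decide) (by decide) fixB vanB_2
        hr hv (Sm.p2 hr ha).2 hvq)
    · exact D4Tab.ex_of_pr hr hv hne (H378.TwAdj.pairD_p hq hK chainA_ok hThA eigA_3 (by decide) (by decide) fixA vanA_3
        hr hv (Sm.p3 hr ha).2 hvq)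
    · exact D4Tab.ex_of_pr hr hv hne (H378.TwAdj.pairD_p hq hK chainB_ok hThB eigB_6 (by decide) (by decide) fixB vanB_6
        hr hv (Sm.p6 hr ha).2 hvq)

/-- **`³D₄(q)`** -/
theorem sok_td4 {S : Type u} [Group S] [Finite S] {v f : ℕ} (hv : v.Prime) (h : Fam.Is v f S .td4) :
    SOk tabTD4 S v (kcl clTD4 (v ^ f)) := by
  obtain ⟨K, _, _, _, hK, ⟨e⟩⟩ := h
  have hf : f ≠ 0 := by
    rintro rfl
    have h1 : 1 < Fintype.card K := Fintype.one_lt_card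
    rw [hK, pow_zero, one_pow] at h1
    omega
  exact Sm.of_equiv e (sok_td4X hv hf hK)

end Cfsg.Agent.R2.Spec.EE
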