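import Cfsg.Agent.H378.TwAdj

/-!
# Eigenvector certificates for the tori of `²E₆(q)` (helper6)

* `chainH` : the torus `Φ₁Φ₂Φ₃Φ₆`; `chainI` : the torus `Φ₁Φ₂Φ₃Φ₄`; `eigD_1`, `eigD_2` : the torus `Φ₁Φ₂Φ₁₀`.
-/

set_option autoImplicit false
set_option linter.style.longLine false

namespace Cfsg.Agent.R2.Spec.EE.CertTE6

open Cfsg Cfsg.Lie Cfsg.Agent Cfsg.Agent.H129 Cfsg.Agent.H129.WData Cfsg.Agent.H493.PGTorus Cfsg.Agent.H493.PGCyc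

/-- partial products -/
def chainH : List (Fin 6 × Mat 6) := [
    (0, ![![0, 0, 1, 0, 0, 0], ![0, -1, 0, 0, 0, 0], ![-1, 0, -1, 0, 0, 0], ![1, 1, 1, 1, 0, 0], ![0, 0, 0, 0, 1, 0], ![0, 0, 0, 0, 0, 1]]),
    (1, ![![1, 0, 1, 0, 0, 0], ![0, -1, 0, 0, 0, 0], ![0, 0, -1, 0, 0, 0], ![0, 1, 1, 1, 0, 0], ![0, 0, 0, 0, 1, 0], ![0, 0, 0, 0, 0, 1]]),
    (2, ![![1, 0, 1, 0, 0, 0], ![0, 1, 0, 0, 0, 0], ![0, 0, -1, 0, 0, 0], ![0, 0, 1, 1, 0, 0], ![0, 0, 0, 0, 1, 0], ![0, 0, 0, 0, 0, 1]])]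

theorem chainH_ok : ChainOK H493.PGE6T.Am chainH := by decide +kernel

/-- the matrix of the twisted element -/
def ThH : Mat 6 := ![![0, 0, 0, 0, 0, 1], ![0, -1, 0, 0, 0, 0], ![0, 0, 0, 0, 1, 0], ![1, 1, 1, 1, 0, 0], ![-1, 0, -1, 0, 0, 0], ![0, 0, 1, 0, 0, 0]]

theorem hThH : ∀ j, hd chainH (H493.TwE6Alg.pi j) = ThH j := by decide +kernel

/-- coefficients of the functional, cyclotomic polynomial 1 -/
def VH_1 : Fin 1 → Fin 6 → ℤ := ![![0, 0, 0, -1, 0, 0]]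

theorem eigH_1 : EigOK (fun i j => ThH j i) c1 VH_1 ![0, 0, 0, -1, 0, 0] := by decide +kernel

/-- coefficients of the functional, cyclotomic polynomial 2 -/
def VH_2 : Fin 1 → Fin 6 → ℤ := ![![0, 2, 0, -1, 0, 0]]

theorem eigH_2 : EigOK (fun i j => ThH j i) c2 VH_2 ![0, 0, 0, -1, 0, 0] := by decide +kernel

/-- coefficients of the functional, cyclotomic polynomial 3 -/
def VH_3 : Fin 2 → Fin 6 → ℤ := ![![-1, 0, 2, 0, -1, -1], ![1, 0, 1, -1, 1, -2]]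

theorem eigH_3 : EigOK (fun i j => ThH j i) c3 VH_3 ![-1, 0, 0, -1, 0, 0] := by decide +kernel

/-- coefficients of the functional, cyclotomic polynomial 6 -/
def VH_6 : Fin 2 → Fin 6 → ℤ := ![![0, 0, -1, 1, 0, -1], ![1, 0, 0, 0, -1, 1]]

theorem eigH_6 : EigOK (fun i j => ThH j i) c6 VH_6 ![0, 0, -1, 0, 0, 0] := by decide +kernel

/-- partial products -/
def chainI : List (Fin 6 × Mat 6) := [
    (0, ![![-1, 0, 0, 0, 0, 0], ![0, 0, 0, 1, 0, 0], ![1, 1, 1, 1, 0, 0], ![0, -1, 0, -1, 0, 0], ![0, 1, 0, 1, 1, 0], ![0, 0, 0, 0, 0, 1]]),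
    (1, ![![1, 0, 0, 0, 0, 0], ![0, 0, 0, 1, 0, 0], ![0, 1, 1, 1, 0, 0], ![0, -1, 0, -1, 0, 0], ![0, 1, 0, 1, 1, 0], ![0, 0, 0, 0, 0, 1]]),
    (3, ![![1, 0, 0, 0, 0, 0], ![0, 1, 0, 1, 0, 0], ![0, 0, 1, 1, 0, 0], ![0, 0, 0, -1, 0, 0], ![0, 0, 0, 1, 1, 0], ![0, 0, 0, 0, 0, 1]])]

theorem chainI_ok : ChainOK H493.PGE6T.Am chainI := by decide +kernel

/-- the matrix of the twisted element -/
def ThI : Mat 6 := ![![0, 0, 0, 0, 0, 1], ![0, 0, 0, 1, 0, 0], ![0, 1, 0, 1, 1, 0], ![0, -1, 0, -1, 0, 0], ![1, 1, 1, 1, 0, 0], ![-1, 0, 0, 0, 0, 0]]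

theorem hThI : ∀ j, hd chainI (H493.TwE6Alg.pi j) = ThI j := by decide +kernel

/-- coefficients of the functional, cyclotomic polynomial 1 -/
def VI_1 : Fin 1 → Fin 6 → ℤ := ![![0, 0, -1, 0, -1, 0]]

theorem eigI_1 : EigOK (fun i j => ThI j i) c1 VI_1 ![0, 0, -1, 0, 0, 0] := by decide +kernel

/-- coefficients of the functional, cyclotomic polynomial 2 -/
def VI_2 : Fin 1 → Fin 6 → ℤ := ![![0, 0, 1, 0, -1, 0]]

theorem eigI_2 : EigOK (fun i j => ThI j i) c2 VI_2 ![0, 0, 1, 0, 0, 0] := by decide +kernel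

/-- coefficients of the functional, cyclotomic polynomial 3 -/
def VI_3 : Fin 2 → Fin 6 → ℤ := ![![0, 2, 0, -1, 0, 0], ![0, 1, -1, 1, -1, 0]]

theorem eigI_3 : EigOK (fun i j => ThI j i) c3 VI_3 ![0, 0, -1, -1, 0, 0] := by decide +kernel

/-- coefficients of the functional, cyclotomic polynomial 4 -/
def VI_4 : Fin 2 → Fin 6 → ℤ := ![![2, 0, -1, 0, 0, 0], ![0, 0, 0, 0, -1, 2]]

theorem eigI_4 : EigOK (fun i j => ThI j i) c4 VI_4 ![0, 0, -1, 0, 0, 0] := by decide +kernel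

/-- coefficients of the functional, cyclotomic polynomial 1 -/
def VD_1 : Fin 1 → Fin 6 → ℤ := ![![0, -1, 0, 0, 0, 0]]

theorem eigD_1 : EigOK (fun i j => H493.PGE6T.ThD j i) c1 VD_1 ![0, -1, 0, 0, 0, 0] := by decide +kernel

/-- coefficients of the functional, cyclotomic polynomial 2 -/
def VD_2 : Fin 1 → Fin 6 → ℤ := ![![0, -1, 0, 2, -2, 0]]

theorem eigD_2 : EigOK (fun i j => H493.PGE6T.ThD j i) c2 VD_2 ![0, -1, 0, 0, 0, 0] := by decide +kernel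


end Cfsg.Agent.R2.Spec.EE.CertTE6
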