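import Cfsg.Agent.R2.Spec.EE.SokB
import Cfsg.Agent.R2.Spec.EE.CertTE6
import Cfsg.Agent.H378.TwRows
import Cfsg.Agent.H378.OmTE6

/-!
# The table of `²E₆(q)` (helper6)

`sok_te6`.
-/

set_option autoImplicit false
set_option linter.unusedSectionVars false

namespace Cfsg.Agent.R2.Spec.EE.SokTE6

open Cfsg Cfsg.Lie Cfsg.Lie.ChevalleyDatum Cfsg.Agent Cfsg.Agent.H129.WData
open Cfsg.Agent.H493.PGTorus Cfsg.Agent.H493.PGCyc
open Cfsg.Agent.H378 Cfsg.Agent.H378.TwAdj Cfsg.Agent.H378.OmTE6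
open Cfsg.Agent.H378.ExcAdj (od od_dvd)
open Cfsg.Agent.R2.Spec.EE.SokB

universe u

/-! ### arithmetic -/

theorem no_dvd {r l : ℕ} (h5 : 5 ≤ r) (h : (r : ℤ) ∣ ((l : ℕ) : ℤ)) (h0 : 0 < l) (hl : l < 5) : False := by
  have h1 := Nat.le_of_dvd h0 (Int.natCast_dvd_natCast.1 h)
  omega

theorem not2 {r q : ℕ} (d : ℕ) (h5 : 5 ≤ r) (h : (r : ℤ) ∣ (q : ℤ) ^ d + 1) : ¬ od q r ∣ d := by
  intro h1
  rw [od, ← CycTab.dvd_iff] at h1
  refine no_dvd (l := 2) h5 ?_ (by norm_num) (by norm_num)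
  have e : (((2 : ℕ) : ℤ)) = ((q : ℤ) ^ d + 1) - ((q : ℤ) ^ d - 1) := by push_cast; ring
  rw [e]
  exact dvd_sub h h1

theorem not3 {r q : ℕ} (d : ℕ) (h5 : 5 ≤ r) (h : (r : ℤ) ∣ ((q : ℤ) ^ d) ^ 2 + (q : ℤ) ^ d + 1) : ¬ od q r ∣ d := by
  intro h1
  rw [od, ← CycTab.dvd_iff] at h1
  refine no_dvd (l := 3) h5 ?_ (by norm_num) (by norm_num)
  have e : (((3 : ℕ) : ℤ)) = (((q : ℤ) ^ d) ^ 2 + (q : ℤ) ^ d + 1) - ((q : ℤ) ^ d + 2) * ((q : ℤ) ^ d - 1) := by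
    push_cast; ring
  rw [e]
  exact dvd_sub h (h1.mul_left _)

theorem od_dvd_of {r q n : ℕ} {P : ℤ} (h : (r : ℤ) ∣ P) (e : P ∣ (q : ℤ) ^ n - 1) : od q r ∣ n := by
  rw [od, ← CycTab.dvd_iff]
  exact h.trans e

theorem fin_dvd : ∀ n ∈ [1, 2, 3, 4, 6, 8, 10, 12, 18], ∀ k ≤ 18, k ∣ n → (n = 1 ∨ ¬ k ∣ n / 2 ∨ ¬ 2 ∣ n) →
    (n = 1 ∨ ¬ k ∣ n / 3 ∨ ¬ 3 ∣ n) → k = n ∨ n = 10 ∧ k = 2 := by decide +kernel

theorem od_eq {r q : ℕ} (h5 : 5 ≤ r) {a : ℕ} (ha : a ∈ [1, 2, 3, 4, 6, 8, 10, 12, 18])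
    (h : (r : ℤ) ∣ CertTab.cyc a (q : ℤ)) : od q r = a ∨ a = 10 ∧ od q r = 2 := by
  have key : ∀ {n : ℕ}, n ∈ [1, 2, 3, 4, 6, 8, 10, 12, 18] → od q r ∣ n → (n = 1 ∨ ¬ od q r ∣ n / 2 ∨ ¬ 2 ∣ n) →
    (n = 1 ∨ ¬ od q r ∣ n / 3 ∨ ¬ 3 ∣ n) → od q r = n ∨ n = 10 ∧ od q r = 2 := by
    intro n hn h1 h2 h3
    have h6 : ∀ n ∈ [1, 2, 3, 4, 6, 8, 10, 12, 18], 0 < n ∧ n ≤ 18 := by decide
    exact fin_dvd n hn _ ((Nat.le_of_dvd (h6 n hn).1 h1).trans (h6 n hn).2) h1 h2 h3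
  simp only [List.mem_cons, List.not_mem_nil, or_false] at ha
  rcases ha with rfl | rfl | rfl | rfl | rfl | rfl | rfl | rfl | rfl
  · have h' : (r : ℤ) ∣ pv c1 (q : ℤ) := h
    rw [pv_c1] at h'
    exact key (by decide) (od_dvd_of h' ⟨1, by ring⟩) (Or.inl rfl) (Or.inl rfl)
  · have h' : (r : ℤ) ∣ pv c2 (q : ℤ) := h
    rw [pv_c2] at h'
    refine key (by decide) (od_dvd_of h' ⟨q - 1, by ring⟩) (Or.inr (Or.inl ?_)) (Or.inr (Or.inr (by norm_num)))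
    exact not2 1 h5 (by rw [pow_one]; exact h')
  · have h' : (r : ℤ) ∣ pv c3 (q : ℤ) := h
    rw [pv_c3] at h'
    refine key (by decide) (od_dvd_of h' ⟨q - 1, by ring⟩) (Or.inr (Or.inr (by norm_num))) (Or.inr (Or.inl ?_))
    exact not3 1 h5 (by rw [pow_one]; exact h')
  · have h' : (r : ℤ) ∣ pv c4 (q : ℤ) := h
    rw [pv_c4] at h'
    refine key (by decide) (od_dvd_of h' ⟨(q : ℤ) ^ 2 - 1, by ring⟩) (Or.inr (Or.inl ?_)) (Or.inr (Or.inr (by norm_num)))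
    exact not2 2 h5 h'
  · have h' : (r : ℤ) ∣ pv c6 (q : ℤ) := h
    rw [pv_c6] at h'
    refine key (by decide) (od_dvd_of h' ⟨((q : ℤ) ^ 3 - 1) * (q + 1), by ring⟩) (Or.inr (Or.inl ?_))
      (Or.inr (Or.inl ?_))
    · exact not2 3 h5 (h'.trans ⟨(q : ℤ) + 1, by ring⟩)
    · exact not3 2 h5 (h'.trans ⟨(q : ℤ) ^ 2 + q + 1, by ring⟩)
  · have h' : (r : ℤ) ∣ pv c8 (q : ℤ) := h
    rw [pv_c8] at h'
    refine key (by decide) (od_dvd_of h' ⟨(q : ℤ) ^ 4 - 1, by ring⟩) (Or.inr (Or.inl ?_)) (Or.inr (Or.inr (by norm_num)))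
    exact not2 4 h5 h'
  · have h' : (r : ℤ) ∣ pv c10 (q : ℤ) := h
    rw [pv_c10] at h'
    refine key (by decide) (od_dvd_of h' ⟨((q : ℤ) ^ 5 - 1) * (q + 1), by ring⟩) (Or.inr (Or.inl ?_))
      (Or.inr (Or.inr (by norm_num)))
    exact not2 5 h5 (h'.trans ⟨(q : ℤ) + 1, by ring⟩)
  · have h' : (r : ℤ) ∣ pv c12 (q : ℤ) := h
    rw [pv_c12] at h'
    refine key (by decide) (od_dvd_of h' ⟨((q : ℤ) ^ 6 - 1) * (q ^ 2 + 1), by ring⟩) (Or.inr (Or.inl ?_))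
      (Or.inr (Or.inl ?_))
    · exact not2 6 h5 (h'.trans ⟨(q : ℤ) ^ 2 + 1, by ring⟩)
    · exact not3 4 h5 (h'.trans ⟨(q : ℤ) ^ 4 + q ^ 2 + 1, by ring⟩)
  · have h' : (r : ℤ) ∣ pv c18 (q : ℤ) := h
    rw [pv_c18] at h'
    refine key (by decide) (od_dvd_of h' ⟨((q : ℤ) ^ 9 - 1) * (q ^ 3 + 1), by ring⟩) (Or.inr (Or.inl ?_))
      (Or.inr (Or.inl ?_))
    · exact not2 9 h5 (h'.trans ⟨(q : ℤ) ^ 3 + 1, by ring⟩)
    · exact not3 6 h5 (h'.trans ⟨(q : ℤ) ^ 6 + q ^ 3 + 1, by ring⟩)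

/-- the classes of the tori -/
def TT0 : List (List ℕ) := [[1, 2, 8], [1, 2, 10], [1, 2, 3, 4], [1, 2, 3, 6], [6, 12], [18]]

/-- one torus -/
theorem mem_tor {r q : ℕ} (hr : r.Prime) (h5 : 5 ≤ r) : ∀ L : List ℕ, (∀ a ∈ L, a ∈ [1, 2, 3, 4, 6, 8, 10, 12, 18]) →
    (10 ∈ L → 2 ∈ L) → (r : ℤ) ∣ (L.map fun a => CertTab.cyc a (q : ℤ)).prod → od q r ∈ L := by
  have hp := Nat.prime_iff_prime_int.1 hr
  have key : ∀ L : List ℕ, (∀ a ∈ L, a ∈ [1, 2, 3, 4, 6, 8, 10, 12, 18]) →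
      (r : ℤ) ∣ (L.map fun a => CertTab.cyc a (q : ℤ)).prod → ∃ a ∈ L, od q r = a ∨ a = 10 ∧ od q r = 2 := by
    intro L
    induction L with
    | nil =>
      intro _ h
      rw [List.map_nil, List.prod_nil] at h
      exact (no_dvd (l := 1) h5 (by exact_mod_cast h) (by norm_num) (by norm_num)).elim
    | cons a L ih =>
      intro h1 h2
      rw [List.map_cons, List.prod_cons] at h2
      rcases hp.dvd_or_dvd h2 with h3 | h3
      · exact ⟨a, List.mem_cons_self, od_eq h5 (h1 a List.mem_cons_self) h3⟩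
      · obtain ⟨b, hb, h4⟩ := ih (fun a ha => h1 a (List.mem_cons_of_mem _ ha)) h3
        exact ⟨b, List.mem_cons_of_mem _ hb, h4⟩
  intro L h1 h2 h3
  obtain ⟨a, ha, h4 | ⟨rfl, h4⟩⟩ := key L h1 h3
  · rw [h4]; exact ha
  · rw [h4]; exact h2 ha

theorem tor_of {r q m : ℕ} {P : ℕ} (hr : r.Prime) (h5 : 5 ≤ r) (hm : m ∣ P) (hd : r ∣ m) (L : List ℕ)
    (h1 : ∀ a ∈ L, a ∈ [1, 2, 3, 4, 6, 8, 10, 12, 18]) (h2 : 10 ∈ L → 2 ∈ L)
    (e : (P : ℤ) = (L.map fun a => CertTab.cyc a (q : ℤ)).prod) : od q r ∈ L := by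
  refine mem_tor hr h5 L h1 h2 ?_
  rw [← e]
  exact Int.natCast_dvd_natCast.2 (hd.trans hm)

theorem cycs (q : ℤ) : CertTab.cyc 1 q = q - 1 ∧ CertTab.cyc 2 q = q + 1 ∧ CertTab.cyc 3 q = q ^ 2 + q + 1 ∧
    CertTab.cyc 4 q = q ^ 2 + 1 ∧ CertTab.cyc 6 q = q ^ 2 - q + 1 ∧ CertTab.cyc 8 q = q ^ 4 + 1 ∧
    CertTab.cyc 10 q = q ^ 4 - q ^ 3 + q ^ 2 - q + 1 ∧ CertTab.cyc 12 q = q ^ 4 - q ^ 2 + 1 ∧
    CertTab.cyc 18 q = q ^ 6 - q ^ 3 + 1 :=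
  ⟨pv_c1 q, pv_c2 q, pv_c3 q, pv_c4 q, pv_c6 q, pv_c8 q, pv_c10 q, pv_c12 q, pv_c18 q⟩

/-- the tori -/
theorem s0_mem {p q n b m : ℕ} (hq : 2 ≤ q) (h : Om p q n b m) :
    ∃ T ∈ TT0, ∀ r : ℕ, r.Prime → 5 ≤ r → r ∣ m → od q r ∈ T := by
  obtain ⟨e1, e2, e3, e4, e6, e8, e10, e12, e18⟩ := cycs (q : ℤ)
  have a1 : 1 ≤ q ^ 2 := Nat.one_le_pow _ _ (by omega)
  have a2 : 1 ≤ q ^ 4 := Nat.one_le_pow _ _ (by omega)
  have a3 : 1 ≤ q ^ 6 := Nat.one_le_pow _ _ (by omega)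
  have a4 : q ^ 2 ≤ q ^ 4 := Nat.pow_le_pow_right (by omega) (by norm_num)
  have a5 : q ≤ q ^ 2 := Nat.le_self_pow (by norm_num) q
  have a6 : q ^ 3 ≤ q ^ 6 := Nat.pow_le_pow_right (by omega) (by norm_num)
  have a7 : 1 ≤ q := by omega
  rcases h.s0 with h1 | h1 | h1 | h1 | h1 | h1
  · refine ⟨[1, 2, 8], by decide, fun r hr h5 hd => tor_of hr h5 h1 hd _ (by decide) (by decide) ?_⟩
    simp only [List.map_cons, List.map_nil, List.prod_cons, List.prod_nil, e1, e2, e8]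
    push_cast [Nat.cast_sub a1]
    ring
  · refine ⟨[1, 2, 10], by decide, fun r hr h5 hd => tor_of hr h5 h1 hd _ (by decide) (by decide) ?_⟩
    simp only [List.map_cons, List.map_nil, List.prod_cons, List.prod_nil, e1, e2, e10]
    push_cast [Nat.cast_sub a7]
    ring
  · refine ⟨[1, 2, 3, 4], by decide, fun r hr h5 hd => tor_of hr h5 h1 hd _ (by decide) (by decide) ?_⟩
    simp only [List.map_cons, List.map_nil, List.prod_cons, List.prod_nil, e1, e2, e3, e4]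
    push_cast [Nat.cast_sub a2]
    ring
  · refine ⟨[1, 2, 3, 6], by decide, fun r hr h5 hd => tor_of hr h5 h1 hd _ (by decide) (by decide) ?_⟩
    simp only [List.map_cons, List.map_nil, List.prod_cons, List.prod_nil, e1, e2, e3, e6]
    push_cast [Nat.cast_sub a3]
    ring
  · refine ⟨[6, 12], by decide, fun r hr h5 hd => tor_of hr h5 h1 hd _ (by decide) (by decide) ?_⟩
    simp only [List.map_cons, List.map_nil, List.prod_cons, List.prod_nil, e6, e12]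
    push_cast [Nat.cast_sub a4, Nat.cast_sub a5]
    ring
  · refine ⟨[18], by decide, fun r hr h5 hd => tor_of hr h5 h1 hd _ (by decide) (by decide) ?_⟩
    simp only [List.map_cons, List.map_nil, List.prod_cons, List.prod_nil, e18]
    push_cast [Nat.cast_sub a6]
    ring

/-- the tori of the centralisers of unipotent elements -/
theorem s1_mem {p q n b m : ℕ} (hq : 2 ≤ q) (h : Om p q n b m) (hb : b ≠ 0) {r : ℕ} (hr : r.Prime) (h5 : 5 ≤ r)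
    (hd : r ∣ m) : od q r ∈ [1, 2, 3, 4, 6, 10] := by
  obtain ⟨e1, e2, e3, e4, e6, e8, e10, e12, e18⟩ := cycs (q : ℤ)
  have a0 : 1 ≤ q ^ 3 := Nat.one_le_pow _ _ (by omega)
  have a2 : 1 ≤ q ^ 4 := Nat.one_le_pow _ _ (by omega)
  have a5 : q ≤ q ^ 2 := Nat.le_self_pow (by norm_num) q
  have a7 : 1 ≤ q := by omega
  have key : ∀ {L : List ℕ}, od q r ∈ L → (∀ a ∈ L, a ∈ [1, 2, 3, 4, 6, 10]) → od q r ∈ [1, 2, 3, 4, 6, 10] :=
    fun h1 h2 => h2 _ h1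
  rcases h.s1 hb with h1 | h1 | h1 | h1 | h1
  · refine key (tor_of hr h5 h1 hd [1, 2, 6] (by decide) (by decide) ?_) (by decide)
    simp only [List.map_cons, List.map_nil, List.prod_cons, List.prod_nil, e1, e2, e6]
    push_cast [Nat.cast_sub a7]
    ring
  · refine key (tor_of hr h5 h1 hd [1, 2, 4] (by decide) (by decide) ?_) (by decide)
    simp only [List.map_cons, List.map_nil, List.prod_cons, List.prod_nil, e1, e2, e4]
    push_cast [Nat.cast_sub a2]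
    ring
  · refine key (tor_of hr h5 h1 hd [2, 10] (by decide) (by decide) ?_) (by decide)
    simp only [List.map_cons, List.map_nil, List.prod_cons, List.prod_nil, e2, e10]
    push_cast
    ring
  · refine key (tor_of hr h5 h1 hd [1, 3, 6] (by decide) (by decide) ?_) (by decide)
    simp only [List.map_cons, List.map_nil, List.prod_cons, List.prod_nil, e1, e3, e6]
    push_cast [Nat.cast_sub a0, Nat.cast_sub a5]
    ring
  · refine key (tor_of hr h5 h1 hd [1, 2, 3] (by decide) (by decide) ?_) (by decide)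
    simp only [List.map_cons, List.map_nil, List.prod_cons, List.prod_nil, e1, e2, e3]
    push_cast [Nat.cast_sub a0]
    ring

/-! ### the facts for the group -/

/-- the adjacent classes -/
def LT : List (ℕ × ℕ) := [(1, 1), (2, 2), (3, 3), (4, 4), (6, 6), (8, 8), (10, 10), (12, 12), (18, 18),
  (1, 2), (1, 3), (1, 4), (1, 6), (1, 8), (1, 10), (2, 3), (2, 4), (2, 6), (2, 8), (2, 10), (3, 4), (3, 6), (6, 12)]

section

variable {K : Type u} [Field K] [Fintype K] {q : ℕ} (hq : IsPrimePow q) (hK : Fintype.card K = q ^ 2)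

include hq hK

/-- **adjacent classes** -/
theorem relT {r s : ℕ} (hr : r.Prime) (hs : s.Prime) (hr3 : r ≠ 3) (hs3 : s ≠ 3) {a b : ℕ} (h : (a, b) ∈ LT)
    (h1 : (r : ℤ) ∣ CertTab.cyc a (q : ℤ)) (h2 : (s : ℤ) ∣ CertTab.cyc b (q : ℤ)) : Pr ↥(twistedE6 K q) r s := by
  have g1 := H493.PGE6T.natCard_ne_of hq hK hr hr3
  have g2 := H493.PGE6T.natCard_ne_of hq hK hs hs3
  simp only [LT, List.mem_cons, Prod.mk.injEq, List.not_mem_nil, or_false] at h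
  rcases h with ⟨rfl, rfl⟩ | ⟨rfl, rfl⟩ | ⟨rfl, rfl⟩ | ⟨rfl, rfl⟩ | ⟨rfl, rfl⟩ | ⟨rfl, rfl⟩ | ⟨rfl, rfl⟩ | ⟨rfl, rfl⟩ |
    ⟨rfl, rfl⟩ | ⟨rfl, rfl⟩ | ⟨rfl, rfl⟩ | ⟨rfl, rfl⟩ | ⟨rfl, rfl⟩ | ⟨rfl, rfl⟩ | ⟨rfl, rfl⟩ | ⟨rfl, rfl⟩ | ⟨rfl, rfl⟩ |
    ⟨rfl, rfl⟩ | ⟨rfl, rfl⟩ | ⟨rfl, rfl⟩ | ⟨rfl, rfl⟩ | ⟨rfl, rfl⟩ | ⟨rfl, rfl⟩
  · exact pairE_gen hq hK CertTE6.chainI_ok CertTE6.hThI CertTE6.eigI_1 (by decide) CertTE6.eigI_1 (by decide) hr hs g1 g2 h1 h2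
  · exact pairE_gen hq hK CertTE6.chainI_ok CertTE6.hThI CertTE6.eigI_2 (by decide) CertTE6.eigI_2 (by decide) hr hs g1 g2 h1 h2
  · exact pairE_gen hq hK CertTE6.chainI_ok CertTE6.hThI CertTE6.eigI_3 (by decide) CertTE6.eigI_3 (by decide) hr hs g1 g2 h1 h2
  · exact pairE_gen hq hK CertTE6.chainI_ok CertTE6.hThI CertTE6.eigI_4 (by decide) CertTE6.eigI_4 (by decide) hr hs g1 g2 h1 h2
  · exact pairE_gen hq hK CertTE6.chainH_ok CertTE6.hThH CertTE6.eigH_6 (by decide) CertTE6.eigH_6 (by decide) hr hs g1 g2 h1 h2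
  · exact pairE_gen hq hK H493.PGE6T.chainE_ok H493.PGE6T.hThE H493.PGE6T.eigE_8 (by decide) H493.PGE6T.eigE_8 (by decide) hr hs g1 g2 h1 h2
  · exact pairE_gen hq hK H493.PGE6T.chainD_ok H493.PGE6T.hThD H493.PGE6T.eigD_10 (by decide) H493.PGE6T.eigD_10 (by decide) hr hs g1 g2 h1 h2
  · exact pairE_gen hq hK H493.PGE6T.chainF_ok H493.PGE6T.hThF H493.PGE6T.eigF_12 (by decide) H493.PGE6T.eigF_12 (by decide) hr hs g1 g2 h1 h2
  · exact pairE_gen hq hK H493.PGE6T.chainG_ok H493.PGE6T.hThG H493.PGE6T.eigG_18 (by decide) H493.PGE6T.eigG_18 (by decide) hr hs g1 g2 h1 h2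
  · exact pairE_gen hq hK CertTE6.chainI_ok CertTE6.hThI CertTE6.eigI_1 (by decide) CertTE6.eigI_2 (by decide) hr hs g1 g2 h1 h2
  · exact pairE_gen hq hK CertTE6.chainI_ok CertTE6.hThI CertTE6.eigI_1 (by decide) CertTE6.eigI_3 (by decide) hr hs g1 g2 h1 h2
  · exact pairE_gen hq hK CertTE6.chainI_ok CertTE6.hThI CertTE6.eigI_1 (by decide) CertTE6.eigI_4 (by decide) hr hs g1 g2 h1 h2
  · exact pairE_gen hq hK CertTE6.chainH_ok CertTE6.hThH CertTE6.eigH_1 (by decide) CertTE6.eigH_6 (by decide) hr hs g1 g2 h1 h2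
  · exact pairE_gen hq hK H493.PGE6T.chainE_ok H493.PGE6T.hThE H493.PGE6T.eigE_1 (by decide) H493.PGE6T.eigE_8 (by decide) hr hs g1 g2 h1 h2
  · exact pairE_gen hq hK H493.PGE6T.chainD_ok H493.PGE6T.hThD CertTE6.eigD_1 (by decide) H493.PGE6T.eigD_10 (by decide) hr hs g1 g2 h1 h2
  · exact pairE_gen hq hK CertTE6.chainI_ok CertTE6.hThI CertTE6.eigI_2 (by decide) CertTE6.eigI_3 (by decide) hr hs g1 g2 h1 h2
  · exact pairE_gen hq hK CertTE6.chainI_ok CertTE6.hThI CertTE6.eigI_2 (by decide) CertTE6.eigI_4 (by decide) hr hs g1 g2 h1 h2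
  · exact pairE_gen hq hK CertTE6.chainH_ok CertTE6.hThH CertTE6.eigH_2 (by decide) CertTE6.eigH_6 (by decide) hr hs g1 g2 h1 h2
  · exact pairE_gen hq hK H493.PGE6T.chainE_ok H493.PGE6T.hThE H493.PGE6T.eigE_2 (by decide) H493.PGE6T.eigE_8 (by decide) hr hs g1 g2 h1 h2
  · exact pairE_gen hq hK H493.PGE6T.chainD_ok H493.PGE6T.hThD CertTE6.eigD_2 (by decide) H493.PGE6T.eigD_10 (by decide) hr hs g1 g2 h1 h2
  · exact pairE_gen hq hK CertTE6.chainI_ok CertTE6.hThI CertTE6.eigI_3 (by decide) CertTE6.eigI_4 (by decide) hr hs g1 g2 h1 h2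
  · exact pairE_gen hq hK CertTE6.chainH_ok CertTE6.hThH CertTE6.eigH_3 (by decide) CertTE6.eigH_6 (by decide) hr hs g1 g2 h1 h2
  · exact pairE_gen hq hK H493.PGE6T.chainF_ok H493.PGE6T.hThF H493.PGE6T.eigF_6 (by decide) H493.PGE6T.eigF_12 (by decide) hr hs g1 g2 h1 h2

/-- **classes adjacent to the characteristic** -/
theorem relpT {r p : ℕ} (hr : r.Prime) (hp : p.Prime) (hr3 : r ≠ 3) {a : ℕ} (h : a ∈ [1, 2, 3, 4, 6, 10])
    (h1 : (r : ℤ) ∣ CertTab.cyc a (q : ℤ)) (h2 : p ∣ q) : Pr ↥(twistedE6 K q) r p := by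
  have g1 := H493.PGE6T.natCard_ne_of hq hK hr hr3
  simp only [List.mem_cons, List.not_mem_nil, or_false] at h
  rcases h with rfl | rfl | rfl | rfl | rfl | rfl
  · exact pairE_p hq hK H493.PGE6T.chainA_ok H493.PGE6T.hThA H493.PGE6T.eigA_1 (by decide) (by decide)
      H493.PGE6T.fixA H493.PGE6T.vanA_1 hr hp g1 h1 h2
  · exact pairE_p hq hK H493.PGE6T.chainA_ok H493.PGE6T.hThA H493.PGE6T.eigA_2 (by decide) (by decide)
      H493.PGE6T.fixA H493.PGE6T.vanA_2 hr hp g1 h1 h2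
  · exact pairE_p hq hK H493.PGE6T.chainB_ok H493.PGE6T.hThB H493.PGE6T.eigB_3 (by decide) (by decide)
      H493.PGE6T.fixB H493.PGE6T.vanB_3 hr hp g1 h1 h2
  · exact pairE_p hq hK H493.PGE6T.chainC_ok H493.PGE6T.hThC H493.PGE6T.eigC_4 (by decide) (by decide)
      H493.PGE6T.fixC H493.PGE6T.vanC_4 hr hp g1 h1 h2
  · exact pairE_p hq hK H493.PGE6T.chainB_ok H493.PGE6T.hThB H493.PGE6T.eigB_6 (by decide) (by decide)
      H493.PGE6T.fixB H493.PGE6T.vanB_6 hr hp g1 h1 h2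
  · exact pairE_p hq hK H493.PGE6T.chainD_ok H493.PGE6T.hThD H493.PGE6T.eigD_10 (by decide) (by decide)
      H493.PGE6T.fixD H493.PGE6T.vanD_10 hr hp g1 h1 h2

/-- the classes -/
theorem cl_TE6 {r : ℕ} (hr : r.Prime) (h5 : 5 ≤ r) (hrq : ¬ r ∣ q) (hd : r ∣ Nat.card ↥(twistedE6 K q)) :
    od q r ∈ clTE6 := by
  have h1 : r ∣ q ^ 36 * (q ^ 2 - 1) * (q ^ 5 + 1) * (q ^ 6 - 1) * (q ^ 8 - 1) * (q ^ 9 + 1) * (q ^ 12 - 1) := by
    rw [← Cfsg.Agent.S1066.result hq hK]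
    exact hd.mul_left _
  have key : ∀ {a : ℕ}, a ∈ clTE6 → (r : ℤ) ∣ CertTab.cyc a (q : ℤ) → od q r ∈ clTE6 := by
    intro a ha h
    rcases od_eq h5 ha h with h2 | ⟨-, h2⟩
    · rw [h2]; exact ha
    · rw [h2]; decide
  rcases H493.PGE6T.cover hq.two_le hr h1 with (h | h | h | h | h | h | h) | h | h | h
  · exact absurd h hrq
  · exact key (a := 1) (by decide) h
  · exact key (a := 2) (by decide) h
  · exact key (a := 3) (by decide) h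
  · exact key (a := 4) (by decide) h
  · exact key (a := 6) (by decide) h
  · exact key (a := 10) (by decide) h
  · exact key (a := 8) (by decide) h
  · exact key (a := 12) (by decide) h
  · exact key (a := 18) (by decide) h

end

theorem order_mul {G : Type*} [Group G] {r s : ℕ} (hr : r.Prime) (hs : s.Prime) (hrs : r ≠ s) (h : Pr G r s) :
    ∃ g : G, orderOf g = r * s := by
  obtain ⟨x, y, hx, hy, hc⟩ := h
  refine ⟨x * y, ?_⟩
  rw [hc.orderOf_mul_eq_mul_orderOf_of_coprime (by rw [hx, hy]; exact (Nat.coprime_primes hr hs).2 hrs), hx, hy]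

theorem adj_mask : ∀ a ∈ clTE6, ∀ b ∈ clTE6, (tabTE6.adj.getD (clTE6.idxOf a) 0).testBit (clTE6.idxOf b) = true →
    (a, b) ∈ LT ∨ (b, a) ∈ LT := by decide +kernel

theorem na_mask : ∀ a ∈ clTE6, ∀ b ∈ clTE6, (tabTE6.na.getD (clTE6.idxOf a) 0).testBit (clTE6.idxOf b) = true →
    ∀ T ∈ TT0, ¬ (a ∈ T ∧ b ∈ T) := by decide +kernel

theorem tt_mask : ∀ a ∈ clTE6, tabTE6.tt.testBit (clTE6.idxOf a) = true → a ∉ [1, 2, 3, 4, 6, 10] := by decide +kernel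

theorem nt_mask : ∀ a ∈ clTE6, tabTE6.nt.testBit (clTE6.idxOf a) = true → a ∈ [1, 2, 3, 4, 6, 10] := by decide +kernel

end Cfsg.Agent.R2.Spec.EE.SokTE6

namespace Cfsg.Agent.R2.Spec.EE

open Cfsg Cfsg.Lie Cfsg.Agent Cfsg.Agent.H426.LieFam
open Cfsg.Agent.R2.Spec.EE.SokB Cfsg.Agent.R2.Spec.EE.SokTE6
open Cfsg.Agent.H378.ExcAdj (od od_dvd)

universe u

/-- **The table of `²E₆(q)`.** -/
theorem sok_te6 {S : Type u} [Group S] [Finite S] {v f : ℕ} (hv : v.Prime) (h : Fam.Is v f S .te6) :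
    SOk tabTE6 S v (kcl clTE6 (v ^ f)) := by
  obtain ⟨K, _, _, _, hK, ⟨e⟩⟩ := h
  have hF : Fact v.Prime := ⟨hv⟩
  have hf : f ≠ 0 := by
    rintro rfl
    rw [pow_zero, one_pow] at hK
    exact absurd hK Fintype.one_lt_card.ne'
  have hq : IsPrimePow (v ^ f) := hv.isPrimePow.pow hf
  have hvq : v ∣ v ^ f := dvd_pow_self v hf
  have hcard : Nat.card S = Nat.card ↥(Lie.twistedE6 K (v ^ f)) := Nat.card_congr e.toEquiv
  have hnq : ∀ {r : ℕ}, r.Prime → r ≠ v → ¬ r ∣ v ^ f := by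
    intro r hr hrv h1
    exact hrv ((Nat.prime_dvd_prime_iff_eq hr hv).1 (hr.dvd_of_dvd_pow h1))
  have hcl : ∀ {r : ℕ}, r.Prime → 5 ≤ r → r ≠ v → r ∣ Nat.card S → od (v ^ f) r ∈ clTE6 := by
    intro r hr h5 hrv h1
    rw [hcard] at h1
    exact cl_TE6 hq hK hr h5 (hnq hr hrv) h1
  have hk : ∀ r : ℕ, kcl clTE6 (v ^ f) r = clTE6.idxOf (od (v ^ f) r) := fun r => rfl
  have htr : ∀ {n : ℕ}, (∃ g : ↥(Lie.twistedE6 K (v ^ f)), orderOf g = n) → ∃ g : S, orderOf g = n := by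
    rintro n ⟨g, hg⟩
    exact ⟨e.symm g, by rw [MulEquiv.orderOf_eq, hg]⟩
  have hsub : ∀ a ∈ clTE6, a ∈ [1, 2, 3, 4, 5, 6, 7, 8, 9, 10, 12, 14, 18] := by decide
  have hcyc : ∀ {r : ℕ}, r.Prime → od (v ^ f) r ∈ clTE6 →
      (r : ℤ) ∣ CertTab.cyc (od (v ^ f) r) ((v ^ f : ℕ) : ℤ) := by
    intro r hr h1
    exact cyc_of_od hr (hsub _ h1) rfl
  have hOm : ∀ g : S, ∃ b m : ℕ, H378.OmTE6.Om v (v ^ f) (orderOf g) b m := by
    intro g
    have h1 := H378.OmTE6.om_2E6 (p := v) hq (by rw [Nat.card_eq_fintype_card, hK]) (e g)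
    rw [MulEquiv.orderOf_eq] at h1
    exact h1
  refine ⟨fun r hr h5 hrv hd => ?_, fun r s hr hs h5 h5' hrv hsv hrs hd hd' hb => ?_,
    fun r s hr hs h5 h5' hrv hsv hrs hd hd' hb => ?_, fun r hr h5 hrv hd hb => ?_, fun r hr h5 hrv hd hb => ?_⟩
  · exact List.idxOf_lt_length_of_mem (hcl hr h5 hrv hd)
  · rw [hk, hk] at hb
    have c1 := hcl hr h5 hrv hd
    have c2 := hcl hs h5' hsv hd'
    refine htr ?_
    rcases adj_mask _ c1 _ c2 hb with h3 | h3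
    · exact order_mul hr hs hrs (relT hq hK hr hs (by omega) (by omega) h3 (hcyc hr c1) (hcyc hs c2))
    · exact order_mul hr hs hrs (relT hq hK hs hr (by omega) (by omega) h3 (hcyc hs c2) (hcyc hr c1)).symm
  · rw [hk, hk] at hb
    rintro ⟨g, hg⟩
    obtain ⟨b, m, hO⟩ := hOm g
    obtain ⟨T, hT, h3⟩ := s0_mem hq.two_le hO
    have hm : ∀ {r : ℕ}, r.Prime → r ≠ v → r ∣ orderOf g → r ∣ m := by
      intro r hr hrv h1
      rw [hO.eq] at h1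
      rcases (hr.dvd_mul).1 h1 with h2 | h2
      · exact absurd ((Nat.prime_dvd_prime_iff_eq hr hv).1 (hr.dvd_of_dvd_pow h2)) hrv
      · exact h2
    exact na_mask _ (hcl hr h5 hrv hd) _ (hcl hs h5' hsv hd') hb T hT
      ⟨h3 r hr h5 (hm hr hrv (by rw [hg]; exact dvd_mul_right r s)),
        h3 s hs h5' (hm hs hsv (by rw [hg]; exact dvd_mul_left s r))⟩
  · rw [hk] at hb
    rintro ⟨g, hg⟩
    obtain ⟨b, m, hO⟩ := hOm g
    have hm : r ∣ m := by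
      have h1 : r ∣ orderOf g := by rw [hg]; exact dvd_mul_right r v
      rw [hO.eq] at h1
      rcases (hr.dvd_mul).1 h1 with h2 | h2
      · exact absurd ((Nat.prime_dvd_prime_iff_eq hr hv).1 (hr.dvd_of_dvd_pow h2)) hrv
      · exact h2
    have hb0 : b ≠ 0 := by
      rintro rfl
      apply hO.nd
      have h1 := hO.eq
      rw [pow_zero, one_mul, hg] at h1
      rw [← h1]
      exact dvd_mul_left v r
    exact tt_mask _ (hcl hr h5 hrv hd) hb (s1_mem hq.two_le hO hb0 hr h5 hm)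
  · rw [hk] at hb
    have c1 := hcl hr h5 hrv hd
    have h3 := nt_mask _ c1 hb
    exact htr (order_mul hr hv hrv (relpT hq hK hr hv (by omega) h3 (hcyc hr c1) hvq))

end Cfsg.Agent.R2.Spec.EE
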