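import Cfsg.Agent.R2.Spec.EE.SokRee
import Cfsg.Agent.R2.Spec.EE.TF4Tor
import Cfsg.Agent.H168.TwF4Cover
import Cfsg.Agent.H378.TwRowsF
import Cfsg.Agent.S2369

/-!
# The table of the groups `²F₄(u)` (helper20)
-/

set_option autoImplicit false
set_option linter.unusedSectionVars false
set_option linter.unusedVariables false

namespace Cfsg.Agent.R2.Spec.EE

open Cfsg Cfsg.Agent.H426.LieFam Cfsg.Agent.H493.PGF4T

universe u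

/-- the numbers of the groups `²F₄(2 b²)` -/
def NTF (b : ℤ) : ℕ → ℤ
  | 0 => 2 * b ^ 2 - 1
  | 1 => 2 * b ^ 2 + 1
  | 2 => 4 * b ^ 4 + 1
  | 3 => 4 * b ^ 4 - 2 * b ^ 2 + 1
  | 4 => 4 * b ^ 4 + 4 * b ^ 3 + 2 * b ^ 2 + 2 * b + 1
  | _ => 4 * b ^ 4 - 4 * b ^ 3 + 2 * b ^ 2 - 2 * b + 1

theorem NTF_uniq {b : ℤ} {r : ℕ} (hr : r.Prime) (h5 : 5 ≤ r) {i j : ℕ} (hi : i < 6) (hj : j < 6)
    (h1 : (r : ℤ) ∣ NTF b i) (h2 : (r : ℤ) ∣ NTF b j) : i = j := by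
  have n1 : ¬ (r : ℤ) ∣ 1 := not_dvd_small hr h5 (by norm_num) (by norm_num)
  have n2 : ¬ (r : ℤ) ∣ 2 := not_dvd_small hr h5 (by norm_num) (by norm_num)
  have n3 : ¬ (r : ℤ) ∣ 3 := not_dvd_small hr h5 (by norm_num) (by norm_num)
  have cmb : ∀ {x y z : ℤ} (s t : ℤ), (r : ℤ) ∣ x → (r : ℤ) ∣ y → s * x + t * y = z → (r : ℤ) ∣ z := by
    intro x y z s t hx hy h
    rw [← h]
    exact dvd_add (hx.mul_left _) (hy.mul_left _)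
  have key : ∀ i j : ℕ, i < j → j < 6 → (r : ℤ) ∣ NTF b i → (r : ℤ) ∣ NTF b j → False := by
    intro i j hij hj h1 h2
    have hi : i < 6 := by omega
    interval_cases i <;> interval_cases j <;> first | omega | skip <;> simp only [NTF] at h1 h2
    · exact n2 (cmb (-1) 1 h1 h2 (by ring))
    · exact n2 (cmb (-(2 * b ^ 2 + 1)) 1 h1 h2 (by ring))
    · exact n1 (cmb (-(2 * b ^ 2)) 1 h1 h2 (by ring))
    · exact n1 (cmb (-(4 * b ^ 4 * (2 * b ^ 2 + 1))) (4 * b ^ 4 - 4 * b ^ 3 + 2 * b ^ 2 - 2 * b + 1) h1 h2 (by ring))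
    · exact n1 (cmb (-(4 * b ^ 4 * (2 * b ^ 2 + 1))) (4 * b ^ 4 + 4 * b ^ 3 + 2 * b ^ 2 + 2 * b + 1) h1 h2 (by ring))
    · exact n2 (cmb (-(2 * b ^ 2 - 1)) 1 h1 h2 (by ring))
    · exact n3 (cmb (-(2 * b ^ 2 - 2)) 1 h1 h2 (by ring))
    · exact n1 (cmb (-(2 * b ^ 2 + 2 * b)) 1 h1 h2 (by ring))
    · exact n1 (cmb (-(2 * b ^ 2 - 2 * b)) 1 h1 h2 (by ring))
    · exact n1 (cmb (1 - 2 * b ^ 2) (2 * b ^ 2) h1 h2 (by ring))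
    · exact n3 (cmb (-(4 * b ^ 4 - 2)) (4 * b ^ 4 - 4 * b ^ 3 + 2 * b ^ 2 - 2 * b + 1) h1 h2 (by ring))
    · exact n3 (cmb (-(4 * b ^ 4 - 2)) (4 * b ^ 4 + 4 * b ^ 3 + 2 * b ^ 2 + 2 * b + 1) h1 h2 (by ring))
    · exact n2 (cmb (2 - 2 * b ^ 2 * (4 * b ^ 4 + 2 * b ^ 2 - 1)) (2 * b ^ 2 * (4 * b ^ 4 - 4 * b ^ 3 + 2 * b ^ 2 - 2 * b + 1))
        h1 h2 (by ring))
    · exact n2 (cmb (2 - 2 * b ^ 2 * (4 * b ^ 4 + 2 * b ^ 2 - 1)) (2 * b ^ 2 * (4 * b ^ 4 + 4 * b ^ 3 + 2 * b ^ 2 + 2 * b + 1))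
        h1 h2 (by ring))
    · exact n2 (cmb (2 - (b + 1)) (b + 1) h1 h2 (by ring))
  rcases Nat.lt_trichotomy i j with h | h | h
  · exact (key i j h hj h1 h2).elim
  · exact h
  · exact (key j i h hi h2 h1).elim

/-- the classes on a torus -/
def TFs : List (List ℕ) := [[0, 1], [0, 2], [5], [4], [3]]

theorem TFv_two {b : ℤ} {r s : ℕ} (hr : r.Prime) (hs : s.Prime) (h : TFv b ((r * s : ℕ) : ℤ)) :
    ∃ l ∈ TFs, (∃ a ∈ l, (r : ℤ) ∣ NTF b a) ∧ ∃ c ∈ l, (s : ℤ) ∣ NTF b c := by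
  have hr' := Nat.prime_iff_prime_int.1 hr
  have hs' := Nat.prime_iff_prime_int.1 hs
  have two : ∀ {p : ℤ}, ((r * s : ℕ) : ℤ) ∣ p → (r : ℤ) ∣ p ∧ (s : ℤ) ∣ p := by
    intro p hp
    push_cast at hp
    exact ⟨(dvd_mul_right _ _).trans hp, (dvd_mul_left _ _).trans hp⟩
  have one : ∀ {y : ℤ}, Prime y → (y ∣ 2 * b ^ 2 - 2 * b + 1 ∨ y ∣ 2 * b ^ 2 + 2 * b + 1) → y ∣ NTF b 2 := by
    intro y _ hy
    simp only [NTF]
    rw [show 4 * b ^ 4 + 1 = (2 * b ^ 2 - 2 * b + 1) * (2 * b ^ 2 + 2 * b + 1) by ring]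
    rcases hy with hy | hy
    · exact hy.mul_right _
    · exact hy.mul_left _
  unfold TFv at h
  rcases h with h | h | h | h | h | h | h | h | h | h | h <;> obtain ⟨h1, h2⟩ := two h
  · refine ⟨[0, 1], by simp [TFs], ?_, ?_⟩
    · rcases hr'.dvd_or_dvd h1 with h | h
      · exact ⟨0, by simp, h⟩
      · exact ⟨1, by simp, h⟩
    · rcases hs'.dvd_or_dvd h2 with h | h
      · exact ⟨0, by simp, h⟩
      · exact ⟨1, by simp, h⟩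
  · refine ⟨[0, 2], by simp [TFs], ?_, ?_⟩
    · rcases hr'.dvd_or_dvd h1 with h | h
      · exact ⟨0, by simp, h⟩
      · exact ⟨2, by simp, one hr' (Or.inl h)⟩
    · rcases hs'.dvd_or_dvd h2 with h | h
      · exact ⟨0, by simp, h⟩
      · exact ⟨2, by simp, one hs' (Or.inl h)⟩
  · refine ⟨[0, 2], by simp [TFs], ?_, ?_⟩
    · rcases hr'.dvd_or_dvd h1 with h | h
      · exact ⟨0, by simp, h⟩
      · exact ⟨2, by simp, one hr' (Or.inr h)⟩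
    · rcases hs'.dvd_or_dvd h2 with h | h
      · exact ⟨0, by simp, h⟩
      · exact ⟨2, by simp, one hs' (Or.inr h)⟩
  · exact ⟨[5], by simp [TFs], ⟨5, by simp, h1⟩, 5, by simp, h2⟩
  · exact ⟨[4], by simp [TFs], ⟨4, by simp, h1⟩, 4, by simp, h2⟩
  · exact ⟨[0, 1], by simp [TFs], ⟨0, by simp, hr'.dvd_of_dvd_pow h1⟩, 0, by simp, hs'.dvd_of_dvd_pow h2⟩
  · refine ⟨[0, 2], by simp [TFs], ⟨2, by simp, one hr' (hr'.dvd_or_dvd h1).symm⟩,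
      ⟨2, by simp, one hs' (hs'.dvd_or_dvd h2).symm⟩⟩
  · exact ⟨[0, 1], by simp [TFs], ⟨1, by simp, hr'.dvd_of_dvd_pow h1⟩, 1, by simp, hs'.dvd_of_dvd_pow h2⟩
  · exact ⟨[0, 2], by simp [TFs], ⟨2, by simp, one hr' (Or.inl (hr'.dvd_of_dvd_pow h1))⟩,
      2, by simp, one hs' (Or.inl (hs'.dvd_of_dvd_pow h2))⟩
  · exact ⟨[0, 2], by simp [TFs], ⟨2, by simp, one hr' (Or.inr (hr'.dvd_of_dvd_pow h1))⟩,
      2, by simp, one hs' (Or.inr (hs'.dvd_of_dvd_pow h2))⟩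
  · exact ⟨[3], by simp [TFs], ⟨3, by simp, h1⟩, 3, by simp, h2⟩

section

variable {K : Type u} [Field K] [Fintype K] {m : ℕ}

theorem two_pow_f (m : ℕ) : ((2 : ℤ) ^ (2 * m + 1)) = 2 * (2 ^ m) ^ 2 := by rw [← pow_mul]; ring

theorem tf4_cov (hK : Fintype.card K = 2 ^ (2 * m + 1)) {r : ℕ} (hr : r.Prime) (h5 : 5 ≤ r)
    (hd : r ∣ Nat.card ↥(Lie.twistedF4 K (2 ^ m))) : ∃ i < 6, (r : ℤ) ∣ NTF (2 ^ m) i := by
  have two : (r : ℤ) ∣ fp (2 ^ m) ∨ (r : ℤ) ∣ fm (2 ^ m) → (r : ℤ) ∣ NTF (2 ^ m) 2 := by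
    intro h
    simp only [NTF]
    rw [show (4 : ℤ) * (2 ^ m) ^ 4 + 1 = (2 * (2 ^ m) ^ 2 + 2 * 2 ^ m + 1) * (2 * (2 ^ m) ^ 2 - 2 * 2 ^ m + 1) by ring]
    rcases h with h | h
    · exact h.mul_right _
    · exact h.mul_left _
  rw [Cfsg.Agent.S1068.result hK] at hd
  rcases cover hr hd with (h | h | h | h | h | h) | h | h
  · omega
  · exact ⟨0, by norm_num, h⟩
  · exact ⟨1, by norm_num, h⟩
  · exact ⟨2, by norm_num, two (Or.inl h)⟩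
  · exact ⟨2, by norm_num, two (Or.inr h)⟩
  · exact ⟨3, by norm_num, h⟩
  · exact ⟨4, by norm_num, h⟩
  · exact ⟨5, by norm_num, h⟩

/-- elements of order `r s` -/
theorem tf4_adj (hK : Fintype.card K = 2 ^ (2 * m + 1)) {r s : ℕ} (hr : r.Prime) (hs : s.Prime) (hrs : r ≠ s) {i j : ℕ}
    (hij : (i = 0 ∧ j = 0) ∨ (i = 0 ∧ j = 1) ∨ (i = 0 ∧ j = 2) ∨ (i = 1 ∧ j = 1) ∨ (i = 2 ∧ j = 2) ∨ (i = 3 ∧ j = 3) ∨
      (i = 4 ∧ j = 4) ∨ (i = 5 ∧ j = 5)) (h1 : (r : ℤ) ∣ NTF (2 ^ m) i) (h2 : (s : ℤ) ∣ NTF (2 ^ m) j) :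
    ∃ x : ↥(Lie.twistedF4 K (2 ^ m)), orderOf x = r * s := by
  have hC := H168.TwF4Cover.clique_2F4 K hK
  have two : ∀ {y : ℕ}, y.Prime → (y : ℤ) ∣ NTF (2 ^ m) 2 → (y : ℤ) ∣ fp (2 ^ m) ∨ (y : ℤ) ∣ fm (2 ^ m) := by
    intro y hy h
    simp only [NTF] at h
    rw [show (4 : ℤ) * (2 ^ m) ^ 4 + 1 = fp (2 ^ m) * fm (2 ^ m) by unfold fp fm; ring] at h
    exact (Nat.prime_iff_prime_int.1 hy).dvd_or_dvd h
  have go : ∀ C ∈ H168.TwF4Cover.KF m, C r → C s → ∃ x : ↥(Lie.twistedF4 K (2 ^ m)), orderOf x = r * s := by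
    intro C hCm hCr hCs
    obtain ⟨-, -, -, x, hx⟩ := hC C hCm r s hr hs hrs hCr hCs
    exact ⟨x, hx⟩
  have pw : (∃ x : ↥(Lie.twistedF4 K (2 ^ m)), s * r ∣ orderOf x) → ∃ x : ↥(Lie.twistedF4 K (2 ^ m)), orderOf x = r * s := by
    rintro ⟨x, hx⟩
    exact exists_mul_of_dvd hr hs hrs ((dvd_mul_left _ _).trans hx) ((dvd_mul_right _ _).trans hx)
  have m0 : H168.TwF4Cover.dF fP m ∈ H168.TwF4Cover.KF m := by simp [H168.TwF4Cover.KF]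
  have m1 : H168.TwF4Cover.dF fM m ∈ H168.TwF4Cover.KF m := by simp [H168.TwF4Cover.KF]
  have m2 : H168.TwF4Cover.dF f6 m ∈ H168.TwF4Cover.KF m := by simp [H168.TwF4Cover.KF]
  have m3 : (fun r => H168.TwF4Cover.dF f1 m r ∨ H168.TwF4Cover.dF f2 m r) ∈ H168.TwF4Cover.KF m := by
    simp [H168.TwF4Cover.KF]
  have m4 : (fun r => H168.TwF4Cover.dF fp m r ∨ H168.TwF4Cover.dF fm m r) ∈ H168.TwF4Cover.KF m := by
    simp [H168.TwF4Cover.KF]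
  rcases hij with ⟨rfl, rfl⟩ | ⟨rfl, rfl⟩ | ⟨rfl, rfl⟩ | ⟨rfl, rfl⟩ | ⟨rfl, rfl⟩ | ⟨rfl, rfl⟩ | ⟨rfl, rfl⟩ | ⟨rfl, rfl⟩
  · exact go _ m3 (Or.inl h1) (Or.inl h2)
  · exact go _ m3 (Or.inl h1) (Or.inr h2)
  · rcases two hs h2 with h | h
    · exact pw (H659.TwF4Adj.adj_fp hK hs hr (Ne.symm hrs) h h1)
    · exact pw (H659.TwF4Adj.adj_fm hK hs hr (Ne.symm hrs) h h1)
  · exact go _ m3 (Or.inr h1) (Or.inr h2)
  · exact go _ m4 (two hr h1) (two hs h2)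
  · exact go _ m2 h1 h2
  · exact go _ m0 h1 h2
  · exact go _ m1 h1 h2

/-- elements of order `2 r` -/
theorem tf4_two (hK : Fintype.card K = 2 ^ (2 * m + 1)) {r : ℕ} (hr : r.Prime) (hr2 : r ≠ 2) {i : ℕ} (hi : i < 3)
    (h1 : (r : ℤ) ∣ NTF (2 ^ m) i) : ∃ x : ↥(Lie.twistedF4 K (2 ^ m)), orderOf x = r * 2 := by
  have hcK := H378.TwRowsF.cast_card hK
  have to_nat : ∀ {n : ℕ} {z : ℤ}, (r : ℤ) ∣ z → z = (n : ℤ) → r ∣ n := fun h1 h2 =>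
    Int.natCast_dvd_natCast.1 (h2 ▸ h1)
  have h : H94.PG.Adj ↥(Lie.twistedF4 K (2 ^ m)) r 2 := by
    interval_cases i
    · exact H378.TwRowsF.adj_minus hK hr hr2 h1
    · refine H378.TwRowsF.adj_plus hK hr hr2 (to_nat h1 ?_)
      push_cast
      rw [hcK]
      simp only [NTF]
      ring
    · refine H378.TwRowsF.adj_sq hK hr hr2 (to_nat h1 ?_)
      push_cast
      rw [hcK]
      simp only [NTF]
      ring
  obtain ⟨-, -, -, x, y, hx, hy, hxy⟩ := h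
  refine ⟨x * y, ?_⟩
  rw [hxy.orderOf_mul_eq_mul_orderOf_of_coprime (by
    rw [hx, hy]
    exact (Nat.coprime_primes hr Nat.prime_two).2 hr2), hx, hy]

/-- no elements of order `2 r` -/
theorem tf4_no_two (hm : 1 ≤ m) (hK : Fintype.card K = 2 ^ (2 * m + 1)) {r : ℕ} (hr : r.Prime) (h5 : 5 ≤ r)
    {x : ↥(Lie.twistedF4 K (2 ^ m))} (hx : orderOf x = r * 2) : ∃ i < 3, (r : ℤ) ∣ NTF (2 ^ m) i := by
  have h1 : orderOf (x ^ r) = 2 := by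
    rw [orderOf_pow_of_dvd hr.ne_zero (by rw [hx]; exact dvd_mul_right _ _), hx, Nat.mul_div_cancel_left _ hr.pos]
  have h2 := S2369.result m hm hK (x ^ r) x h1 ((Commute.refl x).pow_left r)
  have h3 : r ∈ (orderOf x).primeFactors := by
    rw [Nat.mem_primeFactors]
    exact ⟨hr, by rw [hx]; exact dvd_mul_right _ _, by rw [hx]; exact Nat.mul_ne_zero hr.ne_zero (by norm_num)⟩
  have h4 := Nat.dvd_of_mem_primeFactors (h2 h3)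
  have hr' := Nat.prime_iff_prime_int.1 hr
  have hle : 1 ≤ (2 ^ (2 * m + 1)) ^ 4 := Nat.one_le_pow _ _ (by positivity)
  rw [← Int.natCast_dvd_natCast, Nat.cast_mul, Nat.cast_sub hle] at h4
  push_cast at h4
  have h2' : ¬ (r : ℤ) ∣ 2 := not_dvd_small hr h5 (by norm_num) (by norm_num)
  rw [two_pow_f, show (2 * ((2 : ℤ) ^ m) ^ 2) ^ 4 - 1 = (2 * (2 ^ m) ^ 2 - 1) * ((2 * (2 ^ m) ^ 2 + 1) *
    (4 * (2 ^ m) ^ 4 + 1)) by ring] at h4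
  rcases hr'.dvd_or_dvd h4 with h | h
  · exfalso
    rcases hr'.dvd_or_dvd h with h | h
    · exact h2' h
    · exact h2' (hr'.dvd_of_dvd_pow (hr'.dvd_of_dvd_pow h))
  · rcases hr'.dvd_or_dvd h with h | h
    · exact ⟨0, by norm_num, h⟩
    · rcases hr'.dvd_or_dvd h with h | h
      · exact ⟨1, by norm_num, h⟩
      · exact ⟨2, by norm_num, h⟩

end

/-- **the table of `²F₄(u)`** -/
theorem sok_tf4 {S : Type u} [Group S] [Finite S] {v f : ℕ} (hv : v.Prime) (h : Fam.Is v f S .tf4) :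
    SOk tabTF4 S v (kTF4 f) := by
  obtain ⟨rfl, m, hm, hf, K, _, _, hK, ⟨e⟩⟩ := h
  have e1 : (f + 1) / 2 = m + 1 := by omega
  have hone : 1 ≤ 2 ^ f := Nat.one_le_pow _ _ (by norm_num)
  have hle : 2 ^ f ≤ (2 ^ f) ^ 2 := Nat.le_self_pow (by norm_num) _
  have hu : ((2 : ℤ) ^ f) = 2 * (2 ^ m) ^ 2 := by rw [hf]; exact two_pow_f m
  have hw : ((2 : ℤ) ^ (m + 1)) = 2 * 2 ^ m := by ring
  have c0 : ∀ d : ℕ, d ∣ 2 ^ f - 1 ↔ (d : ℤ) ∣ NTF (2 ^ m) 0 := fun d => by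
    simp only [NTF]; rw [← Int.natCast_dvd_natCast, Nat.cast_sub hone]; push_cast; rw [hu]
  have c1 : ∀ d : ℕ, d ∣ 2 ^ f + 1 ↔ (d : ℤ) ∣ NTF (2 ^ m) 1 := fun d => by
    simp only [NTF]; rw [← Int.natCast_dvd_natCast]; push_cast; rw [hu]
  have c2 : ∀ d : ℕ, d ∣ (2 ^ f) ^ 2 + 1 ↔ (d : ℤ) ∣ NTF (2 ^ m) 2 := fun d => by
    simp only [NTF]; rw [← Int.natCast_dvd_natCast]; push_cast
    rw [hu, show (2 * ((2 : ℤ) ^ m) ^ 2) ^ 2 + 1 = 4 * (2 ^ m) ^ 4 + 1 by ring]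
  have c3 : ∀ d : ℕ, d ∣ (2 ^ f) ^ 2 - 2 ^ f + 1 ↔ (d : ℤ) ∣ NTF (2 ^ m) 3 := fun d => by
    simp only [NTF]; rw [← Int.natCast_dvd_natCast, Nat.cast_add, Nat.cast_sub hle]; push_cast
    rw [hu, show (2 * ((2 : ℤ) ^ m) ^ 2) ^ 2 - 2 * (2 ^ m) ^ 2 + 1 = 4 * (2 ^ m) ^ 4 - 2 * (2 ^ m) ^ 2 + 1 by ring]
  have c4 : ∀ d : ℕ, d ∣ (2 ^ f) ^ 2 + 2 ^ (m + 1) * 2 ^ f + 2 ^ f + 2 ^ (m + 1) + 1 ↔ (d : ℤ) ∣ NTF (2 ^ m) 4 := fun d => by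
    simp only [NTF]; rw [← Int.natCast_dvd_natCast]; push_cast
    rw [hu, hw, show (2 * ((2 : ℤ) ^ m) ^ 2) ^ 2 + 2 * 2 ^ m * (2 * (2 ^ m) ^ 2) + 2 * (2 ^ m) ^ 2 + 2 * 2 ^ m + 1 =
      4 * (2 ^ m) ^ 4 + 4 * (2 ^ m) ^ 3 + 2 * (2 ^ m) ^ 2 + 2 * 2 ^ m + 1 by ring]
  have ex : ∀ n : ℕ, (∃ g : S, orderOf g = n) ↔ ∃ x : ↥(Lie.twistedF4 K (2 ^ m)), orderOf x = n := fun n =>
    ⟨fun ⟨g, hg⟩ => ⟨e g, by rw [MulEquiv.orderOf_eq, hg]⟩, fun ⟨g, hg⟩ => ⟨e.symm g, by rw [MulEquiv.orderOf_eq, hg]⟩⟩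
  have hcard : Nat.card S = Nat.card ↥(Lie.twistedF4 K (2 ^ m)) := Nat.card_congr e.toEquiv
  have kk : ∀ r : ℕ, r.Prime → 5 ≤ r → r ∣ Nat.card S → (r : ℤ) ∣ NTF (2 ^ m) (kTF4 f r) ∧ kTF4 f r < 6 := by
    intro r hr h5 hd
    unfold kTF4
    rw [e1]
    split_ifs with a0 a1 a2 a3 a4
    · exact ⟨(c0 r).1 a0, by norm_num⟩
    · exact ⟨(c1 r).1 a1, by norm_num⟩
    · exact ⟨(c2 r).1 a2, by norm_num⟩
    · exact ⟨(c3 r).1 a3, by norm_num⟩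
    · exact ⟨(c4 r).1 a4, by norm_num⟩
    · rw [hcard] at hd
      obtain ⟨i, hi, h1⟩ := tf4_cov hK hr h5 hd
      have : i = 5 := by
        rcases (by omega : i = 0 ∨ i = 1 ∨ i = 2 ∨ i = 3 ∨ i = 4 ∨ i = 5) with rfl | rfl | rfl | rfl | rfl | rfl
        · exact absurd ((c0 r).2 h1) a0
        · exact absurd ((c1 r).2 h1) a1
        · exact absurd ((c2 r).2 h1) a2
        · exact absurd ((c3 r).2 h1) a3
        · exact absurd ((c4 r).2 h1) a4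
        · rfl
      subst this
      exact ⟨h1, by norm_num⟩
  have mk1 : ∀ a b : ℕ, a < 6 → b < 6 → (tabTF4.adj.getD a 0).testBit b = true →
      ((a = 0 ∧ b = 0) ∨ (a = 0 ∧ b = 1) ∨ (a = 0 ∧ b = 2) ∨ (a = 1 ∧ b = 1) ∨ (a = 2 ∧ b = 2) ∨ (a = 3 ∧ b = 3) ∨
      (a = 4 ∧ b = 4) ∨ (a = 5 ∧ b = 5)) ∨ (a = 1 ∧ b = 0) ∨ (a = 2 ∧ b = 0) := by
    intro a b ha hb
    interval_cases a <;> interval_cases b <;> decide
  have mk2 : ∀ l ∈ TFs, ∀ a ∈ l, ∀ b ∈ l, (tabTF4.na.getD a 0).testBit b = false := by decide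
  have mem6 : ∀ l ∈ TFs, ∀ a ∈ l, a < 6 := by decide
  refine ⟨fun r hr h5 hrv hd => (kk r hr h5 hd).2, ?_, ?_, ?_, ?_⟩
  · intro r s hr hs h5 h5' hrv hsv hrs hd hd' ht
    obtain ⟨a1, a2⟩ := kk r hr h5 hd
    obtain ⟨b1, b2⟩ := kk s hs h5' hd'
    rw [ex]
    rcases mk1 _ _ a2 b2 ht with h | h
    · exact tf4_adj hK hr hs hrs h a1 b1
    · rw [mul_comm]
      refine tf4_adj hK hs hr (Ne.symm hrs) (i := kTF4 f s) (j := kTF4 f r) ?_ b1 a1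
      omega
  · intro r s hr hs h5 h5' hrv hsv hrs hd hd' ht hg
    obtain ⟨a1, a2⟩ := kk r hr h5 hd
    obtain ⟨b1, b2⟩ := kk s hs h5' hd'
    obtain ⟨x, hx⟩ := (ex _).1 hg
    have hco : (orderOf x).Coprime 2 := by
      rw [hx]
      exact Nat.Coprime.mul_left ((Nat.coprime_primes hr Nat.prime_two).2 (by omega))
        ((Nat.coprime_primes hs Nat.prime_two).2 (by omega))
    have h1 := odd_ord hK x hco
    rw [hx] at h1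
    obtain ⟨l, hl, ⟨a, ha, hra⟩, c, hc, hsc⟩ := TFv_two hr hs h1
    rw [NTF_uniq hr h5 a2 (mem6 l hl a ha) a1 hra, NTF_uniq hs h5' b2 (mem6 l hl c hc) b1 hsc, mk2 l hl a ha c hc] at ht
    exact absurd ht (by decide)
  · intro r hr h5 hrv hd ht hg
    obtain ⟨a1, a2⟩ := kk r hr h5 hd
    obtain ⟨x, hx⟩ := (ex _).1 hg
    obtain ⟨i, hi, h1⟩ := tf4_no_two hm hK hr h5 hx
    rw [NTF_uniq hr h5 a2 (by omega) a1 h1] at ht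
    interval_cases i <;> simp [tabTF4] at ht <;> revert ht <;> decide
  · intro r hr h5 hrv hd ht
    obtain ⟨a1, a2⟩ := kk r hr h5 hd
    rw [ex]
    refine tf4_two hK hr (by omega) (i := kTF4 f r) ?_ a1
    generalize kTF4 f r = i at a2 ht
    by_contra hi
    interval_cases i <;> first | omega | (revert ht; decide)

end Cfsg.Agent.R2.Spec.EE
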