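import Cfsg.Agent.R2.Spec.EE.SmC7

/-!
# Small rank, `S = E₇(u)`: the numbers (helper3)
-/

set_option autoImplicit false
set_option maxRecDepth 100000

namespace Cfsg.Agent.R2.Spec.EE

open Polynomial
open Cfsg.Agent.H365.Zsig Cfsg.Agent.H426.LieFam Cfsg.Agent.R2.Spec Cfsg.Agent.R2.Spec.P1 Cfsg.Agent.R2.Spec.F1
open NumPoly NumAr NumA

/-- the bound for `u` -/
theorem lt_U {u q a b φ C E s : ℕ} (U : ℕ) (hA : b * q ^ φ ≤ a * u ^ s) (hB : u ^ 46 ≤ C * q ^ E)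
    (hs : s * E ≤ 46 * φ) (hu : 0 < u) (hchk : C ^ φ * a ^ E < b ^ E * U ^ (46 * φ - s * E)) : u < U := by
  by_contra hcon
  push Not at hcon
  have h1 : u ^ (46 * φ) ≤ C ^ φ * q ^ (φ * E) := by
    calc u ^ (46 * φ) = (u ^ 46) ^ φ := by rw [← pow_mul]
      _ ≤ (C * q ^ E) ^ φ := Nat.pow_le_pow_left hB φ
      _ = C ^ φ * q ^ (φ * E) := by rw [mul_pow, ← pow_mul, mul_comm E φ]
  have h2 : b ^ E * q ^ (φ * E) ≤ a ^ E * u ^ (s * E) := by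
    calc b ^ E * q ^ (φ * E) = (b * q ^ φ) ^ E := by rw [mul_pow, ← pow_mul]
      _ ≤ (a * u ^ s) ^ E := Nat.pow_le_pow_left hA E
      _ = a ^ E * u ^ (s * E) := by rw [mul_pow, ← pow_mul]
  have h3 : b ^ E * u ^ (46 * φ) ≤ C ^ φ * a ^ E * u ^ (s * E) := by
    calc b ^ E * u ^ (46 * φ) ≤ b ^ E * (C ^ φ * q ^ (φ * E)) := Nat.mul_le_mul_left _ h1
      _ = C ^ φ * (b ^ E * q ^ (φ * E)) := by ring
      _ ≤ C ^ φ * (a ^ E * u ^ (s * E)) := Nat.mul_le_mul_left _ h2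
      _ = C ^ φ * a ^ E * u ^ (s * E) := by ring
  have h4 : u ^ (46 * φ) = u ^ (46 * φ - s * E) * u ^ (s * E) := by
    rw [← pow_add, Nat.sub_add_cancel hs]
  have h5 : b ^ E * u ^ (46 * φ - s * E) ≤ C ^ φ * a ^ E := by
    refine Nat.le_of_mul_le_mul_right ?_ (Nat.pow_pos hu : 0 < u ^ (s * E))
    rw [mul_assoc, ← h4]
    exact h3
  have h6 : b ^ E * U ^ (46 * φ - s * E) ≤ b ^ E * u ^ (46 * φ - s * E) :=
    Nat.mul_le_mul_left _ (Nat.pow_le_pow_left hcon _)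
  omega

/-- the bound for `q` -/
theorem lt_Q {u q a b φ s U : ℕ} (Q : ℕ) (hA : b * q ^ φ ≤ a * u ^ s) (hu : u < U)
    (hchk : a * (U - 1) ^ s < b * Q ^ φ) : q < Q := by
  by_contra hcon
  push Not at hcon
  have h1 : b * Q ^ φ ≤ b * q ^ φ := Nat.mul_le_mul_left _ (Nat.pow_le_pow_left hcon _)
  have h2 : a * u ^ s ≤ a * (U - 1) ^ s := Nat.mul_le_mul_left _ (Nat.pow_le_pow_left (by omega) _)
  omega

/-- `Φ_n(q)`, computable -/
def pc (n q : ℕ) : ℕ := (ev (cl n) (q : ℤ)).natAbs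

theorem Ph_pc {n q : ℕ} (hn : n ∈ [1, 2, 3, 4, 5, 6, 7, 8, 9, 10, 11, 12, 13, 14, 16, 18, 20]) : Ph n q = pc n q := by
  rw [Ph, pc, cl_pos hn (by positivity)]

/-- `M` divides a large class number -/
def c7 (u M : ℕ) : Bool := [7, 9, 14, 18, 5, 8, 10, 12].any fun a => Nat.beq (pc a u % M) 0

theorem c7_of {u M : ℕ} (h : ∃ a ∈ A7, (M : ℤ) ∣ (cyclotomic a ℤ).eval ((u : ℕ) : ℤ)) : c7 u M = true := by
  obtain ⟨a, ha, h⟩ := h
  rw [c7, List.any_eq_true]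
  refine ⟨a, ha, ?_⟩
  rw [Nat.beq_eq]
  have h1 : a ∈ [1, 2, 3, 4, 5, 6, 7, 8, 9, 10, 11, 12, 13, 14, 16, 18, 20] :=
    (by decide : ∀ a ∈ A7, a ∈ [1, 2, 3, 4, 5, 6, 7, 8, 9, 10, 11, 12, 13, 14, 16, 18, 20]) a ha
  rw [← Ph_pc h1, Ph]
  exact Nat.mod_eq_zero_of_dvd (Int.natCast_dvd.1 h)

/-- the check of a box, one class -/
def bx (n C E U Q : ℕ) : Bool :=
  (List.range U).all fun u => (List.range Q).all fun q =>
    !(Nat.ble 2 u && (Nat.ble 3 q && (Nat.beq (q % 2) 1 && (Nat.beq (Nat.gcd u q) 1 && (Nat.ble (u ^ 46) (C * q ^ E) &&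
      c7 u (pc n q / Nat.gcd (pc n q) n))))))

theorem bx_false {n C E U Q : ℕ} (h : bx n C E U Q = true) {u q : ℕ} (hn : n ∈ [1, 2, 3, 4, 5, 6, 7, 8, 9, 10, 11, 12, 13, 14, 16, 18, 20])
    (hu : u < U) (hq : q < Q) (hu2 : 2 ≤ u) (hq3 : 3 ≤ q) (hq2 : q % 2 = 1) (hc : Nat.gcd u q = 1)
    (hB : u ^ 46 ≤ C * q ^ E) (hd : ∃ a ∈ A7, (Pm n q : ℤ) ∣ (cyclotomic a ℤ).eval ((u : ℕ) : ℤ)) : False := by
  rw [bx, List.all_eq_true] at h
  have h1 := h u (List.mem_range.2 hu)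
  rw [List.all_eq_true] at h1
  have h2 := h1 q (List.mem_range.2 hq)
  have h3 := c7_of hd
  rw [Pm, Ph_pc hn] at h3
  rw [Bool.not_eq_true', (Nat.ble_eq (x := 2) (y := u)).mpr hu2, (Nat.ble_eq (x := 3) (y := q)).mpr hq3,
    (Nat.beq_eq (x := q % 2) (y := 1)).mpr hq2, (Nat.beq_eq (x := Nat.gcd u q) (y := 1)).mpr hc,
    (Nat.ble_eq (x := u ^ 46) (y := C * q ^ E)).mpr hB, h3] at h2
  exact Bool.noConfusion h2

/-- **One class, contradiction.** -/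
theorem num_one {u q n a b φ C E : ℕ} (U Q : ℕ) (hn : n ∈ [1, 2, 3, 4, 5, 6, 7, 8, 9, 10, 11, 12, 13, 14, 16, 18, 20])
    (hn1 : 1 ≤ n) (hu2 : 2 ≤ u) (hq3 : 3 ≤ q) (hq2 : q % 2 = 1) (hc : Nat.gcd u q = 1)
    (hlow : b * q ^ φ ≤ a * Ph n q) (hd : ∃ a ∈ A7, (Pm n q : ℤ) ∣ (cyclotomic a ℤ).eval ((u : ℕ) : ℤ))
    (hB : u ^ 46 ≤ C * q ^ E) (hs : 6 * E ≤ 46 * φ)
    (hU : C ^ φ * (a * n * 2) ^ E < b ^ E * U ^ (46 * φ - 6 * E)) (hQ : (a * n * 2) * (U - 1) ^ 6 < b * Q ^ φ)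
    (hbx : bx n C E U Q = true) : False := by
  have h1 : Pm n q ≤ 2 * u ^ 6 := by
    obtain ⟨x, hx, h⟩ := hd
    exact size7 hx hu2 h
  have hA : b * q ^ φ ≤ (a * n * 2) * u ^ 6 := by
    calc b * q ^ φ ≤ a * Ph n q := hlow
      _ ≤ a * (n * Pm n q) := Nat.mul_le_mul_left _ (Pm_le hn1)
      _ ≤ a * (n * (2 * u ^ 6)) := Nat.mul_le_mul_left _ (Nat.mul_le_mul_left _ h1)
      _ = (a * n * 2) * u ^ 6 := by ring
  have hu := lt_U U hA hB hs (by omega) hU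
  have hq := lt_Q Q hA hu hQ
  exact bx_false hbx hn hu hq hu2 hq3 hq2 hc hB hd

/-- the check for one `u`, an element of `E₇(u)` : `q` between `lo` and `hi` -/
def rz (n C E a b u lo hi : ℕ) : Bool :=
  Nat.blt (C * lo ^ E) (u ^ 46) && (Nat.blt (a * n * (u + 1) ^ 7) (b * hi ^ 4) &&
    (List.range (hi - lo)).all fun k =>
      !(Nat.ble 3 (lo + k) && (Nat.beq ((lo + k) % 2) 1 && (Nat.beq (Nat.gcd u (lo + k)) 1 &&
        (Nat.ble (pc n (lo + k) / Nat.gcd (pc n (lo + k)) n) ((u + 1) ^ 7) &&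
          Nat.beq (E7n u % (pc n (lo + k) / Nat.gcd (pc n (lo + k)) n)) 0)))))

/-- the check of the list, from `u` on -/
def bz (n C E a b : ℕ) : List (ℕ × ℕ) → ℕ → Bool
  | [], _ => true
  | x :: l, u => rz n C E a b u x.1 x.2 && bz n C E a b l (u + 1)

theorem bz_get {n C E a b : ℕ} : ∀ {l : List (ℕ × ℕ)} {u0 : ℕ}, bz n C E a b l u0 = true → ∀ {u : ℕ}, u0 ≤ u →
    u < u0 + l.length → ∃ lo hi, rz n C E a b u lo hi = true
  | [], u0, _, u, h1, h2 => by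
    rw [List.length_nil] at h2
    omega
  | x :: l, u0, h, u, h1, h2 => by
    rw [bz, Bool.and_eq_true] at h
    rcases Nat.eq_or_lt_of_le h1 with h3 | h3
    · exact ⟨x.1, x.2, by rw [← h3]; exact h.1⟩
    · rw [List.length_cons] at h2
      exact bz_get h.2 h3 (by omega)

theorem rz_false {n C E a b u q lo hi : ℕ} (h : rz n C E a b u lo hi = true)
    (hn : n ∈ [1, 2, 3, 4, 5, 6, 7, 8, 9, 10, 11, 12, 13, 14, 16, 18, 20])
    (hq3 : 3 ≤ q) (hq2 : q % 2 = 1) (hc : Nat.gcd u q = 1) (hA : b * q ^ 4 ≤ a * n * (u + 1) ^ 7)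
    (hB : u ^ 46 ≤ C * q ^ E) (hd : Pm n q ≤ (u + 1) ^ 7 ∧ Pm n q ∣ E7n u) : False := by
  rw [rz, Bool.and_eq_true, Bool.and_eq_true, List.all_eq_true] at h
  obtain ⟨h1, h2, h3⟩ := h
  have h1' : C * lo ^ E < u ^ 46 := Nat.blt_eq.mp h1
  have h2' : a * n * (u + 1) ^ 7 < b * hi ^ 4 := Nat.blt_eq.mp h2
  have hlo : lo < q := by
    by_contra hcon
    have := Nat.mul_le_mul_left C (Nat.pow_le_pow_left (not_lt.1 hcon) E)
    omega
  have hhi : q < hi := by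
    by_contra hcon
    have := Nat.mul_le_mul_left b (Nat.pow_le_pow_left (not_lt.1 hcon) 4)
    omega
  have h4 := h3 (q - lo) (List.mem_range.2 (by omega))
  have h5 : lo + (q - lo) = q := by omega
  rw [h5] at h4
  rw [Pm, Ph_pc hn] at hd
  rw [Bool.not_eq_true', (Nat.ble_eq (x := 3) (y := q)).mpr hq3,
    (Nat.beq_eq (x := q % 2) (y := 1)).mpr hq2, (Nat.beq_eq (x := Nat.gcd u q) (y := 1)).mpr hc,
    (Nat.ble_eq).mpr hd.1, (Nat.beq_eq (y := 0)).mpr (Nat.mod_eq_zero_of_dvd hd.2)] at h4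
  exact Bool.noConfusion h4

/-- **An element of `E₇(u)`, contradiction.** -/
theorem num_two {u q n a b C E : ℕ} (U : ℕ) {l : List (ℕ × ℕ)} (hn : n ∈ [1, 2, 3, 4, 5, 6, 7, 8, 9, 10, 11, 12, 13, 14, 16, 18, 20])
    (hn1 : 1 ≤ n) (hu2 : 2 ≤ u) (hq3 : 3 ≤ q) (hq2 : q % 2 = 1) (hc : Nat.gcd u q = 1)
    (hlow : b * q ^ 4 ≤ a * Ph n q) (hd : Pm n q ≤ (u + 1) ^ 7 ∧ Pm n q ∣ E7n u)
    (hB : u ^ 46 ≤ C * q ^ E) (hs : 7 * E ≤ 46 * 4)
    (hU : C ^ 4 * (a * n * 2187) ^ E < (b * 128) ^ E * U ^ (46 * 4 - 7 * E))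
    (hbz : bz n C E a b l 2 = true) (hl : U ≤ 2 + l.length) : False := by
  have h0 : 128 * (u + 1) ^ 7 ≤ 2187 * u ^ 7 := by
    have h1 : (2 * (u + 1)) ^ 7 ≤ (3 * u) ^ 7 := Nat.pow_le_pow_left (by omega) 7
    rw [mul_pow, mul_pow] at h1
    norm_num at h1
    exact h1
  have hA0 : b * q ^ 4 ≤ a * n * (u + 1) ^ 7 := by
    calc b * q ^ 4 ≤ a * Ph n q := hlow
      _ ≤ a * (n * Pm n q) := Nat.mul_le_mul_left _ (Pm_le hn1)
      _ ≤ a * (n * (u + 1) ^ 7) := Nat.mul_le_mul_left _ (Nat.mul_le_mul_left _ hd.1)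
      _ = a * n * (u + 1) ^ 7 := by ring
  have hA : (b * 128) * q ^ 4 ≤ (a * n * 2187) * u ^ 7 := by
    calc (b * 128) * q ^ 4 = 128 * (b * q ^ 4) := by ring
      _ ≤ 128 * (a * n * (u + 1) ^ 7) := Nat.mul_le_mul_left _ hA0
      _ = (a * n) * (128 * (u + 1) ^ 7) := by ring
      _ ≤ (a * n) * (2187 * u ^ 7) := Nat.mul_le_mul_left _ h0
      _ = (a * n * 2187) * u ^ 7 := by ring
  have hu := lt_U U hA hB hs (by omega) hU
  obtain ⟨lo, hi, h⟩ := bz_get hbz hu2 (by omega)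
  exact rz_false h hn hq3 hq2 hc hA0 hB hd

/-! ### lower bounds -/

theorem low5 {q : ℕ} : 1 * q ^ 4 ≤ 1 * Ph 5 q := by
  rw [Ph_pc (by decide), pc, one_mul, one_mul]
  zify
  refine le_trans ?_ (le_abs_self _)
  simp only [NumPoly.cl, ev]
  nlinarith [Int.natCast_nonneg q, pow_nonneg (Int.natCast_nonneg q) 2, pow_nonneg (Int.natCast_nonneg q) 3]

theorem low7 {q : ℕ} : 1 * q ^ 6 ≤ 1 * Ph 7 q := by
  rw [Ph_pc (by decide), pc, one_mul, one_mul]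
  zify
  refine le_trans ?_ (le_abs_self _)
  simp only [NumPoly.cl, ev]
  nlinarith [Int.natCast_nonneg q, pow_nonneg (Int.natCast_nonneg q) 2, pow_nonneg (Int.natCast_nonneg q) 3,
    pow_nonneg (Int.natCast_nonneg q) 4, pow_nonneg (Int.natCast_nonneg q) 5]

theorem low8 {q : ℕ} : 1 * q ^ 4 ≤ 1 * Ph 8 q := by
  rw [Ph_pc (by decide), pc, one_mul, one_mul]
  zify
  refine le_trans ?_ (le_abs_self _)
  simp only [NumPoly.cl, ev]
  nlinarith [Int.natCast_nonneg q]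

theorem low14 {q : ℕ} (hq : 3 ≤ q) : 3 * q ^ 6 ≤ 4 * Ph 14 q := by
  rw [Ph_pc (by decide), pc]
  zify
  refine (six (q := (q : ℤ)) (by exact_mod_cast hq)).trans ?_
  refine mul_le_mul_of_nonneg_left (le_trans (le_of_eq ?_) (le_abs_self _)) (by norm_num)
  simp only [NumPoly.cl, ev]
  ring

theorem low10 {q : ℕ} (hq : 3 ≤ q) : 2 * q ^ 4 ≤ 3 * Ph 10 q := by
  rw [Ph_pc (by decide), pc]
  zify
  obtain ⟨t, ht⟩ : ∃ t : ℤ, (q : ℤ) = t + 3 := ⟨q - 3, by ring⟩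
  have ht0 : 0 ≤ t := by have : (3 : ℤ) ≤ q := by exact_mod_cast hq
                         linarith
  refine le_trans ?_ (mul_le_mul_of_nonneg_left (le_abs_self _) (by norm_num))
  simp only [NumPoly.cl, ev]
  rw [ht]
  nlinarith [pow_nonneg ht0 2, pow_nonneg ht0 3, pow_nonneg ht0 4]

/-! ### the bounds of the products -/

theorem RR_psl8 {q : ℕ} (hq : 3 ≤ q) : RR (.psl 8) q ≤ 3 * q ^ 22 := by
  have h : cycs (.psl 8) = [1, 2, 3, 4, 5, 6, 7, 8] := by decide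
  unfold RR
  rw [h]
  exact bound_pos (by decide) (by decide +kernel) hq

theorem RR_psu8 {q : ℕ} (hq : 3 ≤ q) : RR (.psu 8) q ≤ 1 * q ^ 22 := by
  have h : cycs (.psu 8) = [1, 2, 3, 4, 5, 6, 7, 8] := by decide
  unfold RR
  rw [h]
  exact bound_neg (by decide) (by decide +kernel) hq

theorem RR_psp5 {q : ℕ} (hq : 3 ≤ q) : RR (.psp 5) q ≤ 2 * q ^ 20 := by
  have h : cycs (.psp 5) = [1, 2, 3, 4, 5, 6, 8, 10] := by decide
  unfold RR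
  rw [h]
  exact bound_pos (by decide) (by decide +kernel) hq

theorem RR_psp6 {q : ℕ} (hq : 3 ≤ q) : RR (.psp 6) q ≤ 2 * q ^ 24 := by
  have h : cycs (.psp 6) = [1, 2, 3, 4, 5, 6, 8, 10, 12] := by decide
  unfold RR
  rw [h]
  exact bound_pos (by decide) (by decide +kernel) hq

theorem RR_psp7 {q : ℕ} (hq : 3 ≤ q) : RR (.psp 7) q ≤ 2 * q ^ 36 := by
  have h : cycs (.psp 7) = [1, 2, 3, 4, 5, 6, 7, 8, 10, 12, 14] := by decide
  unfold RR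
  rw [h]
  exact bound_pos (by decide) (by decide +kernel) hq

end Cfsg.Agent.R2.Spec.EE
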