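import Cfsg.Agent.R2.Spec.EE.SmB7
import Cfsg.Agent.R2.Spec.EE.RowM7

/-!
# Small rank, `S = E₇(u)` (helper3)

`sm_e7` : none of `psl 8`, `psu 8`, `psp n`, `oodd n`, `oplus n`, `ominus n` (`n = 5, 6, 7`).
-/

set_option autoImplicit false
set_option linter.unusedSectionVars false
set_option linter.unusedVariables false

namespace Cfsg.Agent.R2.Spec.EE

open Subgroup Cfsg Polynomial
open Cfsg.Agent.H426.LieFam Cfsg.Agent.R2.Spec Cfsg.Agent.R2.Spec.P1 Cfsg.Agent.R2.Spec.F1
open Cfsg.Agent.H365.Zsig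

universe u w

/-- the boolean form of `KI`, third class `k` -/
def kib (t : Fam) (i l k : ℕ) : Bool :=
  Nat.ble 3 l && (memB t l && (naB t i l && (Nat.ble 3 k && (memB t k && (naB t i k && naB t l k)))))

theorem kI_of {t : Fam} {i l : ℕ} (k : ℕ) (hi : 0 < i) (h : kib t i l k = true) : KI t i l := by
  rw [kib, Bool.and_eq_true, Bool.and_eq_true, Bool.and_eq_true, Bool.and_eq_true, Bool.and_eq_true,
    Bool.and_eq_true] at h
  obtain ⟨h1, h2, h3, h4, h5, h6, h7⟩ := h
  have h1' : 3 ≤ l := Nat.ble_eq.mp h1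
  have h4' : 3 ≤ k := Nat.ble_eq.mp h4
  exact ⟨h1', mem_of_memB h2, na_of_naB hi (by omega) h3, k, h4', mem_of_memB h5, na_of_naB hi (by omega) h6,
    na_of_naB (by omega) (by omega) h7⟩

theorem kill8 {t : Fam} {i : ℕ} (k : ℕ) (hi : 0 < i) (h : kib t i 8 k = true) (h8 : 8 ≠ i) (h4 : ¬ i ∣ 4) :
    Killer (KI t i) i :=
  Or.inl ⟨2, by norm_num, kI_of (l := 8) k hi h, h8, h4⟩

theorem kill4 {t : Fam} {i : ℕ} (k : ℕ) (hi : 0 < i) (h : kib t i 4 k = true) (h8 : 4 ≠ i) (h4 : ¬ i ∣ 2) :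
    Killer (KI t i) i :=
  Or.inl ⟨1, le_rfl, kI_of (l := 4) k hi h, h8, h4⟩

theorem kill56 {t : Fam} (k m : ℕ) (h5 : kib t 8 5 k = true) (h6 : kib t 8 6 m = true) : Killer (KI t 8) 8 := by
  unfold Killer
  refine Or.inr (Or.inr (Or.inr (Or.inr (Or.inr (Or.inr (Or.inr (Or.inl ⟨rfl, ?_, ?_⟩)))))))
  · exact kI_of k (by norm_num) h5
  · exact kI_of m (by norm_num) h6

section main

variable {t : Fam} {p f : ℕ} {L : Type w} [Group L] [Finite L] {G : Type u} [Group G] [Finite G]
  {K : Subgroup G} [K.Normal] {S : Subgroup (G ⧸ K)} [S.Normal] {v f' : ℕ}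

theorem EX.cop (h : EX t p f L G K S .e7 v f' tabE7 (kcl clE7 (v ^ f'))) : Nat.gcd (v ^ f') (p ^ f) = 1 :=
  Nat.Coprime.pow _ _ ((Nat.coprime_primes h.ef.vp h.ls.prime).2 h.vp)

/-- one class -/
theorem one7 (h : EX t p f L G K S .e7 v f' tabE7 (kcl clE7 (v ^ f'))) {i0 n a b φ C E r c : ℕ} (U Q : ℕ)
    (hr : rk t = r) (hr12 : r ≤ 12) (hi : 3 ≤ i0) (hm : memB t i0 = true) (hidx : idx t i0 = n)
    (hkl : Killer (KI t i0) i0)
    (hk : (dat tabE7.tbl t (cls3 t)).go (cls3 t).length (st0 tabE7.tbl (cls3 t) (tabE7.domX i0 8144)) 0 = false)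
    (hn : n ∈ [1, 2, 3, 4, 5, 6, 7, 8, 9, 10, 11, 12, 13, 14, 16, 18, 20]) (hn1 : 1 ≤ n)
    (hlow : ∀ {q : ℕ}, 3 ≤ q → b * q ^ φ ≤ a * Ph n q) (hRR : ∀ {q : ℕ}, 3 ≤ q → RR t q ≤ c * q ^ E)
    (hC : 1260 * (2 * r * c) = C) (hs : 6 * (E + 1) ≤ 46 * φ)
    (hU : C ^ φ * (a * n * 2) ^ (E + 1) < b ^ (E + 1) * U ^ (46 * φ - 6 * (E + 1)))
    (hQ : (a * n * 2) * (U - 1) ^ 6 < b * Q ^ φ) (hbx : bx n C (E + 1) U Q = true) : False := by
  obtain ⟨hq, hq3⟩ := h.q_odd
  have h1 := sv7_one h (by omega) hi (mem_of_memB hm) hkl hk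
  rw [hidx] at h1
  refine num_one U Q hn hn1 (field_two (Or.inr rfl) h.frm.is) hq3 hq h.cop (hlow hq3) h1 ?_ hs hU hQ hbx
  refine (bigB7 h.ls h.is h.p2 h.frm.is).trans ?_
  rw [hr, ← hC]
  calc 1260 * (2 * r * p ^ f * RR t (p ^ f)) ≤ 1260 * (2 * r * p ^ f * (c * (p ^ f) ^ E)) :=
        Nat.mul_le_mul_left _ (Nat.mul_le_mul_left _ (hRR hq3))
    _ = 1260 * (2 * r * c) * (p ^ f) ^ (E + 1) := by rw [pow_succ]; ring

/-- an element of `E₇(u)` -/
theorem two7 (h : EX t p f L G K S .e7 v f' tabE7 (kcl clE7 (v ^ f'))) {i0 n a b C E r c : ℕ} (U : ℕ) {l : List (ℕ × ℕ)}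
    (hr : rk t = r) (hi : 3 ≤ i0) (hm : memB t i0 = true) (hidx : idx t i0 = n)
    (hkl : Killer (KI t i0) i0)
    (ho : ∀ y, In t (p ^ f) i0 y → ¬ y ∣ Nat.card ↥K ∧ y ≠ v)
    (hn : n ∈ [1, 2, 3, 4, 5, 6, 7, 8, 9, 10, 11, 12, 13, 14, 16, 18, 20]) (hn1 : 1 ≤ n)
    (hlow : ∀ {q : ℕ}, 3 ≤ q → b * q ^ 4 ≤ a * Ph n q) (hRR : ∀ {q : ℕ}, 3 ≤ q → RR t q ≤ c * q ^ E)
    (hC : 1260 * (2 * r * c) = C) (hs : 7 * (E + 1) ≤ 46 * 4)
    (hU : C ^ 4 * (a * n * 2187) ^ (E + 1) < (b * 128) ^ (E + 1) * U ^ (46 * 4 - 7 * (E + 1)))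
    (hbz : bz n C (E + 1) a b l 2 = true) (hl : U ≤ 2 + l.length) : False := by
  obtain ⟨hq, hq3⟩ := h.q_odd
  have h1 := sv7_out h hi (mem_of_memB hm) hkl ho
  rw [hidx] at h1
  refine num_two U hn hn1 (field_two (Or.inr rfl) h.frm.is) hq3 hq h.cop (hlow hq3) h1 ?_ hs hU hbz hl
  refine (bigB7 h.ls h.is h.p2 h.frm.is).trans ?_
  rw [hr, ← hC]
  calc 1260 * (2 * r * p ^ f * RR t (p ^ f)) ≤ 1260 * (2 * r * p ^ f * (c * (p ^ f) ^ E)) :=
        Nat.mul_le_mul_left _ (Nat.mul_le_mul_left _ (hRR hq3))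
    _ = 1260 * (2 * r * c) * (p ^ f) ^ (E + 1) := by rw [pow_succ]; ring

/-- **Small rank, `E₇`.** -/
theorem sm_e7 (h : EX t p f L G K S .e7 v f' tabE7 (kcl clE7 (v ^ f'))) (ht : Sm t) : False := by
  rw [sm_iff] at ht
  rcases ht with rfl | rfl | rfl | rfl | rfl | rfl | rfl | rfl | rfl | rfl | rfl | rfl | rfl | rfl
  · exact one7 h (r := 8) (c := 3) (E := 22) 11 64 rfl (by norm_num) (by norm_num) (by decide) (by decide)
      (kill56 7 7 (by decide) (by decide)) m7_psl8 (by decide) (by norm_num)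
      (fun {q} hq => low8) (fun {q} hq => RR_psl8 hq) (by norm_num) (by norm_num)
      (by norm_num) (by norm_num) bx_psl8
  · exact one7 h (r := 8) (c := 1) (E := 22) 10 55 rfl (by norm_num) (by norm_num) (by decide) (by decide)
      (kill56 7 7 (by decide) (by decide)) m7_psu8 (by decide) (by norm_num)
      (fun {q} hq => low8) (fun {q} hq => RR_psu8 hq) (by norm_num) (by norm_num)
      (by norm_num) (by norm_num) bx_psu8
  · exact one7 h (r := 5) (c := 2) (E := 20) 6 23 rfl (by norm_num) (by norm_num) (by decide) (by decide)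
      (kill4 5 (by norm_num) (by decide) (by norm_num) (by norm_num)) m7_psp5 (by decide) (by norm_num)
      (fun {q} hq => low8) (fun {q} hq => RR_psp5 hq) (by norm_num) (by norm_num)
      (by norm_num) (by norm_num) bx_psp5
  · exact one7 h (r := 6) (c := 2) (E := 24) 19 136 rfl (by norm_num) (by norm_num) (by decide) (by decide)
      (kill8 10 (by norm_num) (by decide) (by norm_num) (by norm_num)) m7_psp6 (by decide) (by norm_num)
      (fun {q} hq => low5) (fun {q} hq => RR_psp6 hq) (by norm_num) (by norm_num)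
      (by norm_num) (by norm_num) bx_rk6
  · exact one7 h (r := 7) (c := 2) (E := 36) 20 30 rfl (by norm_num) (by norm_num) (by decide) (by decide)
      (kill8 10 (by norm_num) (by decide) (by norm_num) (by norm_num)) m7_psp7 (by decide) (by norm_num)
      (fun {q} hq => low7) (fun {q} hq => RR_psp7 hq) (by norm_num) (by norm_num)
      (by norm_num) (by norm_num) bx_rk7
  · exact one7 h (r := 5) (c := 2) (E := 20) 6 23 rfl (by norm_num) (by norm_num) (by decide) (by decide)
      (kill4 5 (by norm_num) (by decide) (by norm_num) (by norm_num)) m7_oodd5 (by decide) (by norm_num)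
      (fun {q} hq => low8) (fun {q} hq => RR_psp5 hq) (by norm_num) (by norm_num)
      (by norm_num) (by norm_num) bx_psp5
  · exact one7 h (r := 6) (c := 2) (E := 24) 19 136 rfl (by norm_num) (by norm_num) (by decide) (by decide)
      (kill8 10 (by norm_num) (by decide) (by norm_num) (by norm_num)) m7_oodd6 (by decide) (by norm_num)
      (fun {q} hq => low5) (fun {q} hq => RR_psp6 hq) (by norm_num) (by norm_num)
      (by norm_num) (by norm_num) bx_rk6
  · exact one7 h (r := 7) (c := 2) (E := 36) 20 30 rfl (by norm_num) (by norm_num) (by decide) (by decide)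
      (kill8 10 (by norm_num) (by decide) (by norm_num) (by norm_num)) m7_oodd7 (by decide) (by norm_num)
      (fun {q} hq => low7) (fun {q} hq => RR_psp7 hq) (by norm_num) (by norm_num)
      (by norm_num) (by norm_num) bx_rk7
  · have hna : na (.oplus 5) 5 8 := na_of_naB (by norm_num) (by norm_num) (by decide)
    rcases h.two_out rfl hna with ho | ho
    · exact two7 h (r := 5) (c := 2) (E := 20) 38 rfl (by norm_num) (by decide) (by decide)
        (kill8 3 (by norm_num) (by decide) (by norm_num) (by norm_num)) ho (by decide) (by norm_num)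
        (fun {q} hq => low5) (fun {q} hq => RR_psp5 hq) (by norm_num) (by norm_num) (by norm_num) bz_5 (by decide)
    · exact two7 h (r := 5) (c := 2) (E := 20) 49 rfl (by norm_num) (by decide) (by decide)
        (kill4 5 (by norm_num) (by decide) (by norm_num) (by norm_num)) ho (by decide) (by norm_num)
        (fun {q} hq => low8) (fun {q} hq => RR_psp5 hq) (by norm_num) (by norm_num) (by norm_num) bz_8 (by decide)
  · exact one7 h (r := 6) (c := 2) (E := 24) 19 136 rfl (by norm_num) (by norm_num) (by decide) (by decide)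
      (kill8 10 (by norm_num) (by decide) (by norm_num) (by norm_num)) m7_oplus6 (by decide) (by norm_num)
      (fun {q} hq => low5) (fun {q} hq => RR_psp6 hq) (by norm_num) (by norm_num)
      (by norm_num) (by norm_num) bx_rk6
  · exact one7 h (r := 7) (c := 2) (E := 36) 20 30 rfl (by norm_num) (by norm_num) (by decide) (by decide)
      (kill8 10 (by norm_num) (by decide) (by norm_num) (by norm_num)) m7_oplus7 (by decide) (by norm_num)
      (fun {q} hq => low7) (fun {q} hq => RR_psp7 hq) (by norm_num) (by norm_num)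
      (by norm_num) (by norm_num) bx_rk7
  · have hna : na (.ominus 5) 10 8 := na_of_naB (by norm_num) (by norm_num) (by decide)
    rcases h.two_out rfl hna with ho | ho
    · exact two7 h (r := 5) (c := 2) (E := 20) 70 rfl (by norm_num) (by decide) (by decide)
        (kill8 3 (by norm_num) (by decide) (by norm_num) (by norm_num)) ho (by decide) (by norm_num)
        (fun {q} hq => low10 hq) (fun {q} hq => RR_psp5 hq) (by norm_num) (by norm_num) (by norm_num) bz_10 (by decide)
    · exact two7 h (r := 5) (c := 2) (E := 20) 49 rfl (by norm_num) (by decide) (by decide)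
        (kill4 10 (by norm_num) (by decide) (by norm_num) (by norm_num)) ho (by decide) (by norm_num)
        (fun {q} hq => low8) (fun {q} hq => RR_psp5 hq) (by norm_num) (by norm_num) (by norm_num) bz_8 (by decide)
  · exact one7 h (r := 6) (c := 2) (E := 24) 19 136 rfl (by norm_num) (by norm_num) (by decide) (by decide)
      (kill8 10 (by norm_num) (by decide) (by norm_num) (by norm_num)) m7_ominus6 (by decide) (by norm_num)
      (fun {q} hq => low5) (fun {q} hq => RR_psp6 hq) (by norm_num) (by norm_num)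
      (by norm_num) (by norm_num) bx_rk6
  · exact one7 h (r := 7) (c := 2) (E := 36) 39 70 rfl (by norm_num) (by norm_num) (by decide) (by decide)
      (kill8 10 (by norm_num) (by decide) (by norm_num) (by norm_num)) m7_ominus7 (by decide) (by norm_num)
      (fun {q} hq => low14 hq) (fun {q} hq => RR_psp7 hq) (by norm_num) (by norm_num)
      (by norm_num) (by norm_num) bx_om7

end main

end Cfsg.Agent.R2.Spec.EE
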