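import Cfsg.Agent.R2.Spec.EE.TabDef
import Cfsg.Agent.H378.CycTab
import Cfsg.Agent.H493.PGRed

/-!
# The tables of the exceptional groups: generalities (helper11)

* `cyc_pow` : `r ∣ Φ_n(q)` forces `n = r ^ k * e`, `e` the order of `q` modulo `r`;
* `od_cyc` : `n = e` if `r` does not divide `n`;
* `sok_of` : the statement about the classes `kcl cl q` from facts about the orders.
-/

set_option autoImplicit false

namespace Cfsg.Agent.R2.Spec.EE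

open Polynomial
open Cfsg.Agent.H493

universe u

namespace Sok

/-- `n = r ^ k * e` -/
theorem cyc_pow {q r n : ℕ} (hr : r.Prime) (hn : 0 < n) (h : (r : ℤ) ∣ (cyclotomic n ℤ).eval (q : ℤ)) :
    ∃ k, n = r ^ k * orderOf (q : ZMod r) := by
  have := Fact.mk hr
  obtain ⟨k, m, hm, hnm⟩ := Nat.exists_eq_pow_mul_and_not_dvd hn.ne' r hr.ne_one
  have hm0 : NeZero (m : ZMod r) := ⟨by
    rw [Ne, ZMod.natCast_eq_zero_iff]
    exact hm⟩
  have h1 : (cyclotomic (r ^ k * m) (ZMod r)).IsRoot (q : ZMod r) := by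
    rw [IsRoot.def, ← hnm, ← map_cyclotomic_int n (ZMod r)]
    have h2 : ((cyclotomic n ℤ).map (Int.castRingHom (ZMod r))).eval ((q : ℤ) : ZMod r) =
        (((cyclotomic n ℤ).eval (q : ℤ) : ℤ) : ZMod r) := by
      rw [eval_intCast_map]
      simp
    rw [Int.cast_natCast] at h2
    rw [h2, ZMod.intCast_zmod_eq_zero_iff_dvd]
    exact h
  rw [isRoot_cyclotomic_prime_pow_mul_iff_of_charP] at h1
  exact ⟨k, by rw [hnm, ← h1.eq_orderOf]⟩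

/-- `n = e` -/
theorem od_cyc {q r n : ℕ} (hr : r.Prime) (hn : 0 < n) (hrn : ¬ r ∣ n)
    (h : (r : ℤ) ∣ (cyclotomic n ℤ).eval (q : ℤ)) : orderOf (q : ZMod r) = n := by
  obtain ⟨k, hk⟩ := cyc_pow hr hn h
  rcases Nat.eq_zero_or_pos k with rfl | h0
  · rw [pow_zero, one_mul] at hk
    exact hk.symm
  · exact absurd (hk ▸ (dvd_pow_self r h0.ne').mul_right _) hrn

/-- the order divides `r - 1` -/
theorem od_dvd_sub {q r : ℕ} (hr : r.Prime) (h0 : orderOf (q : ZMod r) ≠ 0) : orderOf (q : ZMod r) ∣ r - 1 := by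
  have := Fact.mk hr
  apply ZMod.orderOf_dvd_card_sub_one
  intro h
  rw [h] at h0
  exact h0 (orderOf_eq_zero_iff'.2 fun n hn => by rw [zero_pow hn.ne']; exact zero_ne_one)

/-- a prime divisor of `q ^ n - 1` -/
theorem od_dvd {q r n : ℕ} (hq : 1 ≤ q) (h : r ∣ q ^ n - 1) : orderOf (q : ZMod r) ∣ n := by
  rw [← H378.CycTab.dvd_iff n]
  have h1 : 1 ≤ q ^ n := Nat.one_le_pow _ _ hq
  have h2 : ((q ^ n - 1 : ℕ) : ℤ) = (q : ℤ) ^ n - 1 := by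
    rw [Nat.cast_sub h1]; push_cast; ring
  rw [← h2]
  exact Int.natCast_dvd_natCast.2 h

/-- **The classes.** `C i r` : the prime `r` is of the class `i`. -/
theorem sok_of {T : Tab} {S : Type u} [Group S] {v : ℕ} {k : ℕ → ℕ} (C : ℕ → ℕ → Prop)
    (h0 : ∀ r : ℕ, r.Prime → 5 ≤ r → r ≠ v → r ∣ Nat.card S → k r < T.n ∧ C (k r) r)
    (hadj : ∀ i < T.n, ∀ j < T.n, (T.adj.getD i 0).testBit j = true →
      ∀ r s : ℕ, r.Prime → s.Prime → 5 ≤ r → 5 ≤ s → r ≠ v → s ≠ v → r ≠ s → C i r → C j s → PG.Rel S r s)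
    (hna : ∀ i < T.n, ∀ j < T.n, (T.na.getD i 0).testBit j = true →
      ∀ r s : ℕ, r.Prime → s.Prime → 5 ≤ r → 5 ≤ s → r ≠ v → s ≠ v → r ≠ s → C i r → C j s →
        ∀ g : S, orderOf g ≠ r * s)
    (htt : ∀ i < T.n, T.tt.testBit i = true → ∀ r : ℕ, r.Prime → 5 ≤ r → r ≠ v → C i r → ∀ g : S, orderOf g ≠ r * v)
    (hnt : ∀ i < T.n, T.nt.testBit i = true → ∀ r : ℕ, r.Prime → 5 ≤ r → r ≠ v → C i r → PG.Rel S r v) :
    SOk T S v k where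
  lt r hr h5 hrv hd := (h0 r hr h5 hrv hd).1
  adj r s hr hs hr5 hs5 hrv hsv hrs hrd hsd h := by
    obtain ⟨h1, h2⟩ := h0 r hr hr5 hrv hrd
    obtain ⟨h3, h4⟩ := h0 s hs hs5 hsv hsd
    exact (hadj _ h1 _ h3 h r s hr hs hr5 hs5 hrv hsv hrs h2 h4).2.2.2
  na r s hr hs hr5 hs5 hrv hsv hrs hrd hsd h := by
    rintro ⟨g, hg⟩
    obtain ⟨h1, h2⟩ := h0 r hr hr5 hrv hrd
    obtain ⟨h3, h4⟩ := h0 s hs hs5 hsv hsd
    exact hna _ h1 _ h3 h r s hr hs hr5 hs5 hrv hsv hrs h2 h4 g hg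
  tt r hr h5 hrv hd h := by
    rintro ⟨g, hg⟩
    obtain ⟨h1, h2⟩ := h0 r hr h5 hrv hd
    exact htt _ h1 h r hr h5 hrv h2 g hg
  nt r hr h5 hrv hd h := by
    obtain ⟨h1, h2⟩ := h0 r hr h5 hrv hd
    exact (hnt _ h1 h r hr h5 hrv h2).2.2.2

/-- **The classes of the orders.** -/
theorem sok_kcl {T : Tab} {cl : List ℕ} {S : Type u} [Group S] {v q : ℕ} (hn : T.n = cl.length)
    (h0 : ∀ r : ℕ, r.Prime → 5 ≤ r → r ≠ v → r ∣ Nat.card S → orderOf ((q : ℕ) : ZMod r) ∈ cl)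
    (hadj : ∀ i < T.n, ∀ j < T.n, (T.adj.getD i 0).testBit j = true →
      ∀ r s : ℕ, r.Prime → s.Prime → 5 ≤ r → 5 ≤ s → r ≠ v → s ≠ v → r ≠ s → orderOf ((q : ℕ) : ZMod r) = cl.getD i 0 →
        orderOf ((q : ℕ) : ZMod s) = cl.getD j 0 → PG.Rel S r s)
    (hna : ∀ i < T.n, ∀ j < T.n, (T.na.getD i 0).testBit j = true →
      ∀ r s : ℕ, r.Prime → s.Prime → 5 ≤ r → 5 ≤ s → r ≠ v → s ≠ v → r ≠ s → orderOf ((q : ℕ) : ZMod r) = cl.getD i 0 →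
        orderOf ((q : ℕ) : ZMod s) = cl.getD j 0 → ∀ g : S, orderOf g ≠ r * s)
    (htt : ∀ i < T.n, T.tt.testBit i = true → ∀ r : ℕ, r.Prime → 5 ≤ r → r ≠ v →
      orderOf ((q : ℕ) : ZMod r) = cl.getD i 0 → ∀ g : S, orderOf g ≠ r * v)
    (hnt : ∀ i < T.n, T.nt.testBit i = true → ∀ r : ℕ, r.Prime → 5 ≤ r → r ≠ v →
      orderOf ((q : ℕ) : ZMod r) = cl.getD i 0 → PG.Rel S r v) : SOk T S v (kcl cl q) :=
  sok_of (fun i r => orderOf ((q : ℕ) : ZMod r) = cl.getD i 0) (fun r hr h5 hrv hd => by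
      have h1 := h0 r hr h5 hrv hd
      have h2 := List.idxOf_lt_length_of_mem h1
      refine ⟨by rw [hn]; exact h2, ?_⟩
      show _ = cl.getD (cl.idxOf _) 0
      rw [List.getD_eq_getElem _ _ h2, List.getElem_idxOf]) hadj hna htt hnt

/-- transport -/
theorem SOk.congr {T : Tab} {S : Type u} [Group S] {S' : Type*} [Group S'] {v : ℕ} {k : ℕ → ℕ} (e : S ≃* S')
    (h : SOk T S' v k) : SOk T S v k := by
  have hc : Nat.card S = Nat.card S' := Nat.card_congr e.toEquiv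
  have ho : ∀ n : ℕ, (∃ g : S, orderOf g = n) ↔ ∃ g : S', orderOf g = n := by
    intro n
    constructor
    · rintro ⟨g, hg⟩
      exact ⟨e g, by rw [MulEquiv.orderOf_eq, hg]⟩
    · rintro ⟨g, hg⟩
      exact ⟨e.symm g, by rw [MulEquiv.orderOf_eq, hg]⟩
  refine ⟨?_, ?_, ?_, ?_, ?_⟩
  · intro r hr h5 hrv hd
    exact h.lt r hr h5 hrv (hc ▸ hd)
  · intro r s hr hs hr5 hs5 hrv hsv hrs hrd hsd hb
    rw [ho]
    exact h.adj r s hr hs hr5 hs5 hrv hsv hrs (hc ▸ hrd) (hc ▸ hsd) hb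
  · intro r s hr hs hr5 hs5 hrv hsv hrs hrd hsd hb
    rw [ho]
    exact h.na r s hr hs hr5 hs5 hrv hsv hrs (hc ▸ hrd) (hc ▸ hsd) hb
  · intro r hr h5 hrv hd hb
    rw [ho]
    exact h.tt r hr h5 hrv (hc ▸ hd) hb
  · intro r hr h5 hrv hd hb
    rw [ho]
    exact h.nt r hr h5 hrv (hc ▸ hd) hb

end Sok

end Cfsg.Agent.R2.Spec.EE
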