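import Cfsg.Agent.R2.Spec.EE.LExp
import Cfsg.Agent.R2.Spec.EE.SokBase
import Cfsg.Agent.R2.Spec.F1.Bad

/-!
# S3435, EE-NUM, part (B) (helper8): the product of the cyclotomic values of `S`

* `cycs t`, `RR t q` : the product of the `|Φ_d(sg t q)|`, `wt t d ≤ rk t`; `tnum_dvd_RR`;
* `prod_le` : pairwise coprime numbers `N a`, prime to 6, all of whose divisors are orders of elements of `G`:
  `∏ N a ≤ 2 rk t * p ^ f * RR t (p ^ f)`;
* `prodB` : the same for the values `Φ_a(u)` without the primes dividing `a`.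
-/

set_option autoImplicit false
set_option linter.unusedSectionVars false
set_option maxHeartbeats 400000

namespace Cfsg.Agent.R2.Spec.EE

open Cfsg Cfsg.Agent.H426.LieFam Cfsg.Agent.R2.Spec Cfsg.Agent.R2.Spec.P1 Cfsg.Agent.R2.Spec.F1

universe u w

/-- the classes of weight `≤ rk t` -/
def cycs (t : Fam) : List ℕ := (List.range (2 * rk t + 1)).filter fun d => decide (1 ≤ d) && decide (wt t d ≤ rk t)

/-- the product of the cyclotomic values -/
noncomputable def RR (t : Fam) (q : ℕ) : ℕ :=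
  ((cycs t).map fun d => ((Polynomial.cyclotomic d ℤ).eval (sg t q)).natAbs).prod

theorem wt_lin_or {t : Fam} (ht : Classical t) : (∀ i, wt t i = i) ∨ (∀ i, wt t i = eta i) := by
  cases t with
  | psl n => exact Or.inl fun _ => rfl
  | psu n => exact Or.inl fun _ => rfl
  | psp n => exact Or.inr fun _ => rfl
  | oodd n => exact Or.inr fun _ => rfl
  | oplus n => exact Or.inr fun _ => rfl
  | ominus n => exact Or.inr fun _ => rfl
  | _ => exact ht.elim

/-- weights and divisibility -/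
theorem eta_le_of_dvd {d i : ℕ} (hi : 1 ≤ i) (h : d ∣ i) : eta d ≤ eta i := by
  rcases eta_cases d with ⟨h1, h2⟩ | ⟨h1, h2⟩ <;> rcases eta_cases i with ⟨h3, h4⟩ | ⟨h3, h4⟩
  · rw [h2, h4]
    exact Nat.le_of_dvd hi h
  · rw [h2]
    rw [← h4] at h
    exact Nat.le_of_dvd (by omega) ((Nat.coprime_two_right.2 h1).dvd_of_dvd_mul_left h)
  · exfalso
    exact Nat.not_even_iff_odd.2 h3 (even_iff_two_dvd.2 ((even_iff_two_dvd.1 h1).trans h))
  · have := Nat.le_of_dvd hi h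
    omega

theorem wt_le_of_dvd {t : Fam} (ht : Classical t) {d i : ℕ} (hi : 1 ≤ i) (h : d ∣ i) : wt t d ≤ wt t i := by
  rcases wt_lin_or ht with h1 | h1
  · rw [h1, h1]; exact Nat.le_of_dvd hi h
  · rw [h1, h1]; exact eta_le_of_dvd hi h

theorem le_two_wt {t : Fam} (ht : Classical t) (i : ℕ) : i ≤ 2 * wt t i := by
  rcases wt_lin_or ht with h1 | h1
  · rw [h1]; omega
  · rw [h1]
    rcases eta_cases i with ⟨-, h⟩ | ⟨-, h⟩ <;> omega

theorem mem_cycs {t : Fam} (ht : Classical t) {d : ℕ} : d ∈ cycs t ↔ 1 ≤ d ∧ wt t d ≤ rk t := by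
  rw [cycs, List.mem_filter, List.mem_range, Bool.and_eq_true, decide_eq_true_eq, decide_eq_true_eq]
  constructor
  · exact fun h => h.2
  · exact fun h => ⟨by have := le_two_wt ht d; omega, h⟩

theorem cycs_nodup (t : Fam) : (cycs t).Nodup := List.Nodup.filter _ List.nodup_range

theorem sg_natAbs (t : Fam) (q : ℕ) : (sg t q).natAbs = q := by
  cases t with
  | psu n => exact (Int.natAbs_neg _).trans (Int.natAbs_natCast q)
  | _ => exact Int.natAbs_natCast q

theorem sg_pow_ne {t : Fam} {q : ℕ} (hq : 2 ≤ q) {d : ℕ} (hd : 1 ≤ d) : (sg t q) ^ d - 1 ≠ 0 := by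
  intro h
  have h1 : (sg t q) ^ d = 1 := by linear_combination h
  have h2 := congrArg Int.natAbs h1
  rw [Int.natAbs_pow, sg_natAbs] at h2
  have h3 : 1 < q ^ d := Nat.one_lt_pow (by omega) (by omega)
  rw [h2] at h3
  simp at h3

/-- the product over the divisors -/
theorem prod_eval (i : ℕ) (hi : 0 < i) (x : ℤ) :
    ∏ d ∈ i.divisors, (Polynomial.cyclotomic d ℤ).eval x = x ^ i - 1 := by
  have h := congrArg (Polynomial.eval x) (Polynomial.prod_cyclotomic_eq_X_pow_sub_one hi ℤ)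
  rw [Polynomial.eval_prod] at h
  simpa using h

theorem eval_ne_zero {t : Fam} {q : ℕ} (hq : 2 ≤ q) {d : ℕ} (hd : 1 ≤ d) :
    (Polynomial.cyclotomic d ℤ).eval (sg t q) ≠ 0 := by
  intro h
  apply sg_pow_ne (t := t) hq hd
  rw [← prod_eval d hd, Finset.prod_eq_zero (Nat.mem_divisors_self d (by omega)) h]

theorem RR_ne_zero {t : Fam} (ht : Classical t) {q : ℕ} (hq : 2 ≤ q) : RR t q ≠ 0 := by
  rw [RR, Ne, List.prod_eq_zero_iff, List.mem_map]
  rintro ⟨d, hd, h⟩
  exact eval_ne_zero (t := t) hq ((mem_cycs ht).1 hd).1 (Int.natAbs_eq_zero.1 h)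

/-- `|s ^ i - 1|` divides `RR` -/
theorem natAbs_dvd_RR {t : Fam} (ht : Classical t) {q i : ℕ} (hi : 1 ≤ i) (hw : wt t i ≤ rk t) :
    ((sg t q) ^ i - 1).natAbs ∣ RR t q := by
  rw [← prod_eval i hi, ← Int.natAbsHom_apply, map_prod]
  have h1 : RR t q = ∏ d ∈ (cycs t).toFinset, ((Polynomial.cyclotomic d ℤ).eval (sg t q)).natAbs := by
    rw [RR, List.prod_toFinset _ (cycs_nodup t)]
  rw [h1]
  refine Finset.prod_dvd_prod_of_subset _ _ _ ?_
  intro d hd
  rw [List.mem_toFinset, mem_cycs ht]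
  have h2 := Nat.dvd_of_mem_divisors hd
  exact ⟨Nat.pos_of_mem_divisors hd, (wt_le_of_dvd ht hi h2).trans hw⟩

theorem tn_dvd_pow_sub (q i : ℕ) : (if Even i then q ^ (i / 2) + 1 else q ^ i - 1) ∣ q ^ i - 1 := by
  split_ifs with h
  · obtain ⟨j, rfl⟩ := h
    rw [show (j + j) / 2 = j by omega, pow_add]
    refine ⟨q ^ j - 1, ?_⟩
    have := Nat.mul_self_sub_mul_self_eq (q ^ j) 1
    rw [one_mul] at this
    exact this
  · exact dvd_rfl

theorem natAbs_pos_eq {q : ℕ} (hq : 1 ≤ q) (i : ℕ) : (((q : ℤ)) ^ i - 1).natAbs = q ^ i - 1 := by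
  have h1 : 1 ≤ q ^ i := Nat.one_le_pow _ _ hq
  have h2 : (q : ℤ) ^ i - 1 = ((q ^ i - 1 : ℕ) : ℤ) := by
    rw [Nat.cast_sub h1]; push_cast; ring
  rw [h2, Int.natAbs_natCast]

/-- `tnum` divides `|s ^ i - 1|` -/
theorem tnum_dvd_natAbs {t : Fam} (ht : Classical t) {q i : ℕ} (hq : 1 ≤ q) :
    tnum t q i ∣ ((sg t q) ^ i - 1).natAbs := by
  have key : (if Even i then q ^ (i / 2) + 1 else q ^ i - 1) ∣ (((q : ℤ)) ^ i - 1).natAbs := by
    rw [natAbs_pos_eq hq]
    exact tn_dvd_pow_sub q i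
  cases t with
  | psl n => exact dvd_of_eq (natAbs_pos_eq hq i).symm
  | psu n =>
    show (if Even i then q ^ i - 1 else q ^ i + 1) ∣ ((-(q : ℤ)) ^ i - 1).natAbs
    split_ifs with h
    · rw [h.neg_pow, natAbs_pos_eq hq]
    · rw [(Nat.not_even_iff_odd.1 h).neg_pow, show -(q : ℤ) ^ i - 1 = -(((q ^ i + 1 : ℕ) : ℤ)) by push_cast; ring,
        Int.natAbs_neg, Int.natAbs_natCast]
  | psp n => exact key
  | oodd n => exact key
  | oplus n => exact key
  | ominus n => exact key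
  | _ => exact ht.elim

/-- **`tnum` divides `RR`.** -/
theorem tnum_dvd_RR {t : Fam} (ht : Classical t) {q i : ℕ} (hq : 2 ≤ q) (hi : 1 ≤ i) (hw : wt t i ≤ rk t) :
    tnum t q i ∣ RR t q :=
  (tnum_dvd_natAbs ht (by omega)).trans (natAbs_dvd_RR ht hi hw)

/-! ### the product -/

theorem pow_dvd_list {y e : ℕ} (hy : y.Prime) (he : 1 ≤ e) {N : ℕ → ℕ} : ∀ {A : List ℕ},
    A.Pairwise (fun a b => Nat.Coprime (N a) (N b)) → y ^ e ∣ (A.map N).prod → ∃ a ∈ A, y ^ e ∣ N a := by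
  intro A
  induction A with
  | nil =>
    intro _ h
    rw [List.map_nil, List.prod_nil, Nat.dvd_one] at h
    exact absurd h (Nat.one_lt_pow (by omega) hy.one_lt).ne'
  | cons a A ih =>
    intro hp h
    rw [List.map_cons, List.prod_cons] at h
    rw [List.pairwise_cons] at hp
    by_cases hya : y ∣ N a
    · refine ⟨a, List.mem_cons_self, ?_⟩
      refine (Nat.Coprime.dvd_of_dvd_mul_right ?_ h)
      apply Nat.Coprime.pow_left
      rw [Nat.coprime_list_prod_right_iff]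
      intro x hx
      obtain ⟨b, hb, rfl⟩ := List.mem_map.1 hx
      exact (hp.1 b hb).coprime_dvd_left hya
    · obtain ⟨b, hb, h1⟩ := ih hp.2 (((Nat.Coprime.pow_left e ((Nat.Prime.coprime_iff_not_dvd hy).2 hya))).dvd_of_dvd_mul_left h)
      exact ⟨b, List.mem_cons_of_mem _ hb, h1⟩

section main

variable {t : Fam} {p f : ℕ} {L : Type w} [Group L] [Finite L] {G : Type u} [Group G] [Finite G]

/-- **The product is small.** -/
theorem prod_le (h : LS t p f L G) (hI : Fam.Is p f L t) (hp2 : p ≠ 2) {A : List ℕ} {N : ℕ → ℕ}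
    (hcop : A.Pairwise (fun a b => Nat.Coprime (N a) (N b))) (h0 : ∀ a ∈ A, N a ≠ 0)
    (h6 : ∀ a ∈ A, Nat.Coprime (N a) 2)
    (hord : ∀ a ∈ A, ∀ m : ℕ, m ∣ N a → ∃ g : G, orderOf g = m) :
    (A.map N).prod ≤ 2 * rk t * p ^ f * RR t (p ^ f) := by
  have hp := h.prime
  have hq2 : 2 ≤ p ^ f := by
    calc 2 ≤ p := hp.two_le
      _ = p ^ 1 := (pow_one p).symm
      _ ≤ p ^ f := Nat.pow_le_pow_right hp.pos h.fpos
  have hrk := rk_pos h.cla hI
  set P := (A.map N).prod with hP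
  have hP0 : P ≠ 0 := by
    rw [hP, Ne, List.prod_eq_zero_iff, List.mem_map]
    rintro ⟨a, ha, h1⟩
    exact h0 a ha h1
  obtain ⟨k, P', hpP', hPk⟩ := Nat.exists_eq_pow_mul_and_not_dvd hP0 p hp.ne_one
  -- the part prime to `p`
  have h1 : P' ∣ RR t (p ^ f) := by
    rw [Nat.dvd_iff_prime_pow_dvd_dvd]
    intro y e hy hd
    rcases Nat.eq_zero_or_pos e with he | he
    · rw [he, pow_zero]; exact one_dvd _
    have hyp : y ≠ p := by
      rintro rfl
      exact hpP' ((dvd_pow_self y (by omega)).trans hd)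
    obtain ⟨a, ha, h2⟩ := pow_dvd_list (N := N) (A := A) hy he hcop (hd.trans (by rw [← hP, hPk]; exact dvd_mul_left _ _))
    obtain ⟨g, hg⟩ := hord a ha _ h2
    have hy2 : y ≠ 2 := by
      rintro rfl
      have h3 := (h6 a ha).coprime_dvd_left ((dvd_pow_self 2 (by omega)).trans h2)
      norm_num at h3
    obtain ⟨i, hi1, hi2, h3⟩ := lexp h.cla hp hp2 hI hy hy2 hyp ((h.ord _).1 ⟨g, hg⟩)
    exact h3.trans (tnum_dvd_RR h.cla hq2 hi1 hi2)
  have h2 : P' ≤ RR t (p ^ f) := Nat.le_of_dvd (Nat.pos_of_ne_zero (RR_ne_zero h.cla hq2)) h1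
  -- the `p`-part
  have h3 : p ^ k ≤ 2 * rk t * p ^ f := by
    rcases k with _ | k
    · rw [pow_zero]
      exact Nat.mul_pos (by omega) (by omega)
    · obtain ⟨a, ha, h4⟩ := pow_dvd_list (N := N) (A := A) hp (by omega : 1 ≤ k + 1) hcop
        (by rw [← hP, hPk]; exact dvd_mul_right _ _)
      obtain ⟨g, hg⟩ := hord a ha _ h4
      have h5 := pexp h.cla hp hp2 hI ((h.ord _).1 ⟨g, hg⟩)
      rw [pow_succ]
      refine Nat.mul_le_mul (by omega) ?_
      calc p = p ^ 1 := (pow_one p).symm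
        _ ≤ p ^ f := Nat.pow_le_pow_right hp.pos h.fpos
  rw [hPk]
  exact Nat.mul_le_mul h3 h2

end main

end Cfsg.Agent.R2.Spec.EE
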