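import Cfsg.Agent.R2.Spec.EE.SmGdB
import Cfsg.Agent.R2.Spec.EE.NumB
import Cfsg.Agent.R2.Spec.EE.SokRee

/-!
# EE-small, packet (s6), part C (helper5): the class 4, `S = ²F₄, Ree`

* `EX.no4` : if the class 4 contains no available prime, `(q ^ 2 + 1) / 2` divides `f'`;
* `EX.no_prime` : a prime dividing the order of an element of `S` divides some `q ^ (2 i) - 1`, `i ≤ 16`;
* `EX.gd4_tf4`, `EX.gd4_ree` : the class 4 contains an available prime, `rk t ≤ 8`;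
* `EX.gd_tf4_sm`, `EX.gd_ree_sm` : all the regular classes, `Sm t`.
-/

set_option autoImplicit false
set_option linter.unusedSectionVars false
set_option linter.unusedVariables false
set_option maxHeartbeats 1000000

namespace Cfsg.Agent.R2.Spec.EE

open Subgroup Cfsg
open Cfsg.Agent.H426.LieFam Cfsg.Agent.R2.Spec Cfsg.Agent.R2.Spec.P1 Cfsg.Agent.R2.Spec.F1

universe u w

theorem ord_four {a y : ℕ} (hy : y.Prime) (hy2 : y ≠ 2) {x : ZMod y} (hx : x ^ 2 = ((a : ℕ) : ZMod y) ^ 2)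
    (hd : y ∣ a ^ 2 + 1) : orderOf x = 4 := by
  have := Fact.mk hy
  have h1 : x ^ 2 = -1 := by
    have h2 := (ZMod.natCast_eq_zero_iff (a ^ 2 + 1) y).2 hd
    push_cast at h2
    rw [hx]
    linear_combination h2
  have h2 : (2 : ZMod y) ≠ 0 := by
    intro h0
    have h3 : ((2 : ℕ) : ZMod y) = 0 := by push_cast; exact h0
    exact hy2 ((Nat.prime_dvd_prime_iff_eq hy Nat.prime_two).1 ((ZMod.natCast_eq_zero_iff 2 y).1 h3))
  have h3 : ¬ x ^ 2 ^ 1 = 1 := by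
    rw [pow_one, h1]
    intro h4
    apply h2
    linear_combination -h4
  have h4 : x ^ 2 ^ (1 + 1) = 1 := by
    rw [show 2 ^ (1 + 1) = 2 * 2 by norm_num, pow_mul, h1]
    ring
  exact orderOf_eq_prime_pow h3 h4

theorem dvd_tnum4 {t : Fam} (ht : Classical t) {q : ℕ} : q ^ 2 + 1 ∣ tnum t q 4 := by
  have h1 : q ^ 2 + 1 ∣ q ^ 4 - 1 := by
    refine ⟨q ^ 2 - 1, ?_⟩
    have := Nat.mul_self_sub_mul_self_eq (q ^ 2) 1
    rw [one_mul] at this
    rw [← this]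
    congr 1
    ring
  cases t with
  | psl n => exact h1
  | psu n => exact h1
  | psp n => exact dvd_rfl
  | oodd n => exact dvd_rfl
  | oplus n => exact dvd_rfl
  | ominus n => exact dvd_rfl
  | _ => exact ht.elim

theorem tnum_dvd_pow {t : Fam} (ht : Classical t) {q i : ℕ} (hq : 1 ≤ q) : tnum t q i ∣ q ^ (2 * i) - 1 := by
  refine (tnum_dvd_natAbs ht hq).trans ?_
  have h1 : ((q : ℤ) ^ (2 * i) - 1).natAbs = q ^ (2 * i) - 1 := natAbs_pos_eq hq (2 * i)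
  rw [← h1, Int.natAbs_dvd_natAbs]
  refine ⟨(sg t q) ^ i + 1, ?_⟩
  have h2 : (q : ℤ) ^ (2 * i) = (sg t q) ^ (2 * i) := by
    rw [pow_mul, pow_mul, ← sg_sq t q]
  rw [h2]
  ring

section

variable {t : Fam} {p f : ℕ} {L : Type w} [Group L] [Finite L] {G : Type u} [Group G] [Finite G]
  {K : Subgroup G} [K.Normal] {S : Subgroup (G ⧸ K)} [S.Normal] {t' : Fam} {v f' : ℕ} {T : Tab} {k : ℕ → ℕ}

/-- no available prime of class 4 -/
theorem EX.no4 (h : EX t p f L G K S t' v f' T k) (hm : mem t 4)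
    (hno : ¬ ∃ y, Gd t (p ^ f) (Nat.card ↥K) S.index 4 y) : ((p ^ f) ^ 2 + 1) / 2 ∣ f' := by
  obtain ⟨hq, hq3⟩ := h.oddq
  set q := p ^ f with hqdef
  have h2 : q ^ 2 % 4 = 1 := by
    have : q % 4 = 1 ∨ q % 4 = 3 := by omega
    rcases this with h1 | h1 <;> simp [Nat.pow_mod, h1]
  have hN : (q ^ 2 + 1) / 2 * 2 = q ^ 2 + 1 := by omega
  have hNo : (q ^ 2 + 1) / 2 % 2 = 1 := by omega
  rw [Nat.dvd_iff_prime_pow_dvd_dvd]
  intro y a hy hya
  rcases Nat.eq_zero_or_pos a with rfl | ha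
  · rw [pow_zero]; exact one_dvd _
  have hyN : y ∣ (q ^ 2 + 1) / 2 := (dvd_pow_self y (by omega)).trans hya
  have hy2 : y ≠ 2 := by
    rintro rfl
    omega
  have hyI : In t q 4 y := by
    refine ⟨hy, ?_, by norm_num, hm⟩
    rw [cls]
    refine ord_four (a := q) hy hy2 ?_ (hyN.trans ⟨2, hN.symm⟩)
    have h1 := congrArg (fun z : ℤ => (z : ZMod y)) (sg_sq t q)
    push_cast at h1 ⊢
    exact h1
  by_contra hf
  apply hno
  refine ⟨y, hyI, fun hyK => ⟨a, ?_, fun hyS => hf (h.ef.idx y a hy hyI.five hyS)⟩⟩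
  exact (hya.trans ⟨2, hN.symm⟩).trans (dvd_tnum4 h.ls.cla)

/-- the primes of `S` -/
theorem EX.no_prime (h : EX t p f L G K S t' v f' T k) {y : ℕ} (hy : y.Prime) (hy2 : y ≠ 2) (hyp : y ≠ p)
    (hx : ∃ x : ↥S, y ∣ orderOf x) (hr : rk t ≤ 8) (hc : ∀ i, 1 ≤ i → i ≤ 16 → ¬ y ∣ (p ^ f) ^ (2 * i) - 1) :
    False := by
  obtain ⟨x, a, hx⟩ := hx
  have hpos := orderOf_pos x
  have h1 : orderOf (x ^ a) = y := by
    have ha : a ≠ 0 := by rintro rfl; omega
    rw [orderOf_pow_of_dvd ha ⟨y, by rw [hx]; ring⟩, hx]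
    exact Nat.mul_div_cancel _ (Nat.pos_of_ne_zero ha)
  obtain ⟨g, hg⟩ := exists_of_S (S := S) ⟨x ^ a, h1⟩
  have h2 := (h.ls.ord _).1 ⟨g, hg⟩
  obtain ⟨i, hi, hw, h3⟩ := lexp h.ls.cla h.ls.prime h.p2 h.is hy hy2 hyp (e := 1) (by rwa [pow_one])
  rw [pow_one] at h3
  have hi2 := le_two_wt h.ls.cla i
  exact hc i hi (by omega) (h3.trans (tnum_dvd_pow h.ls.cla (by have := h.oddq; omega)))

end

/-! ### the orders -/

theorem tf4_ordC {X : Type u} [Group X] {v f : ℕ} (h : Fam.Is v f X .tf4) :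
    v = 2 ∧ ∃ m, f = 2 * m + 1 ∧ ∃ x : X, orderOf x = 1 + 2 * 2 ^ m + 2 * (2 ^ m) ^ 2 + 4 * (2 ^ m) ^ 3 + 4 * (2 ^ m) ^ 4 := by
  obtain ⟨rfl, m, hm, rfl, F, _, _, hF, ⟨e⟩⟩ := h
  obtain ⟨N, hN'⟩ : ∃ N : ℕ, N = 1 + 2 * 2 ^ m + 2 * (2 ^ m) ^ 2 + 4 * (2 ^ m) ^ 3 + 4 * (2 ^ m) ^ 4 := ⟨_, rfl⟩
  have hN : (N : ℤ) = 1 + 2 * (2 ^ m) + 2 * (2 ^ m) ^ 2 + 4 * (2 ^ m) ^ 3 + 4 * (2 ^ m) ^ 4 := by rw [hN']; push_cast; ring
  have hpos : 0 < 2 ^ m := Nat.two_pow_pos m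
  obtain ⟨r, hr, hrN⟩ := Nat.exists_prime_and_dvd (n := N) (by rw [hN']; omega)
  obtain ⟨C, hC, h1, h2, -, -⟩ := Cfsg.Agent.H129.CycCard.card_tF4_plus hF hN hr
    (by rw [← hN]; exact Int.natCast_dvd_natCast.2 hrN)
  have h3 : Nat.card C = N := Nat.dvd_antisymm h1 (by simpa using h2)
  obtain ⟨x, hx⟩ := hC.exists_generator
  refine ⟨rfl, m, rfl, e.symm x, ?_⟩
  rw [MulEquiv.orderOf_eq, Subgroup.orderOf_coe, orderOf_eq_card_of_forall_mem_zpowers hx, h3, hN']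

theorem ree_ordC {X : Type u} [Group X] {v f : ℕ} (h : Fam.Is v f X .ree) :
    v = 3 ∧ ∃ m, f = 2 * m + 1 ∧ ∃ x : X, orderOf x = 3 ^ f + 3 ^ (m + 1) + 1 := by
  obtain ⟨rfl, m, hm, hf, K, _, _, hK, ⟨e⟩⟩ := h
  refine ⟨rfl, m, hf, ?_⟩
  obtain ⟨g, hg⟩ := (S1159.result hm hK (3 ^ (2 * m + 1) + 3 ^ (m + 1) + 1)).2
    (Or.inr (Or.inr (Or.inr (Or.inr (Or.inr dvd_rfl)))))
  exact ⟨e.symm g, by rw [MulEquiv.orderOf_eq, hg, hf]⟩

/-! ### numbers -/

theorem pow17_le {q : ℕ} (hq : 8 ≤ q) : q ^ 17 ≤ 2 ^ (9 * (q - 1)) := by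
  have h5 : q ^ 2 ≤ 2 ^ (q - 1) := (Nat.pow_le_pow_left (by omega) 2).trans (sq_le_two' (by omega : 7 ≤ q))
  calc q ^ 17 ≤ q ^ 18 := Nat.pow_le_pow_right (by omega) (by norm_num)
    _ = (q ^ 2) ^ 9 := by ring
    _ ≤ (2 ^ (q - 1)) ^ 9 := Nat.pow_le_pow_left h5 9
    _ = 2 ^ (9 * (q - 1)) := by rw [← pow_mul, mul_comm]

theorem num_tf4 {q F e : ℕ} (hq : 7 ≤ q) (hq2 : q % 2 = 1) (he : e ≤ 17) (h1 : (2 ^ F) ^ 2 < q ^ e)
    (h2 : (q ^ 2 + 1) / 2 ≤ F) : False := by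
  have h3 : q ^ e ≤ q ^ 17 := Nat.pow_le_pow_right (by omega) he
  have h4 : 2 ^ (2 * F) < q ^ 17 := by
    rw [mul_comm, pow_mul]
    exact h1.trans_le h3
  have h5 : q ^ 2 ≤ 2 * F := by omega
  rcases Nat.lt_or_ge q 9 with h | h
  · have hq7 : q = 7 := by omega
    subst hq7
    have h6 : 2 ^ 49 ≤ 2 ^ (2 * F) := Nat.pow_le_pow_right (by norm_num) (by omega)
    norm_num at h6 h4
    omega
  · have h6 := (h4.trans_le (pow17_le (by omega)))
    have h7 : 2 * F < 9 * (q - 1) := (Nat.pow_lt_pow_iff_right (by norm_num)).1 h6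
    obtain ⟨c, rfl⟩ : ∃ c, q = c + 1 := ⟨q - 1, by omega⟩
    rw [Nat.add_sub_cancel] at h7
    nlinarith

theorem num_ree {q F e : ℕ} (hq : 11 ≤ q) (he : e ≤ 17) (h1 : 3 ^ F < q ^ e)
    (h2 : (q ^ 2 + 1) / 2 ≤ F) : False := by
  have h3 : q ^ e ≤ q ^ 17 := Nat.pow_le_pow_right (by omega) he
  have h4 : 3 ^ F < q ^ 17 := h1.trans_le h3
  rcases Nat.lt_or_ge q 18 with h | h
  · have h5 : 61 ≤ F := by
      have : 11 ^ 2 ≤ q ^ 2 := Nat.pow_le_pow_left hq 2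
      omega
    have h6 : 3 ^ 61 ≤ 3 ^ F := Nat.pow_le_pow_right (by norm_num) h5
    have h7 : q ^ 17 ≤ 17 ^ 17 := Nat.pow_le_pow_left (by omega) 17
    norm_num at h6 h7
    omega
  · have h5 : 2 ^ F ≤ 3 ^ F := Nat.pow_le_pow_left (by norm_num) F
    have h6 := (h5.trans_lt (h4.trans_le (pow17_le (by omega))))
    have h7 : F < 9 * (q - 1) := (Nat.pow_lt_pow_iff_right (by norm_num)).1 h6
    obtain ⟨c, rfl⟩ : ∃ c, q = c + 1 := ⟨q - 1, by omega⟩
    rw [Nat.add_sub_cancel] at h7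
    have h8 : (c + 1) ^ 2 ≤ 2 * F := by omega
    nlinarith

theorem eq_of_pow_prime {p f r : ℕ} (hp : p.Prime) (hr : r.Prime) (h : p ^ f = r) : p = r := by
  have h1 : f ≠ 0 := by
    rintro rfl
    rw [pow_zero] at h
    exact hr.one_lt.ne h
  exact (Nat.prime_dvd_prime_iff_eq hp hr).1 (h ▸ dvd_pow_self p h1)

section

variable {t : Fam} {p f : ℕ} {L : Type w} [Group L] [Finite L] {G : Type u} [Group G] [Finite G]
  {K : Subgroup G} [K.Normal] {S : Subgroup (G ⧸ K)} [S.Normal] {v f' : ℕ} {T : Tab} {k : ℕ → ℕ}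

/-- **`²F₄(u)`: the class 4 contains an available prime.** -/
theorem EX.gd4_tf4 (h : EX t p f L G K S .tf4 v f' T k) (hr : rk t ≤ 8) (hm : mem t 4) :
    ∃ y, Gd t (p ^ f) (Nat.card ↥K) S.index 4 y := by
  by_contra hno
  have hN := h.no4 hm hno
  obtain ⟨-, m, hf', x, hx⟩ := tf4_ordC h.frm.is
  have hlt := h.tf4_lt
  obtain ⟨hq, hq3⟩ := h.oddq
  have hle : ((p ^ f) ^ 2 + 1) / 2 ≤ f' := Nat.le_of_dvd (by omega) hN
  have hp := h.ls.prime
  rcases Nat.lt_or_ge (p ^ f) 7 with h7 | h7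
  · have h35 : p ^ f = 3 ∨ p ^ f = 5 := by omega
    rcases h35 with h3 | h5
    · have hp3 := eq_of_pow_prime hp Nat.prime_three h3
      rw [h3] at hN hlt
      have h13 : f' ≤ 13 := by
        by_contra hcon
        have h8 : 2 ^ 14 ≤ 2 ^ f' := Nat.pow_le_pow_right (by norm_num) (by omega)
        have h9 : (2 ^ 14) ^ 2 ≤ (2 ^ f') ^ 2 := Nat.pow_le_pow_left h8 2
        have h10 : 3 ^ (2 * rk t + 1) ≤ 3 ^ 17 := Nat.pow_le_pow_right (by norm_num) (by omega)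
        norm_num at h9 h10
        omega
      have hm2 : m = 2 := by
        norm_num at hN
        omega
      subst hm2
      refine h.no_prime (y := 1321) (by norm_num) (by norm_num) (by omega) ⟨x, by rw [hx]; norm_num⟩ hr ?_
      rw [h3]
      intro i h1 h16
      interval_cases i <;> norm_num
    · have hp5 := eq_of_pow_prime hp Nat.prime_five h5
      rw [h5] at hN hlt
      have h13 : f' ≤ 19 := by
        by_contra hcon
        have h8 : 2 ^ 20 ≤ 2 ^ f' := Nat.pow_le_pow_right (by norm_num) (by omega)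
        have h9 : (2 ^ 20) ^ 2 ≤ (2 ^ f') ^ 2 := Nat.pow_le_pow_left h8 2
        have h10 : 5 ^ (2 * rk t + 1) ≤ 5 ^ 17 := Nat.pow_le_pow_right (by norm_num) (by omega)
        norm_num at h9 h10
        omega
      have hm2 : m = 6 := by
        norm_num at hN
        omega
      subst hm2
      refine h.no_prime (y := 3121) (by norm_num) (by norm_num) (by omega) ⟨x, by rw [hx]; norm_num⟩ hr ?_
      rw [h5]
      intro i h1 h16
      interval_cases i <;> norm_num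
  · exact num_tf4 h7 hq (by omega) hlt hle

/-- **`Ree(u)`: the class 4 contains an available prime.** -/
theorem EX.gd4_ree (h : EX t p f L G K S .ree v f' T k) (hr : rk t ≤ 8) (hm : mem t 4) :
    ∃ y, Gd t (p ^ f) (Nat.card ↥K) S.index 4 y := by
  by_contra hno
  have hN := h.no4 hm hno
  obtain ⟨hv, m, hf', x, hx⟩ := ree_ordC h.frm.is
  have hvp := h.vp
  rw [hv] at hvp
  have hle' := h.ord_le x
  have hlt : 3 ^ f' < (p ^ f) ^ (2 * rk t + 1) := by
    rw [hx] at hle'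
    have h0 : 0 < 3 ^ (m + 1) := Nat.pow_pos (by norm_num)
    exact lt_of_lt_of_le (by omega) hle'
  obtain ⟨hq, hq3⟩ := h.oddq
  have hle : ((p ^ f) ^ 2 + 1) / 2 ≤ f' := Nat.le_of_dvd (by omega) hN
  have hp := h.ls.prime
  have h3q : ¬ 3 ∣ p ^ f := fun hd => hvp ((Nat.prime_dvd_prime_iff_eq Nat.prime_three hp).1
    (Nat.prime_three.dvd_of_dvd_pow hd))
  rcases Nat.lt_or_ge (p ^ f) 11 with h7 | h7
  · have h35 : p ^ f = 5 ∨ p ^ f = 7 := by omega
    rcases h35 with h5 | h5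
    · have hp5 := eq_of_pow_prime hp Nat.prime_five h5
      rw [h5] at hN hlt
      have h13 : f' ≤ 24 := by
        by_contra hcon
        have h8 : 3 ^ 25 ≤ 3 ^ f' := Nat.pow_le_pow_right (by norm_num) (by omega)
        have h10 : 5 ^ (2 * rk t + 1) ≤ 5 ^ 17 := Nat.pow_le_pow_right (by norm_num) (by omega)
        norm_num at h8 h10
        omega
      have hm2 : m = 6 := by
        norm_num at hN
        omega
      subst hm2
      have hf13 : f' = 13 := by omega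
      refine h.no_prime (y := 79) (by norm_num) (by norm_num) (by omega) ⟨x, by rw [hx, hf13]; norm_num⟩ hr ?_
      rw [h5]
      intro i h1 h16
      interval_cases i <;> norm_num
    · have hp5 := eq_of_pow_prime hp (by norm_num) h5
      rw [h5] at hN hlt
      have h13 : f' ≤ 30 := by
        by_contra hcon
        have h8 : 3 ^ 31 ≤ 3 ^ f' := Nat.pow_le_pow_right (by norm_num) (by omega)
        have h10 : 7 ^ (2 * rk t + 1) ≤ 7 ^ 17 := Nat.pow_le_pow_right (by norm_num) (by omega)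
        norm_num at h8 h10
        omega
      have hm2 : m = 12 := by
        norm_num at hN
        omega
      subst hm2
      have hf13 : f' = 25 := by omega
      refine h.no_prime (y := 2551) (by norm_num) (by norm_num) (by omega) ⟨x, by rw [hx, hf13]; norm_num⟩ hr ?_
      rw [h5]
      intro i h1 h16
      interval_cases i <;> norm_num
  · exact num_ree h7 (by omega) hlt hle

theorem mem_four {t : Fam} (ht : Sm t) : mem t 4 := by
  rw [sm_iff] at ht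
  rcases ht with rfl | rfl | rfl | rfl | rfl | rfl | rfl | rfl | rfl | rfl | rfl | rfl | rfl | rfl <;>
    exact mem_of_memB (by decide)

theorem rk_le_eight {t : Fam} (ht : Sm t) : rk t ≤ 8 := by
  rw [sm_iff] at ht
  rcases ht with rfl | rfl | rfl | rfl | rfl | rfl | rfl | rfl | rfl | rfl | rfl | rfl | rfl | rfl <;> decide

/-- **All the regular classes, `²F₄(u)`, `Sm t`.** -/
theorem EX.gd_tf4_sm (h : EX t p f L G K S .tf4 v f' T k) (ht : Sm t) :
    ∀ i ∈ cls3 t, ∃ y, Gd t (p ^ f) (Nat.card ↥K) S.index i y := by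
  intro i hi
  by_cases h4 : i = 4
  · subst h4
    exact h.gd4_tf4 (rk_le_eight ht) (mem_four ht)
  · exact h.gd_sm4 ht i hi h4

/-- **All the regular classes, `Ree(u)`, `Sm t`.** -/
theorem EX.gd_ree_sm (h : EX t p f L G K S .ree v f' T k) (ht : Sm t) :
    ∀ i ∈ cls3 t, ∃ y, Gd t (p ^ f) (Nat.card ↥K) S.index i y := by
  intro i hi
  by_cases h4 : i = 4
  · subst h4
    exact h.gd4_ree (rk_le_eight ht) (mem_four ht)
  · exact h.gd_sm4 ht i hi h4

end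

end Cfsg.Agent.R2.Spec.EE
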