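import Cfsg.Agent.R2.Spec.EE.NumBT

/-!
# The bound (B) of degree 10 for `²F₄(u)` (helper1)

* `gen_le2` : numbers `N a`, pairwise coprime, odd, all prime powers of which are orders of elements of `G`:
  `32 ∏ N a ≤ max 169 (p ^ f) * R`;
* `tf4_big10` : `32 (u² - 1) (u⁶ + 1) (u² + 1 - u) ≤ 3 max 169 (p ^ f) * R`, `S = ²F₄(u)`;
* `tf4_big10R` : `R = RR t (p ^ f)`.
-/

set_option autoImplicit false
set_option linter.unusedSectionVars false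
set_option linter.unusedVariables false

namespace Cfsg.Agent.R2.Spec.EE

open Subgroup Cfsg Cfsg.Lie
open Cfsg.Agent.H426.LieFam Cfsg.Agent.R2.Spec Cfsg.Agent.R2.Spec.P1 Cfsg.Agent.R2.Spec.F1
open Cfsg.Agent.H493.PGF4T

universe u w

section main

variable {t : Fam} {p f : ℕ} {L : Type w} [Group L] [Finite L] {G : Type u} [Group G] [Finite G]

/-- **The product is small**, numbers prime to 2. -/
theorem gen_le2 (h : LS t p f L G) (hI : Fam.Is p f L t) (hp2 : p ≠ 2) (hrk : rk t ≤ 8) {R : ℕ} (hR0 : R ≠ 0)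
    (hR : ∀ y e : ℕ, y.Prime → 3 ≤ y → y ≠ p → 1 ≤ e → (∃ x : L, orderOf x = y ^ e) → y ^ e ∣ R) (h32 : 32 ∣ R)
    {A : List ℕ} {N : ℕ → ℕ}
    (hcop : A.Pairwise (fun a b => Nat.Coprime (N a) (N b))) (h0 : ∀ a ∈ A, N a ≠ 0)
    (h6 : ∀ a ∈ A, Nat.Coprime (N a) 2)
    (hord : ∀ a ∈ A, ∀ y e : ℕ, y.Prime → 1 ≤ e → y ^ e ∣ N a → ∃ g : G, orderOf g = y ^ e) :
    32 * (A.map N).prod ≤ max 169 (p ^ f) * R := by
  have hp := h.prime
  set P := (A.map N).prod with hP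
  have hP0 : P ≠ 0 := by
    rw [hP, Ne, List.prod_eq_zero_iff, List.mem_map]
    rintro ⟨a, ha, h1⟩
    exact h0 a ha h1
  have hP6 : Nat.Coprime P 2 := by
    rw [hP, Nat.coprime_comm, Nat.coprime_list_prod_right_iff]
    intro x hx
    obtain ⟨b, hb, rfl⟩ := List.mem_map.1 hx
    exact (h6 b hb).symm
  obtain ⟨k, P', hpP', hPk⟩ := Nat.exists_eq_pow_mul_and_not_dvd hP0 p hp.ne_one
  have hP'6 : Nat.Coprime P' 2 := hP6.coprime_dvd_left (by rw [hPk]; exact dvd_mul_left _ _)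
  -- the part prime to `p`
  have h1 : P' ∣ R := by
    rw [Nat.dvd_iff_prime_pow_dvd_dvd]
    intro y e hy hd
    rcases Nat.eq_zero_or_pos e with he | he
    · rw [he, pow_zero]; exact one_dvd _
    have hyp : y ≠ p := by
      rintro rfl
      exact hpP' ((dvd_pow_self y (by omega)).trans hd)
    obtain ⟨a, ha, h2⟩ := pow_dvd_list (N := N) (A := A) hy he hcop (hd.trans (by rw [← hP, hPk]; exact dvd_mul_left _ _))
    have hyN : Nat.Coprime y 2 := (h6 a ha).coprime_dvd_left ((dvd_pow_self y (by omega)).trans h2)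
    have hy2 : y ≠ 2 := by
      rintro rfl
      norm_num at hyN
    exact hR y e hy (by have := hy.two_le; omega) hyp he ((h.ord _).1 (hord a ha y e hy he h2))
  have h2 : 32 * P' ∣ R := by
    refine Nat.Coprime.mul_dvd_of_dvd_of_dvd ?_ h32 h1
    rw [show (32 : ℕ) = 2 ^ 5 by norm_num]
    exact Nat.Coprime.pow_left 5 hP'6.symm
  have h3 := Nat.le_of_dvd (Nat.pos_of_ne_zero hR0) h2
  have h4 : p ^ k ≤ max 169 (p ^ f) := by
    rcases k with _ | k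
    · rw [pow_zero]
      exact (by norm_num : 1 ≤ 169).trans (le_max_left _ _)
    · obtain ⟨a, ha, h4⟩ := pow_dvd_list (N := N) (A := A) hp (by omega : 1 ≤ k + 1) hcop
        (by rw [← hP, hPk]; exact dvd_mul_right _ _)
      exact ppow_le h.cla hp hp2 hI h.fpos hrk ((h.ord _).1 (hord a ha p (k + 1) hp (by omega) h4))
  calc 32 * P = p ^ k * (32 * P') := by rw [hPk]; ring
    _ ≤ max 169 (p ^ f) * R := Nat.mul_le_mul h4 h3

end main

/-- the seven numbers -/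
def N7 (b : ℕ) : ℕ → ℕ
  | 0 => 2 * b ^ 2 - 1
  | 1 => 2 * b ^ 2 + 1
  | n + 2 => NT b n

/-- the classes -/
def cI7 : ℕ → ℕ
  | 0 => 0
  | 1 => 1
  | n + 2 => cI n

theorem cI7_lt (i : ℕ) : cI7 i < 6 := by
  match i with
  | 0 => exact (by norm_num : 0 < 6)
  | 1 => exact (by norm_num : 1 < 6)
  | n + 2 => exact cI_lt n

theorem N7_zero_cast (m : ℕ) : ((N7 (2 ^ m) 0 : ℕ) : ℤ) = 2 * ((2 : ℤ) ^ m) ^ 2 - 1 := by
  have hb : 1 ≤ (2 ^ m) ^ 2 := Nat.one_le_pow _ _ (Nat.two_pow_pos m)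
  show ((2 * (2 ^ m) ^ 2 - 1 : ℕ) : ℤ) = _
  rw [Nat.cast_sub (by omega)]
  push_cast
  ring

theorem N7_dvd (m : ℕ) {i r : ℕ} (h : r ∣ N7 (2 ^ m) i) : (r : ℤ) ∣ NTF (2 ^ m) (cI7 i) := by
  match i with
  | 0 =>
    show (r : ℤ) ∣ 2 * ((2 : ℤ) ^ m) ^ 2 - 1
    rw [← N7_zero_cast]
    exact Int.natCast_dvd_natCast.2 h
  | 1 =>
    show (r : ℤ) ∣ 2 * ((2 : ℤ) ^ m) ^ 2 + 1
    have h1 : (r : ℤ) ∣ ((2 * (2 ^ m) ^ 2 + 1 : ℕ) : ℤ) := Int.natCast_dvd_natCast.2 h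
    push_cast at h1
    exact h1
  | n + 2 => exact FT_NTF (NT_dvd m h)

theorem b2_mod3 (m : ℕ) : (2 ^ m) ^ 2 % 3 = 1 := by
  rw [← pow_mul, mul_comm, pow_mul, show 2 ^ 2 = 4 by norm_num, Nat.pow_mod, show 4 % 3 = 1 by norm_num, one_pow]
  rfl

theorem N7_two (m : ℕ) (i : ℕ) : Nat.Coprime (N7 (2 ^ m) i) 2 := by
  have hb : 1 ≤ (2 ^ m) ^ 2 := Nat.one_le_pow _ _ (Nat.two_pow_pos m)
  match i with
  | 0 =>
    show Nat.Coprime (2 * (2 ^ m) ^ 2 - 1) 2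
    rw [Nat.coprime_comm, Nat.coprime_two_left, Nat.odd_iff]
    omega
  | 1 =>
    show Nat.Coprime (2 * (2 ^ m) ^ 2 + 1) 2
    rw [Nat.coprime_comm, Nat.coprime_two_left, Nat.odd_iff]
    omega
  | n + 2 => exact (NT_cop6 m n).coprime_dvd_right (by norm_num)

theorem N7_three (m : ℕ) {i : ℕ} (hi : i ≠ 1) : ¬ 3 ∣ N7 (2 ^ m) i := by
  have hb : 1 ≤ (2 ^ m) ^ 2 := Nat.one_le_pow _ _ (Nat.two_pow_pos m)
  have h3 := b2_mod3 m
  match i with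
  | 0 =>
    show ¬ 3 ∣ 2 * (2 ^ m) ^ 2 - 1
    omega
  | 1 => exact absurd rfl hi
  | n + 2 =>
    intro h
    have h1 : Nat.Coprime 3 6 := (NT_cop6 m n).coprime_dvd_left h
    norm_num at h1

theorem N7_ne (m : ℕ) (i : ℕ) : N7 (2 ^ m) i ≠ 0 := by
  intro h
  have h1 := N7_two m i
  rw [h] at h1
  norm_num at h1

theorem N7_key (m : ℕ) {i j : ℕ} (hij : i ≠ j) (h : cI7 i ≠ cI7 j) :
    Nat.Coprime (N7 (2 ^ m) i) (N7 (2 ^ m) j) := by
  refine cop_of_prime fun r hr h1 h2 => ?_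
  have hr2 : r ≠ 2 := by
    rintro rfl
    have h3 := (N7_two m i).coprime_dvd_left h1
    norm_num at h3
  have hr3 : r ≠ 3 := by
    rintro rfl
    by_cases hi : i = 1
    · exact N7_three m (fun hj => hij (hi.trans hj.symm)) h2
    · exact N7_three m hi h1
  have hr4 : r ≠ 4 := by
    rintro rfl
    norm_num at hr
  have h5 : 5 ≤ r := by have := hr.two_le; omega
  exact h (NTF_uniq hr h5 (cI7_lt i) (cI7_lt j) (N7_dvd m h1) (N7_dvd m h2))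

theorem N7_cop (m : ℕ) : [0, 1, 2, 3, 4, 5, 6].Pairwise (fun a b => Nat.Coprime (N7 (2 ^ m) a) (N7 (2 ^ m) b)) := by
  have h01 : Nat.Coprime (N7 (2 ^ m) 2) (N7 (2 ^ m) 3) := by
    have h1 := NT_cop m
    simp only [List.pairwise_cons, List.mem_cons, List.not_mem_nil, or_false, List.Pairwise.nil, and_true] at h1
    exact h1.1 1 (Or.inl rfl)
  simp only [List.pairwise_cons, List.mem_cons, List.not_mem_nil, or_false, List.Pairwise.nil, and_true]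
  refine ⟨?_, ?_, ?_, ?_, ?_, ?_, fun _ h => h.elim⟩
  · rintro b (rfl | rfl | rfl | rfl | rfl | rfl) <;> exact N7_key m (by decide) (by decide)
  · rintro b (rfl | rfl | rfl | rfl | rfl) <;> exact N7_key m (by decide) (by decide)
  · rintro b (rfl | rfl | rfl | rfl)
    · exact h01
    all_goals exact N7_key m (by decide) (by decide)
  · rintro b (rfl | rfl | rfl) <;> exact N7_key m (by decide) (by decide)
  · rintro b (rfl | rfl) <;> exact N7_key m (by decide) (by decide)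
  · rintro b rfl
    exact N7_key m (by decide) (by decide)

theorem N7_prod (m : ℕ) : 3 * (([0, 1, 2, 3, 4, 5, 6].map (N7 (2 ^ m))).prod : ℕ) =
    ((2 ^ (2 * m + 1)) ^ 2 - 1) * (((2 ^ (2 * m + 1)) ^ 6 + 1) * ((2 ^ (2 * m + 1)) ^ 2 + 1 - 2 ^ (2 * m + 1))) := by
  rw [← NT_prod]
  have h1 : (2 ^ (2 * m + 1)) ^ 2 - 1 = (2 * (2 ^ m) ^ 2 - 1) * (2 * (2 ^ m) ^ 2 + 1) := by
    have hu : 2 ^ (2 * m + 1) = 2 * (2 ^ m) ^ 2 := by rw [← pow_mul]; ring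
    rw [hu]
    have hb : 1 ≤ (2 ^ m) ^ 2 := Nat.one_le_pow _ _ (Nat.two_pow_pos m)
    generalize (2 ^ m) ^ 2 = c at *
    have h2 : 1 ≤ (2 * c) ^ 2 := Nat.one_le_pow _ _ (by omega)
    zify [h2, (show 1 ≤ 2 * c by omega)]
    ring
  rw [h1]
  simp only [List.map_cons, List.map_nil, List.prod_cons, List.prod_nil, mul_one, N7]
  ring

section main

variable {t : Fam} {p f : ℕ} {L : Type w} [Group L] [Finite L] {G : Type u} [Group G] [Finite G]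
  {K : Subgroup G} [K.Normal] {S : Subgroup (G ⧸ K)} [S.Normal] {v f' : ℕ}

/-- the orders of `²F₄` -/
theorem tf4_ord7 {X : Type u} [Group X] (hS : Fam.Is v f' X .tf4) :
    v = 2 ∧ ∃ m, 1 ≤ m ∧ f' = 2 * m + 1 ∧ ∀ i d : ℕ, d ∣ N7 (2 ^ m) i → ∃ x : X, orderOf x = d := by
  obtain ⟨rfl, m, hm, rfl, F, _, _, hF, ⟨e⟩⟩ := id hS
  obtain ⟨-, m', hm', hmm, ho⟩ := tf4_ord hS
  have hmm' : m' = m := by omega
  subst hmm'
  refine ⟨rfl, m', hm, rfl, fun i d hd => ?_⟩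
  match i with
  | 0 =>
    obtain ⟨x, hx⟩ := OTF4.ord_f1 hF (r := d) (by
      show (d : ℤ) ∣ 2 * ((2 : ℤ) ^ m') ^ 2 - 1
      exact N7_dvd m' hd)
    exact ⟨e.symm x, by rw [MulEquiv.orderOf_eq, hx]⟩
  | 1 =>
    obtain ⟨x, hx⟩ := OTF4.ord_f2 hF (r := d) (by
      show (d : ℤ) ∣ 2 * ((2 : ℤ) ^ m') ^ 2 + 1
      exact N7_dvd m' hd)
    exact ⟨e.symm x, by rw [MulEquiv.orderOf_eq, hx]⟩
  | n + 2 => exact ho n d (NT_dvd m' hd)

/-- **`²F₄(u)`, degree 10**, general form -/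
theorem tf4_big10 (h : LS t p f L G) (hI : Fam.Is p f L t) (hp2 : p ≠ 2) (hrk : rk t ≤ 8) {R : ℕ} (hR0 : R ≠ 0)
    (hR : ∀ y e : ℕ, y.Prime → 3 ≤ y → y ≠ p → 1 ≤ e → (∃ x : L, orderOf x = y ^ e) → y ^ e ∣ R) (h32 : 32 ∣ R)
    (hS : Fam.Is v f' ↥S .tf4) :
    32 * (((v ^ f') ^ 2 - 1) * (((v ^ f') ^ 6 + 1) * ((v ^ f') ^ 2 + 1 - v ^ f'))) ≤ 3 * (max 169 (p ^ f) * R) := by
  obtain ⟨rfl, m, hm, rfl, ho⟩ := tf4_ord7 hS
  have h1 := gen_le2 h hI hp2 hrk hR0 hR h32 (A := [0, 1, 2, 3, 4, 5, 6]) (N := N7 (2 ^ m)) (N7_cop m)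
    (fun a _ => N7_ne m a) (fun a _ => N7_two m a) (fun a _ y e _ _ hd => exists_of_S (S := S) (ho a (y ^ e) hd))
  rw [← N7_prod]
  calc 32 * (3 * (([0, 1, 2, 3, 4, 5, 6].map (N7 (2 ^ m))).prod : ℕ)) =
      3 * (32 * ([0, 1, 2, 3, 4, 5, 6].map (N7 (2 ^ m))).prod) := by ring
    _ ≤ _ := Nat.mul_le_mul_left _ h1

/-- **`²F₄(u)`, degree 10** -/
theorem tf4_big10R (h : LS t p f L G) (hI : Fam.Is p f L t) (hp2 : p ≠ 2) (hrk : rk t ≤ 8) (hw8 : wt t 8 ≤ rk t)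
    (hS : Fam.Is v f' ↥S .tf4) :
    32 * (((v ^ f') ^ 2 - 1) * (((v ^ f') ^ 6 + 1) * ((v ^ f') ^ 2 + 1 - v ^ f'))) ≤
      3 * (max 169 (p ^ f) * RR t (p ^ f)) := by
  have hp := h.prime
  have hq2 : 2 ≤ p ^ f := by
    calc 2 ≤ p := hp.two_le
      _ = p ^ 1 := (pow_one p).symm
      _ ≤ p ^ f := Nat.pow_le_pow_right hp.pos h.fpos
  refine tf4_big10 h hI hp2 hrk (RR_ne_zero h.cla hq2) ?_ ?_ hS
  · intro y e hy h3 hyp _ hx
    obtain ⟨i, hi1, hi2, h3⟩ := lexp h.cla hp hp2 hI hy (by omega) hyp hx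
    exact h3.trans (tnum_dvd_RR h.cla hq2 hi1 hi2)
  · have h1 : (p ^ f) % 2 = 1 := by
      rw [Nat.pow_mod, (hp.eq_two_or_odd).resolve_left hp2, one_pow]
      rfl
    refine (odd_pow8 h1).trans ?_
    rw [← sg_pow_natAbs (t := t) (by omega) (by decide : Even 8)]
    exact natAbs_dvd_RR h.cla (by norm_num) hw8

end main

end Cfsg.Agent.R2.Spec.EE
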