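import Cfsg.Agent.R2.Spec.EE.TF4Ord
import Cfsg.Agent.R2.Spec.EE.RowM6T
import Cfsg.Agent.R2.Spec.EE.SmTFB
import Cfsg.Agent.R2.Spec.EE.SmE7
import Cfsg.Agent.R2.Spec.EE.SmGdC

/-!
# Small rank, `S = ²F₄(u)`, `psp 6`, `oodd 6`, `ominus 6` (helper5)

All the primes of the class 8, or of the class 12, or of the classes 3 and 6, divide `u + 1`; so
`q ^ 4 + q ^ 2 + 1 ≤ 3 (u + 1)`, a contradiction to the bound (B) of degree 10.
-/

set_option autoImplicit false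
set_option linter.unusedSectionVars false
set_option linter.unusedVariables false

namespace Cfsg.Agent.R2.Spec.EE

open Subgroup Cfsg
open Cfsg.Agent.H426.LieFam Cfsg.Agent.R2.Spec Cfsg.Agent.R2.Spec.P1 Cfsg.Agent.R2.Spec.F1
open Cfsg.Agent.H365.Zsig

universe u w

/-- an odd exponent whose primes divide `u + 1` -/
theorem tfx_one {m M : ℕ} (h : TFx (2 ^ m) (M : ℤ)) (h1 : M ≠ 1)
    (hM : ∀ y : ℕ, y.Prime → y ∣ M → 5 ≤ y ∧ (y : ℤ) ∣ NTF (2 ^ m) 1) : M ∣ 2 ^ (2 * m + 1) + 1 := by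
  have hu : ((2 ^ (2 * m + 1) + 1 : ℕ) : ℤ) = 2 * (2 ^ m) ^ 2 + 1 := by
    push_cast
    rw [two_pow_f]
  rw [← Int.natCast_dvd_natCast, hu]
  generalize hb : (2 : ℤ) ^ m = b at *
  obtain ⟨y, hy, hyM⟩ := Nat.exists_prime_and_dvd h1
  obtain ⟨h5, hy1⟩ := hM y hy hyM
  have hyZ : (y : ℤ) ∣ (M : ℤ) := Int.natCast_dvd_natCast.2 hyM
  have hpy := Nat.prime_iff_prime_int.1 hy
  have no : ∀ j : ℕ, j < 6 → j ≠ 1 → ¬ (y : ℤ) ∣ NTF b j := fun j hj hj1 hd =>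
    hj1 (NTF_uniq hy h5 hj (by norm_num) hd hy1)
  have two : ∀ {c : ℤ}, c = 2 * b ^ 2 - 2 * b + 1 ∨ c = 2 * b ^ 2 + 2 * b + 1 → (y : ℤ) ∣ c → False := by
    intro c hc hd
    refine no 2 (by norm_num) (by norm_num) ?_
    simp only [NTF]
    rw [show (4 : ℤ) * b ^ 4 + 1 = (2 * b ^ 2 + 2 * b + 1) * (2 * b ^ 2 - 2 * b + 1) by ring]
    rcases hc with rfl | rfl
    · exact hd.mul_left _
    · exact hd.mul_right _
  rcases h with h | h | h | h | h | h | h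
  · refine IsCoprime.dvd_of_dvd_mul_left ?_ h
    rw [Int.isCoprime_iff_gcd_eq_one]
    by_contra hcon
    obtain ⟨z, hz, hzd⟩ := Nat.exists_prime_and_dvd hcon
    have hz1 : (z : ℤ) ∣ (M : ℤ) := (Int.natCast_dvd_natCast.2 hzd).trans (Int.gcd_dvd_left _ _)
    have hz2 : (z : ℤ) ∣ 2 * b ^ 2 - 1 := (Int.natCast_dvd_natCast.2 hzd).trans (Int.gcd_dvd_right _ _)
    obtain ⟨k5, k1⟩ := hM z hz (Int.natCast_dvd_natCast.1 hz1)
    have : (0 : ℕ) = 1 := NTF_uniq hz k5 (b := b) (by norm_num) (by norm_num) hz2 k1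
    exact absurd this (by norm_num)
  · exfalso
    rcases hpy.dvd_or_dvd (hyZ.trans h) with h2 | h2
    · exact no 0 (by norm_num) (by norm_num) h2
    · exact two (Or.inl rfl) h2
  · exfalso
    rcases hpy.dvd_or_dvd (hyZ.trans h) with h2 | h2
    · exact no 0 (by norm_num) (by norm_num) h2
    · exact two (Or.inr rfl) h2
  · exact (no 5 (by norm_num) (by norm_num) (hyZ.trans h)).elim
  · exact (no 4 (by norm_num) (by norm_num) (hyZ.trans h)).elim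
  · exact (no 2 (by norm_num) (by norm_num) (hyZ.trans h)).elim
  · exact (no 3 (by norm_num) (by norm_num) (hyZ.trans h)).elim

section main

variable {t : Fam} {p f : ℕ} {L : Type w} [Group L] [Finite L] {G : Type u} [Group G] [Finite G]
  {K : Subgroup G} [K.Normal] {S : Subgroup (G ⧸ K)} [S.Normal] {v f' : ℕ}

/-- **A class with all values `u + 1`.** -/
theorem EX.tf4_one (h : EX t p f L G K S .tf4 v f' tabTF4 (kTF4 f')) {i : ℕ} (hi : 3 ≤ i) (hm : memB t i = true)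
    (hkl : Killer (KI t i) i) (h1 : Pm (idx t i) (p ^ f) ≠ 1)
    (hv : ∀ z, Gd t (p ^ f) (Nat.card ↥K) S.index i z → (2 : ℕ).testBit (val tabTF4 (Nat.card ↥K) v (kTF4 f') z) = true) :
    Pm (idx t i) (p ^ f) ∣ 2 ^ f' + 1 := by
  obtain ⟨hq, hq3⟩ := h.q_odd
  obtain ⟨hM, hodd, hin⟩ := Pm_tor h.ls.cla hq hq3 hi (mem_of_memB hm)
  obtain ⟨g, hg⟩ := exists_tor h.ls h.is hi (mem_of_memB hm) hodd hM hin
  have key : ∀ y : ℕ, y.Prime → y ∣ Pm (idx t i) (p ^ f) →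
      y ≠ v ∧ ¬ y ∣ Nat.card ↥K ∧ (2 : ℕ).testBit (kTF4 f' y) = true := fun y hy hd =>
    val_mask (T := tabTF4) (by decide) (hv y (h.gd_of_kill (hin y hy hd) hkl))
  obtain ⟨s, hs⟩ := exists_of_coprime hg (fun y hy hd => (key y hy hd).2.1)
    (fun y hy hd => h.kill (hin y hy hd) (key y hy hd).2.1 hkl)
  obtain ⟨-, m, hm1, rfl, F, _, _, hF, ⟨e⟩⟩ := id h.frm.is
  have he : orderOf (e s) = Pm (idx t i) (p ^ f) := by rw [MulEquiv.orderOf_eq, hs]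
  have hx := odd_ord2 hF (e s) (by rw [he]; exact (Nat.coprime_two_right.2 hodd))
  rw [he] at hx
  refine tfx_one hx h1 fun y hy hd => ⟨(hin y hy hd).five, ?_⟩
  have h2 := (key y hy hd).2.2
  have h3 : kTF4 (2 * m + 1) y = 1 := by
    by_contra hne
    have h4 : ∀ x : ℕ, x ≠ 1 → (2 : ℕ).testBit x = false := by
      intro x hx1
      rcases Nat.lt_or_ge x 2 with h5 | h5
      · have : x = 0 := by omega
        subst this
        decide
      · exact Nat.testBit_lt_two_pow (lt_of_lt_of_le (by norm_num) (Nat.pow_le_pow_right (by norm_num) h5))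
    rw [h4 _ hne] at h2
    exact Bool.noConfusion h2
  have h4 : y ∣ 2 ^ (2 * m + 1) + 1 := by
    by_contra hcon
    rw [kTF4] at h3
    split_ifs at h3 <;> omega
  simp only [NTF]
  rw [← two_pow_f]
  exact_mod_cast Int.natCast_dvd_natCast.2 h4

end main

/-! ### numbers -/

theorem Ph12_eq {q : ℕ} : Ph 12 q = q ^ 4 + 1 - q ^ 2 := by
  have h1 : q ^ 2 ≤ q ^ 4 := by
    rcases Nat.eq_zero_or_pos q with rfl | h
    · norm_num
    · exact Nat.pow_le_pow_right h (by norm_num)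
  rw [Ph_pc (by decide), pc]
  zify [(by omega : q ^ 2 ≤ q ^ 4 + 1)]
  have : (q : ℤ) ^ 2 ≤ (q : ℤ) ^ 4 := by exact_mod_cast h1
  rw [abs_of_nonneg]
  · simp only [NumPoly.cl, NumPoly.ev]
    ring
  · simp only [NumPoly.cl, NumPoly.ev]
    nlinarith

theorem Ph8_eq {q : ℕ} : Ph 8 q = q ^ 4 + 1 := by
  rw [Ph_pc (by decide), pc]
  zify
  rw [abs_of_nonneg]
  · simp only [NumPoly.cl, NumPoly.ev]
    ring
  · simp only [NumPoly.cl, NumPoly.ev]
    nlinarith [pow_nonneg (Int.natCast_nonneg q) 4]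

theorem sq_mod3 (q : ℕ) : q ^ 2 % 3 = 0 ∨ q ^ 2 % 3 = 1 := by
  have h : q % 3 = 0 ∨ q % 3 = 1 ∨ q % 3 = 2 := by omega
  rcases h with h | h | h <;> simp [Nat.pow_mod, h]

theorem sq_mod4 {q : ℕ} (hq : q % 2 = 1) : q ^ 2 % 4 = 1 := by
  have h : q % 4 = 1 ∨ q % 4 = 3 := by omega
  rcases h with h | h <;> simp [Nat.pow_mod, h]

theorem Pm_ne_one {n q : ℕ} (h0 : 0 < n) (h : n < Ph n q) : Pm n q ≠ 1 := by
  intro h1
  have h2 := Ph_eq_mul n q
  rw [h1, mul_one] at h2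
  have h4 := Nat.le_of_dvd h0 (Nat.gcd_dvd_right (Ph n q) n)
  omega

theorem Pm_twelve {q : ℕ} (hq : q % 2 = 1) : Pm 12 q = q ^ 4 + 1 - q ^ 2 := by
  have h1 : q ^ 2 ≤ q ^ 4 := Nat.pow_le_pow_right (by omega) (by norm_num)
  have h4 : q ^ 4 = q ^ 2 * q ^ 2 := by ring
  have hg : Nat.gcd (q ^ 4 + 1 - q ^ 2) 12 = 1 := by
    have h2 := sq_mod3 q
    have h3 := sq_mod4 hq
    have e2 : ¬ 2 ∣ q ^ 4 + 1 - q ^ 2 := by
      have : q ^ 4 % 4 = 1 := by rw [h4, Nat.mul_mod, h3]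
      omega
    have e3 : ¬ 3 ∣ q ^ 4 + 1 - q ^ 2 := by
      rcases h2 with h2 | h2
      · have : q ^ 4 % 3 = 0 := by rw [h4, Nat.mul_mod, h2]
        omega
      · have : q ^ 4 % 3 = 1 := by rw [h4, Nat.mul_mod, h2]
        omega
    show Nat.Coprime _ (2 ^ 2 * 3)
    refine Nat.Coprime.mul_right (Nat.Coprime.pow_right 2 ?_) ?_
    · exact ((Nat.Prime.coprime_iff_not_dvd Nat.prime_two).2 e2).symm
    · exact ((Nat.Prime.coprime_iff_not_dvd Nat.prime_three).2 e3).symm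
  rw [Pm, Ph12_eq, hg, Nat.div_one]

theorem Pm_eight {q : ℕ} (hq : q % 2 = 1) : q ^ 4 + 1 ≤ 2 * Pm 8 q := by
  have h3 := sq_mod4 hq
  have h4 : q ^ 4 = q ^ 2 * q ^ 2 := by ring
  have h5 : q ^ 4 % 4 = 1 := by rw [h4, Nat.mul_mod, h3]
  have h6 := Ph_eq_mul 8 q
  rw [Ph8_eq] at h6
  have h7 : Nat.gcd (q ^ 4 + 1) 8 ≤ 2 := by
    have h8 : Nat.gcd (q ^ 4 + 1) 8 ∣ 2 ^ 3 := Nat.gcd_dvd_right _ _
    have h9 : Nat.gcd (q ^ 4 + 1) 8 ∣ q ^ 4 + 1 := Nat.gcd_dvd_left _ _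
    obtain ⟨k, hk, hk2⟩ := (Nat.dvd_prime_pow Nat.prime_two).1 h8
    rw [hk2] at h9 ⊢
    interval_cases k
    · norm_num
    · norm_num
    · norm_num at h9
      omega
    · norm_num at h9
      omega
  calc q ^ 4 + 1 = Nat.gcd (q ^ 4 + 1) 8 * Pm 8 q := h6
    _ ≤ 2 * Pm 8 q := Nat.mul_le_mul_right _ h7

theorem Pm_36 {q : ℕ} (hq : q % 2 = 1) : q ^ 4 + q ^ 2 + 1 ≤ 3 * (Pm 3 q * Pm 6 q) := by
  have e3 := Ph_eq_mul 3 q
  have e6 := Ph_eq_mul 6 q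
  have p3 := Cfsg.Agent.R2.Spec.EE.Ph_three q
  have p6 := Cfsg.Agent.R2.Spec.EE.Ph_six (q := q) (by omega)
  have hq2 : q ≤ q ^ 2 := Nat.le_self_pow (by norm_num) q
  have h3 := sq_mod4 hq
  have hprod : Ph 3 q * Ph 6 q = q ^ 4 + q ^ 2 + 1 := by
    rw [p3, p6]
    zify [hq2]
    ring
  have hg : Nat.gcd (Ph 3 q) 3 * Nat.gcd (Ph 6 q) 6 ≤ 3 := by
    have d3 : Nat.gcd (Ph 3 q) 3 ∣ 3 := Nat.gcd_dvd_right _ _
    have d6 : Nat.gcd (Ph 6 q) 6 ∣ 3 := by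
      have h8 : Nat.gcd (Ph 6 q) 6 ∣ 3 * 2 := Nat.gcd_dvd_right _ _
      refine Nat.Coprime.dvd_of_dvd_mul_right ?_ h8
      refine Nat.Coprime.coprime_dvd_left (Nat.gcd_dvd_left _ _) ?_
      rw [Nat.coprime_comm, Nat.Prime.coprime_iff_not_dvd Nat.prime_two, p6]
      omega
    rcases (Nat.dvd_prime Nat.prime_three).1 d3 with h1 | h1
    · rw [h1, one_mul]
      exact Nat.le_of_dvd (by norm_num) d6
    · rcases (Nat.dvd_prime Nat.prime_three).1 d6 with h2 | h2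
      · rw [h1, h2]
      · exfalso
        have c3 : 3 ∣ Ph 3 q := by
          have := Nat.gcd_dvd_left (Ph 3 q) 3
          rwa [h1] at this
        have c6 : 3 ∣ Ph 6 q := by
          have := Nat.gcd_dvd_left (Ph 6 q) 6
          rwa [h2] at this
        rw [p3] at c3
        rw [p6] at c6
        have hc : q % 3 = 0 ∨ q % 3 = 1 ∨ q % 3 = 2 := by omega
        rcases hc with hc | hc | hc
        · have : q ^ 2 % 3 = 0 := by simp [Nat.pow_mod, hc]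
          omega
        · have : q ^ 2 % 3 = 1 := by simp [Nat.pow_mod, hc]
          omega
        · have : q ^ 2 % 3 = 1 := by simp [Nat.pow_mod, hc]
          omega
  calc q ^ 4 + q ^ 2 + 1 = (Nat.gcd (Ph 3 q) 3 * Nat.gcd (Ph 6 q) 6) * (Pm 3 q * Pm 6 q) := by
        rw [← hprod]
        conv_lhs => rw [e3, e6]
        ring
    _ ≤ 3 * (Pm 3 q * Pm 6 q) := Nat.mul_le_mul_right _ hg

/-- the numerical contradiction -/
theorem num6t {q u R : ℕ} (hq : 3 ≤ q) (hu : 8 ≤ u) (h1 : q ^ 4 + q ^ 2 + 1 ≤ 3 * (u + 1))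
    (h2 : 32 * ((u ^ 2 - 1) * ((u ^ 6 + 1) * (u ^ 2 + 1 - u))) ≤ 3 * (max 169 q * R)) (h3 : R ≤ 2 * q ^ 24) : False := by
  have a1 : q ^ 4 ≤ 3 * u := by
    have : 3 ^ 2 ≤ q ^ 2 := Nat.pow_le_pow_left hq 2
    omega
  have a2 : u ^ 2 ≤ 2 * (u ^ 2 + 1 - u) := by
    have : 8 * u ≤ u ^ 2 := by nlinarith
    omega
  have a3 : u ^ 2 ≤ 2 * (u ^ 2 - 1) := by
    have : 8 ^ 2 ≤ u ^ 2 := Nat.pow_le_pow_left hu 2
    omega
  have a4 : 8 * u ^ 10 ≤ 32 * ((u ^ 2 - 1) * ((u ^ 6 + 1) * (u ^ 2 + 1 - u))) := by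
    calc 8 * u ^ 10 = 8 * (u ^ 2 * (u ^ 6 * u ^ 2)) := by ring
      _ ≤ 8 * ((2 * (u ^ 2 - 1)) * ((u ^ 6 + 1) * (2 * (u ^ 2 + 1 - u)))) :=
        Nat.mul_le_mul_left _ (Nat.mul_le_mul a3 (Nat.mul_le_mul (Nat.le_succ _) a2))
      _ = _ := by ring
  have a5 : max 169 q ≤ 169 * q := max_le (by omega) (by omega)
  have a6 : 8 * (q ^ 4) ^ 10 ≤ 3 ^ 10 * (3 * (169 * q * (2 * q ^ 24))) := by
    calc 8 * (q ^ 4) ^ 10 ≤ 8 * (3 * u) ^ 10 := Nat.mul_le_mul_left _ (Nat.pow_le_pow_left a1 10)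
      _ = 3 ^ 10 * (8 * u ^ 10) := by ring
      _ ≤ 3 ^ 10 * (3 * (max 169 q * R)) := Nat.mul_le_mul_left _ (a4.trans h2)
      _ ≤ _ := Nat.mul_le_mul_left _ (Nat.mul_le_mul_left _ (Nat.mul_le_mul a5 h3))
  have a7 : 8 * (q ^ 4) ^ 10 = q ^ 25 * (8 * q ^ 15) := by ring
  have a8 : 3 ^ 10 * (3 * (169 * q * (2 * q ^ 24))) = q ^ 25 * 59875686 := by ring
  rw [a7, a8] at a6
  have a9 := Nat.le_of_mul_le_mul_left a6 (Nat.pow_pos (by omega))
  have a10 : 3 ^ 15 ≤ q ^ 15 := Nat.pow_le_pow_left hq 15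
  norm_num at a10
  omega

section main

variable {t : Fam} {p f : ℕ} {L : Type w} [Group L] [Finite L] {G : Type u} [Group G] [Finite G]
  {K : Subgroup G} [K.Normal] {S : Subgroup (G ⧸ K)} [S.Normal] {v f' : ℕ}

theorem EX.tf4_r6 (h : EX t p f L G K S .tf4 v f' tabTF4 (kTF4 f')) (ht : Sm t) (hidx : ∀ i, idx t i = i)
    (hm3 : memB t 3 = true) (hm6 : memB t 6 = true) (hm8 : memB t 8 = true) (hm12 : memB t 12 = true)
    (k3 : kib t 3 8 10 = true) (k6 : kib t 6 8 10 = true) (k12 : kib t 12 8 10 = true) (k8 : kib t 8 5 10 = true)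
    (k8' : kib t 8 6 10 = true) (hw8 : wt t 8 ≤ rk t) (hR : ∀ {q : ℕ}, 3 ≤ q → RR t q ≤ 2 * q ^ 24)
    (hk3 : (dat tabTF4.tbl t (cls3 t)).go (cls3 t).length (st0 tabTF4.tbl (cls3 t) (tabTF4.domL [3, 8, 12] 2)) 0 = false)
    (hk6 : (dat tabTF4.tbl t (cls3 t)).go (cls3 t).length (st0 tabTF4.tbl (cls3 t) (tabTF4.domL [6, 8, 12] 2)) 0 = false) :
    False := by
  obtain ⟨hq, hq3⟩ := h.q_odd
  have hgd := h.gd_tf4_sm ht
  have hq2 : 3 ^ 2 ≤ (p ^ f) ^ 2 := Nat.pow_le_pow_left hq3 2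
  have hq4 : (p ^ f) ^ 4 = (p ^ f) ^ 2 * (p ^ f) ^ 2 := by ring
  have hqq : 9 * (p ^ f) ^ 2 ≤ (p ^ f) ^ 4 := by rw [hq4]; exact Nat.mul_le_mul_right _ hq2
  have hsub : p ^ f * 3 ≤ (p ^ f) ^ 2 := by rw [sq]; exact Nat.mul_le_mul_left _ hq3
  have hb : (p ^ f) ^ 4 + (p ^ f) ^ 2 + 1 ≤ 3 * (2 ^ f' + 1) := by
    have case8 : Pm 8 (p ^ f) ∣ 2 ^ f' + 1 → (p ^ f) ^ 4 + (p ^ f) ^ 2 + 1 ≤ 3 * (2 ^ f' + 1) := fun hd => by
      have h1 := Nat.le_of_dvd (Nat.succ_pos _) hd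
      have h2 := Pm_eight hq
      omega
    have case12 : Pm 12 (p ^ f) ∣ 2 ^ f' + 1 → (p ^ f) ^ 4 + (p ^ f) ^ 2 + 1 ≤ 3 * (2 ^ f' + 1) := fun hd => by
      have h1 := Nat.le_of_dvd (Nat.succ_pos _) hd
      rw [Pm_twelve hq] at h1
      omega
    have g8 : (∀ z, Gd t (p ^ f) (Nat.card ↥K) S.index 8 z → (2 : ℕ).testBit (val tabTF4 (Nat.card ↥K) v (kTF4 f') z) = true) →
        Pm 8 (p ^ f) ∣ 2 ^ f' + 1 := fun hv => by
      have h1 := h.tf4_one (i := 8) (by norm_num) hm8 (kill56 10 10 k8 k8') (by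
        rw [hidx]
        exact Pm_ne_one (by norm_num) (by rw [Ph8_eq]; omega)) hv
      rwa [hidx] at h1
    have g12 : (∀ z, Gd t (p ^ f) (Nat.card ↥K) S.index 12 z → (2 : ℕ).testBit (val tabTF4 (Nat.card ↥K) v (kTF4 f') z) = true) →
        Pm 12 (p ^ f) ∣ 2 ^ f' + 1 := fun hv => by
      have h1 := h.tf4_one (i := 12) (by norm_num) hm12 (kill8 10 (by norm_num) k12 (by norm_num) (by norm_num)) (by
        rw [hidx]
        exact Pm_ne_one (by norm_num) (by rw [Ph12_eq]; omega)) hv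
      rwa [hidx] at h1
    obtain ⟨i, hi, h3⟩ := h.excl hgd hk3
    obtain ⟨j, hj, h6⟩ := h.excl hgd hk6
    simp only [List.mem_cons, List.not_mem_nil, or_false] at hi hj
    rcases hi with rfl | rfl | rfl
    · rcases hj with rfl | rfl | rfl
      · have d3 := h.tf4_one (i := 3) (by norm_num) hm3 (kill8 10 (by norm_num) k3 (by norm_num) (by norm_num)) (by
          rw [hidx]
          exact Pm_ne_one (by norm_num) (by rw [Cfsg.Agent.R2.Spec.EE.Ph_three]; omega)) h3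
        have d6 := h.tf4_one (i := 6) (by norm_num) hm6 (kill8 10 (by norm_num) k6 (by norm_num) (by norm_num)) (by
          rw [hidx]
          exact Pm_ne_one (by norm_num) (by rw [Cfsg.Agent.R2.Spec.EE.Ph_six (by omega)]; omega)) h6
        obtain ⟨-, -, i3⟩ := Pm_tor h.ls.cla hq hq3 (i := 3) (by norm_num) (mem_of_memB hm3)
        obtain ⟨-, -, i6⟩ := Pm_tor h.ls.cla hq hq3 (i := 6) (by norm_num) (mem_of_memB hm6)
        rw [hidx] at d3 d6 i3 i6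
        have hcop : Nat.Coprime (Pm 3 (p ^ f)) (Pm 6 (p ^ f)) := Nat.coprime_of_dvd fun y hy h1 h2 => by
          have := (i3 y hy h1).cls_eq.symm.trans (i6 y hy h2).cls_eq
          omega
        have h1 := Nat.le_of_dvd (Nat.succ_pos _) (hcop.mul_dvd_of_dvd_of_dvd d3 d6)
        exact (Pm_36 hq).trans (Nat.mul_le_mul_left _ h1)
      · exact case8 (g8 h6)
      · exact case12 (g12 h6)
    · exact case8 (g8 h3)
    · exact case12 (g12 h3)
  obtain ⟨hv2, m, hm1, hf', -⟩ := tf4_ord7 h.frm.is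
  have hu : 8 ≤ 2 ^ f' := by
    rw [hf']
    calc 8 = 2 ^ 3 := by norm_num
      _ ≤ 2 ^ (2 * m + 1) := Nat.pow_le_pow_right (by norm_num) (by omega)
  have hB := tf4_big10R h.ls h.is h.p2 (rk_le_eight ht) hw8 h.frm.is
  rw [hv2] at hB
  exact num6t hq3 hu hb hB (hR hq3)

/-- **`²F₄(u)`, `psp 6`, `oodd 6`, `ominus 6`.** -/
theorem sm6_tf4 (h : EX t p f L G K S .tf4 v f' tabTF4 (kTF4 f')) (ht : t = .psp 6 ∨ t = .oodd 6 ∨ t = .ominus 6) :
    False := by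
  rcases ht with rfl | rfl | rfl
  · exact h.tf4_r6 (by rw [sm_iff]; simp) (fun i => rfl) (by decide) (by decide) (by decide) (by decide) (by decide)
      (by decide) (by decide) (by decide) (by decide) (by decide) (fun {q} hq => RR_psp6 hq) t3_psp6 t6_psp6
  · exact h.tf4_r6 (by rw [sm_iff]; simp) (fun i => rfl) (by decide) (by decide) (by decide) (by decide) (by decide)
      (by decide) (by decide) (by decide) (by decide) (by decide) (fun {q} hq => RR_psp6 hq) t3_oodd6 t6_oodd6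
  · exact h.tf4_r6 (by rw [sm_iff]; simp) (fun i => rfl) (by decide) (by decide) (by decide) (by decide) (by decide)
      (by decide) (by decide) (by decide) (by decide) (by decide) (fun {q} hq => RR_psp6 hq) t3_ominus6 t6_ominus6

end main

end Cfsg.Agent.R2.Spec.EE
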