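import Cfsg.Agent.R2.Spec.EE.SmR5
import Cfsg.Agent.R2.Spec.EE.SmR6T
import Cfsg.Agent.R2.Spec.EE.SmN7
import Cfsg.Agent.R2.Spec.EE.RowF6

/-!
# Small rank: `psp 6`, `oodd 6`, `oplus 6` and `F₄` (helper28)

* `EX.gp2k` : two adjacent classes with killers;
* `rok_oplus6` : the number `RM` for `oplus 6`;
* `sm6_f4` : no `F₄`.
-/

set_option autoImplicit false
set_option linter.unusedSectionVars false
set_option linter.unusedVariables false
set_option maxRecDepth 100000

namespace Cfsg.Agent.R2.Spec.EE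

open Subgroup Cfsg Polynomial
open Cfsg.Agent Cfsg.Agent.H426.LieFam Cfsg.Agent.R2.Spec Cfsg.Agent.R2.Spec.P1 Cfsg.Agent.R2.Spec.F1
open Cfsg.Agent.H365.Zsig
open NumPoly

universe u w

/-! ### the boxes -/

/-- a bad pair, `F₄` -/
def badF (k0 R d : ℕ) (G : List (List ℕ)) (u q : ℕ) : Bool :=
  Nat.ble 3 q && (Nat.beq (q % 2) 1 && (Nat.beq (Nat.gcd u q) 1 && (Nat.ble (q ^ 4) (k0 * u ^ 2) &&
    (Nat.ble (288 * u ^ 14) (12 * (max 169 q * (R * q ^ d))) &&
      (G.any fun g => kf4.any fun l => Nat.beq (mlf l u % nlf g q) 0)))))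

/-- the box -/
def bxF (k0 R d : ℕ) (G : List (List ℕ)) (U Q : ℕ) : Bool :=
  (List.range Q).all fun q => (List.range U).all fun u => !(badF k0 R d G u q)

def g6c : List (List ℕ) := [[12], [8], [3, 6]]
def g6p : List (List ℕ) := [[5], [10], [8]]

theorem bxF_c : bxF 6 2 24 g6c 811 45 = true := by decide +kernel
theorem bxF_p : bxF 16 2 20 g6p 63 16 = true := by decide +kernel

theorem badF_of {k0 R d : ℕ} {G : List (List ℕ)} {u q : ℕ} (hq3 : 3 ≤ q) (hq2 : q % 2 = 1)
    (hc : Nat.gcd u q = 1) (hA : q ^ 4 ≤ k0 * u ^ 2) (hB : 288 * u ^ 14 ≤ 12 * (max 169 q * (R * q ^ d)))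
    (hD : ∃ g ∈ G, ∃ l ∈ kf4, nlf g q ∣ mlf l u) : badF k0 R d G u q = true := by
  obtain ⟨g, hg, l, hl, hd⟩ := hD
  have h1 : (G.any fun g => kf4.any fun l => Nat.beq (mlf l u % nlf g q) 0) = true := by
    rw [List.any_eq_true]
    refine ⟨g, hg, ?_⟩
    rw [List.any_eq_true]
    exact ⟨l, hl, (Nat.beq_eq (y := 0)).mpr (Nat.mod_eq_zero_of_dvd hd)⟩
  rw [badF, h1, (Nat.ble_eq (x := 3) (y := q)).mpr hq3, (Nat.beq_eq (x := q % 2) (y := 1)).mpr hq2,
    (Nat.beq_eq (x := Nat.gcd u q) (y := 1)).mpr hc, Nat.ble_eq.mpr hA, Nat.ble_eq.mpr hB]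
  rfl

theorem bxF_false {k0 R d : ℕ} {G : List (List ℕ)} {U Q u q : ℕ} (h : bxF k0 R d G U Q = true) (hu : u < U)
    (hqQ : q < Q) (hq3 : 3 ≤ q) (hq2 : q % 2 = 1) (hc : Nat.gcd u q = 1) (hA : q ^ 4 ≤ k0 * u ^ 2)
    (hB : 288 * u ^ 14 ≤ 12 * (max 169 q * (R * q ^ d))) (hD : ∃ g ∈ G, ∃ l ∈ kf4, nlf g q ∣ mlf l u) : False := by
  rw [bxF, List.all_eq_true] at h
  have h1 := h q (List.mem_range.2 hqQ)
  rw [List.all_eq_true] at h1
  have h2 := h1 u (List.mem_range.2 hu)
  rw [badF_of hq3 hq2 hc hA hB hD] at h2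
  exact Bool.noConfusion h2

/-! ### the inequalities -/

theorem bndFc {u q : ℕ} (hA : q ^ 4 ≤ 6 * u ^ 2) (hB : 288 * u ^ 14 ≤ 12 * (max 169 q * (2 * q ^ 24))) :
    u < 811 ∧ q < 45 := by
  have hA' : q ^ 4 ≤ 6 * 1 * (u + 0) ^ 2 := by rw [add_zero, mul_one]; exact hA
  have hu : u < 811 := by
    by_contra hcon
    rcases le_total q 169 with h1 | h1
    · rw [max_eq_left h1] at hB
      exact no_u (U := 811) (C0 := 12 * 169 * 2) (d := 24) hA' (hB.trans (le_of_eq (by ring))) (by omega)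
        (by norm_num) (by norm_num) (by decide +kernel)
    · rw [max_eq_right h1] at hB
      exact no_u (U := 811) (C0 := 24) (d := 25) hA' (hB.trans (le_of_eq (by ring))) (by omega)
        (by norm_num) (by norm_num) (by decide +kernel)
  refine ⟨hu, ?_⟩
  by_contra hcon
  have h1 : 45 ^ 4 ≤ q ^ 4 := Nat.pow_le_pow_left (by omega) 4
  have h2 : u ^ 2 ≤ 810 ^ 2 := Nat.pow_le_pow_left (by omega) 2
  omega

theorem bndFp {u q : ℕ} (hA : q ^ 4 ≤ 16 * u ^ 2) (hB : 288 * u ^ 14 ≤ 12 * (max 169 q * (2 * q ^ 20))) :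
    u < 63 ∧ q < 16 := by
  have hA' : q ^ 4 ≤ 16 * 1 * (u + 0) ^ 2 := by rw [add_zero, mul_one]; exact hA
  have hu : u < 63 := by
    by_contra hcon
    rcases le_total q 169 with h1 | h1
    · rw [max_eq_left h1] at hB
      exact no_u (U := 63) (C0 := 12 * 169 * 2) (d := 20) hA' (hB.trans (le_of_eq (by ring))) (by omega)
        (by norm_num) (by norm_num) (by decide +kernel)
    · rw [max_eq_right h1] at hB
      exact no_u (U := 63) (C0 := 24) (d := 21) hA' (hB.trans (le_of_eq (by ring))) (by omega)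
        (by norm_num) (by norm_num) (by decide +kernel)
  refine ⟨hu, ?_⟩
  by_contra hcon
  have h1 : 16 ^ 4 ≤ q ^ 4 := Nat.pow_le_pow_left (by omega) 4
  have h2 : u ^ 2 ≤ 62 ^ 2 := Nat.pow_le_pow_left (by omega) 2
  omega

/-- the clique is small -/
theorem kf4_le {u : ℕ} (hu : 2 ≤ u) {l : List ℕ} (hl : l ∈ kf4) :
    4 * (l.map fun n => Ph n u).prod ≤ 7 * u ^ 2 ∧ 0 < (l.map fun n => Ph n u).prod ∧
      (l.map fun n => Ph n u).prod = mlf l u := by
  simp only [kf4, List.mem_cons, List.not_mem_nil, or_false] at hl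
  have h3 := Ph_pos' (n := 3) (by norm_num) hu
  have h4 := Ph_pos' (n := 4) (by norm_num) hu
  have h6 := Ph_pos' (n := 6) (by norm_num) hu
  rcases hl with rfl | rfl | rfl
  · refine ⟨?_, by simpa using h3, ml_eq (by decide)⟩
    rw [List.map_singleton, List.prod_singleton, Ph_three]
    nlinarith
  · refine ⟨?_, by simpa using h4, ml_eq (by decide)⟩
    rw [List.map_singleton, List.prod_singleton, Ph_four]
    nlinarith
  · refine ⟨?_, by simpa using h6, ml_eq (by decide)⟩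
    rw [List.map_singleton, List.prod_singleton, Ph_six (by omega)]
    have : u ^ 2 - u + 1 ≤ u ^ 2 + 1 := by omega
    nlinarith

/-- **The conclusion of a group.** -/
theorem finF {u q N : ℕ} {g : List ℕ} (hu : 2 ≤ u) (hN : N = nlf g q) (hq : q ^ 4 ≤ 3 * N) (hS : Sml (BdL u kf4) 1 N) :
    q ^ 4 ≤ 6 * u ^ 2 ∧ ∃ l ∈ kf4, nlf g q ∣ mlf l u := by
  obtain ⟨m, ⟨l, hl, hm⟩, hd⟩ := hS
  obtain ⟨h2, h3, h4⟩ := kf4_le hu hl
  rw [one_mul] at hd
  have h5 := hd.trans hm
  refine ⟨?_, l, hl, ?_⟩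
  · have h6 := Nat.le_of_dvd h3 h5
    omega
  · rw [← hN, ← h4]
    exact h5

/-- the conclusion of a group, `oplus 6` -/
theorem finFp {u q N : ℕ} {g : List ℕ} (hu : 2 ≤ u) (hN : N = nlf g q) (hq : q ^ 4 ≤ 7 * N) (hS : Sml (BdL u kf4) 1 N) :
    q ^ 4 ≤ 16 * u ^ 2 ∧ ∃ l ∈ kf4, nlf g q ∣ mlf l u := by
  obtain ⟨m, ⟨l, hl, hm⟩, hd⟩ := hS
  obtain ⟨h2, h3, h4⟩ := kf4_le hu hl
  rw [one_mul] at hd
  have h5 := hd.trans hm
  refine ⟨?_, l, hl, ?_⟩
  · have h6 := Nat.le_of_dvd h3 h5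
    omega
  · rw [← hN, ← h4]
    exact h5

theorem RM_o6f {q : ℕ} (hq : 3 ≤ q) : RM (.oplus 6) q ≤ 2 * q ^ 20 := by
  have h : cycm (.oplus 6) = [1, 2, 3, 4, 5, 6, 8, 10] := by decide
  unfold RM
  rw [h]
  exact bound_pos (by decide) (by decide +kernel) hq

theorem RN_o6f (q : ℕ) : RN (.oplus 6) q = ((q : ℤ) ^ 4 - (q : ℤ) ^ 2 + 1).natAbs := by
  have h : ((cycs (.oplus 6)).filter fun d => !memb (.oplus 6) d) = [12] := by decide
  unfold RN
  rw [h, List.map_singleton, List.prod_singleton, show sg (.oplus 6) q = (q : ℤ) from rfl, NumA.eval_12]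

section main

variable {p f : ℕ} {L : Type w} [Group L] [Finite L] {G : Type u} [Group G] [Finite G]

/-- **The number `R = RM`, `oplus 6`.** -/
theorem rok_oplus6 (h : LS (.oplus 6) p f L G) (hI : Fam.Is p f L (.oplus 6)) (hp2 : p ≠ 2) :
    ROk L p (RM (.oplus 6) (p ^ f)) := by
  have hp := h.prime
  obtain ⟨hq, hq3⟩ := q_odd h hp2
  have z2 : ((p ^ f : ℕ) : ZMod 2) = 1 := by
    have : ((p ^ f : ℕ) : ZMod 2) = ((1 : ℕ) : ZMod 2) := by
      rw [ZMod.natCast_eq_natCast_iff]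
      exact hq
    rw [this, Nat.cast_one]
  have z3 : ∀ a : ZMod 3, a ^ 4 - a ^ 2 + 1 ≠ 0 := by decide
  have y2 : ¬ 2 ∣ RN (.oplus 6) (p ^ f) := by
    rw [RN_o6f]
    intro h1
    have h2 := Int.natCast_dvd.2 h1
    rw [← ZMod.intCast_zmod_eq_zero_iff_dvd] at h2
    push_cast at h2
    push_cast at z2
    rw [z2] at h2
    revert h2; decide
  have y3 : ¬ 3 ∣ RN (.oplus 6) (p ^ f) := by
    rw [RN_o6f]
    intro h1
    have h2 := Int.natCast_dvd.2 h1
    rw [← ZMod.intCast_zmod_eq_zero_iff_dvd] at h2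
    push_cast at h2
    exact z3 _ h2
  have hRM := RM_ne_zero h.cla (by omega : 2 ≤ p ^ f)
  refine ⟨hRM, ?_, ?_, ?_⟩
  · intro y e hy h5 hyp he hx
    obtain ⟨i, hi1, hi2, h3⟩ := lexp h.cla hp hp2 hI hy (by omega) hyp hx
    have hd := h3.trans (tnum_dvd_RR h.cla (by omega) hi1 hi2)
    rw [RR_split] at hd
    refine Nat.Coprime.dvd_of_dvd_mul_right ?_ hd
    apply Nat.Coprime.pow_left
    rw [RN, Nat.coprime_list_prod_right_iff]
    intro z hz
    obtain ⟨d, hd1, rfl⟩ := List.mem_map.1 hz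
    have hd5 : d = 12 := by
      have h1 : ((cycs (.oplus 6)).filter fun d => !memb (.oplus 6) d) = [12] := by decide
      rw [h1] at hd1
      exact List.mem_singleton.1 hd1
    subst hd5
    rw [Nat.Prime.coprime_iff_not_dvd hy]
    apply sg_not_dvd hy
    · intro h6
      have h7 : y ≤ 3 := by
        rcases hy.dvd_mul.1 (show y ∣ 4 * 3 from h6) with h8 | h8
        · have := Nat.le_of_dvd (by norm_num) ((hy.dvd_of_dvd_pow (show y ∣ 2 ^ 2 from h8)))
          omega
        · exact Nat.le_of_dvd (by norm_num) h8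
      omega
    · intro h1
      have h2 : y ∣ Nat.card L := by
        obtain ⟨x, hx⟩ := hx
        have h3 := orderOf_dvd_natCard x
        rw [hx] at h3
        exact (dvd_pow_self y (by omega)).trans h3
      have h3 := (h.adj.dvd y hy (by omega) (by rw [Nat.prime_dvd_prime_iff_eq hy hp]; exact hyp) (by omega)).1 h2
      rw [h1] at h3
      have h4 : memb (.oplus 6) 12 = false := by decide
      rw [← memb_iff, h4] at h3
      exact Bool.false_ne_true h3
  · have h1 : 32 ∣ RR (.oplus 6) (p ^ f) := by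
      refine (odd_pow8 hq).trans ?_
      rw [← sg_pow_natAbs (t := .oplus 6) (by omega) (by decide : Even 8)]
      exact natAbs_dvd_RR h.cla (by norm_num) (by decide)
    rw [RR_split] at h1
    refine Nat.Coprime.dvd_of_dvd_mul_right ?_ h1
    rw [show (32 : ℕ) = 2 ^ 5 by norm_num]
    exact Nat.Coprime.pow_left 5 ((Nat.Prime.coprime_iff_not_dvd Nat.prime_two).2 y2)
  · intro hp3
    have h0 : (p ^ f) % 3 ≠ 0 := fun h2 => by
      have h3 := (Nat.prime_three.dvd_of_dvd_pow (Nat.dvd_of_mod_eq_zero h2))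
      exact hp3 ((Nat.prime_dvd_prime_iff_eq Nat.prime_three hp).1 h3).symm
    have h1 : 9 ∣ RR (.oplus 6) (p ^ f) := by
      refine (pow6_nine h0).trans ?_
      rw [← sg_pow_natAbs (t := .oplus 6) (by omega) (by decide : Even 6)]
      exact natAbs_dvd_RR h.cla (by norm_num) (by decide)
    rw [RR_split] at h1
    refine Nat.Coprime.dvd_of_dvd_mul_right ?_ h1
    rw [show (9 : ℕ) = 3 ^ 2 by norm_num]
    exact Nat.Coprime.pow_left 2 ((Nat.Prime.coprime_iff_not_dvd Nat.prime_three).2 y3)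

variable {t : Fam} {K : Subgroup G} [K.Normal] {S : Subgroup (G ⧸ K)} [S.Normal] {t' : Fam} {v f' : ℕ} {T : Tab} {k : ℕ → ℕ}

/-- **Two adjacent classes with killers.** -/
theorem EX.gp2k (h : EX t p f L G K S t' v f' T k) {i j : ℕ} (hi : 3 ≤ i) (mi : mem t i) (hj : 3 ≤ j) (mj : mem t j)
    (hij : i ≠ j) (hna : ¬ na t i j) (hki : Killer (KI t i) i) (hkj : Killer (KI t j) j) :
    ∃ s : S, Gp t (p ^ f) (Nat.card ↥K) S.index 1 [i, j] (Pm (idx t i) (p ^ f) * Pm (idx t j) (p ^ f)) s := by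
  obtain ⟨hq, hq3⟩ := h.q_odd
  obtain ⟨hM, hodd, hin⟩ := Pm_tor h.ls.cla hq hq3 hi mi
  obtain ⟨hM', hodd', hin'⟩ := Pm_tor h.ls.cla hq hq3 hj mj
  have hcop : Nat.Coprime (Pm (idx t i) (p ^ f)) (Pm (idx t j) (p ^ f)) := Nat.coprime_of_dvd fun y hy h5 h6 =>
    hij ((hin y hy h5).cls_eq.symm.trans (hin' y hy h6).cls_eq)
  obtain ⟨g, hg⟩ : ∃ g : G, orderOf g = Pm (idx t i) (p ^ f) * Pm (idx t j) (p ^ f) := by
    rw [h.ls.ord]
    exact strong h.ls.cla h.rk3 h.ls.prime h.is hi hj mi mj hna hodd hodd' hcop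
      (fun r hr hd => by rw [(hin r hr hd).cls_eq]; exact hi) (fun r hr hd => by rw [(hin' r hr hd).cls_eq]; exact hj)
      hM hM'
  obtain ⟨s, h1, -, h2⟩ := h.pow_el g
  rw [hg] at h1 h2
  have hcl : ∀ y : ℕ, y.Prime → y ∣ Pm (idx t i) (p ^ f) * Pm (idx t j) (p ^ f) → ∃ l ∈ [i, j], In t (p ^ f) l y := by
    intro y hy hd
    rcases hy.dvd_mul.1 hd with h5 | h5
    · exact ⟨i, by simp, hin y hy h5⟩
    · exact ⟨j, by simp, hin' y hy h5⟩
  refine ⟨s, hcl, fun y hy hd => ?_, fun hK => h2 hK fun y hy hd => ?_⟩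
  · obtain ⟨a, h3, h4⟩ := h1 y hy hd
    have ha : a ≠ 0 := by
      rintro rfl
      exact h4 (by rw [pow_zero]; exact one_dvd _)
    have h5 : y ∣ Pm (idx t i) (p ^ f) * Pm (idx t j) (p ^ f) := (dvd_pow_self y ha).trans h3
    rcases hy.dvd_mul.1 h5 with h6 | h6
    · have h7 : ¬ y ∣ Pm (idx t j) (p ^ f) := fun h8 => hy.one_lt.ne' (Nat.Coprime.eq_one_of_dvd (hcop.coprime_dvd_left h6) h8)
      have h8 : y ^ a ∣ Pm (idx t i) (p ^ f) :=
        (Nat.Coprime.pow_left a ((Nat.Prime.coprime_iff_not_dvd hy).2 h7)).dvd_of_dvd_mul_right h3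
      exact ⟨h5, i, by simp, hin y hy h6, fun _ => ⟨a, h8.trans hM, h4⟩⟩
    · have h7 : ¬ y ∣ Pm (idx t i) (p ^ f) := fun h8 => hy.one_lt.ne' (Nat.Coprime.eq_one_of_dvd (hcop.coprime_dvd_left h8) h6)
      have h8 : y ^ a ∣ Pm (idx t j) (p ^ f) :=
        (Nat.Coprime.pow_left a ((Nat.Prime.coprime_iff_not_dvd hy).2 h7)).dvd_of_dvd_mul_left h3
      exact ⟨h5, j, by simp, hin' y hy h6, fun _ => ⟨a, h8.trans hM', h4⟩⟩
  · rcases hy.dvd_mul.1 hd with h5 | h5
    · exact h.kill (hin y hy h5) (hK y hy hd) hki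
    · exact h.kill (hin' y hy h5) (hK y hy hd) hkj

/-- **`F₄` and `psp 6`, `oodd 6`** -/
theorem sm6_f4c (h : EX t p f L G K S .f4 v f' tabF4 (kcl clF4 (v ^ f'))) (ht : t = .psp 6 ∨ t = .oodd 6) : False := by
  obtain ⟨hq, hq3⟩ := h.q_odd
  have hu := h.u_two
  have hgd := h.gd_f4 (Or.inl (by rcases ht with rfl | rfl <;> decide))
  have hm : ∀ i ∈ [12, 8, 3, 6], ∀ z, Gd t (p ^ f) (Nat.card ↥K) S.index i z →
      (124 : ℕ).testBit (val tabF4 (Nat.card ↥K) v (kcl clF4 (v ^ f')) z) = true := by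
    intro i hi z hz
    simp only [List.mem_cons, List.not_mem_nil, or_false] at hi
    rcases ht with rfl | rfl
    · rcases hi with rfl | rfl | rfl | rfl
      · exact h.row_val hgd r6f_psp_12 hz
      · exact h.row_val hgd r6f_psp_8 hz
      · exact h.row_val hgd r6f_psp_3 hz
      · exact h.row_val hgd r6f_psp_6 hz
    · rcases hi with rfl | rfl | rfl | rfl
      · exact h.row_val hgd r6f_oodd_12 hz
      · exact h.row_val hgd r6f_oodd_8 hz
      · exact h.row_val hgd r6f_oodd_3 hz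
      · exact h.row_val hgd r6f_oodd_6 hz
  have m12 : mem t 12 := by rcases ht with rfl | rfl <;> exact (show eta 12 ≤ 6 by decide)
  have m8 : mem t 8 := by rcases ht with rfl | rfl <;> exact (show eta 8 ≤ 6 by decide)
  have m3 : mem t 3 := by rcases ht with rfl | rfl <;> exact (show eta 3 ≤ 6 by decide)
  have m6 : mem t 6 := by rcases ht with rfl | rfl <;> exact (show eta 6 ≤ 6 by decide)
  have i12 : idx t 12 = 12 := by rcases ht with rfl | rfl <;> rfl
  have i8 : idx t 8 = 8 := by rcases ht with rfl | rfl <;> rfl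
  have i3 : idx t 3 = 3 := by rcases ht with rfl | rfl <;> rfl
  have i6 : idx t 6 = 6 := by rcases ht with rfl | rfl <;> rfl
  have n1 : na t 12 8 := by
    rcases ht with rfl | rfl <;> exact na_of_naB (by norm_num) (by norm_num) (by decide)
  have n2 : na t 12 3 := by
    rcases ht with rfl | rfl <;> exact na_of_naB (by norm_num) (by norm_num) (by decide)
  have n3 : na t 12 6 := by
    rcases ht with rfl | rfl <;> exact na_of_naB (by norm_num) (by norm_num) (by decide)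
  have n4 : na t 8 3 := by
    rcases ht with rfl | rfl <;> exact na_of_naB (by norm_num) (by norm_num) (by decide)
  have n5 : na t 8 6 := by
    rcases ht with rfl | rfl <;> exact na_of_naB (by norm_num) (by norm_num) (by decide)
  have n6 : ¬ na t 3 6 := by
    intro h1
    have h2 := naB_of_na h1
    revert h2
    rcases ht with rfl | rfl <;> decide
  obtain ⟨s1, g1⟩ := h.gp1k (i := 12) (by norm_num) m12 (by
    rcases ht with rfl | rfl <;> exact kill8 5 (by norm_num) (by decide) (by norm_num) (by norm_num))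
  obtain ⟨s2, g2⟩ := h.gp1k (i := 8) (by norm_num) m8 (by
    rcases ht with rfl | rfl <;> exact kill56 12 12 (by decide) (by decide))
  obtain ⟨s3, g3⟩ := h.gp2k (i := 3) (j := 6) (by norm_num) m3 (by norm_num) m6 (by norm_num) n6
    (by rcases ht with rfl | rfl <;> exact kill8 12 (by norm_num) (by decide) (by norm_num) (by norm_num))
    (by rcases ht with rfl | rfl <;> exact kill8 12 (by norm_num) (by decide) (by norm_num) (by norm_num))
  rw [i12] at g1
  rw [i8] at g2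
  rw [i3, i6] at g3
  have q1 : NaG t [12] [8] := fun x hx y hy => by
    rw [List.mem_singleton.1 hx, List.mem_singleton.1 hy]; exact n1
  have q2 : NaG t [12] [3, 6] := fun x hx y hy => by
    rw [List.mem_singleton.1 hx]
    simp only [List.mem_cons, List.not_mem_nil, or_false] at hy
    rcases hy with rfl | rfl
    · exact n2
    · exact n3
  have q3 : NaG t [8] [3, 6] := fun x hx y hy => by
    rw [List.mem_singleton.1 hx]
    simp only [List.mem_cons, List.not_mem_nil, or_false] at hy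
    rcases hy with rfl | rfl
    · exact n4
    · exact n5
  have key : (p ^ f) ^ 4 ≤ 6 * (v ^ f') ^ 2 ∧ ∃ g ∈ g6c, ∃ l ∈ kf4, nlf g (p ^ f) ∣ mlf l (v ^ f') := by
    have hB := hB_f4 h
    rcases h.three (c9 := 5) (c12 := 6) (c3 := 6) g1 g2 g3 q1 q2 q3
      (fun i hi => hm i (by rw [List.mem_singleton.1 hi]; simp)) (fun i hi => hm i (by rw [List.mem_singleton.1 hi]; simp))
      (fun i hi => hm i (by
        simp only [List.mem_cons, List.not_mem_nil, or_false] at hi
        rcases hi with rfl | rfl <;> simp)) (by decide) (by decide) (by decide) (Or.inr (by decide)) hB with x | x | x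
    · obtain ⟨h1, h2⟩ := finF (g := [12]) hu (by rw [nlf, List.map_singleton, List.prod_singleton]; exact pm_eq (by decide))
        (by
          rw [Pm_twelve hq]
          have h1 : (p ^ f) ^ 2 ≤ (p ^ f) ^ 4 := Nat.pow_le_pow_right (by omega) (by norm_num)
          have h2 : 9 * (p ^ f) ^ 2 ≤ (p ^ f) ^ 4 := by
            have h4 : (p ^ f) ^ 4 = (p ^ f) ^ 2 * (p ^ f) ^ 2 := by ring
            rw [h4]
            exact Nat.mul_le_mul_right _ (by nlinarith)
          omega) x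
      exact ⟨h1, [12], by decide, h2⟩
    · obtain ⟨h1, h2⟩ := finF (g := [8]) hu (by rw [nlf, List.map_singleton, List.prod_singleton]; exact pm_eq (by decide))
        (by have := Pm_eight hq; omega) x
      exact ⟨h1, [8], by decide, h2⟩
    · obtain ⟨h1, h2⟩ := finF (g := [3, 6]) hu (by
        rw [nlf, List.map_cons, List.map_singleton, List.prod_cons, List.prod_singleton, pm_eq (by decide), pm_eq (by decide)])
        (by have := Pm_36 hq; omega) x
      exact ⟨h1, [3, 6], by decide, h2⟩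
  have hB : 288 * (v ^ f') ^ 14 ≤ 12 * (max 169 (p ^ f) * (2 * (p ^ f) ^ 24)) :=
    (bigSF4 h.ls h.is h.p2 (by rcases ht with rfl | rfl <;> decide) (by rcases ht with rfl | rfl <;> decide)
      (by rcases ht with rfl | rfl <;> decide) h.frm.is).trans (Nat.mul_le_mul_left _ (Nat.mul_le_mul_left _ (by
        rcases ht with rfl | rfl <;> exact RR_psp6 hq3)))
  obtain ⟨h3, h4⟩ := bndFc key.1 hB
  exact bxF_false bxF_c h3 h4 hq3 hq h.cop' key.1 hB key.2

/-- **`F₄` and `oplus 6`** -/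
theorem sm6_f4p (h : EX (.oplus 6) p f L G K S .f4 v f' tabF4 (kcl clF4 (v ^ f'))) : False := by
  obtain ⟨hq, hq3⟩ := h.q_odd
  have hu := h.u_two
  have hgd := h.gd_f4 (Or.inl (by decide))
  have hm : ∀ i ∈ [5, 10, 8], ∀ z, Gd (.oplus 6) (p ^ f) (Nat.card ↥K) S.index i z →
      (124 : ℕ).testBit (val tabF4 (Nat.card ↥K) v (kcl clF4 (v ^ f')) z) = true := by
    intro i hi z hz
    simp only [List.mem_cons, List.not_mem_nil, or_false] at hi
    rcases hi with rfl | rfl | rfl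
    · exact h.row_val hgd r6f_oplus_5 hz
    · exact h.row_val hgd r6f_oplus_10 hz
    · exact h.row_val hgd r6f_oplus_8 hz
  have m5 : mem (.oplus 6) 5 := Or.inl (show eta 5 + 1 ≤ 6 by decide)
  have m10 : mem (.oplus 6) 10 := Or.inl (show eta 10 + 1 ≤ 6 by decide)
  have m8 : mem (.oplus 6) 8 := Or.inl (show eta 8 + 1 ≤ 6 by decide)
  obtain ⟨s1, g1⟩ := h.gp1k (i := 5) (by norm_num) m5 (kill8 10 (by norm_num) (by decide) (by norm_num) (by norm_num))
  obtain ⟨s2, g2⟩ := h.gp1k (i := 10) (by norm_num) m10 (kill8 5 (by norm_num) (by decide) (by norm_num) (by norm_num))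
  obtain ⟨s3, g3⟩ := h.gp1k (i := 8) (by norm_num) m8 (kill56 10 5 (by decide) (by decide))
  rw [show idx (.oplus 6) 5 = 5 from rfl] at g1
  rw [show idx (.oplus 6) 10 = 10 from rfl] at g2
  rw [show idx (.oplus 6) 8 = 8 from rfl] at g3
  have hg : ∀ {i j : ℕ}, na (.oplus 6) i j → NaG (.oplus 6) [i] [j] := fun hij a ha b hb => by
    rw [List.mem_singleton.1 ha, List.mem_singleton.1 hb]; exact hij
  have n1 : na (.oplus 6) 5 10 := na_of_naB (by norm_num) (by norm_num) (by decide)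
  have n2 : na (.oplus 6) 5 8 := na_of_naB (by norm_num) (by norm_num) (by decide)
  have n3 : na (.oplus 6) 10 8 := na_of_naB (by norm_num) (by norm_num) (by decide)
  have key : (p ^ f) ^ 4 ≤ 16 * (v ^ f') ^ 2 ∧ ∃ g ∈ g6p, ∃ l ∈ kf4, nlf g (p ^ f) ∣ mlf l (v ^ f') := by
    have hB := hB_f4 h
    rcases h.three (c9 := 5) (c12 := 6) (c3 := 6) g1 g2 g3 (hg n1) (hg n2) (hg n3)
      (fun i hi => hm i (by rw [List.mem_singleton.1 hi]; simp)) (fun i hi => hm i (by rw [List.mem_singleton.1 hi]; simp))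
      (fun i hi => hm i (by rw [List.mem_singleton.1 hi]; simp)) (by decide) (by decide) (by decide) (Or.inr (by decide))
      hB with x | x | x
    · obtain ⟨h1, h2⟩ := finFp (g := [5]) hu (by rw [nlf, List.map_singleton, List.prod_singleton]; exact pm_eq (by decide))
        (ge5 hq3) x
      exact ⟨h1, [5], by decide, h2⟩
    · obtain ⟨h1, h2⟩ := finFp (g := [10]) hu (by rw [nlf, List.map_singleton, List.prod_singleton]; exact pm_eq (by decide))
        (ge10 hq3) x
      exact ⟨h1, [10], by decide, h2⟩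
    · obtain ⟨h1, h2⟩ := finFp (g := [8]) hu (by rw [nlf, List.map_singleton, List.prod_singleton]; exact pm_eq (by decide))
        (ge8 hq3) x
      exact ⟨h1, [8], by decide, h2⟩
  have hB : 288 * (v ^ f') ^ 14 ≤ 12 * (max 169 (p ^ f) * (2 * (p ^ f) ^ 20)) :=
    (bigRF4 h.ls h.is h.p2 (by decide) (rok_oplus6 h.ls h.is h.p2) h.frm.is).trans
      (Nat.mul_le_mul_left _ (Nat.mul_le_mul_left _ (RM_o6f hq3)))
  obtain ⟨h3, h4⟩ := bndFp key.1 hB
  exact bxF_false bxF_p h3 h4 hq3 hq h.cop' key.1 hB key.2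

/-- **`F₄`, rank 6.** -/
theorem sm6_f4 (h : EX t p f L G K S .f4 v f' tabF4 (kcl clF4 (v ^ f')))
    (ht : t = .psp 6 ∨ t = .oodd 6 ∨ t = .oplus 6) : False := by
  rcases ht with rfl | rfl | rfl
  · exact sm6_f4c h (Or.inl rfl)
  · exact sm6_f4c h (Or.inr rfl)
  · exact sm6_f4p h

end main

end Cfsg.Agent.R2.Spec.EE
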