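import Cfsg.Agent.R2.Spec.EE.SmTool

/-!
# EE, small ranks: `C₆`, `B₆` and `E₆`, `²E₆`: the kernel rows (helper8)
-/

set_option autoImplicit false

namespace Cfsg.Agent.R2.Spec.EE

open Cfsg.Agent.H426.LieFam

/-- the row of the values of the class `i`, restrictions `l`, values not in `m` -/
def RM6 (T : Tab) (t : Fam) (l : List (ℕ × ℕ)) (i m : ℕ) : Prop :=
  (dat T.tbl t (cls3 t)).go (cls3 t).length (st0 T.tbl (cls3 t) (T.domMX l i m)) 0 = false

theorem r6_psp_12 : RM6 tabE6 (.psp 6) [] 12 508 := by unfold RM6; decide +kernel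
theorem r6_psp_5 : RM6 tabE6 (.psp 6) [(12, 128)] 5 320 := by unfold RM6; decide +kernel
theorem r6_psp_10 : RM6 tabE6 (.psp 6) [(12, 128)] 10 320 := by unfold RM6; decide +kernel
theorem r6_oodd_12 : RM6 tabE6 (.oodd 6) [] 12 508 := by unfold RM6; decide +kernel
theorem r6_oodd_5 : RM6 tabE6 (.oodd 6) [(12, 128)] 5 320 := by unfold RM6; decide +kernel
theorem r6_oodd_10 : RM6 tabE6 (.oodd 6) [(12, 128)] 10 320 := by unfold RM6; decide +kernel

theorem rt6_psp_12 : RM6 tabTE6 (.psp 6) [] 12 508 := by unfold RM6; decide +kernel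
theorem rt6_psp_5 : RM6 tabTE6 (.psp 6) [(12, 256)] 5 160 := by unfold RM6; decide +kernel
theorem rt6_psp_10 : RM6 tabTE6 (.psp 6) [(12, 256)] 10 160 := by unfold RM6; decide +kernel
theorem rt6_oodd_12 : RM6 tabTE6 (.oodd 6) [] 12 508 := by unfold RM6; decide +kernel
theorem rt6_oodd_5 : RM6 tabTE6 (.oodd 6) [(12, 256)] 5 160 := by unfold RM6; decide +kernel
theorem rt6_oodd_10 : RM6 tabTE6 (.oodd 6) [(12, 256)] 10 160 := by unfold RM6; decide +kernel

end Cfsg.Agent.R2.Spec.EE
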