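import Cfsg.Agent.R2.Spec.EE.CertBaseT

/-!
# Adjacency of the prime divisors of two cyclotomic values through one torus, type TE6, part 1 (helper2)
-/

set_option autoImplicit false

namespace Cfsg.Agent.R2.Spec.EE.CertTE6

open Cfsg Cfsg.Lie Cfsg.Lie.ChevalleyDatum Cfsg.Agent Cfsg.Agent.H129 Cfsg.Agent.H129.WData
open Cfsg.Agent.Nodes Cfsg.Agent.Nodes.RGDChev Cfsg.Agent.Tits.Roots Cfsg.Agent.ChevalleyStructure.CoxeterGeomTypes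
open Cfsg.Agent.H493 Cfsg.Agent.H493.PGTorus Cfsg.Agent.H493.PGCyc Cfsg.Agent.H168.ExcAdj Cfsg.Agent.H168.TwAdj
open Cfsg.Agent.H168.TwCover (pi6 pi4 phiT rel_six rel_tri)
open Cfsg.Agent.R2.Spec.EE.CertBaseT

universe u

/-- partial products, characteristic polynomial Φ1^3 Φ2 Φ4 -/
def ch1_2_4 : List (Fin 6 × Mat 6) := [
    (0, ![![-1, 0, 0, 0, 0, 0], ![0, 1, 0, 0, 0, 0], ![1, 0, 1, 0, 0, 0], ![0, 0, 0, 1, 0, 0], ![0, 0, 0, 0, 1, 0],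
      ![0, 0, 0, 0, 0, 1]])]

theorem ch1_2_4_ok : ChainOK PGE6.Am ch1_2_4 := by decide +kernel

/-- the matrix -/
def th1_2_4 : Mat 6 := ![![0, 0, 0, 0, 0, 1], ![0, 1, 0, 0, 0, 0], ![0, 0, 0, 0, 1, 0], ![0, 0, 0, 1, 0, 0],
    ![1, 0, 1, 0, 0, 0], ![-1, 0, 0, 0, 0, 0]]

theorem th1_2_4_eq : ∀ j, hd ch1_2_4 (pi6 j) = th1_2_4 j := by decide +kernel

/-- coefficients, order 1 -/
def v1_2_4_at1 : Fin 1 → Fin 6 → ℤ := ![![0, 0, 0, 1, 0, 0]]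

theorem e1_2_4_at1 : EigOK (tr th1_2_4) c1 v1_2_4_at1 ![0, 0, 0, 1, 0, 0] := by decide +kernel

/-- coefficients, order 2 -/
def v1_2_4_at2 : Fin 1 → Fin 6 → ℤ := ![![0, 0, -1, 0, 1, 0]]

theorem e1_2_4_at2 : EigOK (tr th1_2_4) c2 v1_2_4_at2 ![0, 0, -1, 0, 0, 0] := by decide +kernel

/-- coefficients, order 4 -/
def v1_2_4_at4 : Fin 2 → Fin 6 → ℤ := ![![-2, 0, 1, 0, 0, 0], ![0, 0, 0, 0, 1, -2]]

theorem e1_2_4_at4 : EigOK (tr th1_2_4) c4 v1_2_4_at4 ![0, 0, 1, 0, 0, 0] := by decide +kernel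

theorem rel_1_1 {F : Type u} [Field F] [Fintype F] {q : ℕ} (hq : IsPrimePow q) (hF : Fintype.card F = q ^ 2) {r s : ℕ}
    (hr : r.Prime) (hs : s.Prime) (hrs : r ≠ s) (h1 : phiT c1 q r) (h2 : phiT c1 q s) :
    PG.Rel ↥(twistedE6 F q) r s :=
  rel_six hq hF ch1_2_4_ok th1_2_4_eq e1_2_4_at1 e1_2_4_at1 hr hs hrs h1 h2

theorem rel_2_1 {F : Type u} [Field F] [Fintype F] {q : ℕ} (hq : IsPrimePow q) (hF : Fintype.card F = q ^ 2) {r s : ℕ}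
    (hr : r.Prime) (hs : s.Prime) (hrs : r ≠ s) (h1 : phiT c2 q r) (h2 : phiT c1 q s) :
    PG.Rel ↥(twistedE6 F q) r s :=
  rel_six hq hF ch1_2_4_ok th1_2_4_eq e1_2_4_at2 e1_2_4_at1 hr hs hrs h1 h2

theorem rel_4_1 {F : Type u} [Field F] [Fintype F] {q : ℕ} (hq : IsPrimePow q) (hF : Fintype.card F = q ^ 2) {r s : ℕ}
    (hr : r.Prime) (hs : s.Prime) (hrs : r ≠ s) (h1 : phiT c4 q r) (h2 : phiT c1 q s) :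
    PG.Rel ↥(twistedE6 F q) r s :=
  rel_six hq hF ch1_2_4_ok th1_2_4_eq e1_2_4_at4 e1_2_4_at1 hr hs hrs h1 h2

theorem rel_2_2 {F : Type u} [Field F] [Fintype F] {q : ℕ} (hq : IsPrimePow q) (hF : Fintype.card F = q ^ 2) {r s : ℕ}
    (hr : r.Prime) (hs : s.Prime) (hrs : r ≠ s) (h1 : phiT c2 q r) (h2 : phiT c2 q s) :
    PG.Rel ↥(twistedE6 F q) r s :=
  rel_six hq hF ch1_2_4_ok th1_2_4_eq e1_2_4_at2 e1_2_4_at2 hr hs hrs h1 h2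

theorem rel_4_2 {F : Type u} [Field F] [Fintype F] {q : ℕ} (hq : IsPrimePow q) (hF : Fintype.card F = q ^ 2) {r s : ℕ}
    (hr : r.Prime) (hs : s.Prime) (hrs : r ≠ s) (h1 : phiT c4 q r) (h2 : phiT c2 q s) :
    PG.Rel ↥(twistedE6 F q) r s :=
  rel_six hq hF ch1_2_4_ok th1_2_4_eq e1_2_4_at4 e1_2_4_at2 hr hs hrs h1 h2

theorem rel_4_4 {F : Type u} [Field F] [Fintype F] {q : ℕ} (hq : IsPrimePow q) (hF : Fintype.card F = q ^ 2) {r s : ℕ}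
    (hr : r.Prime) (hs : s.Prime) (hrs : r ≠ s) (h1 : phiT c4 q r) (h2 : phiT c4 q s) :
    PG.Rel ↥(twistedE6 F q) r s :=
  rel_six hq hF ch1_2_4_ok th1_2_4_eq e1_2_4_at4 e1_2_4_at4 hr hs hrs h1 h2

/-- partial products, characteristic polynomial Φ1 Φ2 Φ3 Φ4 -/
def ch1_2_3_4 : List (Fin 6 × Mat 6) := [
    (3, ![![-1, 0, 0, 0, 0, 0], ![0, -1, 0, -1, 0, 0], ![1, 0, 1, 1, 0, 0], ![0, 1, 0, 0, 0, 0],
      ![0, 0, 0, 1, 1, 0], ![0, 0, 0, 0, 0, 1]]),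
    (1, ![![-1, 0, 0, 0, 0, 0], ![0, -1, 0, 0, 0, 0], ![1, 0, 1, 0, 0, 0], ![0, 1, 0, 1, 0, 0], ![0, 0, 0, 0, 1, 0],
      ![0, 0, 0, 0, 0, 1]]),
    (0, ![![-1, 0, 0, 0, 0, 0], ![0, 1, 0, 0, 0, 0], ![1, 0, 1, 0, 0, 0], ![0, 0, 0, 1, 0, 0], ![0, 0, 0, 0, 1, 0],
      ![0, 0, 0, 0, 0, 1]])]

theorem ch1_2_3_4_ok : ChainOK PGE6.Am ch1_2_3_4 := by decide +kernel

/-- the matrix -/
def th1_2_3_4 : Mat 6 := ![![0, 0, 0, 0, 0, 1], ![0, -1, 0, -1, 0, 0], ![0, 0, 0, 1, 1, 0], ![0, 1, 0, 0, 0, 0],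
    ![1, 0, 1, 1, 0, 0], ![-1, 0, 0, 0, 0, 0]]

theorem th1_2_3_4_eq : ∀ j, hd ch1_2_3_4 (pi6 j) = th1_2_3_4 j := by decide +kernel

/-- coefficients, order 3 -/
def v1_2_3_4_at3 : Fin 2 → Fin 6 → ℤ := ![![0, -1, 1, -1, 1, 0], ![0, -2, 0, 1, 0, 0]]

theorem e1_2_3_4_at3 : EigOK (tr th1_2_3_4) c3 v1_2_3_4_at3 ![0, 0, 1, 0, 0, 0] := by decide +kernel

/-- coefficients, order 4 -/
def v1_2_3_4_at4 : Fin 2 → Fin 6 → ℤ := ![![-2, 0, 1, 0, 0, 0], ![0, 0, 0, 0, 1, -2]]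

theorem e1_2_3_4_at4 : EigOK (tr th1_2_3_4) c4 v1_2_3_4_at4 ![0, 0, 1, 0, 0, 0] := by decide +kernel

theorem rel_4_3 {F : Type u} [Field F] [Fintype F] {q : ℕ} (hq : IsPrimePow q) (hF : Fintype.card F = q ^ 2) {r s : ℕ}
    (hr : r.Prime) (hs : s.Prime) (hrs : r ≠ s) (h1 : phiT c4 q r) (h2 : phiT c3 q s) :
    PG.Rel ↥(twistedE6 F q) r s :=
  rel_six hq hF ch1_2_3_4_ok th1_2_3_4_eq e1_2_3_4_at4 e1_2_3_4_at3 hr hs hrs h1 h2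

/-- partial products, characteristic polynomial Φ1 Φ2 Φ3 Φ6 -/
def ch1_2_3_6 : List (Fin 6 × Mat 6) := [
    (2, ![![-1, 0, -1, 0, 0, 0], ![0, -1, 0, 0, 0, 0], ![1, 0, 0, 0, 0, 0], ![0, 1, 1, 1, 0, 0],
      ![0, 0, 0, 0, 1, 0], ![0, 0, 0, 0, 0, 1]]),
    (1, ![![-1, 0, 0, 0, 0, 0], ![0, -1, 0, 0, 0, 0], ![1, 0, 1, 0, 0, 0], ![0, 1, 0, 1, 0, 0], ![0, 0, 0, 0, 1, 0],
      ![0, 0, 0, 0, 0, 1]]),
    (0, ![![-1, 0, 0, 0, 0, 0], ![0, 1, 0, 0, 0, 0], ![1, 0, 1, 0, 0, 0], ![0, 0, 0, 1, 0, 0], ![0, 0, 0, 0, 1, 0],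
      ![0, 0, 0, 0, 0, 1]])]

theorem ch1_2_3_6_ok : ChainOK PGE6.Am ch1_2_3_6 := by decide +kernel

/-- the matrix -/
def th1_2_3_6 : Mat 6 := ![![0, 0, 0, 0, 0, 1], ![0, -1, 0, 0, 0, 0], ![0, 0, 0, 0, 1, 0], ![0, 1, 1, 1, 0, 0],
    ![1, 0, 0, 0, 0, 0], ![-1, 0, -1, 0, 0, 0]]

theorem th1_2_3_6_eq : ∀ j, hd ch1_2_3_6 (pi6 j) = th1_2_3_6 j := by decide +kernel

/-- coefficients, order 1 -/
def v1_2_3_6_at1 : Fin 1 → Fin 6 → ℤ := ![![0, 0, 0, 1, 0, 0]]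

theorem e1_2_3_6_at1 : EigOK (tr th1_2_3_6) c1 v1_2_3_6_at1 ![0, 0, 0, 1, 0, 0] := by decide +kernel

/-- coefficients, order 2 -/
def v1_2_3_6_at2 : Fin 1 → Fin 6 → ℤ := ![![0, -2, 0, 1, 0, 0]]

theorem e1_2_3_6_at2 : EigOK (tr th1_2_3_6) c2 v1_2_3_6_at2 ![0, 0, 0, 1, 0, 0] := by decide +kernel

/-- coefficients, order 3 -/
def v1_2_3_6_at3 : Fin 2 → Fin 6 → ℤ := ![![2, 0, -1, 1, -1, -1], ![1, 0, 1, 0, -2, 1]]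

theorem e1_2_3_6_at3 : EigOK (tr th1_2_3_6) c3 v1_2_3_6_at3 ![0, 0, 0, 1, 0, 0] := by decide +kernel

/-- coefficients, order 6 -/
def v1_2_3_6_at6 : Fin 2 → Fin 6 → ℤ := ![![-1, 0, 1, 0, 0, -1], ![1, 0, 0, -1, 1, 0]]

theorem e1_2_3_6_at6 : EigOK (tr th1_2_3_6) c6 v1_2_3_6_at6 ![0, 0, 1, 0, 0, 0] := by decide +kernel

theorem rel_3_1 {F : Type u} [Field F] [Fintype F] {q : ℕ} (hq : IsPrimePow q) (hF : Fintype.card F = q ^ 2) {r s : ℕ}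
    (hr : r.Prime) (hs : s.Prime) (hrs : r ≠ s) (h1 : phiT c3 q r) (h2 : phiT c1 q s) :
    PG.Rel ↥(twistedE6 F q) r s :=
  rel_six hq hF ch1_2_3_6_ok th1_2_3_6_eq e1_2_3_6_at3 e1_2_3_6_at1 hr hs hrs h1 h2

theorem rel_6_1 {F : Type u} [Field F] [Fintype F] {q : ℕ} (hq : IsPrimePow q) (hF : Fintype.card F = q ^ 2) {r s : ℕ}
    (hr : r.Prime) (hs : s.Prime) (hrs : r ≠ s) (h1 : phiT c6 q r) (h2 : phiT c1 q s) :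
    PG.Rel ↥(twistedE6 F q) r s :=
  rel_six hq hF ch1_2_3_6_ok th1_2_3_6_eq e1_2_3_6_at6 e1_2_3_6_at1 hr hs hrs h1 h2

theorem rel_3_2 {F : Type u} [Field F] [Fintype F] {q : ℕ} (hq : IsPrimePow q) (hF : Fintype.card F = q ^ 2) {r s : ℕ}
    (hr : r.Prime) (hs : s.Prime) (hrs : r ≠ s) (h1 : phiT c3 q r) (h2 : phiT c2 q s) :
    PG.Rel ↥(twistedE6 F q) r s :=
  rel_six hq hF ch1_2_3_6_ok th1_2_3_6_eq e1_2_3_6_at3 e1_2_3_6_at2 hr hs hrs h1 h2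

theorem rel_6_2 {F : Type u} [Field F] [Fintype F] {q : ℕ} (hq : IsPrimePow q) (hF : Fintype.card F = q ^ 2) {r s : ℕ}
    (hr : r.Prime) (hs : s.Prime) (hrs : r ≠ s) (h1 : phiT c6 q r) (h2 : phiT c2 q s) :
    PG.Rel ↥(twistedE6 F q) r s :=
  rel_six hq hF ch1_2_3_6_ok th1_2_3_6_eq e1_2_3_6_at6 e1_2_3_6_at2 hr hs hrs h1 h2

theorem rel_3_3 {F : Type u} [Field F] [Fintype F] {q : ℕ} (hq : IsPrimePow q) (hF : Fintype.card F = q ^ 2) {r s : ℕ}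
    (hr : r.Prime) (hs : s.Prime) (hrs : r ≠ s) (h1 : phiT c3 q r) (h2 : phiT c3 q s) :
    PG.Rel ↥(twistedE6 F q) r s :=
  rel_six hq hF ch1_2_3_6_ok th1_2_3_6_eq e1_2_3_6_at3 e1_2_3_6_at3 hr hs hrs h1 h2

theorem rel_6_3 {F : Type u} [Field F] [Fintype F] {q : ℕ} (hq : IsPrimePow q) (hF : Fintype.card F = q ^ 2) {r s : ℕ}
    (hr : r.Prime) (hs : s.Prime) (hrs : r ≠ s) (h1 : phiT c6 q r) (h2 : phiT c3 q s) :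
    PG.Rel ↥(twistedE6 F q) r s :=
  rel_six hq hF ch1_2_3_6_ok th1_2_3_6_eq e1_2_3_6_at6 e1_2_3_6_at3 hr hs hrs h1 h2

theorem rel_6_6 {F : Type u} [Field F] [Fintype F] {q : ℕ} (hq : IsPrimePow q) (hF : Fintype.card F = q ^ 2) {r s : ℕ}
    (hr : r.Prime) (hs : s.Prime) (hrs : r ≠ s) (h1 : phiT c6 q r) (h2 : phiT c6 q s) :
    PG.Rel ↥(twistedE6 F q) r s :=
  rel_six hq hF ch1_2_3_6_ok th1_2_3_6_eq e1_2_3_6_at6 e1_2_3_6_at6 hr hs hrs h1 h2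

/-- partial products, characteristic polynomial Φ1 Φ2 Φ8 -/
def ch1_2_8 : List (Fin 6 × Mat 6) := [
    (3, ![![1, 0, 1, 1, 0, 0], ![0, -1, 0, -1, 0, 0], ![0, 0, -1, -1, 0, 0], ![0, 1, 1, 1, 0, 0],
      ![0, 0, 0, 1, 1, 0], ![0, 0, 0, 0, 0, 1]]),
    (2, ![![1, 0, 1, 0, 0, 0], ![0, -1, 0, 0, 0, 0], ![0, 0, -1, 0, 0, 0], ![0, 1, 1, 1, 0, 0], ![0, 0, 0, 0, 1, 0],
      ![0, 0, 0, 0, 0, 1]]),
    (1, ![![1, 0, 0, 0, 0, 0], ![0, -1, 0, 0, 0, 0], ![0, 0, 1, 0, 0, 0], ![0, 1, 0, 1, 0, 0], ![0, 0, 0, 0, 1, 0],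
      ![0, 0, 0, 0, 0, 1]])]

theorem ch1_2_8_ok : ChainOK PGE6.Am ch1_2_8 := by decide +kernel

/-- the matrix -/
def th1_2_8 : Mat 6 := ![![0, 0, 0, 0, 0, 1], ![0, -1, 0, -1, 0, 0], ![0, 0, 0, 1, 1, 0], ![0, 1, 1, 1, 0, 0],
    ![0, 0, -1, -1, 0, 0], ![1, 0, 1, 1, 0, 0]]

theorem th1_2_8_eq : ∀ j, hd ch1_2_8 (pi6 j) = th1_2_8 j := by decide +kernel

/-- coefficients, order 1 -/
def v1_2_8_at1 : Fin 1 → Fin 6 → ℤ := ![![1, 0, 0, 0, 0, 1]]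

theorem e1_2_8_at1 : EigOK (tr th1_2_8) c1 v1_2_8_at1 ![1, 0, 0, 0, 0, 0] := by decide +kernel

/-- coefficients, order 2 -/
def v1_2_8_at2 : Fin 1 → Fin 6 → ℤ := ![![-1, 0, 0, 0, 0, 1]]

theorem e1_2_8_at2 : EigOK (tr th1_2_8) c2 v1_2_8_at2 ![-1, 0, 0, 0, 0, 0] := by decide +kernel

/-- coefficients, order 8 -/
def v1_2_8_at8 : Fin 4 → Fin 6 → ℤ := ![![0, -1, 1, -1, 1, 0], ![1, 0, -2, 1, 0, 0],
    ![0, 1, 1, -1, -1, 1], ![0, -2, 0, 1, 0, 0]]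

theorem e1_2_8_at8 : EigOK (tr th1_2_8) c8 v1_2_8_at8 ![0, 0, 0, 0, 1, 1] := by decide +kernel

theorem rel_8_1 {F : Type u} [Field F] [Fintype F] {q : ℕ} (hq : IsPrimePow q) (hF : Fintype.card F = q ^ 2) {r s : ℕ}
    (hr : r.Prime) (hs : s.Prime) (hrs : r ≠ s) (h1 : phiT c8 q r) (h2 : phiT c1 q s) :
    PG.Rel ↥(twistedE6 F q) r s :=
  rel_six hq hF ch1_2_8_ok th1_2_8_eq e1_2_8_at8 e1_2_8_at1 hr hs hrs h1 h2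

theorem rel_8_2 {F : Type u} [Field F] [Fintype F] {q : ℕ} (hq : IsPrimePow q) (hF : Fintype.card F = q ^ 2) {r s : ℕ}
    (hr : r.Prime) (hs : s.Prime) (hrs : r ≠ s) (h1 : phiT c8 q r) (h2 : phiT c2 q s) :
    PG.Rel ↥(twistedE6 F q) r s :=
  rel_six hq hF ch1_2_8_ok th1_2_8_eq e1_2_8_at8 e1_2_8_at2 hr hs hrs h1 h2

theorem rel_8_8 {F : Type u} [Field F] [Fintype F] {q : ℕ} (hq : IsPrimePow q) (hF : Fintype.card F = q ^ 2) {r s : ℕ}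
    (hr : r.Prime) (hs : s.Prime) (hrs : r ≠ s) (h1 : phiT c8 q r) (h2 : phiT c8 q s) :
    PG.Rel ↥(twistedE6 F q) r s :=
  rel_six hq hF ch1_2_8_ok th1_2_8_eq e1_2_8_at8 e1_2_8_at8 hr hs hrs h1 h2

/-- partial products, characteristic polynomial Φ1 Φ2 Φ10 -/
def ch1_2_10 : List (Fin 6 × Mat 6) := [
    (3, ![![-1, 0, -1, -1, 0, 0], ![0, 1, 0, 1, 0, 0], ![1, 0, 0, 0, 0, 0], ![0, 0, 1, 0, 0, 0],
      ![0, 0, 0, 1, 1, 0], ![0, 0, 0, 0, 0, 1]]),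
    (2, ![![-1, 0, -1, 0, 0, 0], ![0, 1, 0, 0, 0, 0], ![1, 0, 0, 0, 0, 0], ![0, 0, 1, 1, 0, 0], ![0, 0, 0, 0, 1, 0],
      ![0, 0, 0, 0, 0, 1]]),
    (0, ![![-1, 0, 0, 0, 0, 0], ![0, 1, 0, 0, 0, 0], ![1, 0, 1, 0, 0, 0], ![0, 0, 0, 1, 0, 0], ![0, 0, 0, 0, 1, 0],
      ![0, 0, 0, 0, 0, 1]])]

theorem ch1_2_10_ok : ChainOK PGE6.Am ch1_2_10 := by decide +kernel

/-- the matrix -/
def th1_2_10 : Mat 6 := ![![0, 0, 0, 0, 0, 1], ![0, 1, 0, 1, 0, 0], ![0, 0, 0, 1, 1, 0], ![0, 0, 1, 0, 0, 0],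
    ![1, 0, 0, 0, 0, 0], ![-1, 0, -1, -1, 0, 0]]

theorem th1_2_10_eq : ∀ j, hd ch1_2_10 (pi6 j) = th1_2_10 j := by decide +kernel

/-- coefficients, order 1 -/
def v1_2_10_at1 : Fin 1 → Fin 6 → ℤ := ![![0, 1, 0, 0, 0, 0]]

theorem e1_2_10_at1 : EigOK (tr th1_2_10) c1 v1_2_10_at1 ![0, 1, 0, 0, 0, 0] := by decide +kernel

/-- coefficients, order 2 -/
def v1_2_10_at2 : Fin 1 → Fin 6 → ℤ := ![![0, 1, 2, -2, 0, 0]]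

theorem e1_2_10_at2 : EigOK (tr th1_2_10) c2 v1_2_10_at2 ![0, 1, 0, 0, 0, 0] := by decide +kernel

/-- coefficients, order 10 -/
def v1_2_10_at10 : Fin 4 → Fin 6 → ℤ := ![![0, 0, 0, 1, -1, -1], ![-1, -1, 1, 0, 0, 1],
    ![0, 0, 0, 0, 1, -2], ![1, -1, 0, 0, 0, 1]]

theorem e1_2_10_at10 : EigOK (tr th1_2_10) c10 v1_2_10_at10 ![0, 0, 0, 1, 0, 0] := by decide +kernel

theorem rel_10_1 {F : Type u} [Field F] [Fintype F] {q : ℕ} (hq : IsPrimePow q) (hF : Fintype.card F = q ^ 2) {r s : ℕ}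
    (hr : r.Prime) (hs : s.Prime) (hrs : r ≠ s) (h1 : phiT c10 q r) (h2 : phiT c1 q s) :
    PG.Rel ↥(twistedE6 F q) r s :=
  rel_six hq hF ch1_2_10_ok th1_2_10_eq e1_2_10_at10 e1_2_10_at1 hr hs hrs h1 h2

theorem rel_10_2 {F : Type u} [Field F] [Fintype F] {q : ℕ} (hq : IsPrimePow q) (hF : Fintype.card F = q ^ 2) {r s : ℕ}
    (hr : r.Prime) (hs : s.Prime) (hrs : r ≠ s) (h1 : phiT c10 q r) (h2 : phiT c2 q s) :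
    PG.Rel ↥(twistedE6 F q) r s :=
  rel_six hq hF ch1_2_10_ok th1_2_10_eq e1_2_10_at10 e1_2_10_at2 hr hs hrs h1 h2

theorem rel_10_10 {F : Type u} [Field F] [Fintype F] {q : ℕ} (hq : IsPrimePow q) (hF : Fintype.card F = q ^ 2) {r s : ℕ}
    (hr : r.Prime) (hs : s.Prime) (hrs : r ≠ s) (h1 : phiT c10 q r) (h2 : phiT c10 q s) :
    PG.Rel ↥(twistedE6 F q) r s :=
  rel_six hq hF ch1_2_10_ok th1_2_10_eq e1_2_10_at10 e1_2_10_at10 hr hs hrs h1 h2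

/-- partial products, characteristic polynomial Φ18 -/
def ch18 : List (Fin 6 × Mat 6) := [
    (3, ![![-1, 0, -1, -1, 0, 0], ![0, -1, 0, -1, 0, 0], ![1, 0, 0, 0, 0, 0], ![0, 1, 1, 1, 0, 0],
      ![0, 0, 0, 1, 1, 0], ![0, 0, 0, 0, 0, 1]]),
    (2, ![![-1, 0, -1, 0, 0, 0], ![0, -1, 0, 0, 0, 0], ![1, 0, 0, 0, 0, 0], ![0, 1, 1, 1, 0, 0],
      ![0, 0, 0, 0, 1, 0], ![0, 0, 0, 0, 0, 1]]),
    (1, ![![-1, 0, 0, 0, 0, 0], ![0, -1, 0, 0, 0, 0], ![1, 0, 1, 0, 0, 0], ![0, 1, 0, 1, 0, 0], ![0, 0, 0, 0, 1, 0],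
      ![0, 0, 0, 0, 0, 1]]),
    (0, ![![-1, 0, 0, 0, 0, 0], ![0, 1, 0, 0, 0, 0], ![1, 0, 1, 0, 0, 0], ![0, 0, 0, 1, 0, 0], ![0, 0, 0, 0, 1, 0],
      ![0, 0, 0, 0, 0, 1]])]

theorem ch18_ok : ChainOK PGE6.Am ch18 := by decide +kernel

/-- the matrix -/
def th18 : Mat 6 := ![![0, 0, 0, 0, 0, 1], ![0, -1, 0, -1, 0, 0], ![0, 0, 0, 1, 1, 0], ![0, 1, 1, 1, 0, 0],
    ![1, 0, 0, 0, 0, 0], ![-1, 0, -1, -1, 0, 0]]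

theorem th18_eq : ∀ j, hd ch18 (pi6 j) = th18 j := by decide +kernel

/-- coefficients, order 18 -/
def v18_at18 : Fin 6 → Fin 6 → ℤ := ![![-1, 0, 0, 0, 0, 0], ![0, 0, 0, 0, 0, -1],
    ![0, -1, 0, 1, -1, 0], ![0, 0, 0, 1, -1, 0], ![-1, 0, 1, 0, 0, 0], ![0, 0, 0, 0, 1, -1]]

theorem e18_at18 : EigOK (tr th18) c18 v18_at18 ![-1, 0, -1, 0, 0, 0] := by decide +kernel

theorem rel_18_18 {F : Type u} [Field F] [Fintype F] {q : ℕ} (hq : IsPrimePow q) (hF : Fintype.card F = q ^ 2) {r s : ℕ}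
    (hr : r.Prime) (hs : s.Prime) (hrs : r ≠ s) (h1 : phiT c18 q r) (h2 : phiT c18 q s) :
    PG.Rel ↥(twistedE6 F q) r s :=
  rel_six hq hF ch18_ok th18_eq e18_at18 e18_at18 hr hs hrs h1 h2

/-- partial products, characteristic polynomial Φ6 Φ12 -/
def ch6_12 : List (Fin 6 × Mat 6) := [
    (2, ![![0, 0, 0, -1, 0, 0], ![0, -1, -1, -1, 0, 0], ![-1, 0, -1, 0, 0, 0], ![1, 1, 1, 1, 0, 0],
      ![0, 0, 1, 1, 1, 0], ![0, 0, 0, 0, 0, 1]]),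
    (3, ![![0, 0, -1, -1, 0, 0], ![0, -1, 0, -1, 0, 0], ![-1, 0, 0, 0, 0, 0], ![1, 1, 1, 1, 0, 0],
      ![0, 0, 0, 1, 1, 0], ![0, 0, 0, 0, 0, 1]]),
    (0, ![![0, 0, -1, 0, 0, 0], ![0, -1, 0, 0, 0, 0], ![-1, 0, 0, 0, 0, 0], ![1, 1, 1, 1, 0, 0],
      ![0, 0, 0, 0, 1, 0], ![0, 0, 0, 0, 0, 1]]),
    (2, ![![-1, 0, -1, 0, 0, 0], ![0, -1, 0, 0, 0, 0], ![1, 0, 0, 0, 0, 0], ![0, 1, 1, 1, 0, 0],
      ![0, 0, 0, 0, 1, 0], ![0, 0, 0, 0, 0, 1]]),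
    (1, ![![-1, 0, 0, 0, 0, 0], ![0, -1, 0, 0, 0, 0], ![1, 0, 1, 0, 0, 0], ![0, 1, 0, 1, 0, 0], ![0, 0, 0, 0, 1, 0],
      ![0, 0, 0, 0, 0, 1]]),
    (0, ![![-1, 0, 0, 0, 0, 0], ![0, 1, 0, 0, 0, 0], ![1, 0, 1, 0, 0, 0], ![0, 0, 0, 1, 0, 0], ![0, 0, 0, 0, 1, 0],
      ![0, 0, 0, 0, 0, 1]])]

theorem ch6_12_ok : ChainOK PGE6.Am ch6_12 := by decide +kernel

/-- the matrix -/
def th6_12 : Mat 6 := ![![0, 0, 0, 0, 0, 1], ![0, -1, -1, -1, 0, 0], ![0, 0, 1, 1, 1, 0],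
    ![1, 1, 1, 1, 0, 0], ![-1, 0, -1, 0, 0, 0], ![0, 0, 0, -1, 0, 0]]

theorem th6_12_eq : ∀ j, hd ch6_12 (pi6 j) = th6_12 j := by decide +kernel

/-- coefficients, order 6 -/
def v6_12_at6 : Fin 2 → Fin 6 → ℤ := ![![0, 0, -1, 1, 0, -1], ![1, 0, 0, 0, -1, 1]]

theorem e6_12_at6 : EigOK (tr th6_12) c6 v6_12_at6 ![0, 0, -1, 0, 0, 0] := by decide +kernel

/-- coefficients, order 12 -/
def v6_12_at12 : Fin 4 → Fin 6 → ℤ := ![![0, -1, 0, 0, 0, 0], ![-1, 0, 1, 0, -1, 0],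
    ![0, 0, 1, 0, 0, -1], ![0, -1, 0, 1, 0, 0]]

theorem e6_12_at12 : EigOK (tr th6_12) c12 v6_12_at12 ![0, -1, 0, -1, 0, 0] := by decide +kernel

theorem rel_12_6 {F : Type u} [Field F] [Fintype F] {q : ℕ} (hq : IsPrimePow q) (hF : Fintype.card F = q ^ 2) {r s : ℕ}
    (hr : r.Prime) (hs : s.Prime) (hrs : r ≠ s) (h1 : phiT c12 q r) (h2 : phiT c6 q s) :
    PG.Rel ↥(twistedE6 F q) r s :=
  rel_six hq hF ch6_12_ok th6_12_eq e6_12_at12 e6_12_at6 hr hs hrs h1 h2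

theorem rel_12_12 {F : Type u} [Field F] [Fintype F] {q : ℕ} (hq : IsPrimePow q) (hF : Fintype.card F = q ^ 2) {r s : ℕ}
    (hr : r.Prime) (hs : s.Prime) (hrs : r ≠ s) (h1 : phiT c12 q r) (h2 : phiT c12 q s) :
    PG.Rel ↥(twistedE6 F q) r s :=
  rel_six hq hF ch6_12_ok th6_12_eq e6_12_at12 e6_12_at12 hr hs hrs h1 h2

end Cfsg.Agent.R2.Spec.EE.CertTE6
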