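import Cfsg.Agent.R2.Spec.EE.Ord
import Cfsg.Agent.R2.Spec.EE.OrdT
import Cfsg.Agent.R2.Spec.EE.CertE6A
import Cfsg.Agent.R2.Spec.EE.CertTE6A

/-!
# S3435, EE: elements of a given order in the cyclic tori of `E₆(q)`, `²E₆(q)` (helper13)

* `ordX_of_eig`, `ordX_genT` : an element `x` with `m ∣ d * orderOf x` for every `m ∣ f(q)`, `f` any monic polynomial with a
  certificate;
* `ordX12_e6`, `ordX12_te6` : `Φ₃Φ₁₂` resp. `Φ₆Φ₁₂`; `ordX8_e6`, `ordX8_te6` : `Φ₁Φ₂Φ₈`.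
-/

set_option autoImplicit false
set_option linter.unusedSectionVars false
set_option linter.unnecessarySeqFocus false

namespace Cfsg.Agent.R2.Spec.EE

universe u

theorem orderOf_dvd_of_hom {A B : Type*} [Group A] [Group B] (φ : A →* B) {d : ℕ} (hφ : ∀ x, φ x = 1 → x ^ d = 1)
    (x : A) : orderOf x ∣ d * orderOf (φ x) := by
  apply orderOf_dvd_of_pow_eq_one
  rw [mul_comm, pow_mul]
  apply hφ
  rw [map_pow, pow_orderOf_eq_one]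

section Untw

open CoxeterSystem Subgroup Cfsg Cfsg.Lie Cfsg.Lie.ChevalleyDatum
open Cfsg.Agent.ChevalleyStructure Cfsg.Agent.ChevalleyStructure.Elts Cfsg.Agent.ChevalleyStructure.CoxeterGeom
  Cfsg.Agent.ChevalleyStructure.CoxeterGeomTypes Cfsg.Agent.ChevalleyStructure.NPerm
open Cfsg.Agent.Tits.Roots Cfsg.Agent.Tits.Core Cfsg.Agent.Nodes.Reps Cfsg.Agent.Nodes.BNOf
  Cfsg.Agent.Nodes.RGDChev Cfsg.Agent.Nodes.Bruhat
open Cfsg.Agent.KFacts.RgdField Cfsg.Agent.KFacts.RgdChevCoord Cfsg.Agent.BpExc.TorCent Cfsg.Agent.BpExc.TorChev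
open Cfsg.Agent.BpExc.Tow Cfsg.Agent.BpExc.TowChev Cfsg.Agent.BpExc.FamExt Cfsg.Agent.BpExc.FamUntw
  Cfsg.Agent.BpExc.FamInst Cfsg.Agent.BpExc.LangFr Cfsg.Agent.BpExc.FamField
open Cfsg.Agent.H378.TorDual Cfsg.Agent.H378.TorChar Cfsg.Agent.H378.TorFin
open Cfsg.Agent.H493 Cfsg.Agent.H493.PGTorus Cfsg.Agent.H493.PGCyc

variable {D : ChevalleyDatum} {l : ℕ} {M : CoxeterMatrix (Fin l)} (hp : IsType D l M) {W : Type*} [Group W] [Finite W]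
  (cs : CoxeterSystem M W)

theorem ordX_of_eig {d : ℕ} {B : Fin l → Fin l → ℤ} (hB : InvC D l d B) (hd : d ≠ 0) {F : Type u} [Field F] [Finite F]
    {w : W} {Th : Fin l → Fin l → ℤ} (hw : ∀ j, rep cs hp.isCartan w (sr j) = Th j)
    {f : ℕ} {c : Fin (f + 1) → ℤ} {V : Fin (f + 1) → Fin l → ℤ} {U : Fin l → ℤ} (h : EigOK Th c V U)
    {m : ℕ} (h1 : (m : ℤ) ∣ pv c (Nat.card F)) : ∃ x : D.group F, m ∣ d * orderOf x := by
  obtain ⟨φ, hφ⟩ := exists_hom hp cs hB hd (F := F) w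
  have hq : (2 : ℤ) ≤ (Nat.card F : ℤ) := by
    exact_mod_cast Finite.one_lt_card
  have hwn : (rep cs hp.isCartan w) ^ Nat.card W = 1 := by
    rw [← map_pow, pow_card_eq_one', map_one]
  obtain ⟨x, hx⟩ := exists_order_of_dvd (rep_apply_eq hp cs hw) Nat.card_pos hwn h hq h1
  refine ⟨φ x, ?_⟩
  rw [← hx]
  exact orderOf_dvd_of_hom φ hφ x

end Untw

section Tw

open CoxeterSystem Cfsg Cfsg.Lie Cfsg.Lie.ChevalleyDatum
open Cfsg.Agent.ChevalleyStructure Cfsg.Agent.ChevalleyStructure.Elts Cfsg.Agent.ChevalleyStructure.CoxeterGeom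
  Cfsg.Agent.ChevalleyStructure.CoxeterGeomTypes Cfsg.Agent.ChevalleyStructure.NPerm
open Cfsg.Agent.Tits.Roots Cfsg.Agent.Tits.Core Cfsg.Agent.Nodes Cfsg.Agent.Nodes.Reps Cfsg.Agent.Nodes.BNOf
  Cfsg.Agent.Nodes.RGDChev Cfsg.Agent.Nodes.Bruhat Cfsg.Agent.Nodes.SubComb Cfsg.Agent.Nodes.Coroot
open Cfsg.Agent.KFacts.RgdField Cfsg.Agent.KFacts.RgdChevCoord Cfsg.Agent.BpExc.TorCent Cfsg.Agent.BpExc.TorChev
open Cfsg.Agent.GpExc.Field Cfsg.Agent.BpExc.Tow Cfsg.Agent.BpExc.TowChev Cfsg.Agent.BpExc.Fr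
  Cfsg.Agent.BpExc.LangFr Cfsg.Agent.LangThm Cfsg.Agent.BpExc Cfsg.Agent.H129 Cfsg.Agent.H129.TorusChar
  Cfsg.Agent.H129.TorusCent Cfsg.Agent.H129.WData Cfsg.Agent.H129.TorusUntw Cfsg.Agent.H493.TwE6Alg
  Cfsg.Agent.H129.TorusTw Cfsg.Agent.H129.TorusMain Cfsg.Agent.H493 Cfsg.Agent.H493.PGTorus Cfsg.Agent.H493.PGTwist
  Cfsg.Agent.H493.PGCyc Cfsg.Agent.H493.PGE6T

section Alg

variable {D : ChevalleyDatum} {l : ℕ} {M : CoxeterMatrix (Fin l)} (hp : IsType D l M) {k : Type u} [Field k]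
  [IsAlgClosed k] {W : Type*} [Group W] [Finite W] (cs : CoxeterSystem M W) {p e : ℕ} [Fact p.Prime] [CharP k p]
  {σ : MulAut ↥(D.group k)} {g : (Fin l → ℤ) ≃+ (Fin l → ℤ)}
  {G0 : Type*} [Group G0] [Finite G0] {e0 : G0 →* ↥(D.group k)}

theorem ordX_of_eig_tw (hk : LocFin k) (he : 0 < e) (hσ : IsFrob p e σ)
    (F : Fr cs hp.isCartan (TT D k) (XX D l k) σ g) {d' : ℕ} {B' : Fin l → Fin l → ℤ} (hB : InvC D l d' B')
    (hd' : d' ≠ 0) (he0 : Function.Injective e0) {d : ℕ} (hd0 : d ≠ 0) (hd : ∀ y, σ y = y → y ^ d ∈ e0.range)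
    {w : W} {Th : Fin l → Fin l → ℤ} (hw : ∀ j, rep cs hp.isCartan w (g (sr j)) = Th j)
    {f : ℕ} {c : Fin (f + 1) → ℤ} {V : Fin (f + 1) → Fin l → ℤ} {U : Fin l → ℤ}
    (h : EigOK (fun i j => Th j i) c V U) (hc : c 0 = 1 ∨ c 0 = -1)
    {m : ℕ} (h1 : (m : ℤ) ∣ pv c ((p ^ e : ℕ) : ℤ)) : ∃ x : G0, m ∣ d * orderOf x := by
  obtain ⟨n, z, hz, hσ', F'⟩ := exists_z hp cs hk he hσ F w
  have hmp : ¬ p ∣ m := fun h2 =>
    ne_char hc Fact.out he ((Int.natCast_dvd_natCast.2 h2).trans h1) rfl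
  obtain ⟨t, ht, h3, h4⟩ := exists_t_of hp cs hσ' F' hB hd' hmp (hL_of_eig hp cs hw h h1)
    (x₀ := U) (lam_unit h _)
  have ho : ∀ y : ↥(D.group k), orderOf (z * y * z⁻¹) = orderOf y := fun y =>
    orderOf_injective (MulAut.conj z).toMonoidHom (MulAut.conj z).injective y
  obtain ⟨x, hx⟩ := hd _ (fix_conj hz h3)
  refine ⟨x, ?_⟩
  rw [← orderOf_injective e0 he0 x, hx]
  have h5 : m ∣ d * orderOf ((z * t * z⁻¹) ^ d) := by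
    rw [← h4, ← ho]
    apply orderOf_dvd_of_pow_eq_one
    rw [pow_mul, pow_orderOf_eq_one]
  exact h5

end Alg

section

variable {K : Type u} [Field K] [Fintype K] {q : ℕ} (hq : IsPrimePow q) (hK : Fintype.card K = q ^ 2)
  {L : List (Fin 6 × Mat 6)} (hL : ChainOK Am L) {Th : Mat 6} (hTh : ∀ j, hd L (pi j) = Th j)
  {f : ℕ} {c : Fin (f + 1) → ℤ} {V : Fin (f + 1) → Fin 6 → ℤ} {U : Fin 6 → ℤ}
  (h : EigOK (fun i j => Th j i) c V U) (hc : c 0 = 1 ∨ c 0 = -1)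

include hq hK hL hTh h hc

theorem ordX_genT {m : ℕ} (h1 : (m : ℤ) ∣ pv c q) : ∃ x : ↥(twistedE6 K q), m ∣ Nat.gcd 3 (q + 1) * orderOf x := by
  have := PGE6.finW
  obtain ⟨p, e, hpF, hpk, he, hqe, hk⟩ := setup hq hK
  have hqe' : (q : ℤ) = ((p ^ e : ℕ) : ℤ) := by rw [hqe]
  rw [hqe'] at h1
  exact ordX_of_eig_tw RGDTwE6.hp CoxeterMatrix.E₆.toCoxeterSystem hk he isFrob_tau (fr_tau _)
    TorusChar.invC_E6 (by norm_num) (embT_injective (algebraMap K (AlgebraicClosure K)) q) (d := Nat.gcd 3 (q + 1))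
    (Nat.gcd_pos_of_pos_left _ (by norm_num)).ne' (fun y hy => tau_pow _ hqe hq hK hy) (lin _ hL hTh) h hc h1

end

end Tw

/-! ### the tori -/

section Main

open Cfsg Cfsg.Lie Cfsg.Agent Cfsg.Agent.H493 Cfsg.Agent.H493.PGTorus Cfsg.Agent.H493.PGCyc

/-- `Φ₃Φ₁₂` -/
def cA12 : Fin 6 → ℤ := ![1, 1, 0, -1, 0, 1]

theorem pv_cA12 (q : ℤ) : pv cA12 q = (q ^ 2 + q + 1) * (q ^ 4 - q ^ 2 + 1) := by
  (simp [pv, cA12, Fin.sum_univ_succ]) <;> ring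

/-- `Φ₆Φ₁₂` -/
def cB12 : Fin 6 → ℤ := ![1, -1, 0, 1, 0, -1]

theorem pv_cB12 (q : ℤ) : pv cB12 q = (q ^ 2 - q + 1) * (q ^ 4 - q ^ 2 + 1) := by
  (simp [pv, cB12, Fin.sum_univ_succ]) <;> ring

/-- `Φ₁Φ₂Φ₈` -/
def cC8 : Fin 6 → ℤ := ![-1, 0, 1, 0, -1, 0]

theorem pv_cC8 (q : ℤ) : pv cC8 q = (q ^ 2 - 1) * (q ^ 4 + 1) := by
  (simp [pv, cC8, Fin.sum_univ_succ]) <;> ring

/-- the cyclic vector -/
def vA12 : Fin 6 → Fin 6 → ℤ := ![![0, 0, 1, 1, 0, 0], ![0, 1, 1, 2, 1, 0], ![1, 1, 1, 2, 2, 1], ![0, 0, 0, 0, 1, 1],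
  ![-1, -1, -1, -1, -1, 0], ![-1, -1, -1, -1, -1, -1]]

theorem eA12 : EigOK (Cfsg.Agent.H129.WData.hd CertE6.ch3_12) cA12 vA12 ![0, -1, 1, 0, 0, 0] := by decide +kernel

/-- the cyclic vector -/
def vB12 : Fin 6 → Fin 6 → ℤ := ![![0, -1, 0, 0, 0, 1], ![-1, 2, 1, -1, 0, -1], ![1, -2, -1, 1, 1, -1],
  ![-1, 0, 0, 1, -2, 2], ![1, 1, 1, -2, 1, -1], ![-1, -1, 0, 1, 0, 0]]

theorem eB12 : EigOK (fun i j => CertTE6.th6_12 j i) cB12 vB12 ![-2, -2, -3, -4, -2, -1] := by decide +kernel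

/-- the cyclic vector -/
def vA8 : Fin 6 → Fin 6 → ℤ := ![![-1, -1, -2, -2, -1, -1], ![-1, -2, -2, -3, -2, -1], ![0, 0, 0, -1, -1, 0],
  ![1, 1, 1, 1, 0, 0], ![0, 0, 0, 0, 0, -1], ![-1, -1, -1, -1, -1, -1]]

theorem eA8 : EigOK (Cfsg.Agent.H129.WData.hd CertE6.ch1_2_8) cC8 vA8 ![0, 1, -1, 0, 0, 0] := by decide +kernel

/-- the cyclic vector -/
def vB8 : Fin 6 → Fin 6 → ℤ := ![![0, 0, -1, 1, 0, -1], ![-1, 1, 1, -1, 0, 0], ![0, -1, 1, -1, 1, 0],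
  ![1, 0, -2, 1, 0, 0], ![0, 1, 0, 0, -1, 0], ![-1, -1, 1, 0, 0, 0]]

theorem eB8 : EigOK (fun i j => CertTE6.th1_2_8 j i) cC8 vB8 ![0, 0, 0, 0, 0, -1] := by decide +kernel

/-- **The Coxeter torus of `E₆`.** -/
theorem ordX12_e6 {F : Type u} [Field F] [Finite F] : ∃ x : chevE6.group F,
    (Nat.card F ^ 2 + Nat.card F + 1) * (Nat.card F ^ 4 - Nat.card F ^ 2 + 1) ∣ 3 * orderOf x := by
  have := PGE6.finW
  refine ordX_of_eig PGE6.hp CoxeterMatrix.E₆.toCoxeterSystem H129.TorusChar.invC_E6 three_ne_zero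
      (H129.WData.chain_rep PGE6.hp CoxeterMatrix.E₆.toCoxeterSystem PGE6.hA CertE6.ch3_12_ok) eA12 (dvd_of_eq ?_)
  rw [pv_cA12]
  have h2 : Nat.card F ^ 2 ≤ Nat.card F ^ 4 := Nat.pow_le_pow_right Nat.card_pos (by norm_num)
  push_cast [Nat.cast_sub h2]
  ring

/-- **The torus of type `D₅` of `E₆`.** -/
theorem ordX8_e6 {F : Type u} [Field F] [Finite F] : ∃ x : chevE6.group F,
    (Nat.card F ^ 2 - 1) * (Nat.card F ^ 4 + 1) ∣ 3 * orderOf x := by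
  have := PGE6.finW
  refine ordX_of_eig PGE6.hp CoxeterMatrix.E₆.toCoxeterSystem H129.TorusChar.invC_E6 three_ne_zero
      (H129.WData.chain_rep PGE6.hp CoxeterMatrix.E₆.toCoxeterSystem PGE6.hA CertE6.ch1_2_8_ok) eA8 (dvd_of_eq ?_)
  rw [pv_cC8]
  have h2 : 1 ≤ Nat.card F ^ 2 := Nat.one_le_pow _ _ Nat.card_pos
  push_cast [Nat.cast_sub h2]
  ring

variable {K : Type u} [Field K] [Fintype K] {q : ℕ}

/-- **The twisted Coxeter torus of `²E₆`.** -/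
theorem ordX12_te6 (hq : IsPrimePow q) (hK : Fintype.card K = q ^ 2) : ∃ x : ↥(twistedE6 K q),
    (q ^ 2 - q + 1) * (q ^ 4 - q ^ 2 + 1) ∣ 3 * orderOf x := by
  obtain ⟨x, hx⟩ := ordX_genT hq hK CertTE6.ch6_12_ok CertTE6.th6_12_eq eB12 (Or.inl rfl)
    (m := (q ^ 2 - q + 1) * (q ^ 4 - q ^ 2 + 1)) (dvd_of_eq (by
      rw [pv_cB12]
      have h1 : q ≤ q ^ 2 := Nat.le_self_pow two_ne_zero q
      have h2 : q ^ 2 ≤ q ^ 4 := Nat.pow_le_pow_right hq.one_lt.le (by norm_num)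
      push_cast [Nat.cast_sub h1, Nat.cast_sub h2]
      ring))
  exact ⟨x, hx.trans (Nat.mul_dvd_mul_right (Nat.gcd_dvd_left _ _) _)⟩

/-- **The torus of type `Φ₁Φ₂Φ₈` of `²E₆`.** -/
theorem ordX8_te6 (hq : IsPrimePow q) (hK : Fintype.card K = q ^ 2) : ∃ x : ↥(twistedE6 K q),
    (q ^ 2 - 1) * (q ^ 4 + 1) ∣ 3 * orderOf x := by
  obtain ⟨x, hx⟩ := ordX_genT hq hK CertTE6.ch1_2_8_ok CertTE6.th1_2_8_eq eB8 (Or.inr rfl)
    (m := (q ^ 2 - 1) * (q ^ 4 + 1)) (dvd_of_eq (by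
      rw [pv_cC8]
      have h2 : 1 ≤ q ^ 2 := Nat.one_le_pow _ _ hq.pos
      push_cast [Nat.cast_sub h2]
      ring))
  exact ⟨x, hx.trans (Nat.mul_dvd_mul_right (Nat.gcd_dvd_left _ _) _)⟩

end Main

end Cfsg.Agent.R2.Spec.EE
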