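import Cfsg.Agent.R2.Spec.EE.Asg

/-!
# The tables of the exceptional groups (helper13)

`SOk tabX S v k` is the statement to prove for each family: the classes of the primes `y ≥ 5`, `y ≠ v`, `y ∣ |S|` are
numbered in the order of the lists `clX`; `k = kcl clX (v ^ f)` (the position of the order of `v ^ f` modulo `y`), for
`²F₄`, `Ree`, `Sz` the functions `kTF4`, `kRee`, `kSz`.

Masks: `adj` : adjacent (bit `a` of `adj a` : two different primes of the class `a`), `na` : not adjacent, `tt` : not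
adjacent to `v`, `nt` : adjacent to `v`, `mv` : adjacent to all the prime divisors `≠ v` of the radical, `sp` : the special
class of the prime 5.

`E₈` : the prime 5 is the class 17 if the order of `u` modulo 5 is 4 (`5 ∣ Φ₂₀(u)`).
-/

set_option autoImplicit false

namespace Cfsg.Agent.R2.Spec.EE

/-- the position of the order of `u` modulo `y` in a list -/
noncomputable def kcl (cl : List ℕ) (u y : ℕ) : ℕ := cl.idxOf (orderOf ((u : ℕ) : ZMod y))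

def clE8 : List ℕ := [1, 2, 3, 4, 5, 6, 7, 8, 9, 10, 12, 14, 15, 18, 20, 24, 30]

/-- classes 1, 2, 3, 4, 5, 6, 7, 8, 9, 10, 12, 14, 15, 18, 20, 24, 30, and `{5}` if the order is 4 -/
def tabE8 : Tab := ⟨18, [143359, 143359, 132543, 132799, 131103, 140975, 67, 131247, 263, 131627, 132143, 2051, 4096, 8227, 16384, 32768, 65536, 1727], [118784, 118784, 129088, 129344, 131008, 121152, 262076, 130896, 261880, 130512, 130000, 260092, 258047, 253916, 114687, 229375, 196607, 112960], 118784, 143359, 143359, true, true, 131072⟩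

/-- the classes of `E₈` -/
noncomputable def kE8 (u y : ℕ) : ℕ := if y = 5 ∧ orderOf ((u : ℕ) : ZMod y) = 4 then 17 else kcl clE8 u y

def clE7 : List ℕ := [1, 2, 3, 4, 5, 6, 7, 8, 9, 10, 12, 14, 18]

/-- classes 1, 2, 3, 4, 5, 6, 7, 8, 9, 10, 12, 14, 18 -/
def tabE7 : Tab := ⟨13, [2047, 7871, 1087, 175, 23, 1583, 65, 139, 257, 547, 1063, 2050, 4098], [0, 0, 6464, 6464, 8128, 6464, 8124, 8016, 7932, 7632, 7120, 6140, 4092], 6464, 1727, 2047, true, true, 0⟩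

def clE6 : List ℕ := [1, 2, 3, 4, 5, 6, 8, 9, 12]

/-- classes 1, 2, 3, 4, 5, 6, 8, 9, 12 -/
def tabE6 : Tab := ⟨9, [127, 127, 295, 43, 19, 47, 67, 128, 260], [384, 384, 216, 468, 492, 464, 444, 383, 251], 448, 63, 127, true, true, 0⟩

def clTE6 : List ℕ := [1, 2, 3, 4, 6, 8, 10, 12, 18]

/-- classes 1, 2, 3, 4, 6, 8, 10, 12, 18 -/
def tabTE6 : Tab := ⟨9, [127, 127, 31, 15, 151, 35, 67, 144, 256], [384, 384, 480, 496, 360, 476, 444, 367, 255], 416, 95, 127, true, true, 0⟩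

def clF4 : List ℕ := [1, 2, 3, 4, 6, 8, 12]

/-- classes 1, 2, 3, 4, 6, 8, 12 -/
def tabF4 : Tab := ⟨7, [31, 31, 7, 11, 19, 32, 64], [96, 96, 120, 116, 108, 95, 63], 96, 31, 31, true, true, 0⟩

/-- `²F₄(u)` : classes `u - 1`, `u + 1`, `u² + 1`, `u² - u + 1`, `u² + √(2u) u + u + √(2u) + 1`, `u² - √(2u) u + u - √(2u) + 1` -/
def tabTF4 : Tab := ⟨6, [7, 3, 5, 8, 16, 32], [56, 60, 58, 55, 47, 31], 56, 7, 7, false, true, 0⟩

def kTF4 (f y : ℕ) : ℕ :=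
  if y ∣ 2 ^ f - 1 then 0 else if y ∣ 2 ^ f + 1 then 1 else if y ∣ (2 ^ f) ^ 2 + 1 then 2
  else if y ∣ (2 ^ f) ^ 2 - 2 ^ f + 1 then 3
  else if y ∣ (2 ^ f) ^ 2 + 2 ^ ((f + 1) / 2) * 2 ^ f + 2 ^ f + 2 ^ ((f + 1) / 2) + 1 then 4 else 5

def clTD4 : List ℕ := [1, 2, 3, 6, 12]

/-- classes 1, 2, 3, 6, 12 -/
def tabTD4 : Tab := ⟨5, [15, 15, 7, 11, 16], [16, 16, 24, 20, 15], 16, 15, 15, true, true, 0⟩

def clG2 : List ℕ := [1, 2, 3, 6]

/-- classes 1, 2, 3, 6 -/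
def tabG2 : Tab := ⟨4, [3, 3, 4, 8], [12, 12, 11, 7], 12, 3, 3, true, true, 0⟩

/-- `Ree(u)` : classes `u - 1`, `u + 1`, `u + √(3u) + 1`, `u - √(3u) + 1` -/
def tabRee : Tab := ⟨4, [1, 2, 4, 8], [14, 13, 11, 7], 15, 0, 1, false, true, 0⟩

def kRee (f y : ℕ) : ℕ :=
  if y ∣ 3 ^ f - 1 then 0 else if y ∣ 3 ^ f + 1 then 1 else if y ∣ 3 ^ f + 3 ^ ((f + 1) / 2) + 1 then 2 else 3

/-- `Sz(u)` : classes `u - 1`, `u + √(2u) + 1`, `u - √(2u) + 1` -/
def tabSz : Tab := ⟨3, [1, 2, 4], [6, 5, 3], 7, 0, 1, false, true, 0⟩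

def kSz (f y : ℕ) : ℕ :=
  if y ∣ 2 ^ f - 1 then 0 else if y ∣ 2 ^ f + 2 ^ ((f + 1) / 2) + 1 then 1 else 2

end Cfsg.Agent.R2.Spec.EE
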