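import Cfsg.Agent.R2.Spec.EE.Fr
import Cfsg.Agent.R2.Spec.EE.TabDef

/-!
# S3435, EE, `L = PΩ₁₂⁻(q)`, `S = E₆(u)`, `²E₆(u)` : rows computed by the kernel (helper13)
-/

set_option autoImplicit false
set_option maxRecDepth 1000000

namespace Cfsg.Agent.R2.Spec.EE

open Cfsg.Agent.H426.LieFam

theorem m6m_e6 : (dat tabE6.tbl (.ominus 6) (cls3 (.ominus 6))).go (cls3 (.ominus 6)).length (st0 tabE6.tbl (cls3 (.ominus 6)) (tabE6.domX 12 316)) 0 = false := by
  have h1 : dat tabE6.tbl (.ominus 6) (cls3 (.ominus 6)) = ⟨7, 13, 91, 4095, 5575866947453389841761097668653046061596672, 22833175149821631402011694953134223622238371840, 22838751016769084791853456050802876668299968512, 45664259275116879908715527533934138595776392831, 4282352938633962592101384406044907432645230976, 8499245390609117531825002383653739592112407593890112411757716002896815567631017864091926818332626372086612162940620331967621044493575822229515421027009275996537276430921373490060722176, 69617318994479297161328686621659370996295271722069153633455543558250478340223441294825335666231530024382435265104706909131600696642227184741997400091764685697938187945768214111842532859905⟩ := by decide +kernel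
  have h2 : (cls3 (.ominus 6)).length = 7 ∧ st0 tabE6.tbl (cls3 (.ominus 6)) (tabE6.domX 12 316) = 21071416279137712173830373209595003063265918976 := by decide +kernel
  rw [h1, h2.1, h2.2]
  decide +kernel

theorem m6m_te6 : (dat tabTE6.tbl (.ominus 6) (cls3 (.ominus 6))).go (cls3 (.ominus 6)).length (st0 tabTE6.tbl (cls3 (.ominus 6)) (tabTE6.domX 12 220)) 0 = false := by
  have h1 : dat tabTE6.tbl (.ominus 6) (cls3 (.ominus 6)) = ⟨7, 13, 91, 4095, 5575866947453389841761097668653046061596672, 22833175149821631402011694953134223622238371840, 22838751016769084791853456050802876668299968512, 45664259280433710801985580849317182871350275711, 4282309377174165818398560547822629779177210240, 8499245390609117531825002383653739592112407593890112411757716002896815567631017864091926818332626372086612162940620331967621044493575822229515421027009275996537276430921373490060722176, 69617318994479297161328686621659370996295271722069153633455543558250478340223441294825335666231530024382435265104706909131600696642227184741997400091764685697938187945768214111842532859905⟩ := by decide +kernel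
  have h2 : (cls3 (.ominus 6)).length = 7 ∧ st0 tabTE6.tbl (cls3 (.ominus 6)) (tabTE6.domX 12 220) = 21606634163902447129227230448138563739409448960 := by decide +kernel
  rw [h1, h2.1, h2.2]
  decide +kernel

end Cfsg.Agent.R2.Spec.EE
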