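import Cfsg.Agent.R2.Spec.EE.SmE7
import Cfsg.Agent.R2.Spec.EE.SokE6
import Cfsg.Agent.R2.Spec.EE.SokTE6
import Cfsg.Agent.R2.Spec.EE.OrdX
import Cfsg.Agent.R2.Spec.EE.RowM6m
import Cfsg.Agent.S1063
import Cfsg.Agent.S1066

/-!
# Small rank: `L = PΩ₁₂⁻(q)`, `S = E₆(u)` or `²E₆(u)` (helper13)

The class 12 of `L` is isolated with the torus number `(q⁶ + 1)/2`, which is odd; hence its values are the class 12 of `S`
(the values `3, 4, 5, 6` resp. `3, 4, 6, 10` are adjacent to 2).  Then `Φ₁₂(q) ∣ Φ₁₂(u)` and `Φ₁₂(u)Φ₃(u)/(3, u - 1)` divides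
`(q⁶ + 1)/2`: impossible.
-/

set_option autoImplicit false
set_option linter.unusedSectionVars false
set_option linter.unusedVariables false

namespace Cfsg.Agent.R2.Spec.EE

open Subgroup Cfsg Polynomial Cfsg.Lie
open Cfsg.Agent.H426.LieFam Cfsg.Agent.R2.Spec Cfsg.Agent.R2.Spec.P1 Cfsg.Agent.R2.Spec.F1
open Cfsg.Agent.H365.Zsig
open Cfsg.Agent.H493 Cfsg.Agent.H493.PGTorus Cfsg.Agent.H493.PGCyc

universe u w

namespace M6

/-! ### arithmetic -/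

theorem f12_mod {x a : ℕ} (h : a + x ^ 2 = x ^ 4 + 1) : a % 12 = 1 := by
  have h1 : (a + x ^ 2) % 12 = (x ^ 4 + 1) % 12 := by rw [h]
  rw [Nat.add_mod, Nat.pow_mod, Nat.add_mod (x ^ 4), Nat.pow_mod x 4] at h1
  have h2 : x % 12 < 12 := Nat.mod_lt _ (by norm_num)
  interval_cases x % 12 <;> norm_num at h1 <;> omega

theorem exists_f12 (x : ℕ) : ∃ a : ℕ, a + x ^ 2 = x ^ 4 + 1 := by
  refine ⟨x ^ 4 + 1 - x ^ 2, Nat.sub_add_cancel ?_⟩
  rcases Nat.eq_zero_or_pos x with rfl | hx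
  · norm_num
  · exact (Nat.pow_le_pow_right hx (by norm_num : 2 ≤ 4)).trans (Nat.le_succ _)

theorem ev12 {x a : ℕ} (hx : 2 ≤ x) (h : a + x ^ 2 = x ^ 4 + 1) : (cyclotomic 12 ℤ).eval (x : ℤ) = (a : ℤ) := by
  rw [ev_12 (by exact_mod_cast hx)]
  have h1 : ((a + x ^ 2 : ℕ) : ℤ) = ((x ^ 4 + 1 : ℕ) : ℤ) := by rw [h]
  push_cast at h1
  linarith

theorem Pm12 {x a : ℕ} (hx : 2 ≤ x) (h : a + x ^ 2 = x ^ 4 + 1) : Pm 12 x = a := by
  have h1 : Ph 12 x = a := by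
    have h2 := Ph_cast (n := 12) (q := x) (by omega)
    rw [ev12 hx h] at h2
    exact_mod_cast h2.symm
  have h3 : Nat.gcd a 12 = 1 := by
    rw [Nat.gcd_comm, Nat.gcd_rec, f12_mod h]
    norm_num
  rw [Pm, h1, h3, Nat.div_one]

theorem num12 {q u a b X T : ℕ} (ha : a + q ^ 2 = q ^ 4 + 1) (hb : b + u ^ 2 = u ^ 4 + 1) (hab : a ∣ b)
    (hXu : u ^ 2 + 1 ≤ X + u) (hT : 2 * T = q ^ 6 + 1) (hd : X * b ∣ 3 * T) (hq : 2 ≤ q) (hne : u ≠ q) :
    False := by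
  have ha0 : 0 < a := by have := f12_mod ha; omega
  have hb0 : 0 < b := by have := f12_mod hb; omega
  have hT' : 2 * T = (q ^ 2 + 1) * a := by
    rw [hT]
    zify
    have h1 : (a : ℤ) = (q : ℤ) ^ 4 + 1 - (q : ℤ) ^ 2 := by
      have : ((a + q ^ 2 : ℕ) : ℤ) = ((q ^ 4 + 1 : ℕ) : ℤ) := by rw [ha]
      push_cast at this
      linarith
    rw [h1]; ring
  obtain ⟨m, hm⟩ := hab
  obtain ⟨k, hk⟩ := hd
  have h2 : 2 * m * X * k = 3 * (q ^ 2 + 1) := by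
    have h3 : a * (2 * m * X * k) = a * (3 * (q ^ 2 + 1)) := by
      calc a * (2 * m * X * k) = 2 * (X * (a * m) * k) := by ring
        _ = 3 * (2 * T) := by rw [← hm, ← hk]; ring
        _ = a * (3 * (q ^ 2 + 1)) := by rw [hT']; ring
    exact Nat.eq_of_mul_eq_mul_left ha0 h3
  have hk1 : 1 ≤ k := by
    rcases Nat.eq_zero_or_pos k with rfl | h
    · rw [mul_zero] at h2; omega
    · exact h
  have h4 : 2 * m * X ≤ 3 * (q ^ 2 + 1) := by rw [← h2]; exact Nat.le_mul_of_pos_right _ hk1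
  have hx : ∀ x y : ℕ, x < y → x ^ 4 + y ^ 2 < y ^ 4 + x ^ 2 ∨ (x = 0 ∧ y = 1) := by
    intro x y hxy
    by_cases h0 : x = 0 ∧ y = 1
    · exact Or.inr h0
    left
    obtain ⟨d, rfl⟩ := Nat.exists_eq_add_of_lt hxy
    have h5 : 1 ≤ x ∨ 1 ≤ d := by omega
    have e1 : (x + d + 1) ^ 4 + x ^ 2 = ((x + d + 1) ^ 2) * ((x + d + 1) ^ 2) + x ^ 2 := by ring
    have e2 : x ^ 4 + (x + d + 1) ^ 2 = x ^ 2 * x ^ 2 + (x + d + 1) ^ 2 := by ring
    rw [e1, e2]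
    have h6 : x ^ 2 + 1 ≤ (x + d + 1) ^ 2 := by nlinarith
    have h7 : 2 ≤ (x + d + 1) ^ 2 := by
      rcases h5 with h | h <;> nlinarith
    obtain ⟨e, he⟩ := Nat.exists_eq_add_of_le h6
    rw [he] at h7 ⊢
    nlinarith
  rcases Nat.lt_or_ge m 2 with hm2 | hm2
  · rcases Nat.lt_or_ge m 1 with h5 | h5
    · have : m = 0 := by omega
      rw [this, mul_zero] at hm
      omega
    · have : m = 1 := by omega
      rw [this, mul_one] at hm
      rcases Nat.lt_or_ge u q with h6 | h6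
      · rcases hx u q h6 with h7 | ⟨-, h7⟩
        · omega
        · omega
      · rcases hx q u (lt_of_le_of_ne h6 (Ne.symm hne)) with h7 | ⟨h7, -⟩
        · omega
        · omega
  · have h5 : 2 * a ≤ b := by rw [hm, mul_comm a m]; exact Nat.mul_le_mul_right a hm2
    have h6 : q < u := by
      rcases Nat.lt_trichotomy u q with h7 | h7 | h7
      · rcases hx u q h7 with h8 | ⟨-, h8⟩
        · omega
        · omega
      · exact absurd h7 hne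
      · exact h7
    have h8 : 4 * X ≤ 3 * (q ^ 2 + 1) := le_trans (Nat.mul_le_mul_right X (by omega)) h4
    have h9 : 4 * (u ^ 2 + 1) ≤ 3 * (q ^ 2 + 1) + 4 * u := by omega
    have h10 : q ^ 2 + 2 * u ≤ u ^ 2 + 1 := by
      obtain ⟨d, rfl⟩ := Nat.exists_eq_add_of_lt h6
      nlinarith
    nlinarith

/-- coprime to the other factors -/
theorem cop_pow {u M : ℕ} (hM : ∀ y : ℕ, y.Prime → y ∣ M → orderOf ((u : ℕ) : ZMod y) = 12) {j : ℕ} (hj : ¬ 12 ∣ j)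
    (hu : 1 ≤ u) : Nat.Coprime M (u ^ j - 1) := by
  refine Nat.coprime_of_dvd fun y hy h1 h2 => hj ?_
  rw [← hM y hy h1]
  apply orderOf_dvd_of_pow_eq_one
  have h3 : ((u ^ j - 1 : ℕ) : ZMod y) = 0 := (ZMod.natCast_eq_zero_iff _ _).2 h2
  rw [Nat.cast_sub (Nat.one_le_pow _ _ hu)] at h3
  push_cast at h3
  exact sub_eq_zero.1 h3

theorem cop_plus {u M : ℕ} (hM : ∀ y : ℕ, y.Prime → y ∣ M → orderOf ((u : ℕ) : ZMod y) = 12) {j : ℕ} (hj : ¬ 12 ∣ 2 * j)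
    (hu : 1 ≤ u) : Nat.Coprime M (u ^ j + 1) := by
  refine Nat.Coprime.coprime_dvd_right ?_ (cop_pow hM hj hu)
  have h1 : u ^ (2 * j) - 1 = (u ^ j + 1) * (u ^ j - 1) := by
    rw [two_mul, pow_add, ← Nat.sq_sub_sq, one_pow, sq]
  rw [h1]
  exact dvd_mul_right _ _

theorem cop_self {u M : ℕ} (hM : ∀ y : ℕ, y.Prime → y ∣ M → orderOf ((u : ℕ) : ZMod y) = 12) (j : ℕ) :
    Nat.Coprime M (u ^ j) := by
  refine Nat.Coprime.pow_right j (Nat.coprime_of_dvd fun y hy h1 h2 => ?_)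
  have h3 := hM y hy h1
  have h4 : ((u : ℕ) : ZMod y) = 0 := (ZMod.natCast_eq_zero_iff _ _).2 h2
  have := Fact.mk hy
  have h5 := pow_orderOf_eq_one ((u : ℕ) : ZMod y)
  rw [h3, h4, zero_pow (by norm_num)] at h5
  exact zero_ne_one h5

theorem f12_of_pow {u M b : ℕ} (hM : ∀ y : ℕ, y.Prime → y ∣ M → orderOf ((u : ℕ) : ZMod y) = 12) (hu : 1 ≤ u)
    (hb : b + u ^ 2 = u ^ 4 + 1) (hd : M ∣ u ^ 12 - 1) : M ∣ b := by
  have h1 : u ^ 12 - 1 = (u ^ 6 - 1) * ((u ^ 2 + 1) * b) := by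
    have e1 : 1 ≤ u ^ 12 := Nat.one_le_pow _ _ hu
    have e2 : 1 ≤ u ^ 6 := Nat.one_le_pow _ _ hu
    zify [e1, e2]
    have h1 : (b : ℤ) = (u : ℤ) ^ 4 + 1 - (u : ℤ) ^ 2 := by
      have : ((b + u ^ 2 : ℕ) : ℤ) = ((u ^ 4 + 1 : ℕ) : ℤ) := by rw [hb]
      push_cast at this
      linarith
    rw [h1]; ring
  rw [h1] at hd
  have h2 := (cop_pow hM (j := 6) (by norm_num) hu).dvd_of_dvd_mul_left hd
  exact (cop_plus hM (j := 2) (by norm_num) hu).dvd_of_dvd_mul_left h2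

/-! ### the three ranks -/

/-- the ranks -/
def T12 (t : Fam) : Prop := t = .psp 6 ∨ t = .oodd 6 ∨ t = .ominus 6

theorem T12.mem {t : Fam} (ht : T12 t) : mem t 12 := by
  rcases ht with rfl | rfl | rfl <;> exact mem_of_memB (by decide)

theorem T12.idx {t : Fam} (ht : T12 t) : idx t 12 = 12 := by
  rcases ht with rfl | rfl | rfl <;> rfl

theorem T12.top {t : Fam} (ht : T12 t) : top t 12 := by
  rcases ht with rfl | rfl | rfl <;> exact Or.inl rfl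

theorem T12.kill {t : Fam} (ht : T12 t) : Killer (KI t 12) 12 := by
  rcases ht with rfl | rfl | rfl <;> exact kill8 5 (by norm_num) (by decide) (by norm_num) (by decide)

theorem odd_six {q : ℕ} (hq : q % 2 = 1) : (q ^ 6 + 1) % 4 = 2 := by
  rw [Nat.add_mod, Nat.pow_mod]
  have h2 : q % 4 = 1 ∨ q % 4 = 3 := by omega
  rcases h2 with h | h <;> rw [h]

theorem T12.ttor {t : Fam} (ht : T12 t) {q : ℕ} (hq : q % 2 = 1) (hq3 : 3 ≤ q) : 2 * ttor t q 12 = q ^ 6 + 1 := by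
  have h1 := odd_six hq
  have h2 : Nat.gcd 2 (q - 1) = 2 := Nat.gcd_eq_left (by omega)
  have h4 : Nat.gcd 4 (q ^ 6 + 1) = 2 := by
    rw [Nat.gcd_rec, h1]
    rfl
  rcases ht with rfl | rfl | rfl
  · change 2 * ((q ^ 6 + 1) / Nat.gcd 2 (q - 1)) = _
    rw [h2]; omega
  · change 2 * ((q ^ 6 + 1) / Nat.gcd 2 (q - 1)) = _
    rw [h2]; omega
  · change 2 * ((q ^ 6 + 1) / Nat.gcd 4 (q ^ 6 + 1)) = _
    rw [h4]; omega

/-- orders of `S` are orders of `G` -/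
theorem exists_lift_ord {G : Type u} [Group G] [Finite G] {K : Subgroup G} [K.Normal] {S : Subgroup (G ⧸ K)} {N : ℕ}
    {s : S} (hs : orderOf s = N) : ∃ g : G, orderOf g = N := by
  obtain ⟨g, hg⟩ := QuotientGroup.mk'_surjective K s.1
  have h1 : N ∣ orderOf g := by
    rw [← hs, ← Subgroup.orderOf_coe, ← hg]
    exact orderOf_map_dvd (QuotientGroup.mk' K) g
  exact ⟨_, orderOf_pow_orderOf_div (orderOf_pos g).ne' h1⟩

section main

variable {t : Fam} {p f : ℕ} {L : Type w} [Group L] [Finite L] {G : Type u} [Group G] [Finite G]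
  {K : Subgroup G} [K.Normal] {S : Subgroup (G ⧸ K)} [S.Normal] {t' : Fam} {v f' : ℕ} {T : Tab} {k : ℕ → ℕ}

/-- **The orders of `S` divisible by a prime of the class 12 divide `(q⁶ + 1)/2`.** -/
theorem dvd_ttor (h : EX t p f L G K S t' v f' T k) (ht : T12 t) {y m : ℕ} (hy : In t (p ^ f) 12 y) {s : S}
    (hs : orderOf s = m) (hd : y ∣ m) : m ∣ ttor t (p ^ f) 12 := by
  obtain ⟨g, hg⟩ := exists_lift_ord hs
  obtain ⟨x, hx⟩ := (h.ls.ord m).1 ⟨g, hg⟩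
  have h1 := (top_facts_all h.ls.cla h.ls.prime h.is).ub y hy.prime (hy.not_dvd h.ls.fpos)
    (by rw [hy.cls_eq]; exact ht.top) x (by rw [hx]; exact hd)
  rw [hy.cls_eq, hx] at h1
  exact h1

/-- **The primes of the class 12 are not adjacent to 2 in `S`.** -/
theorem not_two (h : EX t p f L G K S t' v f' T k) (ht : T12 t) {y : ℕ} (hy : In t (p ^ f) 12 y) :
    ¬ ∃ s : S, orderOf s = y * 2 := by
  rintro ⟨s, hs⟩
  obtain ⟨hq, hq3⟩ := h.q_odd
  have h1 := dvd_ttor h ht hy hs (dvd_mul_right _ _)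
  have h2 := (dvd_mul_left 2 y).trans h1
  have h3 := ht.ttor hq hq3
  have h4 := odd_six hq
  omega

theorem u_ne (h : EX t p f L G K S t' v f' T k) : v ^ f' ≠ p ^ f := by
  intro h1
  have h2 : p ∣ v ^ f' := by rw [h1]; exact dvd_pow_self p (by have := h.ls.fpos; omega)
  exact h.vp ((Nat.prime_dvd_prime_iff_eq h.ls.prime h.ef.vp).1 (h.ls.prime.dvd_of_dvd_pow h2)).symm

/-- the final contradiction -/
theorem no12 (h : EX t p f L G K S t' v f' T k) (ht : T12 t) {b X : ℕ} (hb : b + (v ^ f') ^ 2 = (v ^ f') ^ 4 + 1)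
    (hM : Pm 12 (p ^ f) ∣ b) (hXu : (v ^ f') ^ 2 + 1 ≤ X + v ^ f') {s : S}
    (hs : X * b ∣ 3 * orderOf s) : False := by
  obtain ⟨hq, hq3⟩ := h.q_odd
  obtain ⟨a, ha⟩ := exists_f12 (p ^ f)
  have hPm := Pm12 (by omega) ha
  obtain ⟨-, -, hin⟩ := Pm_tor h.ls.cla hq hq3 (by norm_num) ht.mem
  rw [ht.idx] at hin
  have ha1 : a ≠ 1 := by
    intro h1
    rw [h1] at ha
    have h2 : (p ^ f) ^ 4 = (p ^ f) ^ 2 * (p ^ f) ^ 2 := by ring
    have h3 : 9 ≤ (p ^ f) ^ 2 := by nlinarith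
    nlinarith
  have hy := Nat.minFac_prime ha1
  have hya : a.minFac ∣ a := Nat.minFac_dvd a
  have hyM : a.minFac ∣ Pm 12 (p ^ f) := by rw [hPm]; exact hya
  have hIn := hin _ hy hyM
  have hd1 : a.minFac ∣ orderOf s := by
    have h2 : a.minFac ∣ 3 * orderOf s := ((hyM.trans hM).mul_left X).trans hs
    rcases hy.dvd_mul.1 h2 with h3 | h3
    · have := hIn.five
      have := Nat.le_of_dvd (by norm_num) h3
      omega
    · exact h3
  have h1 := dvd_ttor h ht hIn rfl hd1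
  exact num12 ha hb (by rw [← hPm]; exact hM) hXu (ht.ttor hq hq3) (hs.trans (Nat.mul_dvd_mul_left 3 h1)) (by omega)
    (u_ne h)

end main

/-! ### `E₆` -/

section e6

variable {t : Fam} {p f : ℕ} {L : Type w} [Group L] [Finite L] {G : Type u} [Group G] [Finite G]
  {K : Subgroup G} [K.Normal] {S : Subgroup (G ⧸ K)} [S.Normal] {v f' : ℕ} {T : Tab} {k : ℕ → ℕ}

/-- the classes 1, …, 6 of `E₆(u)` are adjacent to 2 -/
theorem two_e6 {S : Type u} [Group S] {v f : ℕ} (hv : v.Prime) (h : Fam.Is v f S .e6) {y : ℕ} (hy : y.Prime) (h5 : 5 ≤ y)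
    {a : ℕ} (ha : a ∈ [1, 2, 3, 4, 5, 6] ∨ a = 8 ∧ v ≠ 2) (ho : orderOf ((v ^ f : ℕ) : ZMod y) = a) :
    ∃ s : S, orderOf s = y * 2 := by
  obtain ⟨F, _, _, _, hc, ⟨e⟩⟩ := h
  have hq : Nat.card F = v ^ f := by rw [Nat.card_eq_fintype_card, hc]
  have h2q : 2 ≤ Nat.card F := Finite.one_lt_card
  have hf : f ≠ 0 := by
    rintro rfl
    rw [hq, pow_zero] at h2q
    omega
  have n3 : ∀ {r : ℕ}, r.Prime → r ≠ 3 → ¬ r ∣ 3 := fun hr h5 h =>
    h5 ((Nat.prime_dvd_prime_iff_eq hr Nat.prime_three).1 h)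
  have ha8 : a ∈ clE8 := by
    rcases ha with ha | ⟨ha, -⟩
    · exact (by decide : ∀ a ∈ [1, 2, 3, 4, 5, 6], a ∈ clE8) a ha
    · rw [ha]; decide
  have hcy := Sok.cyc_dvd hy ha8 ho
  rw [← hq] at hcy
  have hres : ∃ x : ↥(chevE6.group F), orderOf x = y * 2 := by
    by_cases h2 : v = 2
    · have ha' : a ∈ CertTab.P6 := by
        rcases ha with ha | ⟨-, ha⟩
        · exact ha
        · exact absurd h2 ha
      exact (CertTab.relp6 hy Nat.prime_two (n3 hy (by omega)) ha' hcy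
        (by rw [hq, h2]; exact dvd_pow_self 2 hf)).2.2.2
    · have ha' : (a, 1) ∈ CertTab.L6 := by
        rcases ha with ha | ⟨ha, -⟩
        · exact (by decide : ∀ a ∈ [1, 2, 3, 4, 5, 6], (a, 1) ∈ CertTab.L6) a ha
        · rw [ha]; decide
      refine (CertTab.rel6 hy Nat.prime_two (by omega) (n3 hy (by omega)) (n3 Nat.prime_two (by norm_num))
        (Or.inl ha') hcy ?_).2.2.2
      show ((2 : ℕ) : ℤ) ∣ pv c1 _
      rw [pv_c1, hq]
      have h3 : v % 2 = 1 := (hv.eq_two_or_odd).resolve_left h2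
      have h4 : (v ^ f) % 2 = 1 := by simp [Nat.pow_mod, h3]
      omega
  obtain ⟨x, hx⟩ := hres
  exact ⟨e.symm x, by rw [MulEquiv.orderOf_eq, hx]⟩

/-- **All values of the class 12 are the class 12: impossible.** -/
theorem no12_e6 (h : EX t p f L G K S .e6 v f' T k) (ht : T12 t)
    (hv : ∀ y : ℕ, y.Prime → y ∣ Pm 12 (p ^ f) → ¬ y ∣ Nat.card ↥K ∧ orderOf ((v ^ f' : ℕ) : ZMod y) = 12) : False := by
  obtain ⟨hq, hq3⟩ := h.q_odd
  obtain ⟨hM, hodd, hin⟩ := Pm_tor h.ls.cla hq hq3 (by norm_num) ht.mem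
  rw [ht.idx] at hM hodd hin
  obtain ⟨g, hg⟩ := exists_tor h.ls h.is (by norm_num) ht.mem hodd hM hin
  obtain ⟨s, hs⟩ := exists_of_coprime hg (fun y hy hd => (hv y hy hd).1)
    (fun y hy hd => h.kill (hin y hy hd) (hv y hy hd).1 ht.kill)
  obtain ⟨F, i1, i2, i3, hcF, ⟨e⟩⟩ := h.frm.is
  have hqF : Nat.card F = v ^ f' := by rw [Nat.card_eq_fintype_card, hcF]
  have h2q : 2 ≤ v ^ f' := by rw [← hqF]; exact Finite.one_lt_card
  obtain ⟨b, hb⟩ := exists_f12 (v ^ f')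
  have hMb : Pm 12 (p ^ f) ∣ b := by
    have hv' := fun y hy hd => (hv y hy hd).2
    refine f12_of_pow hv' (by omega) hb ?_
    have h1 : Pm 12 (p ^ f) ∣ Nat.card ↥(Cfsg.Lie.chevE6.group F) := by
      rw [← hs, ← MulEquiv.orderOf_eq e s]
      exact orderOf_dvd_natCard _
    have h2 : Pm 12 (p ^ f) ∣ Nat.gcd 3 (v ^ f' - 1) * Nat.card ↥(Cfsg.Lie.chevE6.group F) := h1.mul_left _
    rw [Cfsg.Agent.S1063.result hcF] at h2
    have h3 : (v ^ f') ^ 36 * ((v ^ f') ^ 2 - 1) * ((v ^ f') ^ 5 - 1) * ((v ^ f') ^ 6 - 1) * ((v ^ f') ^ 8 - 1) *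
        ((v ^ f') ^ 9 - 1) * ((v ^ f') ^ 12 - 1) = (v ^ f') ^ 36 * (((v ^ f') ^ 2 - 1) * (((v ^ f') ^ 5 - 1) *
        (((v ^ f') ^ 6 - 1) * (((v ^ f') ^ 8 - 1) * (((v ^ f') ^ 9 - 1) * ((v ^ f') ^ 12 - 1)))))) := by ring
    rw [h3] at h2
    have c1 := (cop_self hv' 36).dvd_of_dvd_mul_left h2
    have c2 := (cop_pow hv' (j := 2) (by norm_num) (by omega)).dvd_of_dvd_mul_left c1
    have c3 := (cop_pow hv' (j := 5) (by norm_num) (by omega)).dvd_of_dvd_mul_left c2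
    have c4 := (cop_pow hv' (j := 6) (by norm_num) (by omega)).dvd_of_dvd_mul_left c3
    have c5 := (cop_pow hv' (j := 8) (by norm_num) (by omega)).dvd_of_dvd_mul_left c4
    exact (cop_pow hv' (j := 9) (by norm_num) (by omega)).dvd_of_dvd_mul_left c5
  obtain ⟨x, hx⟩ := ordX12_e6 (F := F)
  rw [hqF] at hx
  have hb2 : (v ^ f') ^ 4 - (v ^ f') ^ 2 + 1 = b := by
    have h2 : (v ^ f') ^ 2 ≤ (v ^ f') ^ 4 := Nat.pow_le_pow_right (by omega) (by norm_num)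
    omega
  rw [hb2] at hx
  exact no12 h ht hb hMb (X := (v ^ f') ^ 2 + v ^ f' + 1) (by omega) (s := e.symm x) (by rw [MulEquiv.orderOf_eq]; exact hx)

end e6

/-! ### `²E₆` -/

section te6

variable {t : Fam} {p f : ℕ} {L : Type w} [Group L] [Finite L] {G : Type u} [Group G] [Finite G]
  {K : Subgroup G} [K.Normal] {S : Subgroup (G ⧸ K)} [S.Normal] {v f' : ℕ} {T : Tab} {k : ℕ → ℕ}

/-- the classes 1, 2, 3, 4, 6, 10 of `²E₆(u)` are adjacent to 2 -/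
theorem two_te6 {S : Type u} [Group S] {v f : ℕ} (hv : v.Prime) (h : Fam.Is v f S .te6) {y : ℕ} (hy : y.Prime)
    (h5 : 5 ≤ y) {a : ℕ} (ha : a ∈ [1, 2, 3, 4, 6, 10] ∨ a = 8 ∧ v ≠ 2) (ho : orderOf ((v ^ f : ℕ) : ZMod y) = a) :
    ∃ s : S, orderOf s = y * 2 := by
  obtain ⟨F, _, _, _, hc, ⟨e⟩⟩ := h
  have hf : f ≠ 0 := by
    rintro rfl
    rw [pow_zero, one_pow] at hc
    exact absurd hc Fintype.one_lt_card.ne'
  have hq : IsPrimePow (v ^ f) := hv.isPrimePow.pow hf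
  have ha8 : a ∈ clE8 := by
    rcases ha with ha | ⟨ha, -⟩
    · exact (by decide : ∀ a ∈ [1, 2, 3, 4, 6, 10], a ∈ clE8) a ha
    · rw [ha]; decide
  have hcy := Sok.cyc_dvd hy ha8 ho
  have hres : ∃ x : ↥(twistedE6 F (v ^ f)), orderOf x = y * 2 := by
    by_cases h2 : v = 2
    · have ha' : a ∈ [1, 2, 3, 4, 6, 10] := by
        rcases ha with ha | ⟨-, ha⟩
        · exact ha
        · exact absurd h2 ha
      exact SokTE6.order_mul hy Nat.prime_two (by omega) (SokTE6.relpT hq hc hy Nat.prime_two (by omega) ha' hcy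
        (by rw [h2]; exact dvd_pow_self 2 hf))
    · have ha' : (1, a) ∈ SokTE6.LT := by
        rcases ha with ha | ⟨ha, -⟩
        · exact (by decide : ∀ a ∈ [1, 2, 3, 4, 6, 10], (1, a) ∈ SokTE6.LT) a ha
        · rw [ha]; decide
      obtain ⟨x, hx⟩ := SokTE6.order_mul Nat.prime_two hy (by omega)
        (SokTE6.relT hq hc Nat.prime_two hy (by norm_num) (by omega) ha' (by
          show ((2 : ℕ) : ℤ) ∣ pv c1 _
          rw [pv_c1]
          have h3 : v % 2 = 1 := (hv.eq_two_or_odd).resolve_left h2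
          have h4 : (v ^ f) % 2 = 1 := by simp [Nat.pow_mod, h3]
          omega) hcy)
      exact ⟨x, by rw [hx, mul_comm]⟩
  obtain ⟨x, hx⟩ := hres
  exact ⟨e.symm x, by rw [MulEquiv.orderOf_eq, hx]⟩

/-- **All values of the class 12 are the class 12: impossible.** -/
theorem no12_te6 (h : EX t p f L G K S .te6 v f' T k) (ht : T12 t)
    (hv : ∀ y : ℕ, y.Prime → y ∣ Pm 12 (p ^ f) → ¬ y ∣ Nat.card ↥K ∧ orderOf ((v ^ f' : ℕ) : ZMod y) = 12) : False := by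
  obtain ⟨hq, hq3⟩ := h.q_odd
  obtain ⟨hM, hodd, hin⟩ := Pm_tor h.ls.cla hq hq3 (by norm_num) ht.mem
  rw [ht.idx] at hM hodd hin
  obtain ⟨g, hg⟩ := exists_tor h.ls h.is (by norm_num) ht.mem hodd hM hin
  obtain ⟨s, hs⟩ := exists_of_coprime hg (fun y hy hd => (hv y hy hd).1)
    (fun y hy hd => h.kill (hin y hy hd) (hv y hy hd).1 ht.kill)
  obtain ⟨F, i1, i2, i3, hcF, ⟨e⟩⟩ := h.frm.is
  have hf : f' ≠ 0 := by
    rintro rfl
    rw [pow_zero, one_pow] at hcF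
    exact absurd hcF Fintype.one_lt_card.ne'
  have hpp : IsPrimePow (v ^ f') := h.ef.vp.isPrimePow.pow hf
  have h2q : 2 ≤ v ^ f' := hpp.two_le
  obtain ⟨b, hb⟩ := exists_f12 (v ^ f')
  have hMb : Pm 12 (p ^ f) ∣ b := by
    have hv' := fun y hy hd => (hv y hy hd).2
    refine f12_of_pow hv' (by omega) hb ?_
    have h1 : Pm 12 (p ^ f) ∣ Nat.card ↥(Cfsg.Lie.twistedE6 F (v ^ f')) := by
      rw [← hs, ← MulEquiv.orderOf_eq e s]
      exact orderOf_dvd_natCard _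
    have h2 : Pm 12 (p ^ f) ∣ Nat.gcd 3 (v ^ f' + 1) * Nat.card ↥(Cfsg.Lie.twistedE6 F (v ^ f')) := h1.mul_left _
    rw [Cfsg.Agent.S1066.result hpp hcF] at h2
    have h3 : (v ^ f') ^ 36 * ((v ^ f') ^ 2 - 1) * ((v ^ f') ^ 5 + 1) * ((v ^ f') ^ 6 - 1) * ((v ^ f') ^ 8 - 1) *
        ((v ^ f') ^ 9 + 1) * ((v ^ f') ^ 12 - 1) = (v ^ f') ^ 36 * (((v ^ f') ^ 2 - 1) * (((v ^ f') ^ 5 + 1) *
        (((v ^ f') ^ 6 - 1) * (((v ^ f') ^ 8 - 1) * (((v ^ f') ^ 9 + 1) * ((v ^ f') ^ 12 - 1)))))) := by ring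
    rw [h3] at h2
    have c1 := (cop_self hv' 36).dvd_of_dvd_mul_left h2
    have c2 := (cop_pow hv' (j := 2) (by norm_num) (by omega)).dvd_of_dvd_mul_left c1
    have c3 := (cop_plus hv' (j := 5) (by norm_num) (by omega)).dvd_of_dvd_mul_left c2
    have c4 := (cop_pow hv' (j := 6) (by norm_num) (by omega)).dvd_of_dvd_mul_left c3
    have c5 := (cop_pow hv' (j := 8) (by norm_num) (by omega)).dvd_of_dvd_mul_left c4
    exact (cop_plus hv' (j := 9) (by norm_num) (by omega)).dvd_of_dvd_mul_left c5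
  obtain ⟨x, hx⟩ := ordX12_te6 hpp hcF
  have hb2 : (v ^ f') ^ 4 - (v ^ f') ^ 2 + 1 = b := by
    have h2 : (v ^ f') ^ 2 ≤ (v ^ f') ^ 4 := Nat.pow_le_pow_right (by omega) (by norm_num)
    omega
  rw [hb2] at hx
  have h4 : v ^ f' ≤ (v ^ f') ^ 2 := Nat.le_self_pow two_ne_zero _
  exact no12 h ht hb hMb (X := (v ^ f') ^ 2 - v ^ f' + 1) (by omega) (s := e.symm x)
    (by rw [MulEquiv.orderOf_eq]; exact hx)

end te6

end M6

open M6

/-! ### `ominus 6` -/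

section main

variable {p f : ℕ} {L : Type w} [Group L] [Finite L] {G : Type u} [Group G] [Finite G]
  {K : Subgroup G} [K.Normal] {S : Subgroup (G ⧸ K)} [S.Normal] {v f' : ℕ}

theorem mask_e6 {x : ℕ} (h : (316 : ℕ).testBit x = true) : clE6.getD x 0 ∈ [1, 2, 3, 4, 5, 6] ∨ clE6.getD x 0 = 12 := by
  have hx : x < 9 := by
    by_contra hcon
    rw [Nat.testBit_lt_two_pow (lt_of_lt_of_le (by norm_num : 316 < 2 ^ 9)
      (Nat.pow_le_pow_right (by norm_num) (not_lt.1 hcon)))] at h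
    exact Bool.noConfusion h
  exact (by decide : ∀ x < 9, (316 : ℕ).testBit x = true → clE6.getD x 0 ∈ [1, 2, 3, 4, 5, 6] ∨ clE6.getD x 0 = 12) x hx h

theorem mask_te6 {x : ℕ} (h : (220 : ℕ).testBit x = true) :
    clTE6.getD x 0 ∈ [1, 2, 3, 4, 6, 10] ∨ clTE6.getD x 0 = 12 := by
  have hx : x < 9 := by
    by_contra hcon
    rw [Nat.testBit_lt_two_pow (lt_of_lt_of_le (by norm_num : 220 < 2 ^ 9)
      (Nat.pow_le_pow_right (by norm_num) (not_lt.1 hcon)))] at h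
    exact Bool.noConfusion h
  exact (by decide : ∀ x < 9, (220 : ℕ).testBit x = true → clTE6.getD x 0 ∈ [1, 2, 3, 4, 6, 10] ∨ clTE6.getD x 0 = 12)
    x hx h

theorem getD_kcl {cl : List ℕ} {u y a : ℕ} (h : cl.getD (kcl cl u y) 0 = a) (ha : a ≠ 0) :
    orderOf ((u : ℕ) : ZMod y) = a := by
  rw [kcl] at h
  rcases Nat.lt_or_ge (cl.idxOf (orderOf ((u : ℕ) : ZMod y))) cl.length with h4 | h4
  · rw [List.getD_eq_getElem _ _ h4, List.getElem_idxOf h4] at h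
    exact h
  · rw [List.getD_eq_default _ _ h4] at h
    exact absurd h.symm ha

/-- **`PΩ₁₂⁻(q)`, `E₆(u)`.** -/
theorem sm6m_e6 (h : EX (.ominus 6) p f L G K S .e6 v f' tabE6 (kcl clE6 (v ^ f'))) : False := by
  have ht : T12 (.ominus 6) := Or.inr (Or.inr rfl)
  obtain ⟨hq, hq3⟩ := h.q_odd
  obtain ⟨-, -, hin⟩ := Pm_tor h.ls.cla hq hq3 (by norm_num) ht.mem
  rw [ht.idx] at hin
  refine no12_e6 h ht fun y hy hd => ?_
  have hIn := hin y hy hd
  obtain ⟨h1, h2, h3⟩ := val_mask (T := tabE6) (by decide)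
    (h.row_val (h.gd_e6 (Or.inl (by decide : 6 ≤ 8))) m6m_e6 (h.gd_of_kill hIn ht.kill))
  refine ⟨h2, ?_⟩
  rcases mask_e6 h3 with h4 | h4
  · exfalso
    have h5 : orderOf ((v ^ f' : ℕ) : ZMod y) = clE6.getD (kcl clE6 (v ^ f') y) 0 :=
      getD_kcl rfl (by intro h6; rw [h6] at h4; revert h4; decide)
    exact not_two h ht hIn (two_e6 h.ef.vp h.frm.is hy hIn.five (Or.inl h4) h5)
  · exact getD_kcl h4 (by norm_num)

/-- **`PΩ₁₂⁻(q)`, `²E₆(u)`.** -/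
theorem sm6m_te6 (h : EX (.ominus 6) p f L G K S .te6 v f' tabTE6 (kcl clTE6 (v ^ f'))) : False := by
  have ht : T12 (.ominus 6) := Or.inr (Or.inr rfl)
  obtain ⟨hq, hq3⟩ := h.q_odd
  obtain ⟨-, -, hin⟩ := Pm_tor h.ls.cla hq hq3 (by norm_num) ht.mem
  rw [ht.idx] at hin
  refine no12_te6 h ht fun y hy hd => ?_
  have hIn := hin y hy hd
  obtain ⟨h1, h2, h3⟩ := val_mask (T := tabTE6) (by decide)
    (h.row_val (h.gd_te6 (Or.inl (by decide : 6 ≤ 8))) m6m_te6 (h.gd_of_kill hIn ht.kill))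
  refine ⟨h2, ?_⟩
  rcases mask_te6 h3 with h4 | h4
  · exfalso
    have h5 : orderOf ((v ^ f' : ℕ) : ZMod y) = clTE6.getD (kcl clTE6 (v ^ f') y) 0 :=
      getD_kcl rfl (by intro h6; rw [h6] at h4; revert h4; decide)
    exact not_two h ht hIn (two_te6 h.ef.vp h.frm.is hy hIn.five (Or.inl h4) h5)
  · exact getD_kcl h4 (by norm_num)

end main

end Cfsg.Agent.R2.Spec.EE
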