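import Cfsg.Agent.R2.Spec.EE.SmC6A
import Cfsg.Agent.R2.Spec.EE.RowC6
import Cfsg.Agent.R2.Spec.EE.SmM6

/-!
# EE, small ranks: `PSp₁₂(q)`, `Ω₁₃(q)` and `E₆(u)`, `²E₆(u)` (helper8)

* `sm_c6_e6`, `sm_c6_te6`.
-/

set_option autoImplicit false
set_option linter.unusedSectionVars false
set_option linter.unusedVariables false

namespace Cfsg.Agent.R2.Spec.EE

open Subgroup Cfsg Cfsg.Lie
open Cfsg.Agent.H426.LieFam Cfsg.Agent.R2.Spec Cfsg.Agent.R2.Spec.P1 Cfsg.Agent.R2.Spec.F1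
open Cfsg.Agent.H420.QR Cfsg.Agent.H365.Zsig

universe u w

theorem PB6.t12 {t : Fam} (h : PB6 t) : M6.T12 t := by
  rcases h with rfl | rfl
  · exact Or.inl rfl
  · exact Or.inr (Or.inl rfl)

theorem PB6.r12 {t : Fam} (h : PB6 t) : RM6 tabE6 t [] 12 508 := by
  rcases h with rfl | rfl
  · exact r6_psp_12
  · exact r6_oodd_12

theorem PB6.r5 {t : Fam} (h : PB6 t) : RM6 tabE6 t [(12, 128)] 5 320 := by
  rcases h with rfl | rfl
  · exact r6_psp_5
  · exact r6_oodd_5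

theorem PB6.r10 {t : Fam} (h : PB6 t) : RM6 tabE6 t [(12, 128)] 10 320 := by
  rcases h with rfl | rfl
  · exact r6_psp_10
  · exact r6_oodd_10

theorem PB6.rt12 {t : Fam} (h : PB6 t) : RM6 tabTE6 t [] 12 508 := by
  rcases h with rfl | rfl
  · exact rt6_psp_12
  · exact rt6_oodd_12

theorem PB6.rt5 {t : Fam} (h : PB6 t) : RM6 tabTE6 t [(12, 256)] 5 160 := by
  rcases h with rfl | rfl
  · exact rt6_psp_5
  · exact rt6_oodd_5

theorem PB6.rt10 {t : Fam} (h : PB6 t) : RM6 tabTE6 t [(12, 256)] 10 160 := by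
  rcases h with rfl | rfl
  · exact rt6_psp_10
  · exact rt6_oodd_10

section main

variable {t : Fam} {p f : ℕ} {L : Type w} [Group L] [Finite L] {G : Type u} [Group G] [Finite G]
  {K : Subgroup G} [K.Normal] {S : Subgroup (G ⧸ K)} [S.Normal] {t' : Fam} {v f' : ℕ} {T : Tab} {k : ℕ → ℕ}

theorem EX.cop_uq (h : EX t p f L G K S t' v f' T k) : Nat.Coprime (v ^ f') (p ^ f) :=
  Nat.Coprime.pow _ _ ((Nat.coprime_primes h.ef.vp h.ls.prime).2 h.vp)

/-- **Case `c(12) = 9` or `18`, one of the classes 5, 10.** -/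
theorem EX.c6_I (h : EX t p f L G K S t' v f' T k) (ht : PB6 t) {TL : List (List ℕ)} {B : List ℕ}
    (hS : KS ↥S v (v ^ f') TL B)
    (hTL : ∀ T ∈ TL, T.Nodup ∧ (∀ c ∈ T, c ∈ clS) ∧ ∀ a ∈ T, ∀ b ∈ T, a ∈ [8, 12] → b ∈ [8, 12] → a = b)
    (h5 : ∀ y, In t (p ^ f) 5 y → y ≠ v ∧ ¬ y ∣ Nat.card ↥K ∧ orderOf ((v ^ f' : ℕ) : ZMod y) ∈ [8, 12])
    (h10 : ∀ y, In t (p ^ f) 10 y → y ≠ v ∧ ¬ y ∣ Nat.card ↥K ∧ orderOf ((v ^ f' : ℕ) : ZMod y) ∈ [8, 12])
    {b : ℕ} (hb : b = 9 ∨ b = 18) (hbB : b ∈ B) (h12 : NN (p ^ f) 12 ∣ NN (v ^ f') b) : False := by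
  obtain ⟨hq, hq3⟩ := h.q_odd
  obtain ⟨z, hz⟩ := h.exists_in (i := 12) (by norm_num) (ht.mem (by norm_num))
  have hzN : z ∣ NN (p ^ f) 12 := dvd_NN (by decide) (by norm_num) hz.prime (ord_of_in ht.tn hz)
  have hN := h.c6_ub ht hz (hS.elt b hbB) (hzN.trans h12)
  have hA : ∀ a ∈ [8, 12], 3 ≤ a := by decide
  obtain ⟨i, hi, hNi⟩ := c6_i (p ^ f)
  have key : ∃ a ∈ [8, 12], NN (p ^ f) i ∣ NN (v ^ f') a := by
    rcases hi with rfl | rfl
    · obtain ⟨a, ha, h1, -⟩ := h.fwd ht.tn hS (i := 5) (by decide) (by norm_num) (ht.mem (by norm_num)) [8, 12] hTL hA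
        (fun r hr hrK => h.kill hr hrK ht.kill5) h5
      exact ⟨a, ha, h1⟩
    · obtain ⟨a, ha, h1, -⟩ := h.fwd ht.tn hS (i := 10) (by decide) (by norm_num) (ht.mem (by norm_num)) [8, 12] hTL hA
        (fun r hr hrK => h.kill hr hrK ht.kill10) h10
      exact ⟨a, ha, h1⟩
  obtain ⟨a, ha, h1⟩ := key
  have ha' : a = 8 ∨ a = 12 := by
    simpa only [List.mem_cons, List.not_mem_nil, or_false] using ha
  exact c6_caseI hq hq3 hS.two h.cop_uq hi hNi ha' h1 hb hN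

/-- **Case `c(12) = 8`.** -/
theorem EX.c6_III (h : EX t p f L G K S t' v f' T k) (ht : PB6 t) (hu : 2 ≤ v ^ f')
    (hX : ∃ s : S, ((v ^ f') ^ 2 - 1) * ((v ^ f') ^ 4 + 1) ∣ 3 * orderOf s)
    (h12 : NN (p ^ f) 12 ∣ NN (v ^ f') 8) : False := by
  obtain ⟨hq, hq3⟩ := h.q_odd
  obtain ⟨z, hz⟩ := h.exists_in (i := 12) (by norm_num) (ht.mem (by norm_num))
  have hzN : z ∣ NN (p ^ f) 12 := dvd_NN (by decide) (by norm_num) hz.prime (ord_of_in ht.tn hz)
  obtain ⟨s, hs⟩ := hX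
  have hzs : z ∣ orderOf s := by
    have h1 : z ∣ 3 * orderOf s := by
      refine Dvd.dvd.trans ?_ hs
      refine Dvd.dvd.mul_left ?_ _
      rw [← ZZ_8 hu]
      exact (hzN.trans h12).trans (NN_dvd _ _)
    rcases hz.prime.dvd_mul.1 h1 with h2 | h2
    · have h3 := Nat.le_of_dvd (by norm_num) h2
      have := hz.five
      omega
    · exact h2
  exact c6_caseIII hq hq3 hu h.cop_uq h12 hs (h.c6_ub ht hz ⟨s, rfl⟩ hzs)

end main

section e6

variable {t : Fam} {p f : ℕ} {L : Type w} [Group L] [Finite L] {G : Type u} [Group G] [Finite G]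
  {K : Subgroup G} [K.Normal] {S : Subgroup (G ⧸ K)} [S.Normal] {v f' : ℕ}

/-- **`PSp₁₂(q)`, `Ω₁₃(q)`, `E₆(u)`.** -/
theorem sm_c6_e6 (h : EX t p f L G K S .e6 v f' tabE6 (kcl clE6 (v ^ f'))) (ht : t = .psp 6 ∨ t = .oodd 6) : False := by
  have hc : PB6 t := ht
  obtain ⟨hq, hq3⟩ := h.q_odd
  have hgd := h.gd_e6 (Or.inl (by rw [hc.rk]; norm_num))
  have hS := ks_e6 h.ef.vp h.frm.is
  have m12 : mem t 12 := hc.mem (by norm_num)
  -- the class 12
  have key : ∀ y, In t (p ^ f) 12 y → y ≠ v ∧ ¬ y ∣ Nat.card ↥K ∧ orderOf ((v ^ f' : ℕ) : ZMod y) ∈ [8, 9, 12] := by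
    intro y hy
    obtain ⟨h1, h2, h3⟩ := val_mask (T := tabE6) (by decide)
      (h.rowM_val hgd [] (fun x hx => absurd hx List.not_mem_nil) hc.r12 (h.gd_of_kill hy hc.kill12))
    refine ⟨h1, h2, ?_⟩
    have h4 : orderOf ((v ^ f' : ℕ) : ZMod y) ∈ [3, 4, 5, 6, 8, 9, 12] :=
      ord_of_mask8 (cl := clE6) (m := 508) (by decide) (by decide) h3
    have h5 : ∀ a, a ∈ [1, 2, 3, 4, 5, 6] → orderOf ((v ^ f' : ℕ) : ZMod y) ≠ a := fun a ha ho =>
      M6.not_two h hc.t12 hy (M6.two_e6 h.ef.vp h.frm.is hy.prime hy.five (Or.inl ha) ho)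
    have e3 := h5 3 (by decide)
    have e4 := h5 4 (by decide)
    have e5 := h5 5 (by decide)
    have e6 := h5 6 (by decide)
    simp only [List.mem_cons, List.not_mem_nil, or_false] at h4 ⊢
    omega
  obtain ⟨a, ha, h12, hall⟩ := h.fwd hc.tn hS (i := 12) (by decide) (by norm_num) m12 [8, 9, 12] (by decide) (by decide)
    (fun r hr hrK => h.kill hr hrK hc.kill12) key
  simp only [List.mem_cons, List.not_mem_nil, or_false] at ha
  rcases ha with rfl | rfl | rfl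
  · -- `c(12) = 8`
    refine h.c6_III hc hS.two ?_ h12
    obtain ⟨F, _, _, _, hcF, ⟨e⟩⟩ := h.frm.is
    have hqF : Nat.card F = v ^ f' := by rw [Nat.card_eq_fintype_card, hcF]
    obtain ⟨x, hx⟩ := ordX8_e6 (F := F)
    exact ⟨e.symm x, by rw [MulEquiv.orderOf_eq, ← hqF]; exact hx⟩
  · -- `c(12) = 9`
    have hv12 : ∀ x ∈ [((12 : ℕ), (128 : ℕ))], ∀ z, Gd t (p ^ f) (Nat.card ↥K) S.index x.1 z →
        x.2.testBit (val tabE6 (Nat.card ↥K) v (kcl clE6 (v ^ f')) z) = true := by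
      intro x hx z hz
      rw [List.mem_singleton] at hx
      subst hx
      obtain ⟨h1, h2, h3⟩ := key z hz.1
      have h4 : val tabE6 (Nat.card ↥K) v (kcl clE6 (v ^ f')) z = kcl clE6 (v ^ f') z := by
        rw [val, if_neg h1, if_neg h2]
      have h5 : kcl clE6 (v ^ f') z = 7 := by
        unfold kcl
        rw [hall z hz.1]
        decide
      rw [h4, h5]
      decide
    refine h.c6_I hc hS (by decide) ?_ ?_ (b := 9) (Or.inl rfl) (by decide) h12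
    · intro y hy
      obtain ⟨h1, h2, h3⟩ := val_mask (T := tabE6) (by decide)
        (h.rowM_val hgd _ hv12 hc.r5 (h.gd_of_kill hy hc.kill5))
      exact ⟨h1, h2, ord_of_mask8 (cl := clE6) (m := 320) (by decide) (by decide) h3⟩
    · intro y hy
      obtain ⟨h1, h2, h3⟩ := val_mask (T := tabE6) (by decide)
        (h.rowM_val hgd _ hv12 hc.r10 (h.gd_of_kill hy hc.kill10))
      exact ⟨h1, h2, ord_of_mask8 (cl := clE6) (m := 320) (by decide) (by decide) h3⟩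
  · -- `c(12) = 12`
    refine M6.no12_e6 h hc.t12 fun y hy hd => ?_
    obtain ⟨-, -, hin⟩ := Pm_tor h.ls.cla hq hq3 (by norm_num) m12
    rw [hc.t12.idx] at hin
    have hIn := hin y hy hd
    exact ⟨(key y hIn).2.1, hall y hIn⟩

/-- **`PSp₁₂(q)`, `Ω₁₃(q)`, `²E₆(u)`.** -/
theorem sm_c6_te6 (h : EX t p f L G K S .te6 v f' tabTE6 (kcl clTE6 (v ^ f'))) (ht : t = .psp 6 ∨ t = .oodd 6) : False := by
  have hc : PB6 t := ht
  obtain ⟨hq, hq3⟩ := h.q_odd
  have hgd := h.gd_te6 (Or.inl (by rw [hc.rk]; norm_num))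
  have hS := ks_te6 h.ef.vp h.frm.is
  have m12 : mem t 12 := hc.mem (by norm_num)
  -- the class 12
  have key : ∀ y, In t (p ^ f) 12 y → y ≠ v ∧ ¬ y ∣ Nat.card ↥K ∧ orderOf ((v ^ f' : ℕ) : ZMod y) ∈ [8, 18, 12] := by
    intro y hy
    obtain ⟨h1, h2, h3⟩ := val_mask (T := tabTE6) (by decide)
      (h.rowM_val hgd [] (fun x hx => absurd hx List.not_mem_nil) hc.rt12 (h.gd_of_kill hy hc.kill12))
    refine ⟨h1, h2, ?_⟩
    have h4 : orderOf ((v ^ f' : ℕ) : ZMod y) ∈ [3, 4, 6, 8, 10, 12, 18] :=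
      ord_of_mask8 (cl := clTE6) (m := 508) (by decide) (by decide) h3
    have h5 : ∀ a, a ∈ [1, 2, 3, 4, 6, 10] → orderOf ((v ^ f' : ℕ) : ZMod y) ≠ a := fun a ha ho =>
      M6.not_two h hc.t12 hy (M6.two_te6 h.ef.vp h.frm.is hy.prime hy.five (Or.inl ha) ho)
    have e3 := h5 3 (by decide)
    have e4 := h5 4 (by decide)
    have e5 := h5 6 (by decide)
    have e6 := h5 10 (by decide)
    simp only [List.mem_cons, List.not_mem_nil, or_false] at h4 ⊢
    omega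
  obtain ⟨a, ha, h12, hall⟩ := h.fwd hc.tn hS (i := 12) (by decide) (by norm_num) m12 [8, 18, 12] (by decide) (by decide)
    (fun r hr hrK => h.kill hr hrK hc.kill12) key
  simp only [List.mem_cons, List.not_mem_nil, or_false] at ha
  rcases ha with rfl | rfl | rfl
  · -- `c(12) = 8`
    refine h.c6_III hc hS.two ?_ h12
    obtain ⟨F, _, _, _, hcF, ⟨e⟩⟩ := h.frm.is
    have hf' : f' ≠ 0 := by
      rintro rfl
      have := hS.two
      rw [pow_zero] at this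
      omega
    obtain ⟨x, hx⟩ := ordX8_te6 (K := F) (h.ef.vp.isPrimePow.pow hf') hcF
    exact ⟨e.symm x, by rw [MulEquiv.orderOf_eq]; exact hx⟩
  · -- `c(12) = 18`
    have hv12 : ∀ x ∈ [((12 : ℕ), (256 : ℕ))], ∀ z, Gd t (p ^ f) (Nat.card ↥K) S.index x.1 z →
        x.2.testBit (val tabTE6 (Nat.card ↥K) v (kcl clTE6 (v ^ f')) z) = true := by
      intro x hx z hz
      rw [List.mem_singleton] at hx
      subst hx
      obtain ⟨h1, h2, h3⟩ := key z hz.1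
      have h4 : val tabTE6 (Nat.card ↥K) v (kcl clTE6 (v ^ f')) z = kcl clTE6 (v ^ f') z := by
        rw [val, if_neg h1, if_neg h2]
      have h5 : kcl clTE6 (v ^ f') z = 8 := by
        unfold kcl
        rw [hall z hz.1]
        decide
      rw [h4, h5]
      decide
    refine h.c6_I hc hS (by decide) ?_ ?_ (b := 18) (Or.inr rfl) (by decide) h12
    · intro y hy
      obtain ⟨h1, h2, h3⟩ := val_mask (T := tabTE6) (by decide)
        (h.rowM_val hgd _ hv12 hc.rt5 (h.gd_of_kill hy hc.kill5))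
      exact ⟨h1, h2, ord_of_mask8 (cl := clTE6) (m := 160) (by decide) (by decide) h3⟩
    · intro y hy
      obtain ⟨h1, h2, h3⟩ := val_mask (T := tabTE6) (by decide)
        (h.rowM_val hgd _ hv12 hc.rt10 (h.gd_of_kill hy hc.kill10))
      exact ⟨h1, h2, ord_of_mask8 (cl := clTE6) (m := 160) (by decide) (by decide) h3⟩
  · -- `c(12) = 12`
    refine M6.no12_te6 h hc.t12 fun y hy hd => ?_
    obtain ⟨-, -, hin⟩ := Pm_tor h.ls.cla hq hq3 (by norm_num) m12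
    rw [hc.t12.idx] at hin
    have hIn := hin y hy hd
    exact ⟨(key y hIn).2.1, hall y hIn⟩

end e6

end Cfsg.Agent.R2.Spec.EE
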