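import Cfsg.Agent.R2.Spec.EE.SmCom

/-!
# The small ranks, `E₈` (helper8)

`sm_e8` : `S = E₈(u)` is impossible for `L` of small rank.
-/

set_option autoImplicit false
set_option linter.unusedSectionVars false
set_option linter.unusedVariables false

namespace Cfsg.Agent.R2.Spec.EE

open Subgroup Cfsg
open Cfsg.Agent Cfsg.Agent.H426.LieFam Cfsg.Agent.R2.Spec Cfsg.Agent.R2.Spec.P1 Cfsg.Agent.R2.Spec.F1
open Cfsg.Agent.H365.Zsig

universe u w

namespace SmE8

theorem Sg_6 : Sg 6 = 12 := by decide +kernel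

/-- the orders of the elements of `E₈(u)` -/
theorem ord_le {S : Type u} [Group S] [Finite S] {v f' : ℕ} (hv : v.Prime) (hS : Fam.Is v f' S .e8) (hf : 0 < f')
    (s : S) (M : ℕ) (hM : M ∣ f' * orderOf s) (hvM : ¬ v ∣ M) : M ≤ f' * (v ^ f' + 1) ^ 8 := by
  obtain ⟨F, _, _, _, hcF, ⟨e⟩⟩ := hS
  have hq : Nat.card F = v ^ f' := by rw [Nat.card_eq_fintype_card, hcF]
  obtain ⟨p', e', m, j, hp', he', hq', ho, hm, -, -, -, ⟨Sf, hSf, hSl, hmS⟩, -⟩ := H482.TwoCyc.Untw.ords_E8 (e s)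
  rw [MulEquiv.orderOf_eq] at ho
  rw [hq] at hq' hmS
  have hpv : p' = v := by
    have h1 : p' ∣ v ^ f' := by rw [hq']; exact dvd_pow_self p' he'.ne'
    exact (Nat.prime_dvd_prime_iff_eq hp' hv).1 (hp'.dvd_of_dvd_pow h1)
  subst hpv
  have h2 : 2 ≤ p' ^ f' := hp'.two_le.trans (Nat.le_self_pow hf.ne' p')
  have h3 : m ≤ (p' ^ f' + 1) ^ 8 := by
    have h4 := H482.TwoCyc.Untw.card_pos_eval (p' ^ f') h2 (c := 1) one_pos (m := m) (S := Sf)
      (by rwa [Nat.cast_one, one_mul])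
    rw [one_mul] at h4
    exact h4.trans (Nat.pow_le_pow_right (by omega) hSl)
  rw [ho, ← mul_assoc] at hM
  have h5 : M ∣ f' * m := ((Nat.Coprime.pow_right j ((Nat.coprime_comm.1
    ((Nat.Prime.coprime_iff_not_dvd hp').2 hvM))))).dvd_of_dvd_mul_right hM
  exact (Nat.le_of_dvd (Nat.mul_pos hf hm) h5).trans (Nat.mul_le_mul_left _ h3)

section main

variable {t : Fam} {p f : ℕ} {L : Type w} [Group L] [Finite L] {G : Type u} [Group G] [Finite G]
  {K : Subgroup G} [K.Normal] {S : Subgroup (G ⧸ K)} [S.Normal] {v f' : ℕ}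

/-- an element of prime order -/
theorem exists_ord (h : EX t p f L G K S .e8 v f' tabE8 (kE8 (v ^ f'))) {a r : ℕ} (ha : a ∈ clE8)
    (hd : (r : ℤ) ∣ CertTab.cyc a ((v ^ f' : ℕ) : ℤ)) : ∃ g : G, orderOf g = r := by
  obtain ⟨F, _, _, _, hF, ⟨E⟩⟩ := h.frm.is
  refine exists_of_S (S := S) ?_
  obtain ⟨x, hx⟩ := ord8 (F := F) (a := a) (m := r) ha (by rw [Nat.card_eq_fintype_card, hF]; exact hd)
  exact ⟨E.symm x, by rw [MulEquiv.orderOf_eq, hx]⟩

theorem chk2 : Chk 2 127 16 := by decide +kernel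
theorem chk3 : Chk 3 73 28 := by decide +kernel
theorem chk4 : Chk 2 257 52 := by decide +kernel

/-- the finitely many cases -/
def Few (v f' q : ℕ) : Prop := (v = 2 ∧ f' = 1 ∧ q < 16) ∨ (v = 3 ∧ f' = 1 ∧ q < 28) ∨ (v = 2 ∧ f' = 2 ∧ q < 52)

theorem few_false (h : EX t p f L G K S .e8 v f' tabE8 (kE8 (v ^ f'))) (hrk : rk t ≤ 8) (hf : Few v f' (p ^ f)) :
    False := by
  have hvp := h.vp
  rcases hf with ⟨rfl, rfl, hq⟩ | ⟨rfl, rfl, hq⟩ | ⟨rfl, rfl, hq⟩
  · exact kill_chk h.ls h.is h.p2 hrk (v := 2) (r := 127) (by norm_num) hvp (by norm_num) (by norm_num)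
      (exists_ord h (a := 7) (by decide) (by decide +kernel)) chk2 hq
  · exact kill_chk h.ls h.is h.p2 hrk (v := 3) (r := 73) (by norm_num) hvp (by norm_num) (by norm_num)
      (exists_ord h (a := 12) (by decide) (by decide +kernel)) chk3 hq
  · exact kill_chk h.ls h.is h.p2 hrk (v := 2) (r := 257) (by norm_num) hvp (by norm_num) (by norm_num)
      (exists_ord h (a := 8) (by decide) (by decide +kernel)) chk4 hq

/-! ### the numbers -/

theorem few6 {q : ℕ} (hv : v.Prime) (hf : 0 < f') (hA : q ^ 4 ≤ 9 * f' * (v ^ f' + 1) ^ 8)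
    (hB : 9 ^ 12 * (v ^ f') ^ 78 ≤ (2520 * 6 * 10 ^ 12) * q ^ (2 * 12 + 1)) : Few v f' q := by
  have hv2 := hv.two_le
  by_cases h3 : 3 ≤ f'
  · exact (no_f hv2 hA hB (F := 3) (by norm_num) h3 (by norm_num) (by decide +kernel)).elim
  · have h4 : f' = 1 ∨ f' = 2 := by omega
    rcases h4 with rfl | rfl
    · have h5 : v < 4 := by
        by_contra h6
        exact no_u hA hB (U := 4) (by rw [pow_one]; omega) (by norm_num) (by norm_num) (by decide +kernel)
      have h6 : v = 2 ∨ v = 3 := by omega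
      rcases h6 with rfl | rfl
      · exact Or.inl ⟨rfl, rfl, NumAr.q_lt hA (by norm_num)⟩
      · exact Or.inr (Or.inl ⟨rfl, rfl, NumAr.q_lt hA (by norm_num)⟩)
    · have h5 : v < 3 := by
        by_contra h6
        have h7 : 3 ^ 2 ≤ v ^ 2 := Nat.pow_le_pow_left (by omega) 2
        exact no_u hA hB (U := 5) (by norm_num at h7; omega) (by norm_num) (by norm_num) (by decide +kernel)
      have h6 : v = 2 := by omega
      subst h6
      exact Or.inr (Or.inr ⟨rfl, rfl, NumAr.q_lt hA (by norm_num)⟩)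

theorem few7 {q : ℕ} (hv : v.Prime) (hf : 0 < f') (hA : q ^ 6 ≤ 33 * f' * (v ^ f' + 1) ^ 8)
    (hB : 9 ^ 18 * (v ^ f') ^ 78 ≤ (2520 * 7 * 10 ^ 18) * q ^ (2 * 18 + 1)) : Few v f' q := by
  have hv2 := hv.two_le
  by_cases h3 : 3 ≤ f'
  · exact (no_f hv2 hA hB (F := 3) (by norm_num) h3 (by norm_num) (by decide +kernel)).elim
  · have h4 : f' = 1 ∨ f' = 2 := by omega
    rcases h4 with rfl | rfl
    · have h5 : v < 5 := by
        by_contra h6
        exact no_u hA hB (U := 5) (by rw [pow_one]; omega) (by norm_num) (by norm_num) (by decide +kernel)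
      have h6 : v = 2 ∨ v = 3 := by
        have h7 : v ≠ 4 := by rintro rfl; revert hv; decide
        omega
      rcases h6 with rfl | rfl
      · exact Or.inl ⟨rfl, rfl, NumAr.q_lt hA (by norm_num)⟩
      · exact Or.inr (Or.inl ⟨rfl, rfl, NumAr.q_lt hA (by norm_num)⟩)
    · have h5 : v < 3 := by
        by_contra h6
        have h7 : 3 ^ 2 ≤ v ^ 2 := Nat.pow_le_pow_left (by omega) 2
        exact no_u hA hB (U := 6) (by norm_num at h7; omega) (by norm_num) (by norm_num) (by decide +kernel)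
      have h6 : v = 2 := by omega
      subst h6
      exact Or.inr (Or.inr ⟨rfl, rfl, NumAr.q_lt hA (by norm_num)⟩)

theorem few8 {q : ℕ} (hv : v.Prime) (hf : 0 < f') (hA : q ^ 6 ≤ 33 * f' * (v ^ f' + 1) ^ 8)
    (hB : 3 ^ 22 * (v ^ f') ^ 78 ≤ (2520 * 8 * 4 ^ 22) * q ^ (22 + 1)) : Few v f' q := by
  have hv2 := hv.two_le
  by_cases h3 : 2 ≤ f'
  · exact (no_f hv2 hA hB (F := 2) (by norm_num) h3 (by norm_num) (by decide +kernel)).elim
  · have h4 : f' = 1 := by omega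
    subst h4
    have h5 : v < 3 := by
      by_contra h6
      exact no_u hA hB (U := 3) (by rw [pow_one]; omega) (by norm_num) (by norm_num) (by decide +kernel)
    have h6 : v = 2 := by omega
    subst h6
    exact Or.inl ⟨rfl, rfl, NumAr.q_lt hA (by norm_num)⟩

/-! ### the inequality (B) -/

theorem eta6 (h : EX t p f L G K S .e8 v f' tabE8 (kE8 (v ^ f'))) (hw : ∀ i, wt t i = eta i) (hr : rk t ≤ 6)
    (hA : (p ^ f) ^ 4 ≤ 9 * f' * (v ^ f' + 1) ^ 8) : False := by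
  obtain ⟨hq, hq3⟩ := h.q_odd
  refine few_false h (by omega) (few6 h.ef.vp h.frm.fpos hA (bB_eta hq3 ((bigB8 h.ls h.is h.p2 h.frm.is).trans ?_)
    ((RR_le_eta h.ls.cla hw (sg_eta h.ls.cla hw) (p ^ f)).trans (Nat.pow_le_pow_right (by omega) (Sg_6 ▸ Sg_mono hr)))))
  exact Nat.mul_le_mul_left _ (Nat.mul_le_mul_right _ (Nat.mul_le_mul_right _ (Nat.mul_le_mul_left _ hr)))

theorem eta7 (h : EX t p f L G K S .e8 v f' tabE8 (kE8 (v ^ f'))) (hw : ∀ i, wt t i = eta i) (hr : rk t ≤ 7)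
    (hA : (p ^ f) ^ 6 ≤ 33 * f' * (v ^ f' + 1) ^ 8) : False := by
  obtain ⟨hq, hq3⟩ := h.q_odd
  refine few_false h (by omega) (few7 h.ef.vp h.frm.fpos hA (bB_eta hq3 ((bigB8 h.ls h.is h.p2 h.frm.is).trans ?_)
    ((RR_le_eta h.ls.cla hw (sg_eta h.ls.cla hw) (p ^ f)).trans (Nat.pow_le_pow_right (by omega) (Sg_7 ▸ Sg_mono hr)))))
  exact Nat.mul_le_mul_left _ (Nat.mul_le_mul_right _ (Nat.mul_le_mul_right _ (Nat.mul_le_mul_left _ hr)))

theorem lin8 (h : EX t p f L G K S .e8 v f' tabE8 (kE8 (v ^ f'))) (hw : ∀ i, wt t i = i) (hr : rk t ≤ 8)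
    (hA : (p ^ f) ^ 6 ≤ 33 * f' * (v ^ f' + 1) ^ 8) : False := by
  obtain ⟨hq, hq3⟩ := h.q_odd
  refine few_false h (by omega) (few8 h.ef.vp h.frm.fpos hA (bB_lin hq3 ((bigB8 h.ls h.is h.p2 h.frm.is).trans ?_)
    ((RR_le_lin h.ls.cla hw (p ^ f)).trans (Nat.pow_le_pow_right (by omega) (Sg_8 ▸ Sg_mono hr)))))
  exact Nat.mul_le_mul_left _ (Nat.mul_le_mul_right _ (Nat.mul_le_mul_right _ (Nat.mul_le_mul_left _ hr)))

/-! ### the inequality (A) -/

theorem hB (h : EX t p f L G K S .e8 v f' tabE8 (kE8 (v ^ f'))) (s : S) (M : ℕ) (hM : M ∣ f' * orderOf s)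
    (hvM : ¬ v ∣ M) : M ≤ f' * (v ^ f' + 1) ^ 8 := ord_le h.ef.vp h.frm.is h.frm.fpos s M hM hvM

theorem pr5 {n : ℕ} (hn : n = 5 ∨ n = 8 ∨ n = 10 ∨ n = 12) (r : ℕ) (hr : r.Prime) (hd : r ∣ n) : r ≤ 5 := by
  rcases hn with rfl | rfl | rfl | rfl <;> exact prime_le (by norm_num) (by decide) r hr hd

theorem pr7 {n : ℕ} (hn : n = 7 ∨ n = 14) (r : ℕ) (hr : r.Prime) (hd : r ∣ n) : r ≤ 7 := by
  rcases hn with rfl | rfl <;> exact prime_le (by norm_num) (by decide) r hr hd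

theorem pr3 {n : ℕ} (hn : n = 3 ∨ n = 6 ∨ n = 4) (r : ℕ) (hr : r.Prime) (hd : r ∣ n) : r ≤ 3 := by
  rcases hn with rfl | rfl | rfl <;> exact prime_le (by norm_num) (by decide) r hr hd

/-- two nonadjacent classes of degree 4 -/
theorem pairA (h : EX t p f L G K S .e8 v f' tabE8 (kE8 (v ^ f'))) {i j : ℕ} (hi : 3 ≤ i) (hj : 3 ≤ j) (mi : mem t i)
    (mj : mem t j) (hij : i ≠ j) (hna : naB t i j = true) (ii : idx t i = 5 ∨ idx t i = 8 ∨ idx t i = 10 ∨ idx t i = 12)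
    (jj : idx t j = 5 ∨ idx t j = 8 ∨ idx t j = 10 ∨ idx t j = 12) : (p ^ f) ^ 4 ≤ 9 * f' * (v ^ f' + 1) ^ 8 := by
  obtain ⟨hq, hq3⟩ := h.q_odd
  have hna' := na_of_naB (by omega) (by omega) hna
  rcases h.gc_or rfl hij hna' with h1 | h1
  · have h2 := h.bd1 (hB h) hi mi h1 (pr5 ii) (by norm_num)
    have h3 := four_le' ii hq3
    rw [mul_assoc]
    omega
  · have h2 := h.bd1 (hB h) hj mj h1 (pr5 jj) (by norm_num)
    have h3 := four_le' jj hq3
    rw [mul_assoc]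
    omega

/-- a class of degree 6, and two adjacent classes -/
theorem tripleA (h : EX t p f L G K S .e8 v f' tabE8 (kE8 (v ^ f'))) {i j k : ℕ} (hi : 3 ≤ i) (hj : 3 ≤ j) (hk : 3 ≤ k)
    (mi : mem t i) (mj : mem t j) (mk : mem t k) (hij : i ≠ j) (hik : i ≠ k) (hjk : j ≠ k) (hna : naB t i j = true)
    (hna' : naB t i k = true) (hna'' : naB t j k = false) (ii : idx t i = 7 ∨ idx t i = 14)
    (jj : idx t j = 5 ∨ idx t j = 8 ∨ idx t j = 10 ∨ idx t j = 12) (kk : idx t k = 3 ∨ idx t k = 6 ∨ idx t k = 4) :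
    (p ^ f) ^ 6 ≤ 33 * f' * (v ^ f' + 1) ^ 8 := by
  obtain ⟨hq, hq3⟩ := h.q_odd
  have n1 := na_of_naB (by omega) (by omega) hna
  have n2 := na_of_naB (by omega) (by omega) hna'
  have n3 : ¬ na t j k := fun h1 => by
    rw [naB_of_na h1] at hna''
    exact Bool.noConfusion hna''
  by_cases h1 : Gc t (p ^ f) (Nat.card ↥K) v i
  · have h2 := h.bd1 (hB h) hi mi h1 (pr7 ii) (by norm_num)
    have h3 := six_le'' ii hq3
    rw [mul_assoc]
    omega
  · have h2 := h.bd2 (hB h) hj mj hk mk hjk n3 (h.gc_of rfl h1 hij n1) (h.gc_of rfl h1 hik n2) (pr5 jj) (by norm_num)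
      (pr3 kk) (by norm_num)
    have h3 := four_le' jj hq3
    have h4 := two_le' kk hq3
    have h5 : 21 * (p ^ f) ^ 6 ≤ 45 * (Ph (idx t j) (p ^ f) * Ph (idx t k) (p ^ f)) := by
      calc 21 * (p ^ f) ^ 6 = (3 * (p ^ f) ^ 4) * (7 * (p ^ f) ^ 2) := by ring
        _ ≤ (5 * Ph (idx t j) (p ^ f)) * (9 * Ph (idx t k) (p ^ f)) := Nat.mul_le_mul h3 h4
        _ = _ := by ring
    rw [mul_assoc]
    omega

end main

end SmE8

open SmE8

/-- **`E₈`** -/
theorem sm_e8 {t : Fam} {p f : ℕ} {L : Type w} [Group L] [Finite L] {G : Type u} [Group G] [Finite G]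
    {K : Subgroup G} [K.Normal] {S : Subgroup (G ⧸ K)} [S.Normal] {v f' : ℕ}
    (h : EX t p f L G K S .e8 v f' tabE8 (kE8 (v ^ f'))) (ht : Sm t) : False := by
  rcases (sm_iff t).1 ht with rfl | rfl | rfl | rfl | rfl | rfl | rfl | rfl | rfl | rfl | rfl | rfl | rfl | rfl
  · -- psl 8
    exact lin8 h (fun _ => rfl) (show 8 ≤ 8 by omega) (tripleA h (i := 7) (j := 5) (k := 3) (by norm_num) (by norm_num)
      (by norm_num) (show 7 ≤ 8 by omega) (show 5 ≤ 8 by omega) (show 3 ≤ 8 by omega) (by norm_num) (by norm_num)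
      (by norm_num) (by decide) (by decide) (by decide) (Or.inl rfl) (Or.inl rfl) (Or.inl rfl))
  · -- psu 8
    exact lin8 h (fun _ => rfl) (show 8 ≤ 8 by omega) (tripleA h (i := 7) (j := 5) (k := 3) (by norm_num) (by norm_num)
      (by norm_num) (show 7 ≤ 8 by omega) (show 5 ≤ 8 by omega) (show 3 ≤ 8 by omega) (by norm_num) (by norm_num)
      (by norm_num) (by decide) (by decide) (by decide) (Or.inr rfl) (Or.inr (Or.inr (Or.inl rfl))) (Or.inr (Or.inl rfl)))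
  · -- psp 5
    exact eta6 h (fun _ => rfl) (show 5 ≤ 6 by omega) (pairA h (i := 5) (j := 8) (by norm_num) (by norm_num)
      (show eta 5 ≤ 5 by decide) (show eta 8 ≤ 5 by decide) (by norm_num) (by decide) (Or.inl rfl) (Or.inr (Or.inl rfl)))
  · -- psp 6
    exact eta6 h (fun _ => rfl) (show 6 ≤ 6 by omega) (pairA h (i := 5) (j := 8) (by norm_num) (by norm_num)
      (show eta 5 ≤ 6 by decide) (show eta 8 ≤ 6 by decide) (by norm_num) (by decide) (Or.inl rfl) (Or.inr (Or.inl rfl)))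
  · -- psp 7
    exact eta7 h (fun _ => rfl) (show 7 ≤ 7 by omega) (tripleA h (i := 7) (j := 8) (k := 6) (by norm_num) (by norm_num)
      (by norm_num) (show eta 7 ≤ 7 by decide) (show eta 8 ≤ 7 by decide) (show eta 6 ≤ 7 by decide) (by norm_num)
      (by norm_num) (by norm_num) (by decide) (by decide) (by decide) (Or.inl rfl) (Or.inr (Or.inl rfl))
      (Or.inr (Or.inl rfl)))
  · -- oodd 5
    exact eta6 h (fun _ => rfl) (show 5 ≤ 6 by omega) (pairA h (i := 5) (j := 8) (by norm_num) (by norm_num)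
      (show eta 5 ≤ 5 by decide) (show eta 8 ≤ 5 by decide) (by norm_num) (by decide) (Or.inl rfl) (Or.inr (Or.inl rfl)))
  · -- oodd 6
    exact eta6 h (fun _ => rfl) (show 6 ≤ 6 by omega) (pairA h (i := 5) (j := 8) (by norm_num) (by norm_num)
      (show eta 5 ≤ 6 by decide) (show eta 8 ≤ 6 by decide) (by norm_num) (by decide) (Or.inl rfl) (Or.inr (Or.inl rfl)))
  · -- oodd 7
    exact eta7 h (fun _ => rfl) (show 7 ≤ 7 by omega) (tripleA h (i := 7) (j := 8) (k := 6) (by norm_num) (by norm_num)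
      (by norm_num) (show eta 7 ≤ 7 by decide) (show eta 8 ≤ 7 by decide) (show eta 6 ≤ 7 by decide) (by norm_num)
      (by norm_num) (by norm_num) (by decide) (by decide) (by decide) (Or.inl rfl) (Or.inr (Or.inl rfl))
      (Or.inr (Or.inl rfl)))
  · -- oplus 5
    exact eta6 h (fun _ => rfl) (show 5 ≤ 6 by omega) (pairA h (i := 5) (j := 8) (by norm_num) (by norm_num)
      (Or.inr ⟨rfl, rfl⟩) (Or.inl (show eta 8 + 1 ≤ 5 by decide)) (by norm_num) (by decide) (Or.inl rfl)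
      (Or.inr (Or.inl rfl)))
  · -- oplus 6
    exact eta6 h (fun _ => rfl) (show 6 ≤ 6 by omega) (pairA h (i := 5) (j := 8) (by norm_num) (by norm_num)
      (Or.inl (show eta 5 + 1 ≤ 6 by decide)) (Or.inl (show eta 8 + 1 ≤ 6 by decide)) (by norm_num) (by decide)
      (Or.inl rfl) (Or.inr (Or.inl rfl)))
  · -- oplus 7
    exact eta7 h (fun _ => rfl) (show 7 ≤ 7 by omega) (tripleA h (i := 7) (j := 8) (k := 6) (by norm_num) (by norm_num)
      (by norm_num) (Or.inr ⟨rfl, rfl⟩) (Or.inl (show eta 8 + 1 ≤ 7 by decide)) (Or.inl (show eta 6 + 1 ≤ 7 by decide))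
      (by norm_num) (by norm_num) (by norm_num) (by decide) (by decide) (by decide) (Or.inl rfl) (Or.inr (Or.inl rfl))
      (Or.inr (Or.inl rfl)))
  · -- ominus 5
    exact eta6 h (fun _ => rfl) (show 5 ≤ 6 by omega) (pairA h (i := 10) (j := 8) (by norm_num) (by norm_num)
      (Or.inr rfl) (Or.inl (show eta 8 + 1 ≤ 5 by decide)) (by norm_num) (by decide) (Or.inr (Or.inr (Or.inl rfl)))
      (Or.inr (Or.inl rfl)))
  · -- ominus 6
    exact eta6 h (fun _ => rfl) (show 6 ≤ 6 by omega) (pairA h (i := 5) (j := 8) (by norm_num) (by norm_num)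
      (Or.inl (show eta 5 + 1 ≤ 6 by decide)) (Or.inl (show eta 8 + 1 ≤ 6 by decide)) (by norm_num) (by decide)
      (Or.inl rfl) (Or.inr (Or.inl rfl)))
  · -- ominus 7
    exact eta7 h (fun _ => rfl) (show 7 ≤ 7 by omega) (tripleA h (i := 14) (j := 8) (k := 3) (by norm_num) (by norm_num)
      (by norm_num) (Or.inr rfl) (Or.inl (show eta 8 + 1 ≤ 7 by decide)) (Or.inl (show eta 3 + 1 ≤ 7 by decide))
      (by norm_num) (by norm_num) (by norm_num) (by decide) (by decide) (by decide) (Or.inr rfl) (Or.inr (Or.inl rfl))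
      (Or.inl rfl))

end Cfsg.Agent.R2.Spec.EE
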