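import Cfsg.Agent.R2.Spec.EE.NumE

/-!
# S3435, EE, small rank: the sharp form of the bound (B) (helper15)

* `gen_leS` : numbers `N a`, pairwise coprime, prime to 6, all prime powers of which are orders of elements of `G`,
  `R` a nonzero number divisible by the prime powers (not of `p`) which are orders, by 32, and by 9 if `p ≠ 3`, `rk t ≤ 8`:
  `288 ∏ N a ≤ max 169 (p ^ f) * R`;
* `prod_leS` : `R = RR t (p ^ f)`;
* `bigS6`, `bigST6`, `bigSF4` : the bounds for `E₆`, `²E₆`, `F₄`.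
-/

set_option autoImplicit false
set_option linter.unusedSectionVars false
set_option maxHeartbeats 400000

namespace Cfsg.Agent.R2.Spec.EE

open Cfsg Cfsg.Agent.H426.LieFam Cfsg.Agent.R2.Spec Cfsg.Agent.R2.Spec.P1 Cfsg.Agent.R2.Spec.F1
open Cfsg.Agent.H493 Cfsg.Agent.H493.PGCyc

universe u w

theorem odd_pow8 {q : ℕ} (hq : q % 2 = 1) : 32 ∣ q ^ 8 - 1 := by
  have h1 : 1 ≤ q ^ 8 := Nat.one_le_pow _ _ (by omega)
  rw [← Nat.modEq_iff_dvd' h1]
  have h3 : q % 32 < 32 := Nat.mod_lt _ (by norm_num)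
  have h4 : q % 32 % 2 = 1 := by omega
  have h5 : q ^ 8 % 32 = (q % 32) ^ 8 % 32 := Nat.pow_mod q 8 32
  show 1 % 32 = q ^ 8 % 32
  rw [h5]
  generalize q % 32 = r at h3 h4
  interval_cases r <;> first | rfl | omega

theorem pow6_nine {q : ℕ} (hq : q % 3 ≠ 0) : 9 ∣ q ^ 6 - 1 := by
  have h1 : 1 ≤ q ^ 6 := Nat.one_le_pow _ _ (by omega)
  rw [← Nat.modEq_iff_dvd' h1]
  have h3 : q % 9 < 9 := Nat.mod_lt _ (by norm_num)
  have h4 : q % 9 % 3 ≠ 0 := by omega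
  have h5 : q ^ 6 % 9 = (q % 9) ^ 6 % 9 := Nat.pow_mod q 6 9
  show 1 % 9 = q ^ 6 % 9
  rw [h5]
  generalize q % 9 = r at h3 h4
  interval_cases r <;> first | rfl | omega

theorem sg_pow_natAbs {t : Fam} {q i : ℕ} (hq : 1 ≤ q) (hi : Even i) : ((sg t q) ^ i - 1).natAbs = q ^ i - 1 := by
  have h1 : (sg t q) ^ i = (q : ℤ) ^ i := by
    cases t with
    | psu n =>
      show (-(q : ℤ)) ^ i = _
      rw [hi.neg_pow]
    | _ => rfl
  rw [h1, natAbs_pos_eq hq]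

/-- the bound for the powers of the characteristic -/
theorem ppow_le {t : Fam} (ht : Classical t) {p f : ℕ} (hp : p.Prime) (hp2 : p ≠ 2) {L : Type u} [Group L] [Finite L]
    (hI : Fam.Is p f L t) (hf : 1 ≤ f) (hrk : rk t ≤ 8) {e : ℕ} (hx : ∃ x : L, orderOf x = p ^ (e + 1)) :
    p ^ (e + 1) ≤ max 169 (p ^ f) := by
  have h1 := pexp ht hp hp2 hI hx
  have h2 : p ^ e ≤ 16 := by omega
  by_cases hp17 : 17 ≤ p
  · have he : e = 0 := by
      by_contra hcon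
      have h3 : p ^ 1 ≤ p ^ e := Nat.pow_le_pow_right hp.pos (by omega)
      rw [pow_one] at h3
      omega
    subst he
    exact (Nat.pow_le_pow_right hp.pos hf).trans (le_max_right _ _)
  · refine le_trans ?_ (le_max_left _ _)
    have h3 := hp.two_le
    have h4 : e ≤ 4 := by
      by_contra hcon
      have h5 : 2 ^ 5 ≤ p ^ e := (Nat.pow_le_pow_left h3 5).trans (Nat.pow_le_pow_right hp.pos (by omega))
      omega
    rw [pow_succ]
    have h5 : p ≤ 16 := by omega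
    clear h1 hx
    interval_cases p <;> first | (exfalso; revert hp; decide) | skip
    all_goals
      interval_cases e <;> first | (norm_num; done) | (exfalso; revert h2; norm_num)

section main

variable {t : Fam} {p f : ℕ} {L : Type w} [Group L] [Finite L] {G : Type u} [Group G] [Finite G]

/-- **The product is small**, general form. -/
theorem gen_leS (h : LS t p f L G) (hI : Fam.Is p f L t) (hp2 : p ≠ 2) (hrk : rk t ≤ 8) {R : ℕ} (hR0 : R ≠ 0)
    (hR : ∀ y e : ℕ, y.Prime → 5 ≤ y → y ≠ p → 1 ≤ e → (∃ x : L, orderOf x = y ^ e) → y ^ e ∣ R) (h32 : 32 ∣ R)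
    (h9 : p ≠ 3 → 9 ∣ R) {A : List ℕ} {N : ℕ → ℕ}
    (hcop : A.Pairwise (fun a b => Nat.Coprime (N a) (N b))) (h0 : ∀ a ∈ A, N a ≠ 0)
    (h6 : ∀ a ∈ A, Nat.Coprime (N a) 6)
    (hord : ∀ a ∈ A, ∀ y e : ℕ, y.Prime → 1 ≤ e → y ^ e ∣ N a → ∃ g : G, orderOf g = y ^ e) :
    288 * (A.map N).prod ≤ max 169 (p ^ f) * R := by
  have hp := h.prime
  set P := (A.map N).prod with hP
  have hP0 : P ≠ 0 := by
    rw [hP, Ne, List.prod_eq_zero_iff, List.mem_map]
    rintro ⟨a, ha, h1⟩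
    exact h0 a ha h1
  have hP6 : Nat.Coprime P 6 := by
    rw [hP, Nat.coprime_comm, Nat.coprime_list_prod_right_iff]
    intro x hx
    obtain ⟨b, hb, rfl⟩ := List.mem_map.1 hx
    exact (h6 b hb).symm
  obtain ⟨k, P', hpP', hPk⟩ := Nat.exists_eq_pow_mul_and_not_dvd hP0 p hp.ne_one
  have hP'6 : Nat.Coprime P' 6 := hP6.coprime_dvd_left (by rw [hPk]; exact dvd_mul_left _ _)
  -- the part prime to `p`
  have h1 : P' ∣ R := by
    rw [Nat.dvd_iff_prime_pow_dvd_dvd]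
    intro y e hy hd
    rcases Nat.eq_zero_or_pos e with he | he
    · rw [he, pow_zero]; exact one_dvd _
    have hyp : y ≠ p := by
      rintro rfl
      exact hpP' ((dvd_pow_self y (by omega)).trans hd)
    obtain ⟨a, ha, h2⟩ := pow_dvd_list (N := N) (A := A) hy he hcop (hd.trans (by rw [← hP, hPk]; exact dvd_mul_left _ _))
    have hyN : Nat.Coprime y 6 := (h6 a ha).coprime_dvd_left ((dvd_pow_self y (by omega)).trans h2)
    have hy2 : y ≠ 2 := by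
      rintro rfl
      norm_num at hyN
    have hy3 : y ≠ 3 := by
      rintro rfl
      norm_num at hyN
    have hy4 : y ≠ 4 := by
      rintro rfl
      norm_num at hy
    exact hR y e hy (by have := hy.two_le; omega) hyp he ((h.ord _).1 (hord a ha y e hy he h2))
  by_cases hp3 : p = 3
  · -- characteristic 3
    have hk : k = 0 := by
      by_contra hk
      have h2 : Nat.Coprime 3 6 := hP6.coprime_dvd_left (by rw [hPk, hp3]; exact (dvd_pow_self 3 hk).mul_right _)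
      norm_num at h2
    rw [hk, pow_zero, one_mul] at hPk
    have h2 : 32 * P' ∣ R := by
      refine Nat.Coprime.mul_dvd_of_dvd_of_dvd ?_ h32 h1
      rw [show (32 : ℕ) = 2 ^ 5 by norm_num]
      exact Nat.Coprime.pow_left 5 ((hP'6.coprime_dvd_right (by norm_num)).symm)
    have h3 := Nat.le_of_dvd (Nat.pos_of_ne_zero hR0) h2
    calc 288 * P = 9 * (32 * P') := by rw [hPk]; ring
      _ ≤ 9 * R := Nat.mul_le_mul_left _ h3
      _ ≤ max 169 (p ^ f) * R := Nat.mul_le_mul_right _ ((by norm_num : 9 ≤ 169).trans (le_max_left _ _))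
  · have h2 : 288 * P' ∣ R := by
      refine Nat.Coprime.mul_dvd_of_dvd_of_dvd ?_ ?_ h1
      · rw [show (288 : ℕ) = 2 ^ 5 * 3 ^ 2 by norm_num]
        exact Nat.Coprime.mul_left (Nat.Coprime.pow_left 5 ((hP'6.coprime_dvd_right (by norm_num)).symm))
          (Nat.Coprime.pow_left 2 ((hP'6.coprime_dvd_right (by norm_num)).symm))
      · rw [show (288 : ℕ) = 32 * 9 by norm_num]
        exact Nat.Coprime.mul_dvd_of_dvd_of_dvd (by norm_num) h32 (h9 hp3)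
    have h3 := Nat.le_of_dvd (Nat.pos_of_ne_zero hR0) h2
    have h4 : p ^ k ≤ max 169 (p ^ f) := by
      rcases k with _ | k
      · rw [pow_zero]
        exact (by norm_num : 1 ≤ 169).trans (le_max_left _ _)
      · obtain ⟨a, ha, h4⟩ := pow_dvd_list (N := N) (A := A) hp (by omega : 1 ≤ k + 1) hcop
          (by rw [← hP, hPk]; exact dvd_mul_right _ _)
        exact ppow_le h.cla hp hp2 hI h.fpos hrk ((h.ord _).1 (hord a ha p (k + 1) hp (by omega) h4))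
    calc 288 * P = p ^ k * (288 * P') := by rw [hPk]; ring
      _ ≤ max 169 (p ^ f) * R := Nat.mul_le_mul h4 h3

/-- **The product is small**, all classes. -/
theorem prod_leS (h : LS t p f L G) (hI : Fam.Is p f L t) (hp2 : p ≠ 2) (hrk : rk t ≤ 8) (hw8 : wt t 8 ≤ rk t)
    (hw6 : wt t 6 ≤ rk t) {A : List ℕ} {N : ℕ → ℕ}
    (hcop : A.Pairwise (fun a b => Nat.Coprime (N a) (N b))) (h0 : ∀ a ∈ A, N a ≠ 0)
    (h6 : ∀ a ∈ A, Nat.Coprime (N a) 6)
    (hord : ∀ a ∈ A, ∀ y e : ℕ, y.Prime → 1 ≤ e → y ^ e ∣ N a → ∃ g : G, orderOf g = y ^ e) :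
    288 * (A.map N).prod ≤ max 169 (p ^ f) * RR t (p ^ f) := by
  have hp := h.prime
  have hq2 : 2 ≤ p ^ f := by
    calc 2 ≤ p := hp.two_le
      _ = p ^ 1 := (pow_one p).symm
      _ ≤ p ^ f := Nat.pow_le_pow_right hp.pos h.fpos
  refine gen_leS h hI hp2 hrk (RR_ne_zero h.cla hq2) ?_ ?_ ?_ hcop h0 h6 hord
  · intro y e hy h5 hyp _ hx
    obtain ⟨i, hi1, hi2, h3⟩ := lexp h.cla hp hp2 hI hy (by omega) hyp hx
    exact h3.trans (tnum_dvd_RR h.cla hq2 hi1 hi2)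
  · have h1 : (p ^ f) % 2 = 1 := by
      rw [Nat.pow_mod, (hp.eq_two_or_odd).resolve_left hp2, one_pow]
      rfl
    refine (odd_pow8 h1).trans ?_
    rw [← sg_pow_natAbs (t := t) (by omega) (by decide : Even 8)]
    exact natAbs_dvd_RR h.cla (by norm_num) hw8
  · intro hp3
    have h1 : (p ^ f) % 3 ≠ 0 := fun h2 => by
      have h3 := (Nat.prime_three.dvd_of_dvd_pow (Nat.dvd_of_mod_eq_zero h2))
      exact hp3 ((Nat.prime_dvd_prime_iff_eq Nat.prime_three hp).1 h3).symm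
    refine (pow6_nine h1).trans ?_
    rw [← sg_pow_natAbs (t := t) (by omega) (by decide : Even 6)]
    exact natAbs_dvd_RR h.cla (by norm_num) hw6

/-- the product of the values -/
theorem prod_NNS (h : LS t p f L G) (hI : Fam.Is p f L t) (hp2 : p ≠ 2) (hrk : rk t ≤ 8) (hw8 : wt t 8 ≤ rk t)
    (hw6 : wt t 6 ≤ rk t) {A : List ℕ} (hn : A.Nodup) (hA : ∀ a ∈ A, a ∈ clE8 ∧ 3 ≤ a) {u : ℕ} (hu : 2 ≤ u)
    (hord : ∀ a ∈ A, ∀ m : ℕ, Nat.Coprime m 6 → (m : ℤ) ∣ CertTab.cyc a (u : ℤ) → ∃ g : G, orderOf g = m) :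
    288 * (A.map (NN u)).prod ≤ max 169 (p ^ f) * RR t (p ^ f) := by
  refine prod_leS h hI hp2 hrk hw8 hw6 ?_ (fun a ha => NN_ne hu (hA a ha).1 (hA a ha).2)
    (fun a ha => NN_cop6 hu (hA a ha).1 (hA a ha).2 dvd_rfl) ?_
  · refine List.Pairwise.imp_of_mem ?_ hn
    intro a b ha hb hab
    exact NN_cop hu (hA a ha).1 (hA a ha).2 (hA b hb).1 (hA b hb).2 hab
  · intro a ha y e _ _ hm
    exact hord a ha _ (NN_cop6 hu (hA a ha).1 (hA a ha).2 hm) (cast_dvd (hm.trans ⟨GG u a, (NN_mul u a).symm⟩))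

end main

theorem comb_S {u : ℕ} {A : List ℕ} {c B X : ℕ} (h1 : X ≤ (A.map (ZZ u)).prod) (h2 : (A.map (GG u)).prod ≤ c)
    (h3 : 288 * (A.map (NN u)).prod ≤ B) : 288 * X ≤ c * B := by
  rw [prod_map_NN] at h1
  calc 288 * X ≤ 288 * ((A.map (NN u)).prod * (A.map (GG u)).prod) := Nat.mul_le_mul_left _ h1
    _ = (288 * (A.map (NN u)).prod) * (A.map (GG u)).prod := by ring
    _ ≤ B * c := Nat.mul_le_mul h3 h2
    _ = c * B := Nat.mul_comm _ _

section main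

variable {t : Fam} {p f : ℕ} {L : Type w} [Group L] [Finite L] {G : Type u} [Group G] [Finite G]
  {K : Subgroup G} [K.Normal] {S : Subgroup (G ⧸ K)} [S.Normal] {v f' : ℕ}

/-- **`E₆(u)`** -/
theorem bigS6 (h : LS t p f L G) (hI : Fam.Is p f L t) (hp2 : p ≠ 2) (hrk : rk t ≤ 8) (hw8 : wt t 8 ≤ rk t)
    (hw6 : wt t 6 ≤ rk t) (hS : Fam.Is v f' ↥S .e6) :
    288 * (v ^ f') ^ 24 ≤ 180 * (max 169 (p ^ f) * RR t (p ^ f)) := by
  obtain ⟨F, _, _, _, hF, ⟨E⟩⟩ := hS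
  have hu : 2 ≤ v ^ f' := by rw [← hF]; exact Fintype.one_lt_card
  refine comb_S (ZZ6 hu) (GB6 _) (prod_NNS h hI hp2 hrk hw8 hw6 (by decide) (by decide) hu ?_)
  intro a ha m h6 hm
  refine exists_of_S (S := S) ?_
  obtain ⟨x, hx⟩ := ord6 (F := F) (a := a) (m := m)
    ((by decide : ∀ b ∈ [3, 4, 6, 5, 8, 9, 12], b ∈ clE6) a ha) (h6.coprime_dvd_right (by norm_num))
    (by rw [Nat.card_eq_fintype_card, hF]; exact hm)
  exact ⟨E.symm x, by rw [MulEquiv.orderOf_eq, hx]⟩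

theorem te6_two {X : Type u} [Group X] (_hv : v.Prime) (hS : Fam.Is v f' X .te6) : 2 ≤ v ^ f' ∧ 1 ≤ f' := by
  obtain ⟨F, _, _, _, hF, -⟩ := hS
  have hu : 2 ≤ v ^ f' := by
    have h1 := Fintype.one_lt_card (α := F)
    rw [hF] at h1
    by_contra hcon
    have : v ^ f' ≤ 1 := by omega
    have := Nat.pow_le_pow_left this 2
    omega
  refine ⟨hu, ?_⟩
  by_contra hcon
  rw [show f' = 0 by omega, pow_zero] at hu
  omega

/-- **`²E₆(u)`** -/
theorem bigST6 (h : LS t p f L G) (hI : Fam.Is p f L t) (hp2 : p ≠ 2) (hrk : rk t ≤ 8) (hw8 : wt t 8 ≤ rk t)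
    (hw6 : wt t 6 ≤ rk t) (hv : v.Prime) (hS : Fam.Is v f' ↥S .te6) :
    288 * (v ^ f') ^ 24 ≤ 360 * (max 169 (p ^ f) * RR t (p ^ f)) := by
  obtain ⟨hu, hf'⟩ := te6_two hv hS
  obtain ⟨F, _, _, _, hF, ⟨E⟩⟩ := hS
  have hpp : IsPrimePow (v ^ f') := hv.isPrimePow.pow (by omega)
  have h1 := prod_NNS h hI hp2 hrk hw8 hw6 (A := [6, 4, 3, 10, 8, 18, 12]) (by decide) (by decide) hu (by
    intro a ha m h6 hm
    refine exists_of_S (S := S) ?_
    obtain ⟨x, hx⟩ := ordT6 (K := F) (q := v ^ f') hpp hF (a := a) (m := m)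
      ((by decide : ∀ b ∈ [6, 4, 3, 10, 8, 18, 12], b ∈ clTE6) a ha) (h6.coprime_dvd_right (by norm_num)) hm
    exact ⟨E.symm x, by rw [MulEquiv.orderOf_eq, hx]⟩)
  have h2 := ZZT6 hu
  rw [prod_map_NN] at h2
  calc 288 * (v ^ f') ^ 24 ≤ 288 * _ := Nat.mul_le_mul_left _ h2
    _ = 2 * ((288 * ([6, 4, 3, 10, 8, 18, 12].map (NN (v ^ f'))).prod) *
        ([6, 4, 3, 10, 8, 18, 12].map (GG (v ^ f'))).prod) := by ring
    _ ≤ 2 * ((max 169 (p ^ f) * RR t (p ^ f)) * 180) := Nat.mul_le_mul_left _ (Nat.mul_le_mul h1 (GBT6 _))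
    _ = _ := by ring

/-- **`F₄(u)`** -/
theorem bigSF4 (h : LS t p f L G) (hI : Fam.Is p f L t) (hp2 : p ≠ 2) (hrk : rk t ≤ 8) (hw8 : wt t 8 ≤ rk t)
    (hw6 : wt t 6 ≤ rk t) (hS : Fam.Is v f' ↥S .f4) :
    288 * (v ^ f') ^ 14 ≤ 12 * (max 169 (p ^ f) * RR t (p ^ f)) := by
  obtain ⟨F, _, _, _, hF, ⟨E⟩⟩ := hS
  have hu : 2 ≤ v ^ f' := by rw [← hF]; exact Fintype.one_lt_card
  refine comb_S (ZZF4 hu) (GBF4 _) (prod_NNS h hI hp2 hrk hw8 hw6 (by decide) (by decide) hu ?_)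
  intro a ha m _ hm
  refine exists_of_S (S := S) ?_
  obtain ⟨x, hx⟩ := ordF4 (F := F) (a := a) (m := m)
    ((by decide : ∀ b ∈ [3, 4, 6, 8, 12], b ∈ clF4) a ha) (by rw [Nat.card_eq_fintype_card, hF]; exact hm)
  exact ⟨E.symm x, by rw [MulEquiv.orderOf_eq, hx]⟩

end main

end Cfsg.Agent.R2.Spec.EE
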