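import Cfsg.Agent.R2.Spec.EE.Fr
import Cfsg.Agent.R2.Spec.EE.TabDef

/-!
# S3435, EE, `psl 8`, `psu 8` : rows computed by the kernel (helper15)

* `E₆` : the classes 7 and 8 have their values in 8, 9, 12; `²E₆` : in 8, 12, 18; `F₄` : the class 5 in 3, 4, 6.
-/

set_option autoImplicit false
set_option maxRecDepth 1000000

namespace Cfsg.Agent.R2.Spec.EE.SmL8

open Cfsg.Agent.H426.LieFam

/-- the kernel fact -/
def KF (T : Tab) (t : Fam) (i0 m : ℕ) : Prop :=
  (dat T.tbl t (cls3 t)).go (cls3 t).length (st0 T.tbl (cls3 t) (T.domX i0 m)) 0 = false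

theorem k6_psl_7 : KF tabE6 (.psl 8) 7 448 := by unfold KF; decide +kernel
theorem k6_psl_8 : KF tabE6 (.psl 8) 8 448 := by unfold KF; decide +kernel
theorem k6_psu_7 : KF tabE6 (.psu 8) 7 448 := by unfold KF; decide +kernel
theorem k6_psu_8 : KF tabE6 (.psu 8) 8 448 := by unfold KF; decide +kernel
theorem kt_psl_7 : KF tabTE6 (.psl 8) 7 416 := by unfold KF; decide +kernel
theorem kt_psl_8 : KF tabTE6 (.psl 8) 8 416 := by unfold KF; decide +kernel
theorem kt_psu_7 : KF tabTE6 (.psu 8) 7 416 := by unfold KF; decide +kernel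
theorem kt_psu_8 : KF tabTE6 (.psu 8) 8 416 := by unfold KF; decide +kernel
theorem kf_psl_5 : KF tabF4 (.psl 8) 5 28 := by unfold KF; decide +kernel
theorem kf_psu_5 : KF tabF4 (.psu 8) 5 28 := by unfold KF; decide +kernel

end Cfsg.Agent.R2.Spec.EE.SmL8
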