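import Cfsg.Agent.R2.Spec.EE.SmB7

/-!
# Small rank, `psl 8`, `psu 8`, `S = E₆(u), ²E₆(u), F₄(u)` : the numbers (helper15)
-/

set_option autoImplicit false
set_option maxRecDepth 100000

namespace Cfsg.Agent.R2.Spec.EE.SmL8

open Polynomial
open Cfsg.Agent.H365.Zsig Cfsg.Agent.H426.LieFam Cfsg.Agent.R2.Spec Cfsg.Agent.R2.Spec.P1 Cfsg.Agent.R2.Spec.F1
open NumAr NumA

/-! ### values -/

theorem ph_ev {n q : ℕ} (hq : 1 ≤ q) (hn : n ∈ [1, 2, 3, 4, 5, 6, 7, 8, 9, 10, 11, 12, 13, 14, 16, 18, 20]) :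
    ((Ph n q : ℕ) : ℤ) = NumPoly.ev (NumPoly.cl n) (q : ℤ) := by
  rw [← Ph_cast hq, NumPoly.cl_pos hn (Int.natCast_nonneg q)]

theorem ph8 {u : ℕ} (hu : 1 ≤ u) : Ph 8 u = u ^ 4 + 1 := by
  zify
  rw [ph_ev hu (by decide)]
  simp only [NumPoly.cl, NumPoly.ev]
  ring

theorem ph12 {u : ℕ} (hu : 1 ≤ u) : Ph 12 u = u ^ 4 - u ^ 2 + 1 := by
  have h1 : u ^ 2 ≤ u ^ 4 := Nat.pow_le_pow_right hu (by norm_num)
  zify [h1]
  rw [ph_ev hu (by decide)]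
  simp only [NumPoly.cl, NumPoly.ev]
  ring

theorem ph9 {u : ℕ} (hu : 1 ≤ u) : Ph 9 u = u ^ 6 + u ^ 3 + 1 := by
  zify
  rw [ph_ev hu (by decide)]
  simp only [NumPoly.cl, NumPoly.ev]
  ring

theorem ph18 {u : ℕ} (hu : 1 ≤ u) : Ph 18 u = u ^ 6 - u ^ 3 + 1 := by
  have h1 : u ^ 3 ≤ u ^ 6 := Nat.pow_le_pow_right hu (by norm_num)
  zify [h1]
  rw [ph_ev hu (by decide)]
  simp only [NumPoly.cl, NumPoly.ev]
  ring

theorem ph346 {u a : ℕ} (ha : a = 3 ∨ a = 4 ∨ a = 6) (hu : 1 ≤ u) : Ph a u ≤ u ^ 2 + u + 1 := by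
  have h2 : (1 : ℤ) ≤ u := by exact_mod_cast hu
  rcases ha with rfl | rfl | rfl <;>
  · zify
    rw [ph_ev hu (by decide)]
    simp only [NumPoly.cl, NumPoly.ev]
    nlinarith

theorem pm8 {q : ℕ} (hq : q % 2 = 1) : 2 * Pm 8 q = q ^ 4 + 1 := by
  have h1 := Ph_eq_mul 8 q
  rw [ph8 (by omega)] at h1
  have h2 : (q ^ 4 + 1) % 8 = 2 := by
    have h3 : q % 8 = 1 ∨ q % 8 = 3 ∨ q % 8 = 5 ∨ q % 8 = 7 := by omega
    rcases h3 with h3 | h3 | h3 | h3 <;> simp [Nat.add_mod, Nat.pow_mod, h3]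
  have h3 : Nat.gcd (q ^ 4 + 1) 8 = 2 := by
    rw [Nat.gcd_comm, Nat.gcd_rec, h2]
    norm_num
  rw [h3] at h1
  exact h1.symm

theorem pm7 {n q : ℕ} (hn : n = 7 ∨ n = 14) (hq : q % 2 = 1) (hq3 : 3 ≤ q) : 3 * q ^ 6 ≤ 28 * Pm n q := by
  have h1 := Ph_eq_mul n q
  have hlow : 3 * q ^ 6 ≤ 4 * Ph n q := by
    rcases hn with rfl | rfl
    · have := low7 (q := q)
      omega
    · exact low14 hq3
  have hg : Nat.gcd (Ph n q) n ≤ 7 := by
    rcases hn with rfl | rfl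
    · exact Nat.le_of_dvd (by norm_num) (Nat.gcd_dvd_right _ _)
    · have h2 : Nat.Coprime (Ph 14 q) 2 := by
        rw [Nat.coprime_comm, (Nat.Prime.coprime_iff_not_dvd Nat.prime_two)]
        intro h3
        have h4 : ((2 : ℕ) : ℤ) ∣ ((Ph 14 q : ℕ) : ℤ) := Int.natCast_dvd_natCast.2 h3
        rw [ph_ev (by omega) (by decide)] at h4
        simp only [NumPoly.cl, NumPoly.ev] at h4
        obtain ⟨k, hk⟩ : ∃ k : ℤ, (q : ℤ) = 2 * k + 1 := ⟨(q / 2 : ℕ), by omega⟩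
        rw [hk] at h4
        have h5 : (1 : ℤ) + (2 * k + 1) * (-1 + (2 * k + 1) * (1 + (2 * k + 1) * (-1 + (2 * k + 1) * (1 + (2 * k + 1) *
            (-1 + (2 * k + 1) * (1 + (2 * k + 1) * 0)))))) = 2 * (32 * k ^ 6 + 80 * k ^ 5 + 88 * k ^ 4 + 52 * k ^ 3 +
              18 * k ^ 2 + 3 * k) + 1 := by ring
        rw [h5] at h4
        omega
      have h3 : Nat.gcd (Ph 14 q) (2 * 7) = Nat.gcd (Ph 14 q) 7 := Nat.Coprime.gcd_mul_left_cancel_right 7 h2.symm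
      rw [show (14 : ℕ) = 2 * 7 by norm_num] at *
      rw [h3]
      exact Nat.le_of_dvd (by norm_num) (Nat.gcd_dvd_right _ _)
  calc 3 * q ^ 6 ≤ 4 * Ph n q := hlow
    _ = 4 * (Nat.gcd (Ph n q) n * Pm n q) := by rw [← h1]
    _ ≤ 4 * (7 * Pm n q) := Nat.mul_le_mul_left _ (Nat.mul_le_mul_right _ hg)
    _ = 28 * Pm n q := by ring

/-- the primitive parts of two classes -/
theorem pm_cop {n m q : ℕ} (hn : 3 ≤ n) (hm : 3 ≤ m) (hne : n ≠ m) (hq : 2 ≤ q) : Nat.Coprime (Pm n q) (Pm m q) :=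
  Nat.coprime_of_dvd fun r hr h1 h2 => hne ((Pm_ord hn hq hr h1).symm.trans (Pm_ord hm hq hr h2))

/-! ### the box of the class 8 -/

/-- the box -/
def box8 : Bool :=
  (List.range 145).all fun k => (List.range 242).all fun u =>
    !(Nat.ble 2 u && (Nat.beq (Nat.gcd u (2 * k + 1)) 1 &&
      (Nat.ble (4 * u ^ 24) (15 * (Nat.max 169 (2 * k + 1) * (2 * k + 1) ^ 22)) &&
        (Nat.beq (2 * (u ^ 4 + 1) % ((2 * k + 1) ^ 4 + 1)) 0 ||
          Nat.beq (2 * (u ^ 4 - u ^ 2 + 1) % ((2 * k + 1) ^ 4 + 1)) 0))))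

theorem box8_true : box8 = true := by decide +kernel

/-- **The class 8 is not in the classes 8, 12 of `S`.** -/
theorem no_812 {u q a : ℕ} (hq : q % 2 = 1) (hq3 : 3 ≤ q) (hu : 2 ≤ u) (hc : Nat.gcd u q = 1)
    (hB : 4 * u ^ 24 ≤ 15 * (max 169 q * q ^ 22)) (ha : a = 8 ∨ a = 12) (hd : Pm 8 q ∣ Ph a u) : False := by
  have hle : Ph a u ≤ u ^ 4 + 1 := by
    rcases ha with rfl | rfl
    · exact (ph8 (by omega)).le
    · rw [ph12 (by omega)]
      omega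
  have hpos : 0 < Ph a u := by
    rcases ha with rfl | rfl
    · rw [ph8 (by omega)]; omega
    · rw [ph12 (by omega)]; omega
  have h1 := Nat.le_of_dvd hpos hd
  have h2 := pm8 hq
  have h3 : 2 ^ 4 ≤ u ^ 4 := Nat.pow_le_pow_left hu 4
  have h4 : 16 * q ^ 4 ≤ 33 * u ^ 4 := by omega
  have h5 : (16 * q ^ 4) ^ 6 ≤ (33 * u ^ 4) ^ 6 := Nat.pow_le_pow_left h4 6
  have h6 : 4 * 16 ^ 6 * q ^ 24 ≤ 33 ^ 6 * 15 * (max 169 q * q ^ 22) := by
    calc 4 * 16 ^ 6 * q ^ 24 = 4 * (16 * q ^ 4) ^ 6 := by ring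
      _ ≤ 4 * (33 * u ^ 4) ^ 6 := Nat.mul_le_mul_left _ h5
      _ = 33 ^ 6 * (4 * u ^ 24) := by ring
      _ ≤ 33 ^ 6 * (15 * (max 169 q * q ^ 22)) := Nat.mul_le_mul_left _ hB
      _ = _ := by ring
  have hqb : q < 289 := by
    by_contra hcon
    push Not at hcon
    rw [max_eq_right (by omega : 169 ≤ q)] at h6
    have h7 : 4 * 16 ^ 6 * q * q ^ 23 ≤ 33 ^ 6 * 15 * q ^ 23 := by
      calc 4 * 16 ^ 6 * q * q ^ 23 = 4 * 16 ^ 6 * q ^ 24 := by ring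
        _ ≤ _ := h6
        _ = 33 ^ 6 * 15 * q ^ 23 := by ring
    have h8 := Nat.le_of_mul_le_mul_right h7 (Nat.pow_pos (by omega))
    have h9 : 4 * 16 ^ 6 * 289 ≤ 4 * 16 ^ 6 * q := Nat.mul_le_mul_left _ hcon
    norm_num at h8 h9
    omega
  have hub : u < 242 := by
    by_contra hcon
    push Not at hcon
    have h7 : 4 * 242 ^ 24 ≤ 4 * u ^ 24 := Nat.mul_le_mul_left _ (Nat.pow_le_pow_left hcon 24)
    have h8 : max 169 q ≤ 288 := max_le (by norm_num) (by omega)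
    have h9 : 15 * (max 169 q * q ^ 22) ≤ 15 * (288 * 288 ^ 22) :=
      Nat.mul_le_mul_left _ (Nat.mul_le_mul h8 (Nat.pow_le_pow_left (by omega) 22))
    have h10 := (h7.trans hB).trans h9
    norm_num at h10
  have hb := box8_true
  rw [box8, List.all_eq_true] at hb
  have hb1 := hb (q / 2) (List.mem_range.2 (by omega))
  rw [List.all_eq_true] at hb1
  have hb2 := hb1 u (List.mem_range.2 hub)
  have hqk : 2 * (q / 2) + 1 = q := by omega
  rw [hqk] at hb2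
  have hd2 : (Nat.beq (2 * (u ^ 4 + 1) % (q ^ 4 + 1)) 0 || Nat.beq (2 * (u ^ 4 - u ^ 2 + 1) % (q ^ 4 + 1)) 0) = true := by
    rw [Bool.or_eq_true, Nat.beq_eq, Nat.beq_eq]
    have hd3 : q ^ 4 + 1 ∣ 2 * Ph a u := by
      rw [← h2]
      exact Nat.mul_dvd_mul_left 2 hd
    rcases ha with rfl | rfl
    · rw [ph8 (by omega)] at hd3
      exact Or.inl (Nat.mod_eq_zero_of_dvd hd3)
    · rw [ph12 (by omega)] at hd3
      exact Or.inr (Nat.mod_eq_zero_of_dvd hd3)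
  have hB' : Nat.ble (4 * u ^ 24) (15 * (Nat.max 169 q * q ^ 22)) = true := Nat.ble_eq.mpr hB
  rw [Bool.not_eq_true', (Nat.ble_eq (x := 2) (y := u)).mpr hu, (Nat.beq_eq (x := Nat.gcd u q) (y := 1)).mpr hc,
    hB', hd2] at hb2
  exact Bool.noConfusion hb2

/-- from a divisibility of integers -/
theorem dvd_ph {M a u : ℕ} (h : (M : ℤ) ∣ (cyclotomic a ℤ).eval ((u : ℕ) : ℤ)) : M ∣ Ph a u := Int.natCast_dvd.1 h

/-- **The numbers, `E₆` and `²E₆`.** -/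
theorem num_e6 {u q n a b z : ℕ} (hn : n = 7 ∨ n = 14) (hz : z = 9 ∨ z = 18) (hq : q % 2 = 1) (hq3 : 3 ≤ q)
    (hu : 2 ≤ u) (hc : Nat.gcd u q = 1) (hB : 4 * u ^ 24 ≤ 15 * (max 169 q * q ^ 22))
    (ha : (a = 8 ∨ a = 12) ∨ a = z) (hda : Pm n q ∣ Ph a u) (hb : (b = 8 ∨ b = 12) ∨ b = z) (hdb : Pm 8 q ∣ Ph b u) :
    False := by
  have hbz : b = z := by
    rcases hb with hb | hb
    · exact (no_812 hq hq3 hu hc hB hb hdb).elim
    · exact hb
  have hu4 : 2 ^ 4 ≤ u ^ 4 := Nat.pow_le_pow_left hu 4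
  have h812 : ∀ c, (c = 8 ∨ c = 12) → 0 < Ph c u ∧ Ph c u ≤ u ^ 4 + 1 := by
    intro c hc
    rcases hc with rfl | rfl
    · rw [ph8 (by omega)]; exact ⟨by omega, le_rfl⟩
    · rw [ph12 (by omega)]; exact ⟨by omega, by omega⟩
  have hzz : 0 < Ph z u ∧ Ph z u ≤ u ^ 6 + u ^ 3 + 1 := by
    rcases hz with rfl | rfl
    · rw [ph9 (by omega)]; exact ⟨by omega, le_rfl⟩
    · rw [ph18 (by omega)]; exact ⟨by omega, by omega⟩
  have h7 := pm7 hn hq hq3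
  -- `q = 3`
  have hq5 : 5 ≤ q := by
    by_contra hcon
    have hq3' : q = 3 := by omega
    subst hq3'
    have hu3 : u < 4 := by
      by_contra hcon2
      push Not at hcon2
      have h1 : 4 * 4 ^ 24 ≤ 4 * u ^ 24 := Nat.mul_le_mul_left _ (Nat.pow_le_pow_left hcon2 24)
      have h2 := h1.trans hB
      rw [max_eq_left (by norm_num)] at h2
      norm_num at h2
    have hu2 : u = 2 := by
      have : u = 2 ∨ u = 3 := by omega
      rcases this with h | h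
      · exact h
      · rw [h] at hc
        norm_num at hc
    subst hu2
    have h1 : Ph a 2 ≤ 73 ∧ 0 < Ph a 2 := by
      rcases ha with ha | ha
      · have := h812 a ha
        norm_num at this
        omega
      · rw [ha]
        norm_num at hzz
        omega
    have h2 := (Nat.le_of_dvd h1.2 hda).trans h1.1
    norm_num at h7
    omega
  have hmax : max 169 q ≤ 34 * q := max_le (by omega) (by omega)
  have hB' : 4 * u ^ 24 ≤ 510 * q ^ 23 := by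
    calc 4 * u ^ 24 ≤ 15 * (max 169 q * q ^ 22) := hB
      _ ≤ 15 * (34 * q * q ^ 22) := Nat.mul_le_mul_left _ (Nat.mul_le_mul_right _ hmax)
      _ = 510 * q ^ 23 := by ring
  rcases ha with ha | ha
  · -- `q ^ 6` and `u ^ 4`
    have h1 := (Nat.le_of_dvd (h812 a ha).1 hda).trans (h812 a ha).2
    have h2 : 12 * q ^ 6 ≤ 119 * u ^ 4 := by omega
    have h3 : (12 * q ^ 6) ^ 6 ≤ (119 * u ^ 4) ^ 6 := Nat.pow_le_pow_left h2 6
    have h4 : 4 * 12 ^ 6 * q ^ 13 * q ^ 23 ≤ 119 ^ 6 * 510 * q ^ 23 := by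
      calc 4 * 12 ^ 6 * q ^ 13 * q ^ 23 = 4 * (12 * q ^ 6) ^ 6 := by ring
        _ ≤ 4 * (119 * u ^ 4) ^ 6 := Nat.mul_le_mul_left _ h3
        _ = 119 ^ 6 * (4 * u ^ 24) := by ring
        _ ≤ 119 ^ 6 * (510 * q ^ 23) := Nat.mul_le_mul_left _ hB'
        _ = _ := by ring
    have h5 := Nat.le_of_mul_le_mul_right h4 (Nat.pow_pos (by omega))
    have h6 : 4 * 12 ^ 6 * 5 ^ 13 ≤ 4 * 12 ^ 6 * q ^ 13 := Nat.mul_le_mul_left _ (Nat.pow_le_pow_left hq5 13)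
    have h8 := h6.trans h5
    norm_num at h8
  · -- the same class
    rw [ha] at hda
    rw [hbz] at hdb
    have hcop : Nat.Coprime (Pm n q) (Pm 8 q) :=
      pm_cop (by omega) (by norm_num) (by omega) (by omega)
    have h1 : Pm n q * Pm 8 q ∣ Ph z u := hcop.mul_dvd_of_dvd_of_dvd hda hdb
    have h2 := (Nat.le_of_dvd hzz.1 h1).trans hzz.2
    have h3 := pm8 hq
    have h4 : u ^ 6 + u ^ 3 + 1 ≤ 2 * u ^ 6 := by
      have h5 : u ^ 6 = u ^ 3 * u ^ 3 := by ring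
      have h6 : 2 ^ 3 ≤ u ^ 3 := Nat.pow_le_pow_left hu 3
      nlinarith
    have h5 : 3 * q ^ 10 ≤ 112 * u ^ 6 := by
      calc 3 * q ^ 10 = 3 * q ^ 6 * q ^ 4 := by ring
        _ ≤ 28 * Pm n q * (2 * Pm 8 q) := Nat.mul_le_mul h7 (by omega)
        _ = 56 * (Pm n q * Pm 8 q) := by ring
        _ ≤ 56 * (2 * u ^ 6) := Nat.mul_le_mul_left _ (h2.trans h4)
        _ = 112 * u ^ 6 := by ring
    have h6 : (3 * q ^ 10) ^ 4 ≤ (112 * u ^ 6) ^ 4 := Nat.pow_le_pow_left h5 4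
    have h8 : 4 * 3 ^ 4 * q ^ 17 * q ^ 23 ≤ 112 ^ 4 * 510 * q ^ 23 := by
      calc 4 * 3 ^ 4 * q ^ 17 * q ^ 23 = 4 * (3 * q ^ 10) ^ 4 := by ring
        _ ≤ 4 * (112 * u ^ 6) ^ 4 := Nat.mul_le_mul_left _ h6
        _ = 112 ^ 4 * (4 * u ^ 24) := by ring
        _ ≤ 112 ^ 4 * (510 * q ^ 23) := Nat.mul_le_mul_left _ hB'
        _ = _ := by ring
    have h9 := Nat.le_of_mul_le_mul_right h8 (Nat.pow_pos (by omega))
    have h10 : 4 * 3 ^ 4 * 5 ^ 17 ≤ 4 * 3 ^ 4 * q ^ 17 := Nat.mul_le_mul_left _ (Nat.pow_le_pow_left hq5 17)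
    have h11 := h10.trans h9
    norm_num at h11

/-! ### `F₄` -/

/-- the box -/
def box5 : Bool :=
  (List.range 17).all fun k => (List.range 303).all fun u =>
    !(Nat.ble 1 k && (Nat.ble 2 u && (Nat.beq (Nat.gcd u (2 * k + 1)) 1 &&
      (Nat.ble (8 * u ^ 14) (169 * (2 * k + 1) ^ 22) &&
        ([3, 4, 6].any fun a => [5, 10].any fun n =>
          Nat.beq (pc a u % (pc n (2 * k + 1) / Nat.gcd (pc n (2 * k + 1)) n)) 0)))))

theorem box5_true : box5 = true := by decide +kernel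

/-- **The numbers, `F₄`.** -/
theorem num_f4 {u q n a : ℕ} (hn : n = 5 ∨ n = 10) (hq : q % 2 = 1) (hq3 : 3 ≤ q)
    (hu : 2 ≤ u) (hc : Nat.gcd u q = 1) (hB : 8 * u ^ 14 ≤ max 169 q * q ^ 22)
    (ha : a = 3 ∨ a = 4 ∨ a = 6) (hda : Pm n q ∣ Ph a u) : False := by
  have h0 := ph346 ha (by omega : 1 ≤ u)
  have hpos : 0 < Ph a u := by
    rcases Nat.eq_zero_or_pos (Ph a u) with h | h
    · exfalso
      have h1 := Ph_cast (n := a) (by omega : 1 ≤ u)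
      rw [h] at h1
      have h2 := cyclotomic_pos' a (R := ℤ) (x := (u : ℤ)) (by exact_mod_cast (by omega : 1 < u))
      rw [h1] at h2
      exact absurd h2 (by norm_num)
    · exact h
  have h1 := (Nat.le_of_dvd hpos hda).trans h0
  have hlow : 2 * q ^ 4 ≤ 3 * Ph n q := by
    rcases hn with rfl | rfl
    · have := low5 (q := q)
      omega
    · exact low10 hq3
  have hodd10 : n = 10 → Nat.Coprime (Ph n q) 2 := by
    rintro rfl
    rw [Nat.coprime_comm, (Nat.Prime.coprime_iff_not_dvd Nat.prime_two)]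
    intro h3
    have h4 : ((2 : ℕ) : ℤ) ∣ ((Ph 10 q : ℕ) : ℤ) := Int.natCast_dvd_natCast.2 h3
    rw [ph_ev (by omega) (by decide)] at h4
    simp only [NumPoly.cl, NumPoly.ev] at h4
    obtain ⟨k, hk⟩ : ∃ k : ℤ, (q : ℤ) = 2 * k + 1 := ⟨(q / 2 : ℕ), by omega⟩
    rw [hk] at h4
    have h5 : (1 : ℤ) + (2 * k + 1) * (-1 + (2 * k + 1) * (1 + (2 * k + 1) * (-1 + (2 * k + 1) * (1 + (2 * k + 1) * 0)))) =
      2 * (8 * k ^ 4 + 12 * k ^ 3 + 8 * k ^ 2 + 2 * k) + 1 := by ring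
    rw [h5] at h4
    omega
  have hg : Nat.gcd (Ph n q) n ≤ 5 := by
    rcases hn with rfl | rfl
    · exact Nat.le_of_dvd (by norm_num) (Nat.gcd_dvd_right _ _)
    · have h3 : Nat.gcd (Ph 10 q) (2 * 5) = Nat.gcd (Ph 10 q) 5 := Nat.Coprime.gcd_mul_left_cancel_right 5 (hodd10 rfl).symm
      rw [show (2 : ℕ) * 5 = 10 by norm_num] at h3
      rw [h3]
      exact Nat.le_of_dvd (by norm_num) (Nat.gcd_dvd_right _ _)
  have h2 : 2 * q ^ 4 ≤ 15 * Pm n q := by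
    calc 2 * q ^ 4 ≤ 3 * Ph n q := hlow
      _ = 3 * (Nat.gcd (Ph n q) n * Pm n q) := by rw [← Ph_eq_mul n q]
      _ ≤ 3 * (5 * Pm n q) := Nat.mul_le_mul_left _ (Nat.mul_le_mul_right _ hg)
      _ = 15 * Pm n q := by ring
  have h3 : 8 * q ^ 4 ≤ 105 * u ^ 2 := by nlinarith
  have h4 : (8 * q ^ 4) ^ 7 ≤ (105 * u ^ 2) ^ 7 := Nat.pow_le_pow_left h3 7
  have h5 : 8 ^ 8 * q ^ 6 * q ^ 22 ≤ 105 ^ 7 * max 169 q * q ^ 22 := by
    calc 8 ^ 8 * q ^ 6 * q ^ 22 = 8 * (8 * q ^ 4) ^ 7 := by ring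
      _ ≤ 8 * (105 * u ^ 2) ^ 7 := Nat.mul_le_mul_left _ h4
      _ = 105 ^ 7 * (8 * u ^ 14) := by ring
      _ ≤ 105 ^ 7 * (max 169 q * q ^ 22) := Nat.mul_le_mul_left _ hB
      _ = _ := by ring
  have h6 := Nat.le_of_mul_le_mul_right h5 (Nat.pow_pos (by omega))
  have hqb : q < 34 := by
    by_contra hcon
    push Not at hcon
    rcases le_total q 169 with h7 | h7
    · rw [max_eq_left h7] at h6
      have h8 : 8 ^ 8 * 34 ^ 6 ≤ 8 ^ 8 * q ^ 6 := Nat.mul_le_mul_left _ (Nat.pow_le_pow_left hcon 6)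
      have h9 := h8.trans h6
      norm_num at h9
    · rw [max_eq_right h7] at h6
      have h8 : 8 ^ 8 * q ^ 5 * q ≤ 105 ^ 7 * q := by
        calc 8 ^ 8 * q ^ 5 * q = 8 ^ 8 * q ^ 6 := by ring
          _ ≤ _ := h6
      have h9 := Nat.le_of_mul_le_mul_right h8 (by omega)
      have h10 : 8 ^ 8 * 34 ^ 5 ≤ 8 ^ 8 * q ^ 5 := Nat.mul_le_mul_left _ (Nat.pow_le_pow_left hcon 5)
      have h11 := h10.trans h9
      norm_num at h11
  rw [max_eq_left (by omega : q ≤ 169)] at hB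
  have hub : u < 303 := by
    by_contra hcon
    push Not at hcon
    have h7 : 8 * 303 ^ 14 ≤ 8 * u ^ 14 := Nat.mul_le_mul_left _ (Nat.pow_le_pow_left hcon 14)
    have h9 : 169 * q ^ 22 ≤ 169 * 33 ^ 22 :=
      Nat.mul_le_mul_left _ (Nat.pow_le_pow_left (by omega) 22)
    have h10 := (h7.trans hB).trans h9
    norm_num at h10
  have hb := box5_true
  rw [box5, List.all_eq_true] at hb
  have hb1 := hb (q / 2) (List.mem_range.2 (by omega))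
  rw [List.all_eq_true] at hb1
  have hb2 := hb1 u (List.mem_range.2 hub)
  have hqk : 2 * (q / 2) + 1 = q := by omega
  rw [hqk] at hb2
  have hda' : Nat.beq (pc a u % (pc n q / Nat.gcd (pc n q) n)) 0 = true := by
    rw [Nat.beq_eq]
    have ha' : a ∈ [1, 2, 3, 4, 5, 6, 7, 8, 9, 10, 11, 12, 13, 14, 16, 18, 20] := by
      rcases ha with rfl | rfl | rfl <;> decide
    have hn' : n ∈ [1, 2, 3, 4, 5, 6, 7, 8, 9, 10, 11, 12, 13, 14, 16, 18, 20] := by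
      rcases hn with rfl | rfl <;> decide
    rw [← Ph_pc ha', ← Ph_pc hn']
    exact Nat.mod_eq_zero_of_dvd hda
  have hd2 : ([3, 4, 6].any fun a => [5, 10].any fun n => Nat.beq (pc a u % (pc n q / Nat.gcd (pc n q) n)) 0) = true := by
    rw [List.any_eq_true]
    refine ⟨a, by simpa using ha, ?_⟩
    rw [List.any_eq_true]
    exact ⟨n, by simpa using hn, hda'⟩
  rw [Bool.not_eq_true', (Nat.ble_eq (x := 1) (y := q / 2)).mpr (by omega), (Nat.ble_eq (x := 2) (y := u)).mpr hu,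
    (Nat.beq_eq (x := Nat.gcd u q) (y := 1)).mpr hc, Nat.ble_eq.mpr hB, hd2] at hb2
  exact Bool.noConfusion hb2

end Cfsg.Agent.R2.Spec.EE.SmL8
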