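import Cfsg.Agent.R2.Spec.EE.Ord
import Cfsg.Agent.H168.ExcF4

/-!
# S3435, EE, packet ORD (helper8): elements of order `m ∣ Φ_a(q)` in `F₄(q)`

`ordF4`.
-/

set_option autoImplicit false
set_option linter.unusedSectionVars false

namespace Cfsg.Agent.R2.Spec.EE

open Cfsg Cfsg.Lie Cfsg.Agent Cfsg.Agent.H493

universe u

/-- **Elements of order `m ∣ Φ_a(q)` in `chevF4`.** -/
theorem ordF4 {F : Type u} [Field F] [Finite F] {a m : ℕ} (ha : a ∈ clF4)
    (hm : (m : ℤ) ∣ CertTab.cyc a (Nat.card F)) : ∃ x : chevF4.group F, orderOf x = m := by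
  have := PGF4.finW
  simp only [clF4, List.mem_cons, List.not_mem_nil, or_false] at ha
  rcases ha with rfl | rfl | rfl | rfl | rfl | rfl | rfl
  · exact ord_of_eig PGF4.hp CoxeterMatrix.F₄.toCoxeterSystem H129.TorusChar.invC_F4 one_ne_zero
      (H129.WData.chain_rep PGF4.hp CoxeterMatrix.F₄.toCoxeterSystem PGF4.hA H168.ExcF4.ch1_ok) H168.ExcF4.eig_1
      (Nat.coprime_one_right m) hm
  · exact ord_of_eig PGF4.hp CoxeterMatrix.F₄.toCoxeterSystem H129.TorusChar.invC_F4 one_ne_zero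
      (H129.WData.chain_rep PGF4.hp CoxeterMatrix.F₄.toCoxeterSystem PGF4.hA H168.ExcF4.ch2_ok) H168.ExcF4.eig_2
      (Nat.coprime_one_right m) hm
  · exact ord_of_eig PGF4.hp CoxeterMatrix.F₄.toCoxeterSystem H129.TorusChar.invC_F4 one_ne_zero
      (H129.WData.chain_rep PGF4.hp CoxeterMatrix.F₄.toCoxeterSystem PGF4.hA H168.ExcF4.ch3_ok) H168.ExcF4.eig_3
      (Nat.coprime_one_right m) hm
  · exact ord_of_eig PGF4.hp CoxeterMatrix.F₄.toCoxeterSystem H129.TorusChar.invC_F4 one_ne_zero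
      (H129.WData.chain_rep PGF4.hp CoxeterMatrix.F₄.toCoxeterSystem PGF4.hA H168.ExcF4.ch4_ok) H168.ExcF4.eig_4
      (Nat.coprime_one_right m) hm
  · exact ord_of_eig PGF4.hp CoxeterMatrix.F₄.toCoxeterSystem H129.TorusChar.invC_F4 one_ne_zero
      (H129.WData.chain_rep PGF4.hp CoxeterMatrix.F₄.toCoxeterSystem PGF4.hA H168.ExcF4.ch6_ok) H168.ExcF4.eig_6
      (Nat.coprime_one_right m) hm
  · exact ord_of_eig PGF4.hp CoxeterMatrix.F₄.toCoxeterSystem H129.TorusChar.invC_F4 one_ne_zero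
      (H129.WData.chain_rep PGF4.hp CoxeterMatrix.F₄.toCoxeterSystem PGF4.hA H168.ExcF4.ch8_ok) H168.ExcF4.eig_8
      (Nat.coprime_one_right m) hm
  · exact ord_of_eig PGF4.hp CoxeterMatrix.F₄.toCoxeterSystem H129.TorusChar.invC_F4 one_ne_zero
      (H129.WData.chain_rep PGF4.hp CoxeterMatrix.F₄.toCoxeterSystem PGF4.hA H168.ExcF4.ch12_ok) H168.ExcF4.eig_12
      (Nat.coprime_one_right m) hm

end Cfsg.Agent.R2.Spec.EE
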