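import Cfsg.Agent.R2.Spec.EE.NumB
import Cfsg.Agent.R2.Spec.EE.OrdT
import Cfsg.Agent.R2.Spec.EE.OrdF

/-!
# S3435, EE-NUM, part (B) (helper8): the values for the exceptional groups

* `ev_a` : the values of the cyclotomic polynomials; `cyc_eq`;
* `NN u a` : `Φ_a(u)` without its prime dividing `a`; `prod_NN`;
* `bigB8`, `bigB7`, `bigB6`, `bigBT6`, `bigBF4`.
-/

set_option autoImplicit false
set_option linter.unusedSectionVars false
set_option linter.unusedTactic false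
set_option maxHeartbeats 1000000

namespace Cfsg.Agent.R2.Spec.EE

open Cfsg Cfsg.Lie Cfsg.Agent.H426.LieFam Cfsg.Agent.R2.Spec Cfsg.Agent.R2.Spec.P1 Cfsg.Agent.R2.Spec.F1
open Cfsg.Agent.H493 Cfsg.Agent.H493.PGCyc

universe u w

section ev

variable {q : ℤ}

theorem ev_ne (hq : 2 ≤ q) {d : ℕ} (hd : 1 ≤ d) : (Polynomial.cyclotomic d ℤ).eval q ≠ 0 := by
  intro h
  have h1 := prod_eval d hd q
  rw [Finset.prod_eq_zero (Nat.mem_divisors_self d (by omega)) h] at h1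
  have h2 : (2 : ℤ) ^ 1 ≤ q ^ d :=
    (pow_le_pow_right₀ (by norm_num) hd).trans (pow_le_pow_left₀ (by norm_num) hq d)
  omega


theorem ev_1 : (Polynomial.cyclotomic 1 ℤ).eval q = q - 1 := by
  simp [Polynomial.cyclotomic_one]


theorem ev_2 (hq : 2 ≤ q) : (Polynomial.cyclotomic 2 ℤ).eval q = q + 1 := by
  have h := prod_eval 2 (by norm_num) q
  rw [show Nat.divisors 2 = {1, 2} by decide +kernel] at h
  rw [Finset.prod_insert (by decide), Finset.prod_singleton] at h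
  have e1 := ev_1 (q := q)
  have n1 := ev_ne hq (d := 1) (by norm_num)
  rw [e1] at h
  rw [e1] at n1
  refine mul_left_cancel₀ n1 ?_
  linear_combination h

theorem ev_3 (hq : 2 ≤ q) : (Polynomial.cyclotomic 3 ℤ).eval q = q ^ 2 + q + 1 := by
  have h := prod_eval 3 (by norm_num) q
  rw [show Nat.divisors 3 = {1, 3} by decide +kernel] at h
  rw [Finset.prod_insert (by decide), Finset.prod_singleton] at h
  have e1 := ev_1 (q := q)
  have n1 := ev_ne hq (d := 1) (by norm_num)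
  rw [e1] at h
  rw [e1] at n1
  refine mul_left_cancel₀ n1 ?_
  linear_combination h

theorem ev_4 (hq : 2 ≤ q) : (Polynomial.cyclotomic 4 ℤ).eval q = q ^ 2 + 1 := by
  have h := prod_eval 4 (by norm_num) q
  rw [show Nat.divisors 4 = {1, 2, 4} by decide +kernel] at h
  rw [Finset.prod_insert (by decide), Finset.prod_insert (by decide), Finset.prod_singleton] at h
  have e1 := ev_1 (q := q)
  have e2 := ev_2 hq
  have n1 := ev_ne hq (d := 1) (by norm_num)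
  have n2 := ev_ne hq (d := 2) (by norm_num)
  rw [e1, e2] at h
  rw [e1] at n1
  rw [e2] at n2
  refine mul_left_cancel₀ n1 ?_
  refine mul_left_cancel₀ n2 ?_
  linear_combination h

theorem ev_5 (hq : 2 ≤ q) : (Polynomial.cyclotomic 5 ℤ).eval q = q ^ 4 + q ^ 3 + q ^ 2 + q + 1 := by
  have h := prod_eval 5 (by norm_num) q
  rw [show Nat.divisors 5 = {1, 5} by decide +kernel] at h
  rw [Finset.prod_insert (by decide), Finset.prod_singleton] at h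
  have e1 := ev_1 (q := q)
  have n1 := ev_ne hq (d := 1) (by norm_num)
  rw [e1] at h
  rw [e1] at n1
  refine mul_left_cancel₀ n1 ?_
  linear_combination h

theorem ev_6 (hq : 2 ≤ q) : (Polynomial.cyclotomic 6 ℤ).eval q = q ^ 2 - q + 1 := by
  have h := prod_eval 6 (by norm_num) q
  rw [show Nat.divisors 6 = {1, 2, 3, 6} by decide +kernel] at h
  rw [Finset.prod_insert (by decide), Finset.prod_insert (by decide), Finset.prod_insert (by decide), Finset.prod_singleton] at h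
  have e1 := ev_1 (q := q)
  have e2 := ev_2 hq
  have e3 := ev_3 hq
  have n1 := ev_ne hq (d := 1) (by norm_num)
  have n2 := ev_ne hq (d := 2) (by norm_num)
  have n3 := ev_ne hq (d := 3) (by norm_num)
  rw [e1, e2, e3] at h
  rw [e1] at n1
  rw [e2] at n2
  rw [e3] at n3
  refine mul_left_cancel₀ n1 ?_
  refine mul_left_cancel₀ n2 ?_
  refine mul_left_cancel₀ n3 ?_
  linear_combination h

theorem ev_7 (hq : 2 ≤ q) : (Polynomial.cyclotomic 7 ℤ).eval q = q ^ 6 + q ^ 5 + q ^ 4 + q ^ 3 + q ^ 2 + q + 1 := by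
  have h := prod_eval 7 (by norm_num) q
  rw [show Nat.divisors 7 = {1, 7} by decide +kernel] at h
  rw [Finset.prod_insert (by decide), Finset.prod_singleton] at h
  have e1 := ev_1 (q := q)
  have n1 := ev_ne hq (d := 1) (by norm_num)
  rw [e1] at h
  rw [e1] at n1
  refine mul_left_cancel₀ n1 ?_
  linear_combination h

theorem ev_8 (hq : 2 ≤ q) : (Polynomial.cyclotomic 8 ℤ).eval q = q ^ 4 + 1 := by
  have h := prod_eval 8 (by norm_num) q
  rw [show Nat.divisors 8 = {1, 2, 4, 8} by decide +kernel] at h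
  rw [Finset.prod_insert (by decide), Finset.prod_insert (by decide), Finset.prod_insert (by decide), Finset.prod_singleton] at h
  have e1 := ev_1 (q := q)
  have e2 := ev_2 hq
  have e4 := ev_4 hq
  have n1 := ev_ne hq (d := 1) (by norm_num)
  have n2 := ev_ne hq (d := 2) (by norm_num)
  have n4 := ev_ne hq (d := 4) (by norm_num)
  rw [e1, e2, e4] at h
  rw [e1] at n1
  rw [e2] at n2
  rw [e4] at n4
  refine mul_left_cancel₀ n1 ?_
  refine mul_left_cancel₀ n2 ?_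
  refine mul_left_cancel₀ n4 ?_
  linear_combination h

theorem ev_9 (hq : 2 ≤ q) : (Polynomial.cyclotomic 9 ℤ).eval q = q ^ 6 + q ^ 3 + 1 := by
  have h := prod_eval 9 (by norm_num) q
  rw [show Nat.divisors 9 = {1, 3, 9} by decide +kernel] at h
  rw [Finset.prod_insert (by decide), Finset.prod_insert (by decide), Finset.prod_singleton] at h
  have e1 := ev_1 (q := q)
  have e3 := ev_3 hq
  have n1 := ev_ne hq (d := 1) (by norm_num)
  have n3 := ev_ne hq (d := 3) (by norm_num)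
  rw [e1, e3] at h
  rw [e1] at n1
  rw [e3] at n3
  refine mul_left_cancel₀ n1 ?_
  refine mul_left_cancel₀ n3 ?_
  linear_combination h

theorem ev_10 (hq : 2 ≤ q) : (Polynomial.cyclotomic 10 ℤ).eval q = q ^ 4 - q ^ 3 + q ^ 2 - q + 1 := by
  have h := prod_eval 10 (by norm_num) q
  rw [show Nat.divisors 10 = {1, 2, 5, 10} by decide +kernel] at h
  rw [Finset.prod_insert (by decide), Finset.prod_insert (by decide), Finset.prod_insert (by decide), Finset.prod_singleton] at h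
  have e1 := ev_1 (q := q)
  have e2 := ev_2 hq
  have e5 := ev_5 hq
  have n1 := ev_ne hq (d := 1) (by norm_num)
  have n2 := ev_ne hq (d := 2) (by norm_num)
  have n5 := ev_ne hq (d := 5) (by norm_num)
  rw [e1, e2, e5] at h
  rw [e1] at n1
  rw [e2] at n2
  rw [e5] at n5
  refine mul_left_cancel₀ n1 ?_
  refine mul_left_cancel₀ n2 ?_
  refine mul_left_cancel₀ n5 ?_
  linear_combination h

theorem ev_12 (hq : 2 ≤ q) : (Polynomial.cyclotomic 12 ℤ).eval q = q ^ 4 - q ^ 2 + 1 := by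
  have h := prod_eval 12 (by norm_num) q
  rw [show Nat.divisors 12 = {1, 2, 3, 4, 6, 12} by decide +kernel] at h
  rw [Finset.prod_insert (by decide), Finset.prod_insert (by decide), Finset.prod_insert (by decide), Finset.prod_insert (by decide), Finset.prod_insert (by decide), Finset.prod_singleton] at h
  have e1 := ev_1 (q := q)
  have e2 := ev_2 hq
  have e3 := ev_3 hq
  have e4 := ev_4 hq
  have e6 := ev_6 hq
  have n1 := ev_ne hq (d := 1) (by norm_num)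
  have n2 := ev_ne hq (d := 2) (by norm_num)
  have n3 := ev_ne hq (d := 3) (by norm_num)
  have n4 := ev_ne hq (d := 4) (by norm_num)
  have n6 := ev_ne hq (d := 6) (by norm_num)
  rw [e1, e2, e3, e4, e6] at h
  rw [e1] at n1
  rw [e2] at n2
  rw [e3] at n3
  rw [e4] at n4
  rw [e6] at n6
  refine mul_left_cancel₀ n1 ?_
  refine mul_left_cancel₀ n2 ?_
  refine mul_left_cancel₀ n3 ?_
  refine mul_left_cancel₀ n4 ?_
  refine mul_left_cancel₀ n6 ?_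
  linear_combination h

theorem ev_14 (hq : 2 ≤ q) : (Polynomial.cyclotomic 14 ℤ).eval q = q ^ 6 - q ^ 5 + q ^ 4 - q ^ 3 + q ^ 2 - q + 1 := by
  have h := prod_eval 14 (by norm_num) q
  rw [show Nat.divisors 14 = {1, 2, 7, 14} by decide +kernel] at h
  rw [Finset.prod_insert (by decide), Finset.prod_insert (by decide), Finset.prod_insert (by decide), Finset.prod_singleton] at h
  have e1 := ev_1 (q := q)
  have e2 := ev_2 hq
  have e7 := ev_7 hq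
  have n1 := ev_ne hq (d := 1) (by norm_num)
  have n2 := ev_ne hq (d := 2) (by norm_num)
  have n7 := ev_ne hq (d := 7) (by norm_num)
  rw [e1, e2, e7] at h
  rw [e1] at n1
  rw [e2] at n2
  rw [e7] at n7
  refine mul_left_cancel₀ n1 ?_
  refine mul_left_cancel₀ n2 ?_
  refine mul_left_cancel₀ n7 ?_
  linear_combination h

theorem ev_15 (hq : 2 ≤ q) : (Polynomial.cyclotomic 15 ℤ).eval q = q ^ 8 - q ^ 7 + q ^ 5 - q ^ 4 + q ^ 3 - q + 1 := by
  have h := prod_eval 15 (by norm_num) q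
  rw [show Nat.divisors 15 = {1, 3, 5, 15} by decide +kernel] at h
  rw [Finset.prod_insert (by decide), Finset.prod_insert (by decide), Finset.prod_insert (by decide), Finset.prod_singleton] at h
  have e1 := ev_1 (q := q)
  have e3 := ev_3 hq
  have e5 := ev_5 hq
  have n1 := ev_ne hq (d := 1) (by norm_num)
  have n3 := ev_ne hq (d := 3) (by norm_num)
  have n5 := ev_ne hq (d := 5) (by norm_num)
  rw [e1, e3, e5] at h
  rw [e1] at n1
  rw [e3] at n3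
  rw [e5] at n5
  refine mul_left_cancel₀ n1 ?_
  refine mul_left_cancel₀ n3 ?_
  refine mul_left_cancel₀ n5 ?_
  linear_combination h

theorem ev_18 (hq : 2 ≤ q) : (Polynomial.cyclotomic 18 ℤ).eval q = q ^ 6 - q ^ 3 + 1 := by
  have h := prod_eval 18 (by norm_num) q
  rw [show Nat.divisors 18 = {1, 2, 3, 6, 9, 18} by decide +kernel] at h
  rw [Finset.prod_insert (by decide), Finset.prod_insert (by decide), Finset.prod_insert (by decide), Finset.prod_insert (by decide), Finset.prod_insert (by decide), Finset.prod_singleton] at h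
  have e1 := ev_1 (q := q)
  have e2 := ev_2 hq
  have e3 := ev_3 hq
  have e6 := ev_6 hq
  have e9 := ev_9 hq
  have n1 := ev_ne hq (d := 1) (by norm_num)
  have n2 := ev_ne hq (d := 2) (by norm_num)
  have n3 := ev_ne hq (d := 3) (by norm_num)
  have n6 := ev_ne hq (d := 6) (by norm_num)
  have n9 := ev_ne hq (d := 9) (by norm_num)
  rw [e1, e2, e3, e6, e9] at h
  rw [e1] at n1
  rw [e2] at n2
  rw [e3] at n3
  rw [e6] at n6
  rw [e9] at n9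
  refine mul_left_cancel₀ n1 ?_
  refine mul_left_cancel₀ n2 ?_
  refine mul_left_cancel₀ n3 ?_
  refine mul_left_cancel₀ n6 ?_
  refine mul_left_cancel₀ n9 ?_
  linear_combination h

theorem ev_20 (hq : 2 ≤ q) : (Polynomial.cyclotomic 20 ℤ).eval q = q ^ 8 - q ^ 6 + q ^ 4 - q ^ 2 + 1 := by
  have h := prod_eval 20 (by norm_num) q
  rw [show Nat.divisors 20 = {1, 2, 4, 5, 10, 20} by decide +kernel] at h
  rw [Finset.prod_insert (by decide), Finset.prod_insert (by decide), Finset.prod_insert (by decide), Finset.prod_insert (by decide), Finset.prod_insert (by decide), Finset.prod_singleton] at h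
  have e1 := ev_1 (q := q)
  have e2 := ev_2 hq
  have e4 := ev_4 hq
  have e5 := ev_5 hq
  have e10 := ev_10 hq
  have n1 := ev_ne hq (d := 1) (by norm_num)
  have n2 := ev_ne hq (d := 2) (by norm_num)
  have n4 := ev_ne hq (d := 4) (by norm_num)
  have n5 := ev_ne hq (d := 5) (by norm_num)
  have n10 := ev_ne hq (d := 10) (by norm_num)
  rw [e1, e2, e4, e5, e10] at h
  rw [e1] at n1
  rw [e2] at n2
  rw [e4] at n4
  rw [e5] at n5
  rw [e10] at n10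
  refine mul_left_cancel₀ n1 ?_
  refine mul_left_cancel₀ n2 ?_
  refine mul_left_cancel₀ n4 ?_
  refine mul_left_cancel₀ n5 ?_
  refine mul_left_cancel₀ n10 ?_
  linear_combination h

theorem ev_24 (hq : 2 ≤ q) : (Polynomial.cyclotomic 24 ℤ).eval q = q ^ 8 - q ^ 4 + 1 := by
  have h := prod_eval 24 (by norm_num) q
  rw [show Nat.divisors 24 = {1, 2, 3, 4, 6, 8, 12, 24} by decide +kernel] at h
  rw [Finset.prod_insert (by decide), Finset.prod_insert (by decide), Finset.prod_insert (by decide), Finset.prod_insert (by decide), Finset.prod_insert (by decide), Finset.prod_insert (by decide), Finset.prod_insert (by decide), Finset.prod_singleton] at h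
  have e1 := ev_1 (q := q)
  have e2 := ev_2 hq
  have e3 := ev_3 hq
  have e4 := ev_4 hq
  have e6 := ev_6 hq
  have e8 := ev_8 hq
  have e12 := ev_12 hq
  have n1 := ev_ne hq (d := 1) (by norm_num)
  have n2 := ev_ne hq (d := 2) (by norm_num)
  have n3 := ev_ne hq (d := 3) (by norm_num)
  have n4 := ev_ne hq (d := 4) (by norm_num)
  have n6 := ev_ne hq (d := 6) (by norm_num)
  have n8 := ev_ne hq (d := 8) (by norm_num)
  have n12 := ev_ne hq (d := 12) (by norm_num)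
  rw [e1, e2, e3, e4, e6, e8, e12] at h
  rw [e1] at n1
  rw [e2] at n2
  rw [e3] at n3
  rw [e4] at n4
  rw [e6] at n6
  rw [e8] at n8
  rw [e12] at n12
  refine mul_left_cancel₀ n1 ?_
  refine mul_left_cancel₀ n2 ?_
  refine mul_left_cancel₀ n3 ?_
  refine mul_left_cancel₀ n4 ?_
  refine mul_left_cancel₀ n6 ?_
  refine mul_left_cancel₀ n8 ?_
  refine mul_left_cancel₀ n12 ?_
  linear_combination h

theorem ev_30 (hq : 2 ≤ q) : (Polynomial.cyclotomic 30 ℤ).eval q = q ^ 8 + q ^ 7 - q ^ 5 - q ^ 4 - q ^ 3 + q + 1 := by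
  have h := prod_eval 30 (by norm_num) q
  rw [show Nat.divisors 30 = {1, 2, 3, 5, 6, 10, 15, 30} by decide +kernel] at h
  rw [Finset.prod_insert (by decide), Finset.prod_insert (by decide), Finset.prod_insert (by decide), Finset.prod_insert (by decide), Finset.prod_insert (by decide), Finset.prod_insert (by decide), Finset.prod_insert (by decide), Finset.prod_singleton] at h
  have e1 := ev_1 (q := q)
  have e2 := ev_2 hq
  have e3 := ev_3 hq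
  have e5 := ev_5 hq
  have e6 := ev_6 hq
  have e10 := ev_10 hq
  have e15 := ev_15 hq
  have n1 := ev_ne hq (d := 1) (by norm_num)
  have n2 := ev_ne hq (d := 2) (by norm_num)
  have n3 := ev_ne hq (d := 3) (by norm_num)
  have n5 := ev_ne hq (d := 5) (by norm_num)
  have n6 := ev_ne hq (d := 6) (by norm_num)
  have n10 := ev_ne hq (d := 10) (by norm_num)
  have n15 := ev_ne hq (d := 15) (by norm_num)
  rw [e1, e2, e3, e5, e6, e10, e15] at h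
  rw [e1] at n1
  rw [e2] at n2
  rw [e3] at n3
  rw [e5] at n5
  rw [e6] at n6
  rw [e10] at n10
  rw [e15] at n15
  refine mul_left_cancel₀ n1 ?_
  refine mul_left_cancel₀ n2 ?_
  refine mul_left_cancel₀ n3 ?_
  refine mul_left_cancel₀ n5 ?_
  refine mul_left_cancel₀ n6 ?_
  refine mul_left_cancel₀ n10 ?_
  refine mul_left_cancel₀ n15 ?_
  linear_combination h

end ev


section cy

/-- the values -/
theorem cyc_eq {q : ℤ} (hq : 2 ≤ q) {a : ℕ} (ha : a ∈ clE8) :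
    CertTab.cyc a q = (Polynomial.cyclotomic a ℤ).eval q := by
  simp only [clE8, List.mem_cons, List.not_mem_nil, or_false] at ha
  rcases ha with rfl | rfl | rfl | rfl | rfl | rfl | rfl | rfl | rfl | rfl | rfl | rfl | rfl | rfl | rfl | rfl | rfl
  · exact (pv_c1 q).trans ev_1.symm
  · exact (pv_c2 q).trans (ev_2 hq).symm
  · exact (pv_c3 q).trans (ev_3 hq).symm
  · exact (pv_c4 q).trans (ev_4 hq).symm
  · exact (pv_c5 q).trans (ev_5 hq).symm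
  · exact (pv_c6 q).trans (ev_6 hq).symm
  · exact (pv_c7 q).trans (ev_7 hq).symm
  · exact (pv_c8 q).trans (ev_8 hq).symm
  · exact (pv_c9 q).trans (ev_9 hq).symm
  · exact (pv_c10 q).trans (ev_10 hq).symm
  · exact (pv_c12 q).trans (ev_12 hq).symm
  · exact (pv_c14 q).trans (ev_14 hq).symm
  · exact (pv_c15 q).trans (ev_15 hq).symm
  · exact (pv_c18 q).trans (ev_18 hq).symm
  · exact (pv_c20 q).trans (ev_20 hq).symm
  · exact (pv_c24 q).trans (ev_24 hq).symm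
  · exact (pv_c30 q).trans (ev_30 hq).symm

/-- the prime which may divide `a` and the value -/
def pr (a : ℕ) : ℕ :=
  if a ∈ [4, 8] then 2 else if a ∈ [3, 6, 9, 18] then 3 else if a ∈ [5, 10, 20] then 5 else if a ∈ [7, 14] then 7 else 1

/-- the value -/
def ZZ (u a : ℕ) : ℕ := (CertTab.cyc a (u : ℤ)).natAbs

/-- the common divisor -/
def GG (u a : ℕ) : ℕ := Nat.gcd (ZZ u a) (pr a)

/-- the value without the prime dividing `a` -/
def NN (u a : ℕ) : ℕ := ZZ u a / GG u a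

theorem GG_dvd (u a : ℕ) : GG u a ∣ ZZ u a := Nat.gcd_dvd_left _ _

theorem NN_mul (u a : ℕ) : NN u a * GG u a = ZZ u a := Nat.div_mul_cancel (GG_dvd u a)

theorem pr_pos (a : ℕ) : 0 < pr a := by
  unfold pr
  split_ifs <;> norm_num

theorem GG_pos (u a : ℕ) : 0 < GG u a := Nat.gcd_pos_of_pos_right _ (pr_pos a)

theorem GG_le (u a : ℕ) : GG u a ≤ pr a := Nat.gcd_le_right _ (pr_pos a)

theorem ZZ_cast {u a : ℕ} (hu : 2 ≤ u) (ha : a ∈ clE8) (h3 : 3 ≤ a) : ((ZZ u a : ℕ) : ℤ) = CertTab.cyc a (u : ℤ) := by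
  have h1 : (2 : ℤ) ≤ (u : ℤ) := by exact_mod_cast hu
  rw [ZZ, Int.natAbs_of_nonneg]
  rw [cyc_eq h1 ha]
  exact (Polynomial.cyclotomic_pos h3 _).le

theorem ZZ_pos {u a : ℕ} (hu : 2 ≤ u) (ha : a ∈ clE8) (h3 : 3 ≤ a) : 0 < ZZ u a := by
  have h1 : (2 : ℤ) ≤ (u : ℤ) := by exact_mod_cast hu
  have h2 : (0 : ℤ) < ((ZZ u a : ℕ) : ℤ) := by
    rw [ZZ_cast hu ha h3, cyc_eq h1 ha]
    exact Polynomial.cyclotomic_pos h3 _
  exact_mod_cast h2

theorem NN_ne {u a : ℕ} (hu : 2 ≤ u) (ha : a ∈ clE8) (h3 : 3 ≤ a) : NN u a ≠ 0 := by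
  intro h
  have h1 := NN_mul u a
  rw [h, zero_mul] at h1
  exact (ZZ_pos hu ha h3).ne h1

theorem cast_dvd {u a m : ℕ} (h : m ∣ ZZ u a) : (m : ℤ) ∣ CertTab.cyc a (u : ℤ) := Int.natCast_dvd.2 h

theorem not_sq {u a y : ℕ} (h : y ^ 2 ∣ ZZ u a) (k : ℕ) (hk : y ^ 2 = k) : ((CertTab.cyc a (u : ℤ) : ℤ) : ZMod k) = 0 := by
  rw [ZMod.intCast_zmod_eq_zero_iff_dvd, ← hk]
  exact cast_dvd h

theorem not_fs {u a y : ℕ} (h : y ∣ ZZ u a) : ((CertTab.cyc a (u : ℤ) : ℤ) : ZMod y) = 0 := by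
  rw [ZMod.intCast_zmod_eq_zero_iff_dvd]
  exact cast_dvd h

/-- the primes dividing `a` and the value -/
theorem pr_spec {u a y : ℕ} (ha : a ∈ clE8) (h3 : 3 ≤ a) (hy : y.Prime) (hya : y ∣ a) (hd : y ∣ ZZ u a) :
    y = pr a ∧ ¬ y ^ 2 ∣ ZZ u a := by
  have h0 := Nat.mem_primeFactors.2 ⟨hy, hya, by omega⟩
  simp only [clE8, List.mem_cons, List.not_mem_nil, or_false] at ha
  rcases ha with rfl | rfl | rfl | rfl | rfl | rfl | rfl | rfl | rfl | rfl | rfl | rfl | rfl | rfl | rfl | rfl | rfl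
  · omega
  · omega
  · rw [show Nat.primeFactors 3 = {3} by decide +kernel] at h0
    rw [Finset.mem_singleton] at h0
    subst h0
    refine ⟨rfl, fun hsq => ?_⟩
    have h1 := not_sq hsq 9 (by norm_num)
    rw [show CertTab.cyc 3 (u : ℤ) = _ from pv_c3 (u : ℤ)] at h1
    push_cast at h1
    exact absurd h1 ((by decide +kernel : ∀ x : ZMod 9, ¬ (x ^ 2 + x + 1 = 0)) _)
  · rw [show Nat.primeFactors 4 = {2} by decide +kernel] at h0
    rw [Finset.mem_singleton] at h0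
    subst h0
    refine ⟨rfl, fun hsq => ?_⟩
    have h1 := not_sq hsq 4 (by norm_num)
    rw [show CertTab.cyc 4 (u : ℤ) = _ from pv_c4 (u : ℤ)] at h1
    push_cast at h1
    exact absurd h1 ((by decide +kernel : ∀ x : ZMod 4, ¬ (x ^ 2 + 1 = 0)) _)
  · rw [show Nat.primeFactors 5 = {5} by decide +kernel] at h0
    rw [Finset.mem_singleton] at h0
    subst h0
    refine ⟨rfl, fun hsq => ?_⟩
    have h1 := not_sq hsq 25 (by norm_num)
    rw [show CertTab.cyc 5 (u : ℤ) = _ from pv_c5 (u : ℤ)] at h1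
    push_cast at h1
    exact absurd h1 ((by decide +kernel : ∀ x : ZMod 25, ¬ (x ^ 4 + x ^ 3 + x ^ 2 + x + 1 = 0)) _)
  · rw [show Nat.primeFactors 6 = {2, 3} by decide +kernel] at h0
    simp only [Finset.mem_insert, Finset.mem_singleton] at h0
    rcases h0 with rfl | rfl
    · exfalso
      have h1 := not_fs hd
      rw [show CertTab.cyc 6 (u : ℤ) = _ from pv_c6 (u : ℤ)] at h1
      push_cast at h1
      exact absurd h1 ((by decide +kernel : ∀ x : ZMod 2, ¬ (x ^ 2 - x + 1 = 0)) _)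
    · refine ⟨rfl, fun hsq => ?_⟩
      have h1 := not_sq hsq 9 (by norm_num)
      rw [show CertTab.cyc 6 (u : ℤ) = _ from pv_c6 (u : ℤ)] at h1
      push_cast at h1
      exact absurd h1 ((by decide +kernel : ∀ x : ZMod 9, ¬ (x ^ 2 - x + 1 = 0)) _)
  · rw [show Nat.primeFactors 7 = {7} by decide +kernel] at h0
    rw [Finset.mem_singleton] at h0
    subst h0
    refine ⟨rfl, fun hsq => ?_⟩
    have h1 := not_sq hsq 49 (by norm_num)
    rw [show CertTab.cyc 7 (u : ℤ) = _ from pv_c7 (u : ℤ)] at h1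
    push_cast at h1
    exact absurd h1 ((by decide +kernel : ∀ x : ZMod 49, ¬ (x ^ 6 + x ^ 5 + x ^ 4 + x ^ 3 + x ^ 2 + x + 1 = 0)) _)
  · rw [show Nat.primeFactors 8 = {2} by decide +kernel] at h0
    rw [Finset.mem_singleton] at h0
    subst h0
    refine ⟨rfl, fun hsq => ?_⟩
    have h1 := not_sq hsq 4 (by norm_num)
    rw [show CertTab.cyc 8 (u : ℤ) = _ from pv_c8 (u : ℤ)] at h1
    push_cast at h1
    exact absurd h1 ((by decide +kernel : ∀ x : ZMod 4, ¬ (x ^ 4 + 1 = 0)) _)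
  · rw [show Nat.primeFactors 9 = {3} by decide +kernel] at h0
    rw [Finset.mem_singleton] at h0
    subst h0
    refine ⟨rfl, fun hsq => ?_⟩
    have h1 := not_sq hsq 9 (by norm_num)
    rw [show CertTab.cyc 9 (u : ℤ) = _ from pv_c9 (u : ℤ)] at h1
    push_cast at h1
    exact absurd h1 ((by decide +kernel : ∀ x : ZMod 9, ¬ (x ^ 6 + x ^ 3 + 1 = 0)) _)
  · rw [show Nat.primeFactors 10 = {2, 5} by decide +kernel] at h0
    simp only [Finset.mem_insert, Finset.mem_singleton] at h0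
    rcases h0 with rfl | rfl
    · exfalso
      have h1 := not_fs hd
      rw [show CertTab.cyc 10 (u : ℤ) = _ from pv_c10 (u : ℤ)] at h1
      push_cast at h1
      exact absurd h1 ((by decide +kernel : ∀ x : ZMod 2, ¬ (x ^ 4 - x ^ 3 + x ^ 2 - x + 1 = 0)) _)
    · refine ⟨rfl, fun hsq => ?_⟩
      have h1 := not_sq hsq 25 (by norm_num)
      rw [show CertTab.cyc 10 (u : ℤ) = _ from pv_c10 (u : ℤ)] at h1
      push_cast at h1
      exact absurd h1 ((by decide +kernel : ∀ x : ZMod 25, ¬ (x ^ 4 - x ^ 3 + x ^ 2 - x + 1 = 0)) _)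
  · rw [show Nat.primeFactors 12 = {2, 3} by decide +kernel] at h0
    simp only [Finset.mem_insert, Finset.mem_singleton] at h0
    rcases h0 with rfl | rfl
    · exfalso
      have h1 := not_fs hd
      rw [show CertTab.cyc 12 (u : ℤ) = _ from pv_c12 (u : ℤ)] at h1
      push_cast at h1
      exact absurd h1 ((by decide +kernel : ∀ x : ZMod 2, ¬ (x ^ 4 - x ^ 2 + 1 = 0)) _)
    · exfalso
      have h1 := not_fs hd
      rw [show CertTab.cyc 12 (u : ℤ) = _ from pv_c12 (u : ℤ)] at h1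
      push_cast at h1
      exact absurd h1 ((by decide +kernel : ∀ x : ZMod 3, ¬ (x ^ 4 - x ^ 2 + 1 = 0)) _)
  · rw [show Nat.primeFactors 14 = {2, 7} by decide +kernel] at h0
    simp only [Finset.mem_insert, Finset.mem_singleton] at h0
    rcases h0 with rfl | rfl
    · exfalso
      have h1 := not_fs hd
      rw [show CertTab.cyc 14 (u : ℤ) = _ from pv_c14 (u : ℤ)] at h1
      push_cast at h1
      exact absurd h1 ((by decide +kernel : ∀ x : ZMod 2, ¬ (x ^ 6 - x ^ 5 + x ^ 4 - x ^ 3 + x ^ 2 - x + 1 = 0)) _)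
    · refine ⟨rfl, fun hsq => ?_⟩
      have h1 := not_sq hsq 49 (by norm_num)
      rw [show CertTab.cyc 14 (u : ℤ) = _ from pv_c14 (u : ℤ)] at h1
      push_cast at h1
      exact absurd h1 ((by decide +kernel : ∀ x : ZMod 49, ¬ (x ^ 6 - x ^ 5 + x ^ 4 - x ^ 3 + x ^ 2 - x + 1 = 0)) _)
  · rw [show Nat.primeFactors 15 = {3, 5} by decide +kernel] at h0
    simp only [Finset.mem_insert, Finset.mem_singleton] at h0
    rcases h0 with rfl | rfl
    · exfalso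
      have h1 := not_fs hd
      rw [show CertTab.cyc 15 (u : ℤ) = _ from pv_c15 (u : ℤ)] at h1
      push_cast at h1
      exact absurd h1 ((by decide +kernel : ∀ x : ZMod 3, ¬ (x ^ 8 - x ^ 7 + x ^ 5 - x ^ 4 + x ^ 3 - x + 1 = 0)) _)
    · exfalso
      have h1 := not_fs hd
      rw [show CertTab.cyc 15 (u : ℤ) = _ from pv_c15 (u : ℤ)] at h1
      push_cast at h1
      exact absurd h1 ((by decide +kernel : ∀ x : ZMod 5, ¬ (x ^ 8 - x ^ 7 + x ^ 5 - x ^ 4 + x ^ 3 - x + 1 = 0)) _)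
  · rw [show Nat.primeFactors 18 = {2, 3} by decide +kernel] at h0
    simp only [Finset.mem_insert, Finset.mem_singleton] at h0
    rcases h0 with rfl | rfl
    · exfalso
      have h1 := not_fs hd
      rw [show CertTab.cyc 18 (u : ℤ) = _ from pv_c18 (u : ℤ)] at h1
      push_cast at h1
      exact absurd h1 ((by decide +kernel : ∀ x : ZMod 2, ¬ (x ^ 6 - x ^ 3 + 1 = 0)) _)
    · refine ⟨rfl, fun hsq => ?_⟩
      have h1 := not_sq hsq 9 (by norm_num)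
      rw [show CertTab.cyc 18 (u : ℤ) = _ from pv_c18 (u : ℤ)] at h1
      push_cast at h1
      exact absurd h1 ((by decide +kernel : ∀ x : ZMod 9, ¬ (x ^ 6 - x ^ 3 + 1 = 0)) _)
  · rw [show Nat.primeFactors 20 = {2, 5} by decide +kernel] at h0
    simp only [Finset.mem_insert, Finset.mem_singleton] at h0
    rcases h0 with rfl | rfl
    · exfalso
      have h1 := not_fs hd
      rw [show CertTab.cyc 20 (u : ℤ) = _ from pv_c20 (u : ℤ)] at h1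
      push_cast at h1
      exact absurd h1 ((by decide +kernel : ∀ x : ZMod 2, ¬ (x ^ 8 - x ^ 6 + x ^ 4 - x ^ 2 + 1 = 0)) _)
    · refine ⟨rfl, fun hsq => ?_⟩
      have h1 := not_sq hsq 25 (by norm_num)
      rw [show CertTab.cyc 20 (u : ℤ) = _ from pv_c20 (u : ℤ)] at h1
      push_cast at h1
      exact absurd h1 ((by decide +kernel : ∀ x : ZMod 25, ¬ (x ^ 8 - x ^ 6 + x ^ 4 - x ^ 2 + 1 = 0)) _)
  · rw [show Nat.primeFactors 24 = {2, 3} by decide +kernel] at h0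
    simp only [Finset.mem_insert, Finset.mem_singleton] at h0
    rcases h0 with rfl | rfl
    · exfalso
      have h1 := not_fs hd
      rw [show CertTab.cyc 24 (u : ℤ) = _ from pv_c24 (u : ℤ)] at h1
      push_cast at h1
      exact absurd h1 ((by decide +kernel : ∀ x : ZMod 2, ¬ (x ^ 8 - x ^ 4 + 1 = 0)) _)
    · exfalso
      have h1 := not_fs hd
      rw [show CertTab.cyc 24 (u : ℤ) = _ from pv_c24 (u : ℤ)] at h1
      push_cast at h1
      exact absurd h1 ((by decide +kernel : ∀ x : ZMod 3, ¬ (x ^ 8 - x ^ 4 + 1 = 0)) _)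
  · rw [show Nat.primeFactors 30 = {2, 3, 5} by decide +kernel] at h0
    simp only [Finset.mem_insert, Finset.mem_singleton] at h0
    rcases h0 with rfl | rfl | rfl
    · exfalso
      have h1 := not_fs hd
      rw [show CertTab.cyc 30 (u : ℤ) = _ from pv_c30 (u : ℤ)] at h1
      push_cast at h1
      exact absurd h1 ((by decide +kernel : ∀ x : ZMod 2, ¬ (x ^ 8 + x ^ 7 - x ^ 5 - x ^ 4 - x ^ 3 + x + 1 = 0)) _)
    · exfalso
      have h1 := not_fs hd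
      rw [show CertTab.cyc 30 (u : ℤ) = _ from pv_c30 (u : ℤ)] at h1
      push_cast at h1
      exact absurd h1 ((by decide +kernel : ∀ x : ZMod 3, ¬ (x ^ 8 + x ^ 7 - x ^ 5 - x ^ 4 - x ^ 3 + x + 1 = 0)) _)
    · exfalso
      have h1 := not_fs hd
      rw [show CertTab.cyc 30 (u : ℤ) = _ from pv_c30 (u : ℤ)] at h1
      push_cast at h1
      exact absurd h1 ((by decide +kernel : ∀ x : ZMod 5, ¬ (x ^ 8 + x ^ 7 - x ^ 5 - x ^ 4 - x ^ 3 + x + 1 = 0)) _)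

/-- the prime divisors of `NN` -/
theorem NN_ord {u a y : ℕ} (hu : 2 ≤ u) (ha : a ∈ clE8) (h3 : 3 ≤ a) (hy : y.Prime) (hd : y ∣ NN u a) :
    orderOf ((u : ℕ) : ZMod y) = a := by
  have h1 : (2 : ℤ) ≤ (u : ℤ) := by exact_mod_cast hu
  have hdZ : y ∣ ZZ u a := hd.trans ⟨GG u a, (NN_mul u a).symm⟩
  have hya : ¬ y ∣ a := by
    intro hya
    obtain ⟨h4, h5⟩ := pr_spec ha h3 hy hya hdZ
    have h6 : y ∣ GG u a := Nat.dvd_gcd hdZ (by rw [h4])
    apply h5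
    rw [sq, ← NN_mul]
    exact Nat.mul_dvd_mul hd h6
  apply Sok.od_cyc hy (by omega) hya
  rw [← cyc_eq h1 ha]
  exact cast_dvd hdZ

theorem NN_five {u a y : ℕ} (hu : 2 ≤ u) (ha : a ∈ clE8) (h3 : 3 ≤ a) (hy : y.Prime) (hd : y ∣ NN u a) : 5 ≤ y := by
  have h1 := NN_ord hu ha h3 hy hd
  have h2 := Sok.od_dvd_sub hy (by rw [h1]; omega)
  rw [h1] at h2
  have h4 := hy.two_le
  have h5 := Nat.le_of_dvd (by omega) h2
  by_contra h6
  have h7 : y = 4 := by omega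
  rw [h7] at hy
  exact absurd hy (by norm_num)

theorem NN_cop {u a b : ℕ} (hu : 2 ≤ u) (ha : a ∈ clE8) (ha3 : 3 ≤ a) (hb : b ∈ clE8) (hb3 : 3 ≤ b) (hab : a ≠ b) :
    Nat.Coprime (NN u a) (NN u b) := by
  apply Nat.coprime_of_dvd
  intro y hy h1 h2
  exact hab ((NN_ord hu ha ha3 hy h1).symm.trans (NN_ord hu hb hb3 hy h2))

theorem NN_cop6 {u a m : ℕ} (hu : 2 ≤ u) (ha : a ∈ clE8) (h3 : 3 ≤ a) (hm : m ∣ NN u a) : Nat.Coprime m 6 := by
  apply Nat.coprime_of_dvd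
  intro y hy h1 h2
  have h4 := NN_five hu ha h3 hy (h1.trans hm)
  have h5 := Nat.le_of_dvd (by norm_num) h2
  interval_cases y
  · norm_num at h2
  · norm_num at hy

end cy

section main

variable {t : Fam} {p f : ℕ} {L : Type w} [Group L] [Finite L] {G : Type u} [Group G] [Finite G]

/-- **The product of the values.** -/
theorem prod_NN (h : LS t p f L G) (hI : Fam.Is p f L t) (hp2 : p ≠ 2) {A : List ℕ} (hn : A.Nodup)
    (hA : ∀ a ∈ A, a ∈ clE8 ∧ 3 ≤ a) {u : ℕ} (hu : 2 ≤ u)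
    (hord : ∀ a ∈ A, ∀ m : ℕ, Nat.Coprime m 6 → (m : ℤ) ∣ CertTab.cyc a (u : ℤ) → ∃ g : G, orderOf g = m) :
    (A.map (NN u)).prod ≤ 2 * rk t * p ^ f * RR t (p ^ f) := by
  refine prod_le h hI hp2 ?_ (fun a ha => NN_ne hu (hA a ha).1 (hA a ha).2)
    (fun a ha => (NN_cop6 hu (hA a ha).1 (hA a ha).2 dvd_rfl).coprime_dvd_right (by norm_num)) ?_
  · refine List.Pairwise.imp_of_mem ?_ hn
    intro a b ha hb hab
    exact NN_cop hu (hA a ha).1 (hA a ha).2 (hA b hb).1 (hA b hb).2 hab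
  · intro a ha m hm
    exact hord a ha m (NN_cop6 hu (hA a ha).1 (hA a ha).2 hm) (cast_dvd (hm.trans ⟨GG u a, (NN_mul u a).symm⟩))

theorem prod_map_NN (u : ℕ) (A : List ℕ) : (A.map (ZZ u)).prod = (A.map (NN u)).prod * (A.map (GG u)).prod := by
  rw [← List.prod_map_mul]
  congr 1
  exact List.map_congr_left fun a _ => (NN_mul u a).symm

end main


section gg

theorem GG_one_of {u a : ℕ} (h : ¬ pr a ∣ ZZ u a) (hp : (pr a).Prime) : GG u a = 1 :=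
  Nat.Coprime.symm ((Nat.Prime.coprime_iff_not_dvd hp).2 h)


theorem GG_3 {u : ℕ} (h : ((u : ℕ) : ZMod 3) ≠ 1) : GG u 3 = 1 := by
  refine GG_one_of (fun hd => ?_) (by decide)
  have h1 := not_fs (y := 3) hd
  rw [show CertTab.cyc 3 (u : ℤ) = _ from pv_c3 (u : ℤ)] at h1
  push_cast at h1
  exact absurd h1 ((by decide +kernel : ∀ x : ZMod 3, (x ≠ 1) → ¬ (x ^ 2 + x + 1 = 0)) _ h)

theorem GG_9 {u : ℕ} (h : ((u : ℕ) : ZMod 3) ≠ 1) : GG u 9 = 1 := by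
  refine GG_one_of (fun hd => ?_) (by decide)
  have h1 := not_fs (y := 3) hd
  rw [show CertTab.cyc 9 (u : ℤ) = _ from pv_c9 (u : ℤ)] at h1
  push_cast at h1
  exact absurd h1 ((by decide +kernel : ∀ x : ZMod 3, (x ≠ 1) → ¬ (x ^ 6 + x ^ 3 + 1 = 0)) _ h)

theorem GG_6 {u : ℕ} (h : ((u : ℕ) : ZMod 3) ≠ 2) : GG u 6 = 1 := by
  refine GG_one_of (fun hd => ?_) (by decide)
  have h1 := not_fs (y := 3) hd
  rw [show CertTab.cyc 6 (u : ℤ) = _ from pv_c6 (u : ℤ)] at h1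
  push_cast at h1
  exact absurd h1 ((by decide +kernel : ∀ x : ZMod 3, (x ≠ 2) → ¬ (x ^ 2 - x + 1 = 0)) _ h)

theorem GG_18 {u : ℕ} (h : ((u : ℕ) : ZMod 3) ≠ 2) : GG u 18 = 1 := by
  refine GG_one_of (fun hd => ?_) (by decide)
  have h1 := not_fs (y := 3) hd
  rw [show CertTab.cyc 18 (u : ℤ) = _ from pv_c18 (u : ℤ)] at h1
  push_cast at h1
  exact absurd h1 ((by decide +kernel : ∀ x : ZMod 3, (x ≠ 2) → ¬ (x ^ 6 - x ^ 3 + 1 = 0)) _ h)

theorem GG_5 {u : ℕ} (h : ((u : ℕ) : ZMod 5) ≠ 1) : GG u 5 = 1 := by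
  refine GG_one_of (fun hd => ?_) (by decide)
  have h1 := not_fs (y := 5) hd
  rw [show CertTab.cyc 5 (u : ℤ) = _ from pv_c5 (u : ℤ)] at h1
  push_cast at h1
  exact absurd h1 ((by decide +kernel : ∀ x : ZMod 5, (x ≠ 1) → ¬ (x ^ 4 + x ^ 3 + x ^ 2 + x + 1 = 0)) _ h)

theorem GG_10 {u : ℕ} (h : ((u : ℕ) : ZMod 5) ≠ 4) : GG u 10 = 1 := by
  refine GG_one_of (fun hd => ?_) (by decide)
  have h1 := not_fs (y := 5) hd
  rw [show CertTab.cyc 10 (u : ℤ) = _ from pv_c10 (u : ℤ)] at h1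
  push_cast at h1
  exact absurd h1 ((by decide +kernel : ∀ x : ZMod 5, (x ≠ 4) → ¬ (x ^ 4 - x ^ 3 + x ^ 2 - x + 1 = 0)) _ h)

theorem GG_20 {u : ℕ} (h : ((u : ℕ) : ZMod 5) ≠ 2 ∧ ((u : ℕ) : ZMod 5) ≠ 3) : GG u 20 = 1 := by
  refine GG_one_of (fun hd => ?_) (by decide)
  have h1 := not_fs (y := 5) hd
  rw [show CertTab.cyc 20 (u : ℤ) = _ from pv_c20 (u : ℤ)] at h1
  push_cast at h1
  exact absurd h1 ((by decide +kernel : ∀ x : ZMod 5, (x ≠ 2 ∧ x ≠ 3) → ¬ (x ^ 8 - x ^ 6 + x ^ 4 - x ^ 2 + 1 = 0)) _ h)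

theorem GG_7 {u : ℕ} (h : ((u : ℕ) : ZMod 7) ≠ 1) : GG u 7 = 1 := by
  refine GG_one_of (fun hd => ?_) (by decide)
  have h1 := not_fs (y := 7) hd
  rw [show CertTab.cyc 7 (u : ℤ) = _ from pv_c7 (u : ℤ)] at h1
  push_cast at h1
  exact absurd h1 ((by decide +kernel : ∀ x : ZMod 7, (x ≠ 1) → ¬ (x ^ 6 + x ^ 5 + x ^ 4 + x ^ 3 + x ^ 2 + x + 1 = 0)) _ h)

theorem GG_14 {u : ℕ} (h : ((u : ℕ) : ZMod 7) ≠ 6) : GG u 14 = 1 := by
  refine GG_one_of (fun hd => ?_) (by decide)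
  have h1 := not_fs (y := 7) hd
  rw [show CertTab.cyc 14 (u : ℤ) = _ from pv_c14 (u : ℤ)] at h1
  push_cast at h1
  exact absurd h1 ((by decide +kernel : ∀ x : ZMod 7, (x ≠ 6) → ¬ (x ^ 6 - x ^ 5 + x ^ 4 - x ^ 3 + x ^ 2 - x + 1 = 0)) _ h)

theorem gg3 (u : ℕ) : (GG u 3 = 1 ∧ GG u 9 = 1) ∨ (GG u 6 = 1 ∧ GG u 18 = 1) := by
  by_cases h : ((u : ℕ) : ZMod 3) = 1
  · right
    have h2 : ((u : ℕ) : ZMod 3) ≠ 2 := by rw [h]; decide
    exact ⟨GG_6 h2, GG_18 h2⟩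
  · left
    exact ⟨GG_3 h, GG_9 h⟩

theorem gg5 (u : ℕ) : (GG u 10 = 1 ∧ GG u 20 = 1) ∨ (GG u 5 = 1 ∧ GG u 20 = 1) ∨ (GG u 5 = 1 ∧ GG u 10 = 1) := by
  by_cases h : ((u : ℕ) : ZMod 5) = 1
  · left
    exact ⟨GG_10 (by rw [h]; decide), GG_20 (by rw [h]; decide)⟩
  · by_cases h4 : ((u : ℕ) : ZMod 5) = 4
    · right; left
      exact ⟨GG_5 h, GG_20 (by rw [h4]; decide)⟩
    · right; right
      exact ⟨GG_5 h, GG_10 h4⟩

theorem gg7 (u : ℕ) : GG u 7 = 1 ∨ GG u 14 = 1 := by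
  by_cases h : ((u : ℕ) : ZMod 7) = 1
  · right
    exact GG_14 (by rw [h]; decide)
  · left
    exact GG_7 h


theorem GB8 (u : ℕ) : ([3, 4, 6, 5, 7, 8, 9, 10, 12, 14, 15, 18, 20, 24, 30].map (GG u)).prod ≤ 1260 := by
  have key : ∀ c3 c4 c6 c5 c7 c8 c9 c10 c12 c14 c15 c18 c20 c24 c30 : ℕ, GG u 3 ≤ c3 → GG u 4 ≤ c4 → GG u 6 ≤ c6 → GG u 5 ≤ c5 → GG u 7 ≤ c7 → GG u 8 ≤ c8 → GG u 9 ≤ c9 → GG u 10 ≤ c10 → GG u 12 ≤ c12 → GG u 14 ≤ c14 → GG u 15 ≤ c15 → GG u 18 ≤ c18 → GG u 20 ≤ c20 → GG u 24 ≤ c24 → GG u 30 ≤ c30 →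
      ([3, 4, 6, 5, 7, 8, 9, 10, 12, 14, 15, 18, 20, 24, 30].map (GG u)).prod ≤ c3 * (c4 * (c6 * (c5 * (c7 * (c8 * (c9 * (c10 * (c12 * (c14 * (c15 * (c18 * (c20 * (c24 * (c30 * 1)))))))))))))) := by
    intro c3 c4 c6 c5 c7 c8 c9 c10 c12 c14 c15 c18 c20 c24 c30 h3 h4 h6 h5 h7 h8 h9 h10 h12 h14 h15 h18 h20 h24 h30
    simp only [List.map_cons, List.map_nil, List.prod_cons, List.prod_nil]
    exact (Nat.mul_le_mul h3 (Nat.mul_le_mul h4 (Nat.mul_le_mul h6 (Nat.mul_le_mul h5 (Nat.mul_le_mul h7 (Nat.mul_le_mul h8 (Nat.mul_le_mul h9 (Nat.mul_le_mul h10 (Nat.mul_le_mul h12 (Nat.mul_le_mul h14 (Nat.mul_le_mul h15 (Nat.mul_le_mul h18 (Nat.mul_le_mul h20 (Nat.mul_le_mul h24 (Nat.mul_le_mul h30 le_rfl)))))))))))))))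
  rcases gg3 u with ⟨h3, h9⟩ | ⟨h6, h18⟩
  · skip
    rcases gg5 u with ⟨h10, h20⟩ | ⟨h5, h20⟩ | ⟨h5, h10⟩
    · skip
      rcases gg7 u with h7 | h14
      · skip
        exact (key _ _ _ _ _ _ _ _ _ _ _ _ _ _ _ h3.le (GG_le u 4) (GG_le u 6) (GG_le u 5) h7.le (GG_le u 8) h9.le h10.le (GG_le u 12) (GG_le u 14) (GG_le u 15) (GG_le u 18) h20.le (GG_le u 24) (GG_le u 30)).trans (by decide)
      · skip
        exact (key _ _ _ _ _ _ _ _ _ _ _ _ _ _ _ h3.le (GG_le u 4) (GG_le u 6) (GG_le u 5) (GG_le u 7) (GG_le u 8) h9.le h10.le (GG_le u 12) h14.le (GG_le u 15) (GG_le u 18) h20.le (GG_le u 24) (GG_le u 30)).trans (by decide)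
    · skip
      rcases gg7 u with h7 | h14
      · skip
        exact (key _ _ _ _ _ _ _ _ _ _ _ _ _ _ _ h3.le (GG_le u 4) (GG_le u 6) h5.le h7.le (GG_le u 8) h9.le (GG_le u 10) (GG_le u 12) (GG_le u 14) (GG_le u 15) (GG_le u 18) h20.le (GG_le u 24) (GG_le u 30)).trans (by decide)
      · skip
        exact (key _ _ _ _ _ _ _ _ _ _ _ _ _ _ _ h3.le (GG_le u 4) (GG_le u 6) h5.le (GG_le u 7) (GG_le u 8) h9.le (GG_le u 10) (GG_le u 12) h14.le (GG_le u 15) (GG_le u 18) h20.le (GG_le u 24) (GG_le u 30)).trans (by decide)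
    · skip
      rcases gg7 u with h7 | h14
      · skip
        exact (key _ _ _ _ _ _ _ _ _ _ _ _ _ _ _ h3.le (GG_le u 4) (GG_le u 6) h5.le h7.le (GG_le u 8) h9.le h10.le (GG_le u 12) (GG_le u 14) (GG_le u 15) (GG_le u 18) (GG_le u 20) (GG_le u 24) (GG_le u 30)).trans (by decide)
      · skip
        exact (key _ _ _ _ _ _ _ _ _ _ _ _ _ _ _ h3.le (GG_le u 4) (GG_le u 6) h5.le (GG_le u 7) (GG_le u 8) h9.le h10.le (GG_le u 12) h14.le (GG_le u 15) (GG_le u 18) (GG_le u 20) (GG_le u 24) (GG_le u 30)).trans (by decide)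
  · skip
    rcases gg5 u with ⟨h10, h20⟩ | ⟨h5, h20⟩ | ⟨h5, h10⟩
    · skip
      rcases gg7 u with h7 | h14
      · skip
        exact (key _ _ _ _ _ _ _ _ _ _ _ _ _ _ _ (GG_le u 3) (GG_le u 4) h6.le (GG_le u 5) h7.le (GG_le u 8) (GG_le u 9) h10.le (GG_le u 12) (GG_le u 14) (GG_le u 15) h18.le h20.le (GG_le u 24) (GG_le u 30)).trans (by decide)
      · skip
        exact (key _ _ _ _ _ _ _ _ _ _ _ _ _ _ _ (GG_le u 3) (GG_le u 4) h6.le (GG_le u 5) (GG_le u 7) (GG_le u 8) (GG_le u 9) h10.le (GG_le u 12) h14.le (GG_le u 15) h18.le h20.le (GG_le u 24) (GG_le u 30)).trans (by decide)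
    · skip
      rcases gg7 u with h7 | h14
      · skip
        exact (key _ _ _ _ _ _ _ _ _ _ _ _ _ _ _ (GG_le u 3) (GG_le u 4) h6.le h5.le h7.le (GG_le u 8) (GG_le u 9) (GG_le u 10) (GG_le u 12) (GG_le u 14) (GG_le u 15) h18.le h20.le (GG_le u 24) (GG_le u 30)).trans (by decide)
      · skip
        exact (key _ _ _ _ _ _ _ _ _ _ _ _ _ _ _ (GG_le u 3) (GG_le u 4) h6.le h5.le (GG_le u 7) (GG_le u 8) (GG_le u 9) (GG_le u 10) (GG_le u 12) h14.le (GG_le u 15) h18.le h20.le (GG_le u 24) (GG_le u 30)).trans (by decide)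
    · skip
      rcases gg7 u with h7 | h14
      · skip
        exact (key _ _ _ _ _ _ _ _ _ _ _ _ _ _ _ (GG_le u 3) (GG_le u 4) h6.le h5.le h7.le (GG_le u 8) (GG_le u 9) h10.le (GG_le u 12) (GG_le u 14) (GG_le u 15) h18.le (GG_le u 20) (GG_le u 24) (GG_le u 30)).trans (by decide)
      · skip
        exact (key _ _ _ _ _ _ _ _ _ _ _ _ _ _ _ (GG_le u 3) (GG_le u 4) h6.le h5.le (GG_le u 7) (GG_le u 8) (GG_le u 9) h10.le (GG_le u 12) h14.le (GG_le u 15) h18.le (GG_le u 20) (GG_le u 24) (GG_le u 30)).trans (by decide)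

theorem GB7 (u : ℕ) : ([3, 4, 6, 5, 7, 8, 9, 10, 12, 14, 18].map (GG u)).prod ≤ 1260 := by
  have key : ∀ c3 c4 c6 c5 c7 c8 c9 c10 c12 c14 c18 : ℕ, GG u 3 ≤ c3 → GG u 4 ≤ c4 → GG u 6 ≤ c6 → GG u 5 ≤ c5 → GG u 7 ≤ c7 → GG u 8 ≤ c8 → GG u 9 ≤ c9 → GG u 10 ≤ c10 → GG u 12 ≤ c12 → GG u 14 ≤ c14 → GG u 18 ≤ c18 →
      ([3, 4, 6, 5, 7, 8, 9, 10, 12, 14, 18].map (GG u)).prod ≤ c3 * (c4 * (c6 * (c5 * (c7 * (c8 * (c9 * (c10 * (c12 * (c14 * (c18 * 1)))))))))) := by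
    intro c3 c4 c6 c5 c7 c8 c9 c10 c12 c14 c18 h3 h4 h6 h5 h7 h8 h9 h10 h12 h14 h18
    simp only [List.map_cons, List.map_nil, List.prod_cons, List.prod_nil]
    exact (Nat.mul_le_mul h3 (Nat.mul_le_mul h4 (Nat.mul_le_mul h6 (Nat.mul_le_mul h5 (Nat.mul_le_mul h7 (Nat.mul_le_mul h8 (Nat.mul_le_mul h9 (Nat.mul_le_mul h10 (Nat.mul_le_mul h12 (Nat.mul_le_mul h14 (Nat.mul_le_mul h18 le_rfl)))))))))))
  rcases gg3 u with ⟨h3, h9⟩ | ⟨h6, h18⟩
  · skip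
    rcases gg5 u with ⟨h10, h20⟩ | ⟨h5, h20⟩ | ⟨h5, h10⟩
    · skip
      rcases gg7 u with h7 | h14
      · skip
        exact (key _ _ _ _ _ _ _ _ _ _ _ h3.le (GG_le u 4) (GG_le u 6) (GG_le u 5) h7.le (GG_le u 8) h9.le h10.le (GG_le u 12) (GG_le u 14) (GG_le u 18)).trans (by decide)
      · skip
        exact (key _ _ _ _ _ _ _ _ _ _ _ h3.le (GG_le u 4) (GG_le u 6) (GG_le u 5) (GG_le u 7) (GG_le u 8) h9.le h10.le (GG_le u 12) h14.le (GG_le u 18)).trans (by decide)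
    · skip
      rcases gg7 u with h7 | h14
      · skip
        exact (key _ _ _ _ _ _ _ _ _ _ _ h3.le (GG_le u 4) (GG_le u 6) h5.le h7.le (GG_le u 8) h9.le (GG_le u 10) (GG_le u 12) (GG_le u 14) (GG_le u 18)).trans (by decide)
      · skip
        exact (key _ _ _ _ _ _ _ _ _ _ _ h3.le (GG_le u 4) (GG_le u 6) h5.le (GG_le u 7) (GG_le u 8) h9.le (GG_le u 10) (GG_le u 12) h14.le (GG_le u 18)).trans (by decide)
    · skip
      rcases gg7 u with h7 | h14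
      · skip
        exact (key _ _ _ _ _ _ _ _ _ _ _ h3.le (GG_le u 4) (GG_le u 6) h5.le h7.le (GG_le u 8) h9.le h10.le (GG_le u 12) (GG_le u 14) (GG_le u 18)).trans (by decide)
      · skip
        exact (key _ _ _ _ _ _ _ _ _ _ _ h3.le (GG_le u 4) (GG_le u 6) h5.le (GG_le u 7) (GG_le u 8) h9.le h10.le (GG_le u 12) h14.le (GG_le u 18)).trans (by decide)
  · skip
    rcases gg5 u with ⟨h10, h20⟩ | ⟨h5, h20⟩ | ⟨h5, h10⟩
    · skip
      rcases gg7 u with h7 | h14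
      · skip
        exact (key _ _ _ _ _ _ _ _ _ _ _ (GG_le u 3) (GG_le u 4) h6.le (GG_le u 5) h7.le (GG_le u 8) (GG_le u 9) h10.le (GG_le u 12) (GG_le u 14) h18.le).trans (by decide)
      · skip
        exact (key _ _ _ _ _ _ _ _ _ _ _ (GG_le u 3) (GG_le u 4) h6.le (GG_le u 5) (GG_le u 7) (GG_le u 8) (GG_le u 9) h10.le (GG_le u 12) h14.le h18.le).trans (by decide)
    · skip
      rcases gg7 u with h7 | h14
      · skip
        exact (key _ _ _ _ _ _ _ _ _ _ _ (GG_le u 3) (GG_le u 4) h6.le h5.le h7.le (GG_le u 8) (GG_le u 9) (GG_le u 10) (GG_le u 12) (GG_le u 14) h18.le).trans (by decide)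
      · skip
        exact (key _ _ _ _ _ _ _ _ _ _ _ (GG_le u 3) (GG_le u 4) h6.le h5.le (GG_le u 7) (GG_le u 8) (GG_le u 9) (GG_le u 10) (GG_le u 12) h14.le h18.le).trans (by decide)
    · skip
      rcases gg7 u with h7 | h14
      · skip
        exact (key _ _ _ _ _ _ _ _ _ _ _ (GG_le u 3) (GG_le u 4) h6.le h5.le h7.le (GG_le u 8) (GG_le u 9) h10.le (GG_le u 12) (GG_le u 14) h18.le).trans (by decide)
      · skip
        exact (key _ _ _ _ _ _ _ _ _ _ _ (GG_le u 3) (GG_le u 4) h6.le h5.le (GG_le u 7) (GG_le u 8) (GG_le u 9) h10.le (GG_le u 12) h14.le h18.le).trans (by decide)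

theorem GB6 (u : ℕ) : ([3, 4, 6, 5, 8, 9, 12].map (GG u)).prod ≤ 180 := by
  have key : ∀ c3 c4 c6 c5 c8 c9 c12 : ℕ, GG u 3 ≤ c3 → GG u 4 ≤ c4 → GG u 6 ≤ c6 → GG u 5 ≤ c5 → GG u 8 ≤ c8 → GG u 9 ≤ c9 → GG u 12 ≤ c12 →
      ([3, 4, 6, 5, 8, 9, 12].map (GG u)).prod ≤ c3 * (c4 * (c6 * (c5 * (c8 * (c9 * (c12 * 1)))))) := by
    intro c3 c4 c6 c5 c8 c9 c12 h3 h4 h6 h5 h8 h9 h12
    simp only [List.map_cons, List.map_nil, List.prod_cons, List.prod_nil]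
    exact (Nat.mul_le_mul h3 (Nat.mul_le_mul h4 (Nat.mul_le_mul h6 (Nat.mul_le_mul h5 (Nat.mul_le_mul h8 (Nat.mul_le_mul h9 (Nat.mul_le_mul h12 le_rfl)))))))
  rcases gg3 u with ⟨h3, h9⟩ | ⟨h6, h18⟩
  · skip
    exact (key _ _ _ _ _ _ _ h3.le (GG_le u 4) (GG_le u 6) (GG_le u 5) (GG_le u 8) h9.le (GG_le u 12)).trans (by decide)
  · skip
    exact (key _ _ _ _ _ _ _ (GG_le u 3) (GG_le u 4) h6.le (GG_le u 5) (GG_le u 8) (GG_le u 9) (GG_le u 12)).trans (by decide)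

theorem GBT6 (u : ℕ) : ([6, 4, 3, 10, 8, 18, 12].map (GG u)).prod ≤ 180 := by
  have key : ∀ c6 c4 c3 c10 c8 c18 c12 : ℕ, GG u 6 ≤ c6 → GG u 4 ≤ c4 → GG u 3 ≤ c3 → GG u 10 ≤ c10 → GG u 8 ≤ c8 → GG u 18 ≤ c18 → GG u 12 ≤ c12 →
      ([6, 4, 3, 10, 8, 18, 12].map (GG u)).prod ≤ c6 * (c4 * (c3 * (c10 * (c8 * (c18 * (c12 * 1)))))) := by
    intro c6 c4 c3 c10 c8 c18 c12 h6 h4 h3 h10 h8 h18 h12
    simp only [List.map_cons, List.map_nil, List.prod_cons, List.prod_nil]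
    exact (Nat.mul_le_mul h6 (Nat.mul_le_mul h4 (Nat.mul_le_mul h3 (Nat.mul_le_mul h10 (Nat.mul_le_mul h8 (Nat.mul_le_mul h18 (Nat.mul_le_mul h12 le_rfl)))))))
  rcases gg3 u with ⟨h3, h9⟩ | ⟨h6, h18⟩
  · skip
    exact (key _ _ _ _ _ _ _ (GG_le u 6) (GG_le u 4) h3.le (GG_le u 10) (GG_le u 8) (GG_le u 18) (GG_le u 12)).trans (by decide)
  · skip
    exact (key _ _ _ _ _ _ _ h6.le (GG_le u 4) (GG_le u 3) (GG_le u 10) (GG_le u 8) h18.le (GG_le u 12)).trans (by decide)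

theorem GBF4 (u : ℕ) : ([3, 4, 6, 8, 12].map (GG u)).prod ≤ 12 := by
  have key : ∀ c3 c4 c6 c8 c12 : ℕ, GG u 3 ≤ c3 → GG u 4 ≤ c4 → GG u 6 ≤ c6 → GG u 8 ≤ c8 → GG u 12 ≤ c12 →
      ([3, 4, 6, 8, 12].map (GG u)).prod ≤ c3 * (c4 * (c6 * (c8 * (c12 * 1)))) := by
    intro c3 c4 c6 c8 c12 h3 h4 h6 h8 h12
    simp only [List.map_cons, List.map_nil, List.prod_cons, List.prod_nil]
    exact (Nat.mul_le_mul h3 (Nat.mul_le_mul h4 (Nat.mul_le_mul h6 (Nat.mul_le_mul h8 (Nat.mul_le_mul h12 le_rfl)))))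
  rcases gg3 u with ⟨h3, h9⟩ | ⟨h6, h18⟩
  · skip
    exact (key _ _ _ _ _ h3.le (GG_le u 4) (GG_le u 6) (GG_le u 8) (GG_le u 12)).trans (by decide)
  · skip
    exact (key _ _ _ _ _ (GG_le u 3) (GG_le u 4) h6.le (GG_le u 8) (GG_le u 12)).trans (by decide)

end gg

section lower

/-- the product of the values, as an integer -/
theorem prod_ZZ_cast {u : ℕ} (hu : 2 ≤ u) {A : List ℕ} (hA : ∀ a ∈ A, a ∈ clE8 ∧ 3 ≤ a) :
    (((A.map (ZZ u)).prod : ℕ) : ℤ) = (A.map fun a => CertTab.cyc a (u : ℤ)).prod := by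
  rw [Nat.cast_list_prod, List.map_map]
  congr 1
  refine List.map_congr_left fun a ha => ?_
  exact ZZ_cast hu (hA a ha).1 (hA a ha).2



variable {x : ℤ}

theorem lo_36 (x : ℤ) : x ^ 4 + x ^ 2 ≤ (x ^ 2 + x + 1) * (x ^ 2 - x + 1) := by
  have h : (x ^ 2 + x + 1) * (x ^ 2 - x + 1) = x ^ 4 + x ^ 2 + 1 := by ring
  omega

theorem lo_510 (x : ℤ) : x ^ 8 ≤ (x ^ 4 + x ^ 3 + x ^ 2 + x + 1) * (x ^ 4 - x ^ 3 + x ^ 2 - x + 1) := by
  have h : (x ^ 4 + x ^ 3 + x ^ 2 + x + 1) * (x ^ 4 - x ^ 3 + x ^ 2 - x + 1) =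
    x ^ 8 + (x ^ 3) ^ 2 + (x ^ 2) ^ 2 + x ^ 2 + 1 := by ring
  have h1 := sq_nonneg (x ^ 3)
  have h2 := sq_nonneg (x ^ 2)
  have h3 := sq_nonneg x
  omega

theorem lo_714 (x : ℤ) : x ^ 12 ≤ (x ^ 6 + x ^ 5 + x ^ 4 + x ^ 3 + x ^ 2 + x + 1) *
    (x ^ 6 - x ^ 5 + x ^ 4 - x ^ 3 + x ^ 2 - x + 1) := by
  have h : (x ^ 6 + x ^ 5 + x ^ 4 + x ^ 3 + x ^ 2 + x + 1) * (x ^ 6 - x ^ 5 + x ^ 4 - x ^ 3 + x ^ 2 - x + 1) =
    x ^ 12 + (x ^ 5) ^ 2 + (x ^ 4) ^ 2 + (x ^ 3) ^ 2 + (x ^ 2) ^ 2 + x ^ 2 + 1 := by ring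
  have h1 := sq_nonneg (x ^ 3)
  have h2 := sq_nonneg (x ^ 2)
  have h3 := sq_nonneg x
  have h4 := sq_nonneg (x ^ 4)
  have h5 := sq_nonneg (x ^ 5)
  omega

theorem lo_918 (x : ℤ) : x ^ 12 ≤ (x ^ 6 + x ^ 3 + 1) * (x ^ 6 - x ^ 3 + 1) := by
  have h : (x ^ 6 + x ^ 3 + 1) * (x ^ 6 - x ^ 3 + 1) = x ^ 12 + (x ^ 3) ^ 2 + 1 := by ring
  have h1 := sq_nonneg (x ^ 3)
  omega

theorem lo_5101530 (x : ℤ) : x ^ 24 ≤ (x ^ 4 + x ^ 3 + x ^ 2 + x + 1) * (x ^ 4 - x ^ 3 + x ^ 2 - x + 1) *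
    ((x ^ 8 - x ^ 7 + x ^ 5 - x ^ 4 + x ^ 3 - x + 1) * (x ^ 8 + x ^ 7 - x ^ 5 - x ^ 4 - x ^ 3 + x + 1)) := by
  have h : (x ^ 4 + x ^ 3 + x ^ 2 + x + 1) * (x ^ 4 - x ^ 3 + x ^ 2 - x + 1) *
    ((x ^ 8 - x ^ 7 + x ^ 5 - x ^ 4 + x ^ 3 - x + 1) * (x ^ 8 + x ^ 7 - x ^ 5 - x ^ 4 - x ^ 3 + x + 1)) =
    x ^ 24 + (x ^ 9) ^ 2 + (x ^ 6) ^ 2 + (x ^ 3) ^ 2 + 1 := by ring
  have h1 := sq_nonneg (x ^ 3)
  have h2 := sq_nonneg (x ^ 6)
  have h3 := sq_nonneg (x ^ 9)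
  omega

theorem lo_824 (x : ℤ) : x ^ 12 ≤ (x ^ 4 + 1) * (x ^ 8 - x ^ 4 + 1) := by
  have h : (x ^ 4 + 1) * (x ^ 8 - x ^ 4 + 1) = x ^ 12 + 1 := by ring
  omega

/-- `Φ₃ Φ₆ Φ₄ Φ₁₂ Φ₂₀` -/
theorem lo_big (x : ℤ) : x ^ 18 ≤ (x ^ 2 + x + 1) * (x ^ 2 - x + 1) * ((x ^ 2 + 1) * (x ^ 4 - x ^ 2 + 1)) *
    (x ^ 8 - x ^ 6 + x ^ 4 - x ^ 2 + 1) := by
  have h : (x ^ 2 + x + 1) * (x ^ 2 - x + 1) * ((x ^ 2 + 1) * (x ^ 4 - x ^ 2 + 1)) *
    (x ^ 8 - x ^ 6 + x ^ 4 - x ^ 2 + 1) = x ^ 18 + (x ^ 7) ^ 2 + (x ^ 5) ^ 2 + (x ^ 4) ^ 2 + (x ^ 2) ^ 2 + 1 := by ring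
  have h1 := sq_nonneg (x ^ 7)
  have h2 := sq_nonneg (x ^ 5)
  have h3 := sq_nonneg (x ^ 4)
  have h4 := sq_nonneg (x ^ 2)
  omega

theorem lo_36412 (x : ℤ) : x ^ 10 ≤ (x ^ 2 + x + 1) * (x ^ 2 - x + 1) * ((x ^ 2 + 1) * (x ^ 4 - x ^ 2 + 1)) := by
  have h : (x ^ 2 + x + 1) * (x ^ 2 - x + 1) * ((x ^ 2 + 1) * (x ^ 4 - x ^ 2 + 1)) =
    x ^ 10 + (x ^ 4) ^ 2 + (x ^ 3) ^ 2 + (x ^ 2) ^ 2 + x ^ 2 + 1 := by ring
  have h1 := sq_nonneg (x ^ 4)
  have h2 := sq_nonneg (x ^ 3)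
  have h3 := sq_nonneg (x ^ 2)
  have h4 := sq_nonneg x
  omega

theorem lo_1018 (hx : 2 ≤ x) : x ^ 10 ≤ 2 * ((x ^ 4 - x ^ 3 + x ^ 2 - x + 1) * (x ^ 6 - x ^ 3 + 1)) := by
  have h : 2 * ((x ^ 4 - x ^ 3 + x ^ 2 - x + 1) * (x ^ 6 - x ^ 3 + 1)) = x ^ 10 + (x ^ 9 * (x - 2) + 2 * (x ^ 7 * (x - 2)) +
    2 * (x ^ 5 * (2 * x - 1)) + 4 * (x ^ 3 * (x - 1)) + 2 * (x * (x - 1)) + 2) := by ring
  rw [h]
  have h0 : 0 ≤ x := by omega
  have h1 : 0 ≤ x ^ 9 * (x - 2) := mul_nonneg (pow_nonneg h0 _) (by omega)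
  have h2 : 0 ≤ x ^ 7 * (x - 2) := mul_nonneg (pow_nonneg h0 _) (by omega)
  have h3 : 0 ≤ x ^ 5 * (2 * x - 1) := mul_nonneg (pow_nonneg h0 _) (by omega)
  have h4 : 0 ≤ x ^ 3 * (x - 1) := mul_nonneg (pow_nonneg h0 _) (by omega)
  have h5 : 0 ≤ x * (x - 1) := mul_nonneg h0 (by omega)
  omega

variable {u : ℕ}

theorem ZZ8 (hu : 2 ≤ u) : u ^ 78 ≤ ([3, 4, 6, 5, 7, 8, 9, 10, 12, 14, 15, 18, 20, 24, 30].map (ZZ u)).prod := by
  have h2 : (2 : ℤ) ≤ (u : ℤ) := by exact_mod_cast hu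
  have h := prod_ZZ_cast hu (A := [3, 4, 6, 5, 7, 8, 9, 10, 12, 14, 15, 18, 20, 24, 30]) (by decide)
  have hx : (0 : ℤ) ≤ (u : ℤ) := by positivity
  have key : ((u : ℤ)) ^ 78 ≤ (([3, 4, 6, 5, 7, 8, 9, 10, 12, 14, 15, 18, 20, 24, 30].map (ZZ u)).prod : ℕ) := by
    rw [h]
    simp only [List.map_cons, List.map_nil, List.prod_cons, List.prod_nil]
    rw [show CertTab.cyc 3 (u : ℤ) = _ from pv_c3 (u : ℤ), show CertTab.cyc 4 (u : ℤ) = _ from pv_c4 (u : ℤ),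
      show CertTab.cyc 5 (u : ℤ) = _ from pv_c5 (u : ℤ), show CertTab.cyc 6 (u : ℤ) = _ from pv_c6 (u : ℤ),
      show CertTab.cyc 7 (u : ℤ) = _ from pv_c7 (u : ℤ), show CertTab.cyc 8 (u : ℤ) = _ from pv_c8 (u : ℤ),
      show CertTab.cyc 9 (u : ℤ) = _ from pv_c9 (u : ℤ), show CertTab.cyc 10 (u : ℤ) = _ from pv_c10 (u : ℤ),
      show CertTab.cyc 12 (u : ℤ) = _ from pv_c12 (u : ℤ), show CertTab.cyc 14 (u : ℤ) = _ from pv_c14 (u : ℤ),
      show CertTab.cyc 15 (u : ℤ) = _ from pv_c15 (u : ℤ), show CertTab.cyc 18 (u : ℤ) = _ from pv_c18 (u : ℤ),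
      show CertTab.cyc 20 (u : ℤ) = _ from pv_c20 (u : ℤ), show CertTab.cyc 24 (u : ℤ) = _ from pv_c24 (u : ℤ),
      show CertTab.cyc 30 (u : ℤ) = _ from pv_c30 (u : ℤ)]
    generalize (u : ℤ) = x at *
    have a1 := lo_big x
    have a2 := lo_824 x
    have a3 := lo_714 x
    have a4 := lo_918 x
    have a5 := lo_5101530 x
    have n18 : 0 ≤ x ^ 18 := pow_nonneg hx _
    have n12 : 0 ≤ x ^ 12 := pow_nonneg hx _
    have n24 : 0 ≤ x ^ 24 := pow_nonneg hx _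
    have b1 := mul_le_mul a1 a2 n12 (n18.trans a1)
    have b2 := mul_le_mul b1 a3 n12 ((mul_nonneg n18 n12).trans b1)
    have b3 := mul_le_mul b2 a4 n12 ((mul_nonneg (mul_nonneg n18 n12) n12).trans b2)
    have b4 := mul_le_mul b3 a5 n24 ((mul_nonneg (mul_nonneg (mul_nonneg n18 n12) n12) n12).trans b3)
    calc x ^ 78 = x ^ 18 * x ^ 12 * x ^ 12 * x ^ 12 * x ^ 24 := by ring
      _ ≤ _ := b4
      _ = _ := by ring
  exact_mod_cast key

theorem ZZ7 (hu : 2 ≤ u) : u ^ 46 ≤ ([3, 4, 6, 5, 7, 8, 9, 10, 12, 14, 18].map (ZZ u)).prod := by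
  have h2 : (2 : ℤ) ≤ (u : ℤ) := by exact_mod_cast hu
  have h := prod_ZZ_cast hu (A := [3, 4, 6, 5, 7, 8, 9, 10, 12, 14, 18]) (by decide)
  have hx : (0 : ℤ) ≤ (u : ℤ) := by positivity
  have key : ((u : ℤ)) ^ 46 ≤ (([3, 4, 6, 5, 7, 8, 9, 10, 12, 14, 18].map (ZZ u)).prod : ℕ) := by
    rw [h]
    simp only [List.map_cons, List.map_nil, List.prod_cons, List.prod_nil]
    rw [show CertTab.cyc 3 (u : ℤ) = _ from pv_c3 (u : ℤ), show CertTab.cyc 4 (u : ℤ) = _ from pv_c4 (u : ℤ),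
      show CertTab.cyc 5 (u : ℤ) = _ from pv_c5 (u : ℤ), show CertTab.cyc 6 (u : ℤ) = _ from pv_c6 (u : ℤ),
      show CertTab.cyc 7 (u : ℤ) = _ from pv_c7 (u : ℤ), show CertTab.cyc 8 (u : ℤ) = _ from pv_c8 (u : ℤ),
      show CertTab.cyc 9 (u : ℤ) = _ from pv_c9 (u : ℤ), show CertTab.cyc 10 (u : ℤ) = _ from pv_c10 (u : ℤ),
      show CertTab.cyc 12 (u : ℤ) = _ from pv_c12 (u : ℤ), show CertTab.cyc 14 (u : ℤ) = _ from pv_c14 (u : ℤ),
      show CertTab.cyc 18 (u : ℤ) = _ from pv_c18 (u : ℤ)]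
    generalize (u : ℤ) = x at *
    have a1 := lo_36412 x
    have a2 : x ^ 4 ≤ x ^ 4 + 1 := by omega
    have a3 := lo_714 x
    have a4 := lo_918 x
    have a5 := lo_510 x
    have n10 : 0 ≤ x ^ 10 := pow_nonneg hx _
    have n12 : 0 ≤ x ^ 12 := pow_nonneg hx _
    have n8 : 0 ≤ x ^ 8 := pow_nonneg hx _
    have n4 : 0 ≤ x ^ 4 := pow_nonneg hx _
    have b1 := mul_le_mul a1 a2 n4 (n10.trans a1)
    have b2 := mul_le_mul b1 a3 n12 ((mul_nonneg n10 n4).trans b1)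
    have b3 := mul_le_mul b2 a4 n12 ((mul_nonneg (mul_nonneg n10 n4) n12).trans b2)
    have b4 := mul_le_mul b3 a5 n8 ((mul_nonneg (mul_nonneg (mul_nonneg n10 n4) n12) n12).trans b3)
    calc x ^ 46 = x ^ 10 * x ^ 4 * x ^ 12 * x ^ 12 * x ^ 8 := by ring
      _ ≤ _ := b4
      _ = _ := by ring
  exact_mod_cast key

theorem ZZ6 (hu : 2 ≤ u) : u ^ 24 ≤ ([3, 4, 6, 5, 8, 9, 12].map (ZZ u)).prod := by
  have h2 : (2 : ℤ) ≤ (u : ℤ) := by exact_mod_cast hu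
  have h := prod_ZZ_cast hu (A := [3, 4, 6, 5, 8, 9, 12]) (by decide)
  have hx : (0 : ℤ) ≤ (u : ℤ) := by positivity
  have key : ((u : ℤ)) ^ 24 ≤ (([3, 4, 6, 5, 8, 9, 12].map (ZZ u)).prod : ℕ) := by
    rw [h]
    simp only [List.map_cons, List.map_nil, List.prod_cons, List.prod_nil]
    rw [show CertTab.cyc 3 (u : ℤ) = _ from pv_c3 (u : ℤ), show CertTab.cyc 4 (u : ℤ) = _ from pv_c4 (u : ℤ),
      show CertTab.cyc 5 (u : ℤ) = _ from pv_c5 (u : ℤ), show CertTab.cyc 6 (u : ℤ) = _ from pv_c6 (u : ℤ),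
      show CertTab.cyc 8 (u : ℤ) = _ from pv_c8 (u : ℤ), show CertTab.cyc 9 (u : ℤ) = _ from pv_c9 (u : ℤ),
      show CertTab.cyc 12 (u : ℤ) = _ from pv_c12 (u : ℤ)]
    generalize (u : ℤ) = x at *
    have a1 := lo_36412 x
    have a2 : x ^ 4 ≤ x ^ 4 + 1 := by omega
    have n3 : 0 ≤ x ^ 3 := pow_nonneg hx _
    have n2 : 0 ≤ x ^ 2 := pow_nonneg hx _
    have n10 : 0 ≤ x ^ 10 := pow_nonneg hx _
    have n6 : 0 ≤ x ^ 6 := pow_nonneg hx _
    have n4 : 0 ≤ x ^ 4 := pow_nonneg hx _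
    have a3 : x ^ 6 ≤ x ^ 6 + x ^ 3 + 1 := by omega
    have a4 : x ^ 4 ≤ x ^ 4 + x ^ 3 + x ^ 2 + x + 1 := by omega
    have b1 := mul_le_mul a1 a2 n4 (n10.trans a1)
    have b2 := mul_le_mul b1 a3 n6 ((mul_nonneg n10 n4).trans b1)
    have b3 := mul_le_mul b2 a4 n4 ((mul_nonneg (mul_nonneg n10 n4) n6).trans b2)
    calc x ^ 24 = x ^ 10 * x ^ 4 * x ^ 6 * x ^ 4 := by ring
      _ ≤ _ := b3
      _ = _ := by ring
  exact_mod_cast key

theorem ZZT6 (hu : 2 ≤ u) : u ^ 24 ≤ 2 * ([6, 4, 3, 10, 8, 18, 12].map (ZZ u)).prod := by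
  have h2 : (2 : ℤ) ≤ (u : ℤ) := by exact_mod_cast hu
  have h := prod_ZZ_cast hu (A := [6, 4, 3, 10, 8, 18, 12]) (by decide)
  have hx : (0 : ℤ) ≤ (u : ℤ) := by positivity
  have key : ((u : ℤ)) ^ 24 ≤ 2 * (([6, 4, 3, 10, 8, 18, 12].map (ZZ u)).prod : ℕ) := by
    rw [h]
    simp only [List.map_cons, List.map_nil, List.prod_cons, List.prod_nil]
    rw [show CertTab.cyc 3 (u : ℤ) = _ from pv_c3 (u : ℤ), show CertTab.cyc 4 (u : ℤ) = _ from pv_c4 (u : ℤ),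
      show CertTab.cyc 10 (u : ℤ) = _ from pv_c10 (u : ℤ), show CertTab.cyc 6 (u : ℤ) = _ from pv_c6 (u : ℤ),
      show CertTab.cyc 8 (u : ℤ) = _ from pv_c8 (u : ℤ), show CertTab.cyc 18 (u : ℤ) = _ from pv_c18 (u : ℤ),
      show CertTab.cyc 12 (u : ℤ) = _ from pv_c12 (u : ℤ)]
    generalize (u : ℤ) = x at *
    have a1 := lo_36412 x
    have a2 : x ^ 4 ≤ x ^ 4 + 1 := by omega
    have n10 : 0 ≤ x ^ 10 := pow_nonneg hx _
    have n4 : 0 ≤ x ^ 4 := pow_nonneg hx _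
    have a3 := lo_1018 h2
    have b1 := mul_le_mul a1 a2 n4 (n10.trans a1)
    have b2 := mul_le_mul b1 a3 n10 ((mul_nonneg n10 n4).trans b1)
    calc x ^ 24 = x ^ 10 * x ^ 4 * x ^ 10 := by ring
      _ ≤ _ := b2
      _ = _ := by ring
  exact_mod_cast key

theorem ZZF4 (hu : 2 ≤ u) : u ^ 14 ≤ ([3, 4, 6, 8, 12].map (ZZ u)).prod := by
  have h2 : (2 : ℤ) ≤ (u : ℤ) := by exact_mod_cast hu
  have h := prod_ZZ_cast hu (A := [3, 4, 6, 8, 12]) (by decide)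
  have hx : (0 : ℤ) ≤ (u : ℤ) := by positivity
  have key : ((u : ℤ)) ^ 14 ≤ (([3, 4, 6, 8, 12].map (ZZ u)).prod : ℕ) := by
    rw [h]
    simp only [List.map_cons, List.map_nil, List.prod_cons, List.prod_nil]
    rw [show CertTab.cyc 3 (u : ℤ) = _ from pv_c3 (u : ℤ), show CertTab.cyc 4 (u : ℤ) = _ from pv_c4 (u : ℤ),
      show CertTab.cyc 6 (u : ℤ) = _ from pv_c6 (u : ℤ), show CertTab.cyc 8 (u : ℤ) = _ from pv_c8 (u : ℤ),
      show CertTab.cyc 12 (u : ℤ) = _ from pv_c12 (u : ℤ)]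
    generalize (u : ℤ) = x at *
    have a1 := lo_36412 x
    have a2 : x ^ 4 ≤ x ^ 4 + 1 := by omega
    have n10 : 0 ≤ x ^ 10 := pow_nonneg hx _
    have n4 : 0 ≤ x ^ 4 := pow_nonneg hx _
    have b1 := mul_le_mul a1 a2 n4 (n10.trans a1)
    calc x ^ 14 = x ^ 10 * x ^ 4 := by ring
      _ ≤ _ := b1
      _ = _ := by ring
  exact_mod_cast key

/-- combination -/
theorem comb_B {A : List ℕ} {c B X : ℕ} (h1 : X ≤ (A.map (ZZ u)).prod) (h2 : (A.map (GG u)).prod ≤ c)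
    (h3 : (A.map (NN u)).prod ≤ B) : X ≤ c * B := by
  rw [prod_map_NN] at h1
  calc X ≤ _ := h1
    _ ≤ B * c := Nat.mul_le_mul h3 h2
    _ = c * B := Nat.mul_comm _ _

end lower

section main

variable {t : Fam} {p f : ℕ} {L : Type w} [Group L] [Finite L] {G : Type u} [Group G] [Finite G]
  {K : Subgroup G} [K.Normal] {S : Subgroup (G ⧸ K)} [S.Normal] {v f' : ℕ}

/-- **`E₈(u)`** -/
theorem bigB8 (h : LS t p f L G) (hI : Fam.Is p f L t) (hp2 : p ≠ 2) (hS : Fam.Is v f' ↥S .e8) :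
    (v ^ f') ^ 78 ≤ 1260 * (2 * rk t * p ^ f * RR t (p ^ f)) := by
  obtain ⟨F, _, _, _, hF, ⟨E⟩⟩ := hS
  have hu : 2 ≤ v ^ f' := by rw [← hF]; exact Fintype.one_lt_card
  refine comb_B (ZZ8 hu) (GB8 _) (prod_NN h hI hp2 (by decide) (by decide) hu ?_)
  intro a ha m _ hm
  refine exists_of_S (S := S) ?_
  obtain ⟨x, hx⟩ := ord8 (F := F) (a := a) (m := m)
    ((by decide : ∀ b ∈ [3, 4, 6, 5, 7, 8, 9, 10, 12, 14, 15, 18, 20, 24, 30], b ∈ clE8) a ha) (by rw [Nat.card_eq_fintype_card, hF]; exact hm)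
  exact ⟨E.symm x, by rw [MulEquiv.orderOf_eq, hx]⟩

/-- **`E₇(u)`** -/
theorem bigB7 (h : LS t p f L G) (hI : Fam.Is p f L t) (hp2 : p ≠ 2) (hS : Fam.Is v f' ↥S .e7) :
    (v ^ f') ^ 46 ≤ 1260 * (2 * rk t * p ^ f * RR t (p ^ f)) := by
  obtain ⟨F, _, _, _, hF, ⟨E⟩⟩ := hS
  have hu : 2 ≤ v ^ f' := by rw [← hF]; exact Fintype.one_lt_card
  refine comb_B (ZZ7 hu) (GB7 _) (prod_NN h hI hp2 (by decide) (by decide) hu ?_)
  intro a ha m h6 hm
  refine exists_of_S (S := S) ?_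
  obtain ⟨x, hx⟩ := ord7 (F := F) (a := a) (m := m)
    ((by decide : ∀ b ∈ [3, 4, 6, 5, 7, 8, 9, 10, 12, 14, 18], b ∈ clE7) a ha) (Nat.coprime_two_right.1 (h6.coprime_dvd_right (by norm_num)))
    (by rw [Nat.card_eq_fintype_card, hF]; exact hm)
  exact ⟨E.symm x, by rw [MulEquiv.orderOf_eq, hx]⟩

/-- **`E₆(u)`** -/
theorem bigB6 (h : LS t p f L G) (hI : Fam.Is p f L t) (hp2 : p ≠ 2) (hS : Fam.Is v f' ↥S .e6) :
    (v ^ f') ^ 24 ≤ 180 * (2 * rk t * p ^ f * RR t (p ^ f)) := by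
  obtain ⟨F, _, _, _, hF, ⟨E⟩⟩ := hS
  have hu : 2 ≤ v ^ f' := by rw [← hF]; exact Fintype.one_lt_card
  refine comb_B (ZZ6 hu) (GB6 _) (prod_NN h hI hp2 (by decide) (by decide) hu ?_)
  intro a ha m h6 hm
  refine exists_of_S (S := S) ?_
  obtain ⟨x, hx⟩ := ord6 (F := F) (a := a) (m := m)
    ((by decide : ∀ b ∈ [3, 4, 6, 5, 8, 9, 12], b ∈ clE6) a ha) (h6.coprime_dvd_right (by norm_num))
    (by rw [Nat.card_eq_fintype_card, hF]; exact hm)
  exact ⟨E.symm x, by rw [MulEquiv.orderOf_eq, hx]⟩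

/-- **`²E₆(u)`** -/
theorem bigBT6 (h : LS t p f L G) (hI : Fam.Is p f L t) (hp2 : p ≠ 2) (hv : v.Prime) (hS : Fam.Is v f' ↥S .te6) :
    (v ^ f') ^ 24 ≤ 360 * (2 * rk t * p ^ f * RR t (p ^ f)) := by
  obtain ⟨F, _, _, _, hF, ⟨E⟩⟩ := hS
  have hu : 2 ≤ v ^ f' := by
    have h1 := Fintype.one_lt_card (α := F)
    rw [hF] at h1
    by_contra hcon
    have : v ^ f' ≤ 1 := by omega
    have := Nat.pow_le_pow_left this 2
    omega
  have hf' : f' ≠ 0 := by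
    rintro rfl
    rw [pow_zero] at hu
    omega
  have hpp : IsPrimePow (v ^ f') := hv.isPrimePow.pow hf'
  have h1 := prod_NN h hI hp2 (A := [6, 4, 3, 10, 8, 18, 12]) (by decide) (by decide) hu (by
    intro a ha m h6 hm
    refine exists_of_S (S := S) ?_
    obtain ⟨x, hx⟩ := ordT6 (K := F) (q := v ^ f') hpp hF (a := a) (m := m)
      ((by decide : ∀ b ∈ [6, 4, 3, 10, 8, 18, 12], b ∈ clTE6) a ha) (h6.coprime_dvd_right (by norm_num)) hm
    exact ⟨E.symm x, by rw [MulEquiv.orderOf_eq, hx]⟩)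
  have h2 := ZZT6 hu
  rw [prod_map_NN] at h2
  calc (v ^ f') ^ 24 ≤ _ := h2
    _ ≤ 2 * ((2 * rk t * p ^ f * RR t (p ^ f)) * 180) := Nat.mul_le_mul_left _ (Nat.mul_le_mul h1 (GBT6 _))
    _ = _ := by ring

/-- **`F₄(u)`** -/
theorem bigBF4 (h : LS t p f L G) (hI : Fam.Is p f L t) (hp2 : p ≠ 2) (hS : Fam.Is v f' ↥S .f4) :
    (v ^ f') ^ 14 ≤ 12 * (2 * rk t * p ^ f * RR t (p ^ f)) := by
  obtain ⟨F, _, _, _, hF, ⟨E⟩⟩ := hS
  have hu : 2 ≤ v ^ f' := by rw [← hF]; exact Fintype.one_lt_card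
  refine comb_B (ZZF4 hu) (GBF4 _) (prod_NN h hI hp2 (by decide) (by decide) hu ?_)
  intro a ha m _ hm
  refine exists_of_S (S := S) ?_
  obtain ⟨x, hx⟩ := ordF4 (F := F) (a := a) (m := m)
    ((by decide : ∀ b ∈ [3, 4, 6, 8, 12], b ∈ clF4) a ha) (by rw [Nat.card_eq_fintype_card, hF]; exact hm)
  exact ⟨E.symm x, by rw [MulEquiv.orderOf_eq, hx]⟩

end main

end Cfsg.Agent.R2.Spec.EE
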