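import Cfsg.Agent.R2.Spec.EE.NumE

/-!
# S3435, EE-NUM, part (B), item (4) (helper8): the bounds of the field exponent `f'`

* `eval_le` : `|Φ_d(x)| ≤ (|x| + 1) ^ φ(d)`; `RR_le_lin`, `RR_le_eta`;
* `f_lt`, `big7`, `flt_core`, `flt_lin`, `flt_eta` : the numerical part;
* `flt8`, `flt7`, `flt6`, `fltT6`, `fltF4` : `f' < M` for every `M ≥ 5` with `q² - q + 1 ≤ 3 M`.
-/

set_option autoImplicit false
set_option linter.unusedSectionVars false
set_option linter.unusedVariables false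
set_option maxHeartbeats 1000000

namespace Cfsg.Agent.R2.Spec.EE

open Cfsg Cfsg.Lie Cfsg.Agent.H426.LieFam Cfsg.Agent.R2.Spec Cfsg.Agent.R2.Spec.P1 Cfsg.Agent.R2.Spec.F1

universe u w

/-- **the crude bound of a cyclotomic value** -/
theorem eval_le {d : ℕ} (hd : 0 < d) (x : ℤ) :
    ((Polynomial.cyclotomic d ℤ).eval x).natAbs ≤ (x.natAbs + 1) ^ Nat.totient d := by
  have hprim := Complex.isPrimitiveRoot_exp d (by omega)
  have h1 : (((Polynomial.cyclotomic d ℤ).eval x : ℤ) : ℂ) = ∏ μ ∈ primitiveRoots d ℂ, ((x : ℂ) - μ) := by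
    have h2 : (((Polynomial.cyclotomic d ℤ).eval x : ℤ) : ℂ) = (Polynomial.cyclotomic d ℂ).eval (x : ℂ) := by
      rw [← Polynomial.map_cyclotomic_int d ℂ, Polynomial.eval_intCast_map]
      rfl
    rw [h2, Polynomial.cyclotomic_eq_prod_X_sub_primitiveRoots hprim, Polynomial.eval_prod]
    simp
  have h3 : ‖(((Polynomial.cyclotomic d ℤ).eval x : ℤ) : ℂ)‖ ≤ ((x.natAbs : ℝ) + 1) ^ Nat.totient d := by
    rw [h1, norm_prod, ← Complex.card_primitiveRoots d, ← Finset.prod_const]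
    refine Finset.prod_le_prod (fun _ _ => norm_nonneg _) ?_
    intro μ hμ
    have h4 : ‖μ‖ = 1 := (isPrimitiveRoot_of_mem_primitiveRoots hμ).norm'_eq_one (by omega)
    have h5 : ‖(x : ℂ)‖ = (x.natAbs : ℝ) := by
      rw [Complex.norm_intCast, Nat.cast_natAbs, Int.cast_abs]
    calc ‖(x : ℂ) - μ‖ ≤ ‖(x : ℂ)‖ + ‖μ‖ := norm_sub_le _ _
      _ = _ := by rw [h4, h5]
  rw [Complex.norm_intCast, ← Int.cast_abs, ← Nat.cast_natAbs] at h3
  exact_mod_cast h3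

/-- the sum of the degrees -/
def Sg (n : ℕ) : ℕ := ∑ j ∈ Finset.Icc 1 n, Nat.totient j

theorem RR_eq (t : Fam) (q : ℕ) :
    RR t q = ∏ d ∈ (cycs t).toFinset, ((Polynomial.cyclotomic d ℤ).eval (sg t q)).natAbs := by
  rw [RR, List.prod_toFinset _ (cycs_nodup t)]

/-- the linear and unitary groups -/
theorem RR_le_lin {t : Fam} (ht : Classical t) (hw : ∀ i, wt t i = i) (q : ℕ) : RR t q ≤ (q + 1) ^ Sg (rk t) := by
  rw [RR_eq, Sg, ← Finset.prod_pow_eq_pow_sum]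
  have hS : (cycs t).toFinset = Finset.Icc 1 (rk t) := by
    ext d
    rw [List.mem_toFinset, mem_cycs ht, hw, Finset.mem_Icc]
  rw [hS]
  refine Finset.prod_le_prod (fun _ _ => Nat.zero_le _) ?_
  intro d hd
  refine (eval_le (Finset.mem_Icc.1 hd).1 _).trans_eq ?_
  rw [sg_natAbs]

theorem ev_sq_odd {j : ℕ} (hj : j % 2 = 1) (x : ℤ) :
    (Polynomial.cyclotomic j ℤ).eval x * (Polynomial.cyclotomic (2 * j) ℤ).eval x =
      (Polynomial.cyclotomic j ℤ).eval (x ^ 2) := by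
  have h := Polynomial.cyclotomic_expand_eq_cyclotomic_mul (p := 2) (n := j) Nat.prime_two
    (by omega) ℤ
  have h1 := congrArg (Polynomial.eval x) h
  rw [Polynomial.expand_eval, Polynomial.eval_mul] at h1
  rw [h1, mul_comm j 2, mul_comm]

theorem ev_sq_even {j : ℕ} (hj : j % 2 = 0) (x : ℤ) :
    (Polynomial.cyclotomic (2 * j) ℤ).eval x = (Polynomial.cyclotomic j ℤ).eval (x ^ 2) := by
  have h := Polynomial.cyclotomic_expand_eq_cyclotomic (p := 2) (n := j) Nat.prime_two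
    (by omega) ℤ
  have h1 := congrArg (Polynomial.eval x) h
  rw [Polynomial.expand_eval] at h1
  rw [h1, mul_comm j 2]

theorem eta_eq_iff {d j : ℕ} (hd : 1 ≤ d) : eta d = j ↔ (d = j ∧ j % 2 = 1) ∨ d = 2 * j := by
  rcases eta_cases d with ⟨h1, h2⟩ | ⟨h1, h2⟩
  · rw [h2]
    have : d % 2 = 1 := Nat.odd_iff.1 h1
    omega
  · have : d % 2 = 0 := Nat.even_iff.1 h1
    omega

/-- the symplectic and orthogonal groups -/
theorem RR_le_eta {t : Fam} (ht : Classical t) (hw : ∀ i, wt t i = eta i) (hs : ∀ q, sg t q = (q : ℤ)) (q : ℕ) :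
    RR t q ≤ (q ^ 2 + 1) ^ Sg (rk t) := by
  rw [RR_eq, Sg, ← Finset.prod_pow_eq_pow_sum]
  have hm : ∀ d ∈ (cycs t).toFinset, eta d ∈ Finset.Icc 1 (rk t) := by
    intro d hd
    rw [List.mem_toFinset, mem_cycs ht, hw] at hd
    rw [Finset.mem_Icc]
    refine ⟨?_, hd.2⟩
    rcases eta_cases d with ⟨h1, h2⟩ | ⟨h1, h2⟩ <;> omega
  rw [← Finset.prod_fiberwise_of_maps_to hm]
  refine Finset.prod_le_prod (fun _ _ => Nat.zero_le _) ?_
  intro j hj
  rw [Finset.mem_Icc] at hj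
  have key : ∏ d ∈ (cycs t).toFinset with eta d = j, ((Polynomial.cyclotomic d ℤ).eval (sg t q)).natAbs =
      ((Polynomial.cyclotomic j ℤ).eval ((q : ℤ) ^ 2)).natAbs := by
    rw [hs]
    rcases Nat.mod_two_eq_zero_or_one j with h | h
    · have h1 : (cycs t).toFinset.filter (fun d => eta d = j) = {2 * j} := by
        ext d
        rw [Finset.mem_filter, List.mem_toFinset, mem_cycs ht, hw, Finset.mem_singleton]
        constructor
        · rintro ⟨⟨h1, h2⟩, h3⟩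
          rcases (eta_eq_iff h1).1 h3 with h4 | h4
          · omega
          · exact h4
        · rintro rfl
          have h3 : eta (2 * j) = j := (eta_eq_iff (by omega)).2 (Or.inr rfl)
          exact ⟨⟨by omega, by omega⟩, h3⟩
      rw [h1, Finset.prod_singleton, ev_sq_even h]
    · have h1 : (cycs t).toFinset.filter (fun d => eta d = j) = {j, 2 * j} := by
        ext d
        rw [Finset.mem_filter, List.mem_toFinset, mem_cycs ht, hw, Finset.mem_insert, Finset.mem_singleton]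
        constructor
        · rintro ⟨⟨h1, h2⟩, h3⟩
          rcases (eta_eq_iff h1).1 h3 with h4 | h4
          · exact Or.inl h4.1
          · exact Or.inr h4
        · rintro (rfl | rfl)
          · have h3 : eta d = d := (eta_eq_iff (by omega)).2 (Or.inl ⟨rfl, h⟩)
            exact ⟨⟨by omega, by omega⟩, h3⟩
          · have h3 : eta (2 * j) = j := (eta_eq_iff (by omega)).2 (Or.inr rfl)
            exact ⟨⟨by omega, by omega⟩, h3⟩
      rw [h1, Finset.prod_pair (by omega), ← Int.natAbs_mul, ev_sq_odd h]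
  rw [key]
  refine (eval_le hj.1 _).trans_eq ?_
  rw [Int.natAbs_pow, Int.natAbs_natCast]

theorem Sg_mono {m n : ℕ} (h : m ≤ n) : Sg m ≤ Sg n :=
  Finset.sum_le_sum_of_subset (Finset.Icc_subset_Icc le_rfl h)

theorem Sg_24 : Sg 24 = 180 := by decide +kernel
theorem Sg_18 : Sg 18 = 102 := by decide +kernel
theorem Sg_16 : Sg 16 = 80 := by decide +kernel
theorem Sg_12 : Sg 12 = 46 := by decide +kernel
theorem Sg_10 : Sg 10 = 32 := by decide +kernel
theorem Sg_9 : Sg 9 = 28 := by decide +kernel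
theorem Sg_8 : Sg 8 = 22 := by decide +kernel
theorem Sg_7 : Sg 7 = 18 := by decide +kernel

theorem sq_le_two_pow {q : ℕ} (h : 7 ≤ q) : (q + 1) ^ 2 ≤ 2 ^ (q - 1) := by
  obtain ⟨k, rfl⟩ := Nat.exists_eq_add_of_le h
  rw [show 7 + k - 1 = 6 + k by omega]
  induction k with
  | zero => norm_num
  | succ k ih =>
    have h1 := ih (by omega)
    calc (7 + (k + 1) + 1) ^ 2 ≤ 2 * (7 + k + 1) ^ 2 := by nlinarith
      _ ≤ 2 * 2 ^ (6 + k) := by omega
      _ = 2 ^ (6 + (k + 1)) := by ring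

theorem f_lt {v f' e C q R M : ℕ} (hv : 2 ≤ v) (h : (v ^ f') ^ e ≤ C * (q * R)) (hq : q % 2 = 1) (hq3 : 3 ≤ q)
    (h3 : q = 3 → C * (3 * R) < 2 ^ (5 * e)) (h5 : q = 5 → C * (5 * R) < 2 ^ (7 * e))
    (h7 : 7 ≤ q → C * (q * R) < 2 ^ (2 * e * q)) (hM5 : 5 ≤ M) (hM : q ^ 2 - q + 1 ≤ 3 * M) : f' < M := by
  by_contra hcon
  push Not at hcon
  have h1 : 2 ^ (M * e) ≤ C * (q * R) := by
    calc 2 ^ (M * e) = (2 ^ M) ^ e := pow_mul _ _ _
      _ ≤ (v ^ f') ^ e := Nat.pow_le_pow_left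
          ((Nat.pow_le_pow_left hv M).trans (Nat.pow_le_pow_right (by omega) hcon)) e
      _ ≤ _ := h
  have h2 : ∀ k : ℕ, k ≤ M → C * (q * R) < 2 ^ (k * e) → False := by
    intro k hk hlt
    have h3 : 2 ^ (k * e) ≤ 2 ^ (M * e) := Nat.pow_le_pow_right (by omega) (Nat.mul_le_mul_right e hk)
    omega
  by_cases hq7 : 7 ≤ q
  · refine h2 (2 * q) ?_ ?_
    · have h4 : 7 * q ≤ q ^ 2 := by nlinarith
      omega
    · rw [show 2 * q * e = 2 * e * q by ring]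
      exact h7 hq7
  · have h4 : q = 3 ∨ q = 5 := by omega
    rcases h4 with rfl | rfl
    · exact h2 5 hM5 (h3 rfl)
    · exact h2 7 (by norm_num at hM; omega) (h5 rfl)

theorem big7 {C b D E e q R : ℕ} (hq : 7 ≤ q) (hR : R ≤ (q + 1) ^ D) (hD : D + 1 ≤ 2 * E) (hC : C ≤ 2 ^ b)
    (hE : E ≤ 2 * e) (hb : E * 6 + b < 14 * e) : C * (q * R) < 2 ^ (2 * e * q) := by
  have h1 : C * (q * R) ≤ 2 ^ (b + (q - 1) * E) := by
    calc C * (q * R) ≤ 2 ^ b * ((q + 1) * (q + 1) ^ D) :=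
          Nat.mul_le_mul hC (Nat.mul_le_mul (by omega) hR)
      _ = 2 ^ b * (q + 1) ^ (D + 1) := by ring
      _ ≤ 2 ^ b * (q + 1) ^ (2 * E) := Nat.mul_le_mul_left _ (Nat.pow_le_pow_right (by omega) hD)
      _ = 2 ^ b * ((q + 1) ^ 2) ^ E := by rw [pow_mul]
      _ ≤ 2 ^ b * (2 ^ (q - 1)) ^ E := Nat.mul_le_mul_left _ (Nat.pow_le_pow_left (sq_le_two_pow hq) E)
      _ = _ := by rw [← pow_mul, ← pow_add]
  refine h1.trans_lt (Nat.pow_lt_pow_right (by omega) ?_)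
  obtain ⟨k, rfl⟩ := Nat.exists_eq_add_of_le hq
  rw [show 7 + k - 1 = 6 + k by omega]
  nlinarith

theorem flt_core {r v f' e c q R M r₀ D E b : ℕ} (hv : 2 ≤ v) (h : (v ^ f') ^ e ≤ c * (2 * r * q * R))
    (hr : r ≤ r₀) (hq : q % 2 = 1) (hq3 : 3 ≤ q)
    (h3 : q = 3 → c * (2 * r₀) * (3 * R) < 2 ^ (5 * e)) (h5 : q = 5 → c * (2 * r₀) * (5 * R) < 2 ^ (7 * e))
    (hR : 7 ≤ q → R ≤ (q + 1) ^ D) (hD : D + 1 ≤ 2 * E) (hC : c * (2 * r₀) ≤ 2 ^ b)
    (hE : E ≤ 2 * e) (hb : E * 6 + b < 14 * e) (hM5 : 5 ≤ M) (hM : q ^ 2 - q + 1 ≤ 3 * M) : f' < M := by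
  refine f_lt (C := c * (2 * r₀)) (R := R) hv ?_ hq hq3 h3 h5 (fun h7 => big7 h7 (hR h7) hD hC hE hb) hM5 hM
  refine h.trans ?_
  calc c * (2 * r * q * R) = c * (2 * r) * (q * R) := by ring
    _ ≤ _ := Nat.mul_le_mul_right _ (Nat.mul_le_mul_left _ (by omega))

/-- the linear case -/
theorem flt_lin {t : Fam} (ht : Classical t) (hw : ∀ i, wt t i = i) {v f' e c q M r₀ S E b : ℕ} (hv : 2 ≤ v)
    (h : (v ^ f') ^ e ≤ c * (2 * rk t * q * RR t q)) (hr : rk t ≤ r₀) (hq : q % 2 = 1) (hq3 : 3 ≤ q)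
    (hS : Sg r₀ = S) (h3 : c * (2 * r₀) * (3 * 4 ^ S) < 2 ^ (5 * e)) (h5 : c * (2 * r₀) * (5 * 6 ^ S) < 2 ^ (7 * e))
    (hD : S + 1 ≤ 2 * E) (hC : c * (2 * r₀) ≤ 2 ^ b)
    (hE : E ≤ 2 * e) (hb : E * 6 + b < 14 * e) (hM5 : 5 ≤ M) (hM : q ^ 2 - q + 1 ≤ 3 * M) : f' < M := by
  have hR : RR t q ≤ (q + 1) ^ S := (RR_le_lin ht hw q).trans
    (Nat.pow_le_pow_right (by omega) (hS ▸ Sg_mono hr))
  refine flt_core hv h hr hq hq3 ?_ ?_ (fun _ => hR) hD hC hE hb hM5 hM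
  · rintro rfl
    exact lt_of_le_of_lt (Nat.mul_le_mul_left _ (Nat.mul_le_mul_left _ hR)) h3
  · rintro rfl
    exact lt_of_le_of_lt (Nat.mul_le_mul_left _ (Nat.mul_le_mul_left _ hR)) h5

theorem flt_eta {t : Fam} (ht : Classical t) (hw : ∀ i, wt t i = eta i) (hs : ∀ q, sg t q = (q : ℤ))
    {v f' e c q M r₀ S b : ℕ} (hv : 2 ≤ v)
    (h : (v ^ f') ^ e ≤ c * (2 * rk t * q * RR t q)) (hr : rk t ≤ r₀) (hq : q % 2 = 1) (hq3 : 3 ≤ q)
    (hS : Sg r₀ = S) (h3 : c * (2 * r₀) * (3 * 10 ^ S) < 2 ^ (5 * e)) (h5 : c * (2 * r₀) * (5 * 26 ^ S) < 2 ^ (7 * e))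
    (hC : c * (2 * r₀) ≤ 2 ^ b)
    (hE : S + 1 ≤ 2 * e) (hb : (S + 1) * 6 + b < 14 * e) (hM5 : 5 ≤ M) (hM : q ^ 2 - q + 1 ≤ 3 * M) : f' < M := by
  have hR : RR t q ≤ (q ^ 2 + 1) ^ S := (RR_le_eta ht hw hs q).trans
    (Nat.pow_le_pow_right (by omega) (hS ▸ Sg_mono hr))
  have hR2 : RR t q ≤ (q + 1) ^ (2 * S) := by
    rw [pow_mul]
    exact hR.trans (Nat.pow_le_pow_left (by nlinarith) S)
  refine flt_core (E := S + 1) hv h hr hq hq3 ?_ ?_ (fun _ => hR2) (by omega) hC hE hb hM5 hM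
  · rintro rfl
    exact lt_of_le_of_lt (Nat.mul_le_mul_left _ (Nat.mul_le_mul_left _ hR)) h3
  · rintro rfl
    exact lt_of_le_of_lt (Nat.mul_le_mul_left _ (Nat.mul_le_mul_left _ hR)) h5


theorem sg_eta {t : Fam} (ht : Classical t) (hw : ∀ i, wt t i = eta i) (q : ℕ) : sg t q = (q : ℤ) := by
  cases t with
  | psu n =>
    have h1 := hw 2
    rw [show wt (.psu n) 2 = 2 from rfl, show eta 2 = 1 from rfl] at h1
    omega
  | psl n => rfl
  | psp n => rfl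
  | oodd n => rfl
  | oplus n => rfl
  | ominus n => rfl
  | _ => exact ht.elim

theorem two_le_of_card {v f' : ℕ} (h : 2 ≤ v ^ f') : 2 ≤ v := by
  rcases v with _ | _ | v
  · rcases f' with _ | k
    · norm_num at h
    · rw [pow_succ] at h; norm_num at h
  · norm_num at h
  · omega

section main

variable {t : Fam} {p f : ℕ} {L : Type w} [Group L] [Finite L] {G : Type u} [Group G] [Finite G]
  {K : Subgroup G} [K.Normal] {S : Subgroup (G ⧸ K)} [S.Normal] {v f' : ℕ}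

theorem q_odd (h : LS t p f L G) (hp2 : p ≠ 2) : (p ^ f) % 2 = 1 ∧ 3 ≤ p ^ f := by
  have hp := h.prime
  have h1 : p % 2 = 1 := (hp.eq_two_or_odd).resolve_left hp2
  have h2 : (p ^ f) % 2 = 1 := by simp [Nat.pow_mod, h1]
  have h3 : p ^ 1 ≤ p ^ f := Nat.pow_le_pow_right hp.pos h.fpos
  have := hp.two_le
  rw [pow_one] at h3
  exact ⟨h2, by omega⟩

/-- **`E₈(u)`: `f' < M`.** -/
theorem flt8 (h : LS t p f L G) (hI : Fam.Is p f L t) (hp2 : p ≠ 2) (hS : Fam.Is v f' ↥S .e8)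
    (hr : rk t ≤ 18 ∨ ((∀ i, wt t i = i) ∧ rk t ≤ 24)) {M : ℕ} (hM5 : 5 ≤ M)
    (hM : (p ^ f) ^ 2 - p ^ f + 1 ≤ 3 * M) : f' < M := by
  have hB := bigB8 h hI hp2 hS
  obtain ⟨hq, hq3⟩ := q_odd h hp2
  have hv : 2 ≤ v := by
    obtain ⟨F, _, _, _, hF, -⟩ := hS
    exact two_le_of_card (f' := f') (by rw [← hF]; exact Fintype.one_lt_card)
  rcases wt_lin_or h.cla with hw | hw
  · exact flt_lin h.cla hw (r₀ := 24) (E := 91) (b := 16) hv hB (by omega) hq hq3 Sg_24 (by decide +kernel) (by decide +kernel)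
      (by norm_num) (by norm_num) (by norm_num) (by norm_num) hM5 hM
  · have hr' : rk t ≤ 18 := hr.resolve_right fun h1 => by
      have h2 := h1.1 2
      rw [hw 2] at h2
      exact absurd h2 (by decide)
    exact flt_eta h.cla hw (sg_eta h.cla hw) (r₀ := 18) (b := 16) hv hB hr' hq hq3 Sg_18 (by decide +kernel) (by decide +kernel)
      (by norm_num) (by norm_num) (by norm_num) hM5 hM

/-- **`E₇(u)`: `f' < M`.** -/
theorem flt7 (h : LS t p f L G) (hI : Fam.Is p f L t) (hp2 : p ≠ 2) (hS : Fam.Is v f' ↥S .e7)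
    (hr : rk t ≤ 12 ∨ ((∀ i, wt t i = i) ∧ rk t ≤ 16)) {M : ℕ} (hM5 : 5 ≤ M)
    (hM : (p ^ f) ^ 2 - p ^ f + 1 ≤ 3 * M) : f' < M := by
  have hB := bigB7 h hI hp2 hS
  obtain ⟨hq, hq3⟩ := q_odd h hp2
  have hv : 2 ≤ v := by
    obtain ⟨F, _, _, _, hF, -⟩ := hS
    exact two_le_of_card (f' := f') (by rw [← hF]; exact Fintype.one_lt_card)
  rcases wt_lin_or h.cla with hw | hw
  · exact flt_lin h.cla hw (r₀ := 16) (E := 41) (b := 16) hv hB (by omega) hq hq3 Sg_16 (by decide +kernel) (by decide +kernel)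
      (by norm_num) (by norm_num) (by norm_num) (by norm_num) hM5 hM
  · have hr' : rk t ≤ 12 := hr.resolve_right fun h1 => by
      have h2 := h1.1 2
      rw [hw 2] at h2
      exact absurd h2 (by decide)
    exact flt_eta h.cla hw (sg_eta h.cla hw) (r₀ := 12) (b := 16) hv hB hr' hq hq3 Sg_12 (by decide +kernel) (by decide +kernel)
      (by norm_num) (by norm_num) (by norm_num) hM5 hM

/-- **`E₆(u)`: `f' < M`.** -/
theorem flt6 (h : LS t p f L G) (hI : Fam.Is p f L t) (hp2 : p ≠ 2) (hS : Fam.Is v f' ↥S .e6)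
    (hr : rk t ≤ 8 ∨ ((∀ i, wt t i = i) ∧ rk t ≤ 10)) {M : ℕ} (hM5 : 5 ≤ M)
    (hM : (p ^ f) ^ 2 - p ^ f + 1 ≤ 3 * M) : f' < M := by
  have hB := bigB6 h hI hp2 hS
  obtain ⟨hq, hq3⟩ := q_odd h hp2
  have hv : 2 ≤ v := by
    obtain ⟨F, _, _, _, hF, -⟩ := hS
    exact two_le_of_card (f' := f') (by rw [← hF]; exact Fintype.one_lt_card)
  rcases wt_lin_or h.cla with hw | hw
  · exact flt_lin h.cla hw (r₀ := 10) (E := 17) (b := 12) hv hB (by omega) hq hq3 Sg_10 (by decide +kernel) (by decide +kernel)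
      (by norm_num) (by norm_num) (by norm_num) (by norm_num) hM5 hM
  · have hr' : rk t ≤ 8 := hr.resolve_right fun h1 => by
      have h2 := h1.1 2
      rw [hw 2] at h2
      exact absurd h2 (by decide)
    exact flt_eta h.cla hw (sg_eta h.cla hw) (r₀ := 8) (b := 12) hv hB hr' hq hq3 Sg_8 (by decide +kernel) (by decide +kernel)
      (by norm_num) (by norm_num) (by norm_num) hM5 hM

/-- **`²E₆(u)`: `f' < M`.** -/
theorem fltT6 (h : LS t p f L G) (hI : Fam.Is p f L t) (hp2 : p ≠ 2) (hv : v.Prime) (hS : Fam.Is v f' ↥S .te6)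
    (hr : rk t ≤ 8 ∨ ((∀ i, wt t i = i) ∧ rk t ≤ 10)) {M : ℕ} (hM5 : 5 ≤ M)
    (hM : (p ^ f) ^ 2 - p ^ f + 1 ≤ 3 * M) : f' < M := by
  have hB := bigBT6 h hI hp2 hv hS
  obtain ⟨hq, hq3⟩ := q_odd h hp2
  have hv := hv.two_le
  rcases wt_lin_or h.cla with hw | hw
  · exact flt_lin h.cla hw (r₀ := 10) (E := 17) (b := 13) hv hB (by omega) hq hq3 Sg_10 (by decide +kernel) (by decide +kernel)
      (by norm_num) (by norm_num) (by norm_num) (by norm_num) hM5 hM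
  · have hr' : rk t ≤ 8 := hr.resolve_right fun h1 => by
      have h2 := h1.1 2
      rw [hw 2] at h2
      exact absurd h2 (by decide)
    exact flt_eta h.cla hw (sg_eta h.cla hw) (r₀ := 8) (b := 13) hv hB hr' hq hq3 Sg_8 (by decide +kernel) (by decide +kernel)
      (by norm_num) (by norm_num) (by norm_num) hM5 hM

/-- **`F₄(u)`: `f' < M`**, small ranks -/
theorem fltF4 (h : LS t p f L G) (hI : Fam.Is p f L t) (hp2 : p ≠ 2) (hS : Fam.Is v f' ↥S .f4)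
    (hr : rk t ≤ 7 ∨ ((∀ i, wt t i = i) ∧ rk t ≤ 9)) {M : ℕ} (hM5 : 5 ≤ M)
    (hM : (p ^ f) ^ 2 - p ^ f + 1 ≤ 3 * M) : f' < M := by
  have hB := bigBF4 h hI hp2 hS
  obtain ⟨hq, hq3⟩ := q_odd h hp2
  have hv : 2 ≤ v := by
    obtain ⟨F, _, _, _, hF, -⟩ := hS
    exact two_le_of_card (f' := f') (by rw [← hF]; exact Fintype.one_lt_card)
  rcases wt_lin_or h.cla with hw | hw
  · exact flt_lin h.cla hw (r₀ := 9) (E := 15) (b := 8) hv hB (by omega) hq hq3 Sg_9 (by decide +kernel) (by decide +kernel)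
      (by norm_num) (by norm_num) (by norm_num) (by norm_num) hM5 hM
  · have hr' : rk t ≤ 7 := hr.resolve_right fun h1 => by
      have h2 := h1.1 2
      rw [hw 2] at h2
      exact absurd h2 (by decide)
    exact flt_eta h.cla hw (sg_eta h.cla hw) (r₀ := 7) (b := 8) hv hB hr' hq hq3 Sg_7 (by decide +kernel) (by decide +kernel)
      (by norm_num) (by norm_num) (by norm_num) hM5 hM

/-- **`F₄(u)`: `f' < M`** from a sharp bound of the right hand side -/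
theorem fltF4_of {t : Fam} {q v f' M Q : ℕ} (hB : (v ^ f') ^ 14 ≤ 12 * (2 * rk t * q * Q))
    (hv : 2 ≤ v) (hq : q % 2 = 1) (hq3 : 3 ≤ q) (hr : rk t ≤ 10) (hQ : Q ≤ 8 * q ^ 36) (hM5 : 5 ≤ M)
    (hM : q ^ 2 - q + 1 ≤ 3 * M) : f' < M := by
  refine flt_core (r₀ := 10) (D := 37) (E := 19) (b := 8) hv hB hr hq hq3 ?_ ?_ ?_ (by norm_num) (by norm_num) (by norm_num)
    (by norm_num) hM5 hM
  · rintro rfl
    exact lt_of_le_of_lt (Nat.mul_le_mul_left _ (Nat.mul_le_mul_left _ hQ)) (by norm_num)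
  · rintro rfl
    exact lt_of_le_of_lt (Nat.mul_le_mul_left _ (Nat.mul_le_mul_left _ hQ)) (by norm_num)
  · intro h7
    calc Q ≤ 8 * q ^ 36 := hQ
      _ ≤ (q + 1) * (q + 1) ^ 36 := Nat.mul_le_mul (by omega) (Nat.pow_le_pow_left (by omega) _)
      _ = (q + 1) ^ 37 := by rw [← pow_succ']

end main

end Cfsg.Agent.R2.Spec.EE
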