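import Cfsg.Agent.R2.Spec.EE.NumA
import Cfsg.Agent.R2.Spec.EE.NumE
import Cfsg.Agent.R2.Spec.EE.NumF
import Cfsg.Agent.R2.Spec.EE.NumD
import Cfsg.Agent.H482.TwoCyc.Num

/-!
# The survivors of `E₆`, `²E₆`: numbers (helper11)

* `five_num` : the number of the class 5 of `L₉`, `U₉`;
* `numA6`, `numAT6` : a number of `S` with all the primes of the class 6 (3) divides `Φ₆(u)` (`Φ₃(u)`);
* `ar_psl`, `ar_psu` : the inequalities.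
-/

set_option autoImplicit false
set_option linter.unusedSectionVars false

namespace Cfsg.Agent.R2.Spec.EE

open Cfsg Cfsg.Lie Cfsg.Agent Cfsg.Agent.H426.LieFam
open Cfsg.Agent.R2.Spec Cfsg.Agent.R2.Spec.P1 Cfsg.Agent.R2.Spec.F1
open Cfsg.Agent.H378.ExcAdj (od)

universe u w

namespace SurvN

/-- **One cyclotomic factor.** -/
theorem ord_one {X : Type*} [Group X] {x : X} {q l N J2 J3 : ℕ} (hO : H482.TwoCyc.Untw.Ords q l N J2 J3 x)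
    {a : ℕ} (ha0 : 0 < a) (hal : l < 4 * a.totient)
    (hx : ∀ r : ℕ, r.Prime → r ∣ orderOf x → 5 ≤ r ∧ ¬ r ∣ q ∧ od q r = a) :
    ((orderOf x : ℕ) : ℤ) ∣ (Polynomial.cyclotomic a ℤ).eval ((q : ℕ) : ℤ) := by
  classical
  obtain ⟨p, e, m, j, hp, he, hq, ho, hm, hmp, -, -, ⟨S, hS, hSl, hmS⟩, -⟩ := hO
  have hj : j = 0 := by
    by_contra hj
    have h1 := (hx p hp (by rw [ho]; exact (dvd_pow_self p hj).mul_left m)).2.1
    exact h1 (by rw [hq]; exact dvd_pow_self p he.ne')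
  rw [hj, pow_zero, mul_one] at ho
  rw [ho] at hx ⊢
  have key : ∀ r : ℕ, r.Prime → r ∣ m → ∀ n ∈ S, (r : ℤ) ∣ (Polynomial.cyclotomic n ℤ).eval ((q : ℕ) : ℤ) →
      n = a := by
    intro r hr hrm n hn hd
    obtain ⟨h5, -, hA'⟩ := hx r hr hrm
    have h3 : n.totient ≤ ∑ n ∈ S, n.totient := Finset.single_le_sum (fun i _ => Nat.zero_le (Nat.totient i)) hn
    exact NumA.eq_cyc hr h5 (hS n hn) ha0 (by omega) hA' hd
  by_cases haS : a ∈ S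
  · rw [Polynomial.eval_prod, ← Finset.mul_prod_erase S _ haS] at hmS
    refine IsCoprime.dvd_of_dvd_mul_right ?_ hmS
    rw [Int.isCoprime_iff_gcd_eq_one]
    by_contra hg
    obtain ⟨r, hr, hrg⟩ := Nat.exists_prime_and_dvd hg
    have h1 : (r : ℤ) ∣ (m : ℤ) := (Int.natCast_dvd_natCast.2 hrg).trans (Int.gcd_dvd_left _ _)
    have h2 : (r : ℤ) ∣ ∏ n ∈ S.erase a, (Polynomial.cyclotomic n ℤ).eval ((q : ℕ) : ℤ) :=
      (Int.natCast_dvd_natCast.2 hrg).trans (Int.gcd_dvd_right _ _)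
    have hrm : r ∣ m := Int.natCast_dvd_natCast.1 h1
    obtain ⟨n, hn, hd⟩ := (Nat.prime_iff_prime_int.1 hr).exists_mem_finset_dvd h2
    rw [Finset.mem_erase] at hn
    exact hn.1 (key r hr hrm n hn.2 hd)
  · have hm1 : m = 1 := by
      by_contra hm1
      obtain ⟨r, hr, hrm⟩ := Nat.exists_prime_and_dvd hm1
      have h1 := (Int.natCast_dvd_natCast.2 hrm).trans hmS
      rw [Polynomial.eval_prod] at h1
      obtain ⟨n, hn, hd⟩ := (Nat.prime_iff_prime_int.1 hr).exists_mem_finset_dvd h1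
      exact haS (key r hr hrm n hn hd ▸ hn)
    rw [hm1, Nat.cast_one]
    exact one_dvd _

section Group

variable {G : Type w} [Group G] [Finite G] {K : Subgroup G} [K.Normal] {S : Subgroup (G ⧸ K)} [S.Normal]

/-- **`E₆`** -/
theorem numA6 {v f : ℕ} (hv : v.Prime) (hS : Fam.Is v f S .e6) {M : ℕ} {g : G} (hg : orderOf g = M)
    (hK : ∀ y : ℕ, y.Prime → y ∣ M → ¬ y ∣ Nat.card ↥K) (hi : ∀ y : ℕ, y.Prime → y ∣ M → ¬ y ∣ S.index)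
    (h5 : ∀ y : ℕ, y.Prime → y ∣ M → 5 ≤ y ∧ y ≠ v)
    (hc : ∀ y : ℕ, y.Prime → y ∣ M → orderOf ((v ^ f : ℕ) : ZMod y) = 6) :
    M ≤ (v ^ f) ^ 2 + v ^ f + 1 := by
  obtain ⟨F, _, _, _, hcF, ⟨e⟩⟩ := hS
  have hq : Nat.card F = v ^ f := by rw [Nat.card_eq_fintype_card, hcF]
  obtain ⟨s, hs⟩ := exists_of_coprime hg hK hi
  have h2 : 2 ≤ v ^ f := by rw [← hcF]; exact Fintype.one_lt_card
  have h1 := ord_one (H482.TwoCyc.Untw.ords_E6 (e s)) (a := 6) (by norm_num) (by decide) (by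
    intro r hr hrd
    rw [MulEquiv.orderOf_eq, hs] at hrd
    refine ⟨(h5 r hr hrd).1, ?_, ?_⟩
    · intro h1
      rw [hq] at h1
      exact (h5 r hr hrd).2 ((Nat.prime_dvd_prime_iff_eq hr hv).1 (hr.dvd_of_dvd_pow h1))
    · rw [hq]
      exact hc r hr hrd)
  rw [MulEquiv.orderOf_eq, hs, hq, H482.TwoCyc.Num.v6 _ h2] at h1
  have h3 : (0 : ℤ) < ((v ^ f : ℕ) : ℤ) ^ 2 - ((v ^ f : ℕ) : ℤ) + 1 := by
    have : (2 : ℤ) ≤ ((v ^ f : ℕ) : ℤ) := by exact_mod_cast h2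
    nlinarith
  have h4 := Int.le_of_dvd h3 h1
  have h5 : (0 : ℤ) ≤ ((v ^ f : ℕ) : ℤ) := by positivity
  zify
  push_cast at h4 h5 ⊢
  linarith

/-- **`²E₆`** -/
theorem numAT6 {v f : ℕ} (hv : v.Prime) (hS : Fam.Is v f S .te6) {M : ℕ} {g : G} (hg : orderOf g = M)
    (hK : ∀ y : ℕ, y.Prime → y ∣ M → ¬ y ∣ Nat.card ↥K) (hi : ∀ y : ℕ, y.Prime → y ∣ M → ¬ y ∣ S.index)
    (h5 : ∀ y : ℕ, y.Prime → y ∣ M → 5 ≤ y ∧ y ≠ v)
    (hc : ∀ y : ℕ, y.Prime → y ∣ M → orderOf ((v ^ f : ℕ) : ZMod y) = 3) :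
    M ≤ (v ^ f) ^ 2 + v ^ f + 1 := by
  obtain ⟨F, _, _, _, hcF, ⟨e⟩⟩ := hS
  obtain ⟨s, hs⟩ := exists_of_coprime hg hK hi
  have h2 : 2 ≤ v ^ f := by
    have h1 := Fintype.one_lt_card (α := F)
    rw [hcF] at h1
    by_contra hcon
    have : v ^ f ≤ 1 := by omega
    have := Nat.pow_le_pow_left this 2
    omega
  have hf : f ≠ 0 := by
    rintro rfl
    rw [pow_zero] at h2
    omega
  have h1 := ord_one (H482.TwoCyc.Untw.ords_2E6 (q := v ^ f) (hv.isPrimePow.pow hf) hcF (e s)) (a := 3) (by norm_num)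
    (by decide) (by
    intro r hr hrd
    rw [MulEquiv.orderOf_eq, hs] at hrd
    refine ⟨(h5 r hr hrd).1, ?_, hc r hr hrd⟩
    intro h1
    exact (h5 r hr hrd).2 ((Nat.prime_dvd_prime_iff_eq hr hv).1 (hr.dvd_of_dvd_pow h1)))
  rw [MulEquiv.orderOf_eq, hs, H482.TwoCyc.Num.v3 _ h2] at h1
  have h4 := Int.le_of_dvd (by positivity) h1
  zify
  push_cast at h4 ⊢
  linarith

end Group

/-! ### the class 5 -/

theorem five_cases {x : ℤ} {r : ℕ} (hr : r.Prime) (h : (r : ℤ) ∣ x ^ 4 + x ^ 3 + x ^ 2 + x + 1) :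
    orderOf (x : ZMod r) = 5 ∨ (r = 5 ∧ (5 : ℤ) ∣ x - 1) := by
  have := Fact.mk hr
  have h0 : ((x : ZMod r)) ^ 4 + (x : ZMod r) ^ 3 + (x : ZMod r) ^ 2 + (x : ZMod r) + 1 = 0 := by
    have h1 := (ZMod.intCast_zmod_eq_zero_iff_dvd _ r).2 h
    push_cast at h1
    exact h1
  have h1 : (x : ZMod r) ^ 5 = 1 := by linear_combination ((x : ZMod r) - 1) * h0
  have h2 := orderOf_dvd_of_pow_eq_one h1
  rcases (Nat.dvd_prime (by norm_num : Nat.Prime 5)).1 h2 with h3 | h3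
  · right
    have h4 : (x : ZMod r) = 1 := orderOf_eq_one_iff.1 h3
    rw [h4] at h0
    have h5 : ((5 : ℕ) : ZMod r) = 0 := by
      push_cast
      linear_combination h0
    rw [ZMod.natCast_eq_zero_iff] at h5
    have h6 : r = 5 := (Nat.prime_dvd_prime_iff_eq hr (by norm_num)).1 h5
    refine ⟨h6, ?_⟩
    have h7 : ((x - 1 : ℤ) : ZMod r) = 0 := by push_cast; rw [h4]; ring
    rw [ZMod.intCast_zmod_eq_zero_iff_dvd, h6] at h7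
    exact_mod_cast h7
  · exact Or.inl h3

theorem not25 {x : ℤ} (h : (5 : ℤ) ∣ x - 1) : ∃ M : ℤ, x ^ 4 + x ^ 3 + x ^ 2 + x + 1 = 5 * M ∧ ¬ (5 : ℤ) ∣ M := by
  obtain ⟨k, hk⟩ := h
  obtain rfl : x = 5 * k + 1 := by linarith
  refine ⟨125 * k ^ 4 + 125 * k ^ 3 + 50 * k ^ 2 + 10 * k + 1, by ring, ?_⟩
  rintro ⟨m, hm⟩
  omega

/-- **The number of the class 5.** -/
theorem five_num {t : Fam} (ht : t = .psl 9 ∨ t = .psu 9) {q : ℕ} (hq : q % 2 = 1) (hq3 : 3 ≤ q) :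
    ∃ M : ℕ, M ∣ tnum t q 5 ∧ Odd M ∧ (∀ r : ℕ, r.Prime → r ∣ M → In t q 5 r) ∧
      (((M : ℤ) = (sg t q) ^ 4 + (sg t q) ^ 3 + (sg t q) ^ 2 + sg t q + 1) ∨
        ((5 : ℤ) ∣ sg t q - 1 ∧ 5 * (M : ℤ) = (sg t q) ^ 4 + (sg t q) ^ 3 + (sg t q) ^ 2 + sg t q + 1)) := by
  obtain ⟨x, hx⟩ : ∃ x : ℤ, x = sg t q := ⟨_, rfl⟩
  rw [← hx]
  have hsl : sg (.psl 9) q = (q : ℤ) := rfl
  have hsu : sg (.psu 9) q = -(q : ℤ) := rfl
  have hxo : x % 2 = 1 := by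
    rcases ht with rfl | rfl
    · rw [hx, hsl]; omega
    · rw [hx, hsu]; omega
  have hpos : 0 < x ^ 4 + x ^ 3 + x ^ 2 + x + 1 := by
    nlinarith [sq_nonneg (2 * x ^ 2 + x), sq_nonneg (x + 1), sq_nonneg x]
  have htn : ∀ M : ℤ, M ∣ x ^ 4 + x ^ 3 + x ^ 2 + x + 1 → M ∣ ((tnum t q 5 : ℕ) : ℤ) := by
    intro M hM
    have h1 : M ∣ x ^ 5 - 1 := hM.trans ⟨x - 1, by ring⟩
    rcases ht with rfl | rfl
    · have h2 : ((tnum (.psl 9) q 5 : ℕ) : ℤ) = x ^ 5 - 1 := by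
        rw [tnum, hx, hsl, Nat.cast_sub (Nat.one_le_pow _ _ (by omega))]
        push_cast; ring
      rw [h2]; exact h1
    · have h2 : ((tnum (.psu 9) q 5 : ℕ) : ℤ) = -(x ^ 5 - 1) := by
        rw [tnum, if_neg (by decide), hx, hsu]
        push_cast; ring
      rw [h2, dvd_neg]; exact h1
  have hmem : mem t 5 := by
    rcases ht with rfl | rfl <;> (show (5 : ℕ) ≤ 9; norm_num)
  have hIn : ∀ r : ℕ, r.Prime → orderOf (x : ZMod r) = 5 → In t q 5 r := fun r hr h =>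
    ⟨hr, by rw [cls, ← hx]; exact h, by norm_num, hmem⟩
  have hodd : ∀ m : ℤ, m ∣ x ^ 4 + x ^ 3 + x ^ 2 + x + 1 → ¬ (2 : ℤ) ∣ m := by
    intro m hm h2
    have h3 := h2.trans hm
    obtain ⟨k, hk⟩ : ∃ k, x = 2 * k + 1 := ⟨x / 2, by omega⟩
    rw [hk] at h3
    have h4 : (2 * k + 1) ^ 4 + (2 * k + 1) ^ 3 + (2 * k + 1) ^ 2 + (2 * k + 1) + 1 =
        2 * (8 * k ^ 4 + 20 * k ^ 3 + 20 * k ^ 2 + 10 * k + 2) + 1 := by ring
    rw [h4] at h3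
    omega
  by_cases h5 : (5 : ℤ) ∣ x - 1
  · obtain ⟨M, hM, hM5⟩ := not25 h5
    have hM0 : 0 < M := by nlinarith
    obtain ⟨m, rfl⟩ : ∃ m : ℕ, M = m := ⟨M.toNat, (Int.toNat_of_nonneg hM0.le).symm⟩
    have hmP : (m : ℤ) ∣ x ^ 4 + x ^ 3 + x ^ 2 + x + 1 := ⟨5, by rw [hM]; ring⟩
    refine ⟨m, Int.natCast_dvd_natCast.1 (htn _ hmP), ?_, ?_, Or.inr ⟨h5, hM.symm⟩⟩
    · rw [← Nat.not_even_iff_odd, even_iff_two_dvd]
      intro h2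
      exact hodd _ hmP (by exact_mod_cast Int.natCast_dvd_natCast.2 h2)
    · intro r hr hrm
      rcases five_cases hr ((Int.natCast_dvd_natCast.2 hrm).trans hmP) with h6 | ⟨h6, -⟩
      · exact hIn r hr h6
      · exact absurd (by rw [h6] at hrm; exact_mod_cast Int.natCast_dvd_natCast.2 hrm) hM5
  · obtain ⟨m, hm⟩ : ∃ m : ℕ, x ^ 4 + x ^ 3 + x ^ 2 + x + 1 = m := ⟨_, (Int.toNat_of_nonneg hpos.le).symm⟩
    have hmP : (m : ℤ) ∣ x ^ 4 + x ^ 3 + x ^ 2 + x + 1 := by rw [hm]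
    refine ⟨m, Int.natCast_dvd_natCast.1 (htn _ hmP), ?_, ?_, Or.inl hm.symm⟩
    · rw [← Nat.not_even_iff_odd, even_iff_two_dvd]
      intro h2
      exact hodd _ hmP (by exact_mod_cast Int.natCast_dvd_natCast.2 h2)
    · intro r hr hrm
      rcases five_cases hr ((Int.natCast_dvd_natCast.2 hrm).trans hmP) with h6 | ⟨-, h6⟩
      · exact hIn r hr h6
      · exact absurd h6 h5

/-! ### the inequalities -/

theorem u_bound {q u : ℕ} (hu : 2 ≤ u) : u ^ 2 + u + 1 ≤ 2 * u ^ 2 := by nlinarith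

theorem neg_lower {q : ℕ} (hq3 : 3 ≤ q) :
    (3 : ℤ) * (q : ℤ) ^ 4 ≤ 4 * ((-(q : ℤ)) ^ 4 + (-(q : ℤ)) ^ 3 + (-(q : ℤ)) ^ 2 + -(q : ℤ) + 1) := by
  obtain ⟨s, rfl⟩ : ∃ s, q = s + 3 := ⟨q - 3, by omega⟩
  push_cast
  have h : (0 : ℤ) ≤ 4 * ((-((s : ℤ) + 3)) ^ 4 + (-((s : ℤ) + 3)) ^ 3 + (-((s : ℤ) + 3)) ^ 2 + -((s : ℤ) + 3) + 1) -
      3 * ((s : ℤ) + 3) ^ 4 := by
    ring_nf
    positivity
  linarith

/-- `L₉` -/
theorem ar_psl {q u M : ℕ} (hq : q % 2 = 1) (hq3 : 3 ≤ q) (hu : 2 ≤ u) (hMu : M ≤ u ^ 2 + u + 1)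
    (hM : ((M : ℤ) = (q : ℤ) ^ 4 + (q : ℤ) ^ 3 + (q : ℤ) ^ 2 + q + 1) ∨
        ((5 : ℤ) ∣ (q : ℤ) - 1 ∧ 5 * (M : ℤ) = (q : ℤ) ^ 4 + (q : ℤ) ^ 3 + (q : ℤ) ^ 2 + q + 1))
    (hB : u ^ 24 ≤ 360 * (2 * 9 * q * (3 * q ^ 28))) : False := by
  have hB' : u ^ 24 ≤ 19440 * q ^ 29 := hB.trans (le_of_eq (by ring))
  have h2 := u_bound (q := q) hu
  rcases hM with h | ⟨h5, h⟩
  · have h1 : M = q ^ 4 + q ^ 3 + q ^ 2 + q + 1 := by exact_mod_cast h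
    have h3 : 1 * q ^ 4 ≤ 2 * u ^ 2 := by
      have : 0 ≤ q ^ 3 := Nat.zero_le _
      omega
    have h4 : 3 ^ 4 ≤ q ^ 4 := Nat.pow_le_pow_left hq3 4
    have h7 : 5 ≤ u := by
      by_contra hcon
      have : u ^ 2 ≤ 4 ^ 2 := Nat.pow_le_pow_left (by omega) 2
      omega
    exact NumAr.cmp h3 hB' h7 (by norm_num) (by norm_num) (by norm_num)
  · have h1 : 5 * M = q ^ 4 + q ^ 3 + q ^ 2 + q + 1 := by exact_mod_cast h
    have h3 : 1 * q ^ 4 ≤ 10 * u ^ 2 := by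
      have : 0 ≤ q ^ 3 := Nat.zero_le _
      omega
    have hq11 : 11 ≤ q := by omega
    have h4 : 11 ^ 4 ≤ q ^ 4 := Nat.pow_le_pow_left hq11 4
    have h7 : 17 ≤ u := by
      by_contra hcon
      have : u ^ 2 ≤ 16 ^ 2 := Nat.pow_le_pow_left (by omega) 2
      omega
    exact NumAr.cmp h3 hB' h7 (by norm_num) (by norm_num) (by norm_num)

/-- `U₉` -/
theorem ar_psu {q u M : ℕ} (hq : q % 2 = 1) (hq3 : 3 ≤ q) (hu : 2 ≤ u) (hMu : M ≤ u ^ 2 + u + 1)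
    (hM : ((M : ℤ) = (-(q : ℤ)) ^ 4 + (-(q : ℤ)) ^ 3 + (-(q : ℤ)) ^ 2 + -(q : ℤ) + 1) ∨
        ((5 : ℤ) ∣ -(q : ℤ) - 1 ∧ 5 * (M : ℤ) = (-(q : ℤ)) ^ 4 + (-(q : ℤ)) ^ 3 + (-(q : ℤ)) ^ 2 + -(q : ℤ) + 1))
    (hB : u ^ 24 ≤ 360 * (2 * 9 * q * q ^ 28)) : False := by
  have hB' : u ^ 24 ≤ 6480 * q ^ 29 := hB.trans (le_of_eq (by ring))
  have h2 := u_bound (q := q) hu
  have h9 := neg_lower hq3
  rcases hM with h | ⟨h5, h⟩
  · rw [← h] at h9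
    have h1 : 3 * q ^ 4 ≤ 4 * M := by exact_mod_cast h9
    have h3 : 3 * q ^ 4 ≤ 8 * u ^ 2 := by omega
    have h4 : 3 ^ 4 ≤ q ^ 4 := Nat.pow_le_pow_left hq3 4
    have h7 : 6 ≤ u := by
      by_contra hcon
      have : u ^ 2 ≤ 5 ^ 2 := Nat.pow_le_pow_left (by omega) 2
      omega
    exact NumAr.cmp h3 hB' h7 (by norm_num) (by norm_num) (by norm_num)
  · rw [← h] at h9
    have h1 : 3 * q ^ 4 ≤ 20 * M := by
      have : (3 : ℤ) * (q : ℤ) ^ 4 ≤ 20 * (M : ℤ) := by linarith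
      exact_mod_cast this
    have h3 : 3 * q ^ 4 ≤ 40 * u ^ 2 := by omega
    have hq9 : 9 ≤ q := by omega
    have h4 : 9 ^ 4 ≤ q ^ 4 := Nat.pow_le_pow_left hq9 4
    have h7 : 19 ≤ u := by
      by_contra hcon
      have : u ^ 2 ≤ 18 ^ 2 := Nat.pow_le_pow_left (by omega) 2
      omega
    exact NumAr.cmp h3 hB' h7 (by norm_num) (by norm_num) (by norm_num)

end SurvN

end Cfsg.Agent.R2.Spec.EE
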