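import Cfsg.Agent.R2.Spec.EE.SurvE8
import Cfsg.Agent.R2.Spec.EE.SurvN6
import Cfsg.Agent.R2.Spec.EE.RowN

/-!
# The surviving rows of `E₆`, `²E₆`: `L₉`, `U₉` (helper11)
-/

set_option autoImplicit false
set_option linter.unusedSectionVars false
set_option linter.unusedVariables false

namespace Cfsg.Agent.R2.Spec.EE

open Subgroup Cfsg
open Cfsg.Agent.H426.LieFam Cfsg.Agent.R2.Spec Cfsg.Agent.R2.Spec.P1 Cfsg.Agent.R2.Spec.F1

universe u w

namespace SurvN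

/-- the order from the position -/
theorem order_of_kcl {cl : List ℕ} {u y i : ℕ} (hi : i < cl.length) (h : kcl cl u y = i) :
    orderOf ((u : ℕ) : ZMod y) = cl.getD i 0 := by
  rw [kcl] at h
  have h4 : cl.idxOf (orderOf ((u : ℕ) : ZMod y)) < cl.length := by rw [h]; exact hi
  rw [← h, List.getD_eq_getElem _ _ h4, List.getElem_idxOf h4]

theorem testBit_two_pow_eq {n x : ℕ} (h : (2 ^ n : ℕ).testBit x = true) : x = n := by
  rw [Nat.testBit_two_pow, decide_eq_true_iff] at h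
  exact h.symm

end SurvN

open SurvN

section main

variable {t : Fam} {p f : ℕ} {L : Type w} [Group L] [Finite L] {G : Type u} [Group G] [Finite G]
  {K : Subgroup G} [K.Normal] {S : Subgroup (G ⧸ K)} [S.Normal] {v f' : ℕ}

theorem big_five {t : Fam} (ht : t = .psl 9 ∨ t = .psu 9) : Big t 5 := by
  rcases ht with rfl | rfl
  · exact ⟨by norm_num, (show (5 : ℕ) ≤ 9 by norm_num), (show (9 : ℕ) < 2 * 5 by norm_num)⟩
  · exact ⟨by norm_num, (show (5 : ℕ) ≤ 9 by norm_num), (show (9 : ℕ) < 2 * 5 by norm_num)⟩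

theorem five_nine {t : Fam} (ht : t = .psl 9 ∨ t = .psu 9) : Five t := by
  rcases ht with rfl | rfl <;> exact (show (9 : ℕ) ≤ 9 from le_rfl)

theorem rk_nine {t : Fam} (ht : t = .psl 9 ∨ t = .psu 9) : rk t = 9 ∧ ∀ i, wt t i = i := by
  rcases ht with rfl | rfl <;> exact ⟨rfl, fun _ => rfl⟩

/-- the arithmetic for both families -/
theorem ar_nine {t : Fam} (ht : t = .psl 9 ∨ t = .psu 9) {q u M : ℕ} (hq : q % 2 = 1) (hq3 : 3 ≤ q) (hu : 2 ≤ u)
    (hMu : M ≤ u ^ 2 + u + 1)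
    (hM : ((M : ℤ) = (sg t q) ^ 4 + (sg t q) ^ 3 + (sg t q) ^ 2 + sg t q + 1) ∨
        ((5 : ℤ) ∣ sg t q - 1 ∧ 5 * (M : ℤ) = (sg t q) ^ 4 + (sg t q) ^ 3 + (sg t q) ^ 2 + sg t q + 1))
    (hB : u ^ 24 ≤ 360 * (2 * rk t * q * RR t q)) : False := by
  rcases ht with rfl | rfl
  · exact ar_psl hq hq3 hu hMu hM (hB.trans (Nat.mul_le_mul_left _ (Nat.mul_le_mul_left _ (RR_psl9 hq3))))
  · exact ar_psu hq hq3 hu hMu hM (hB.trans (Nat.mul_le_mul_left _ (Nat.mul_le_mul_left _ (RR_psu9 hq3))))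

/-- **`E₆` and `L₉`, `U₉`.** -/
theorem surv_e6 (h : EX t p f L G K S .e6 v f' tabE6 (kcl clE6 (v ^ f'))) (ht : t = .psl 9 ∨ t = .psu 9) : False := by
  obtain ⟨hq, hq3⟩ := h.q_odd
  obtain ⟨hrk, hwt⟩ := rk_nine ht
  have h5 := five_nine ht
  have hb := big_five ht
  obtain ⟨M, hM, hodd, hin, hval⟩ := five_num ht hq hq3
  obtain ⟨g, hg⟩ := exists_tor h.ls h.is (by norm_num) hb.2.1 hodd hM hin
  have hgd := h.gd_all fun M hM5 hM => flt6 h.ls h.is h.p2 h.frm.is (Or.inr ⟨hwt, by omega⟩) hM5 hM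
  have hk : (dat tabE6.tbl t (cls3 t)).go (cls3 t).length (st0 tabE6.tbl (cls3 t) (tabE6.domX 5 32)) 0 = false := by
    rcases ht with rfl | rfl
    · exact n6_psl9
    · exact n6_psu9
  have key : ∀ y : ℕ, y.Prime → y ∣ M → y ≠ v ∧ ¬ y ∣ Nat.card ↥K ∧ (32 : ℕ).testBit (kcl clE6 (v ^ f') y) = true :=
    fun y hy hd => val_mask (T := tabE6) (by decide) (h.row_val hgd hk (h.gd_big h5 (hin y hy hd) hb))
  have hu : 2 ≤ v ^ f' := by
    obtain ⟨F, _, _, _, hF, -⟩ := h.frm.is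
    rw [← hF]; exact Fintype.one_lt_card
  refine ar_nine ht hq hq3 hu (numA6 h.ef.vp h.frm.is hg (fun y hy hd => (key y hy hd).2.1)
    (fun y hy hd => h.big_index h5 (hin y hy hd) hb (key y hy hd).2.1)
    (fun y hy hd => ⟨(hin y hy hd).five, (key y hy hd).1⟩) fun y hy hd => ?_) hval ?_
  · exact order_of_kcl (by decide) (testBit_two_pow_eq (n := 5) (key y hy hd).2.2)
  · exact (bigB6 h.ls h.is h.p2 h.frm.is).trans (Nat.mul_le_mul_right _ (by norm_num))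

/-- **`²E₆` and `L₉`, `U₉`.** -/
theorem surv_te6 (h : EX t p f L G K S .te6 v f' tabTE6 (kcl clTE6 (v ^ f'))) (ht : t = .psl 9 ∨ t = .psu 9) :
    False := by
  obtain ⟨hq, hq3⟩ := h.q_odd
  obtain ⟨hrk, hwt⟩ := rk_nine ht
  have h5 := five_nine ht
  have hb := big_five ht
  have hv := h.ef.vp
  obtain ⟨M, hM, hodd, hin, hval⟩ := five_num ht hq hq3
  obtain ⟨g, hg⟩ := exists_tor h.ls h.is (by norm_num) hb.2.1 hodd hM hin
  have hgd := h.gd_all fun M hM5 hM => fltT6 h.ls h.is h.p2 hv h.frm.is (Or.inr ⟨hwt, by omega⟩) hM5 hM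
  have hk : (dat tabTE6.tbl t (cls3 t)).go (cls3 t).length (st0 tabTE6.tbl (cls3 t) (tabTE6.domX 5 4)) 0 = false := by
    rcases ht with rfl | rfl
    · exact nt6_psl9
    · exact nt6_psu9
  have key : ∀ y : ℕ, y.Prime → y ∣ M → y ≠ v ∧ ¬ y ∣ Nat.card ↥K ∧ (4 : ℕ).testBit (kcl clTE6 (v ^ f') y) = true :=
    fun y hy hd => val_mask (T := tabTE6) (by decide) (h.row_val hgd hk (h.gd_big h5 (hin y hy hd) hb))
  have hu : 2 ≤ v ^ f' := by
    obtain ⟨F, _, _, _, hF, -⟩ := h.frm.is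
    have h1 := Fintype.one_lt_card (α := F)
    rw [hF] at h1
    by_contra hcon
    have : v ^ f' ≤ 1 := by omega
    have := Nat.pow_le_pow_left this 2
    omega
  refine ar_nine ht hq hq3 hu (numAT6 hv h.frm.is hg (fun y hy hd => (key y hy hd).2.1)
    (fun y hy hd => h.big_index h5 (hin y hy hd) hb (key y hy hd).2.1)
    (fun y hy hd => ⟨(hin y hy hd).five, (key y hy hd).1⟩) fun y hy hd => ?_) hval ?_
  · exact order_of_kcl (by decide) (testBit_two_pow_eq (n := 2) (key y hy hd).2.2)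
  · exact bigBT6 h.ls h.is h.p2 hv h.frm.is

end main

end Cfsg.Agent.R2.Spec.EE
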