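import Cfsg.Agent.R2.Spec.EE.SmE7
import Cfsg.Agent.R2.Spec.EE.SurvE6
import Cfsg.Agent.R2.Spec.EE.RowL8
import Cfsg.Agent.R2.Spec.EE.NumBS
import Cfsg.Agent.R2.Spec.EE.SmL8N

/-!
# Small rank, `psl 8`, `psu 8`, `S = E₆(u), ²E₆(u), F₄(u)` (helper15)

* `EX.one_cls` : a class with all its values in a set of pairwise nonadjacent classes : the primitive part of `Φ_n(q)` is
  an element order of `S`, all the primes in one class;
* `sm_l8_e6`, `sm_l8_te6`, `sm_l8_f4`.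
-/

set_option autoImplicit false
set_option linter.unusedSectionVars false
set_option linter.unusedVariables false

namespace Cfsg.Agent.R2.Spec.EE

open Subgroup Cfsg Polynomial
open Cfsg.Agent.H426.LieFam Cfsg.Agent.R2.Spec Cfsg.Agent.R2.Spec.P1 Cfsg.Agent.R2.Spec.F1
open Cfsg.Agent.H365.Zsig

universe u w

section gen

variable {t : Fam} {p f : ℕ} {L : Type w} [Group L] [Finite L] {G : Type u} [Group G] [Finite G]
  {K : Subgroup G} [K.Normal] {S : Subgroup (G ⧸ K)} [S.Normal] {t' : Fam} {v f' : ℕ} {T : Tab} {cl : List ℕ}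

/-- **A class with all its values in pairwise nonadjacent classes of `S`.** -/
theorem EX.one_cls (h : EX t p f L G K S t' v f' T (kcl cl (v ^ f')))
    (hgd : ∀ i ∈ cls3 t, ∃ y, Gd t (p ^ f) (Nat.card ↥K) S.index i y) {i0 m : ℕ} (hi : 3 ≤ i0) (hm : mem t i0)
    (hkl : Killer (KI t i0) i0) (hk : SmL8.KF T t i0 m) (hmn : m < 2 ^ T.n) (hcl : T.n = cl.length)
    (hpw : ∀ x < T.n, ∀ y < T.n, m.testBit x = true → m.testBit y = true → x ≠ y →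
      (T.na.getD x 0).testBit y = true) (hm0 : ∃ x < T.n, m.testBit x = true) :
    ∃ s : S, orderOf s = Pm (idx t i0) (p ^ f) ∧ ∃ x < T.n, m.testBit x = true ∧
      ∀ r : ℕ, r.Prime → r ∣ Pm (idx t i0) (p ^ f) → 5 ≤ r ∧ r ≠ v ∧ orderOf ((v ^ f' : ℕ) : ZMod r) = cl.getD x 0 := by
  obtain ⟨hq, hq3⟩ := h.q_odd
  obtain ⟨hM, hodd, hin⟩ := Pm_tor h.ls.cla hq hq3 hi hm
  obtain ⟨g, hg⟩ := exists_tor h.ls h.is hi hm hodd hM hin
  have key : ∀ y : ℕ, y.Prime → y ∣ Pm (idx t i0) (p ^ f) →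
      y ≠ v ∧ ¬ y ∣ Nat.card ↥K ∧ m.testBit (kcl cl (v ^ f') y) = true :=
    fun y hy hd => val_mask hmn (h.row_val hgd hk (h.gd_of_kill (hin y hy hd) hkl))
  obtain ⟨s, hs⟩ := exists_of_coprime hg (fun y hy hd => (key y hy hd).2.1)
    (fun y hy hd => h.kill (hin y hy hd) (key y hy hd).2.1 hkl)
  refine ⟨s, hs, ?_⟩
  have hcard : ∀ y : ℕ, y ∣ Pm (idx t i0) (p ^ f) → y ∣ Nat.card ↥S := fun y hd =>
    (hs ▸ hd : y ∣ orderOf s).trans (orderOf_dvd_natCard s)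
  have hlt : ∀ y : ℕ, y.Prime → y ∣ Pm (idx t i0) (p ^ f) → kcl cl (v ^ f') y < T.n := fun y hy hd =>
    h.ef.sok.lt y hy (hin y hy hd).five (key y hy hd).1 (hcard y hd)
  have hord : ∀ (y x : ℕ), y.Prime → y ∣ Pm (idx t i0) (p ^ f) → kcl cl (v ^ f') y = x →
      orderOf ((v ^ f' : ℕ) : ZMod y) = cl.getD x 0 := by
    intro y x hy hd hx
    exact SurvN.order_of_kcl (by rw [← hcl, ← hx]; exact hlt y hy hd) hx
  by_cases h1 : Pm (idx t i0) (p ^ f) = 1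
  · obtain ⟨x, hx, hmx⟩ := hm0
    refine ⟨x, hx, hmx, fun r hr hrd => ?_⟩
    rw [h1] at hrd
    exact absurd (Nat.dvd_one.1 hrd) hr.one_lt.ne'
  · obtain ⟨y, hy, hyd⟩ := Nat.exists_prime_and_dvd h1
    refine ⟨kcl cl (v ^ f') y, hlt y hy hyd, (key y hy hyd).2.2, fun r hr hrd =>
      ⟨(hin r hr hrd).five, (key r hr hrd).1, hord r _ hr hrd ?_⟩⟩
    by_contra hne
    have hry : r ≠ y := fun h2 => hne (by rw [h2])
    refine h.ef.sok.na r y hr hy (hin r hr hrd).five (hin y hy hyd).five (key r hr hrd).1 (key y hy hyd).1 hry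
      (hcard r hrd) (hcard y hyd) (hpw _ (hlt r hr hrd) _ (hlt y hy hyd) (key r hr hrd).2.2 (key y hy hyd).2.2 hne) ?_
    exact exists_mul_of_dvd (x := s) hr hy hry (hs ▸ hrd) (hs ▸ hyd)

/-- **`E₆`** -/
theorem one_e6 (h : EX t p f L G K S .e6 v f' tabE6 (kcl clE6 (v ^ f'))) (hr : rk t ≤ 8) {i0 m : ℕ} (hi : 3 ≤ i0)
    (hm : mem t i0) (hkl : Killer (KI t i0) i0) (hk : SmL8.KF tabE6 t i0 m) (hmn : m < 2 ^ 9)
    (hpw : ∀ x < 9, ∀ y < 9, m.testBit x = true → m.testBit y = true → x ≠ y →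
      (tabE6.na.getD x 0).testBit y = true) (hm0 : ∃ x < 9, m.testBit x = true)
    (hphi : ∀ x < 9, m.testBit x = true → 6 < 4 * (clE6.getD x 0).totient) :
    ∃ x < 9, m.testBit x = true ∧
      (Pm (idx t i0) (p ^ f) : ℤ) ∣ (cyclotomic (clE6.getD x 0) ℤ).eval ((v ^ f' : ℕ) : ℤ) := by
  obtain ⟨s, hs, x, hx, hmx, hall⟩ := h.one_cls (h.gd_e6 (Or.inl hr)) hi hm hkl hk hmn rfl hpw hm0
  refine ⟨x, hx, hmx, ?_⟩
  obtain ⟨F, _, _, _, hcF, ⟨e⟩⟩ := h.frm.is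
  have hq : Nat.card F = v ^ f' := by rw [Nat.card_eq_fintype_card, hcF]
  have h0 : 0 < clE6.getD x 0 := by
    have := hphi x hx hmx
    rw [Nat.pos_iff_ne_zero]
    intro h2
    rw [h2, Nat.totient_zero] at this
    omega
  have h1 := SurvN.ord_one (H482.TwoCyc.Untw.ords_E6 (e s)) h0 (hphi x hx hmx) (by
    intro r hr hrd
    rw [MulEquiv.orderOf_eq, hs] at hrd
    obtain ⟨h5, hv, ho⟩ := hall r hr hrd
    refine ⟨h5, ?_, ?_⟩
    · rw [hq]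
      intro h1
      exact hv ((Nat.prime_dvd_prime_iff_eq hr h.ef.vp).1 (hr.dvd_of_dvd_pow h1))
    · rw [hq]
      exact ho)
  rw [MulEquiv.orderOf_eq, hs, hq] at h1
  exact h1

/-- **`²E₆`** -/
theorem one_te6 (h : EX t p f L G K S .te6 v f' tabTE6 (kcl clTE6 (v ^ f'))) (hr : rk t ≤ 8) {i0 m : ℕ} (hi : 3 ≤ i0)
    (hm : mem t i0) (hkl : Killer (KI t i0) i0) (hk : SmL8.KF tabTE6 t i0 m) (hmn : m < 2 ^ 9)
    (hpw : ∀ x < 9, ∀ y < 9, m.testBit x = true → m.testBit y = true → x ≠ y →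
      (tabTE6.na.getD x 0).testBit y = true) (hm0 : ∃ x < 9, m.testBit x = true)
    (hphi : ∀ x < 9, m.testBit x = true → 6 < 4 * (clTE6.getD x 0).totient) :
    ∃ x < 9, m.testBit x = true ∧
      (Pm (idx t i0) (p ^ f) : ℤ) ∣ (cyclotomic (clTE6.getD x 0) ℤ).eval ((v ^ f' : ℕ) : ℤ) := by
  obtain ⟨s, hs, x, hx, hmx, hall⟩ := h.one_cls (h.gd_te6 (Or.inl hr)) hi hm hkl hk hmn rfl hpw hm0
  refine ⟨x, hx, hmx, ?_⟩
  have hv' := h.ef.vp
  obtain ⟨hu2, hf⟩ := te6_two hv' h.frm.is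
  obtain ⟨F, _, _, _, hcF, ⟨e⟩⟩ := h.frm.is
  have h0 : 0 < clTE6.getD x 0 := by
    have := hphi x hx hmx
    rw [Nat.pos_iff_ne_zero]
    intro h2
    rw [h2, Nat.totient_zero] at this
    omega
  have h1 := SurvN.ord_one (H482.TwoCyc.Untw.ords_2E6 (q := v ^ f') (hv'.isPrimePow.pow (by omega)) hcF (e s)) h0
    (hphi x hx hmx) (by
    intro r hr hrd
    rw [MulEquiv.orderOf_eq, hs] at hrd
    obtain ⟨h5, hv, ho⟩ := hall r hr hrd
    refine ⟨h5, ?_, ho⟩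
    intro h1
    exact hv ((Nat.prime_dvd_prime_iff_eq hr hv').1 (hr.dvd_of_dvd_pow h1)))
  rw [MulEquiv.orderOf_eq, hs] at h1
  exact h1

/-- **`F₄`** -/
theorem one_f4 (h : EX t p f L G K S .f4 v f' tabF4 (kcl clF4 (v ^ f')))
    (hr : rk t ≤ 7 ∨ ((∀ i, wt t i = i) ∧ rk t ≤ 9)) {i0 m : ℕ} (hi : 3 ≤ i0)
    (hm : mem t i0) (hkl : Killer (KI t i0) i0) (hk : SmL8.KF tabF4 t i0 m) (hmn : m < 2 ^ 7)
    (hpw : ∀ x < 7, ∀ y < 7, m.testBit x = true → m.testBit y = true → x ≠ y →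
      (tabF4.na.getD x 0).testBit y = true) (hm0 : ∃ x < 7, m.testBit x = true)
    (hphi : ∀ x < 7, m.testBit x = true → 4 < 4 * (clF4.getD x 0).totient) :
    ∃ x < 7, m.testBit x = true ∧
      (Pm (idx t i0) (p ^ f) : ℤ) ∣ (cyclotomic (clF4.getD x 0) ℤ).eval ((v ^ f' : ℕ) : ℤ) := by
  obtain ⟨s, hs, x, hx, hmx, hall⟩ := h.one_cls (h.gd_f4 hr) hi hm hkl hk hmn rfl hpw hm0
  refine ⟨x, hx, hmx, ?_⟩
  obtain ⟨F, _, _, _, hcF, ⟨e⟩⟩ := h.frm.is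
  have hq : Nat.card F = v ^ f' := by rw [Nat.card_eq_fintype_card, hcF]
  have h0 : 0 < clF4.getD x 0 := by
    have := hphi x hx hmx
    rw [Nat.pos_iff_ne_zero]
    intro h2
    rw [h2, Nat.totient_zero] at this
    omega
  have h1 := SurvN.ord_one (H482.TwoCyc.Untw.ords_F4 (e s)) h0 (hphi x hx hmx) (by
    intro r hr hrd
    rw [MulEquiv.orderOf_eq, hs] at hrd
    obtain ⟨h5, hv, ho⟩ := hall r hr hrd
    refine ⟨h5, ?_, ?_⟩
    · rw [hq]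
      intro h1
      exact hv ((Nat.prime_dvd_prime_iff_eq hr h.ef.vp).1 (hr.dvd_of_dvd_pow h1))
    · rw [hq]
      exact ho)
  rw [MulEquiv.orderOf_eq, hs, hq] at h1
  exact h1

/-! ### the rows -/

namespace SmL8

theorem gcd_one {T : Tab} {k : ℕ → ℕ} (h : EX t p f L G K S t' v f' T k) : Nat.gcd (v ^ f') (p ^ f) = 1 :=
  Nat.Coprime.pow _ _ ((Nat.coprime_primes h.ef.vp h.ls.prime).2 h.vp)

theorem idx7 {t : Fam} (ht : t = .psl 8 ∨ t = .psu 8) : idx t 7 = 7 ∨ idx t 7 = 14 := by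
  rcases ht with rfl | rfl
  · exact Or.inl (by decide)
  · exact Or.inr (by decide)

theorem idx8 {t : Fam} (ht : t = .psl 8 ∨ t = .psu 8) : idx t 8 = 8 := by
  rcases ht with rfl | rfl <;> decide

theorem idx5 {t : Fam} (ht : t = .psl 8 ∨ t = .psu 8) : idx t 5 = 5 ∨ idx t 5 = 10 := by
  rcases ht with rfl | rfl
  · exact Or.inl (by decide)
  · exact Or.inr (by decide)

theorem mem8 {t : Fam} (ht : t = .psl 8 ∨ t = .psu 8) {i : ℕ} (hi : i ≤ 8) : mem t i := by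
  rcases ht with rfl | rfl <;> exact hi

theorem rk8 {t : Fam} (ht : t = .psl 8 ∨ t = .psu 8) : rk t = 8 ∧ ∀ i, wt t i = i := by
  rcases ht with rfl | rfl <;> exact ⟨rfl, fun _ => rfl⟩

theorem kl8 {t : Fam} (ht : t = .psl 8 ∨ t = .psu 8) : Killer (KI t 8) 8 := by
  rcases ht with rfl | rfl <;> exact kill56 7 7 (by decide) (by decide)

theorem kl7 {t : Fam} (ht : t = .psl 8 ∨ t = .psu 8) : Killer (KI t 7) 7 := by
  rcases ht with rfl | rfl <;> exact kill8 5 (by norm_num) (by decide) (by norm_num) (by norm_num)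

theorem kl5 {t : Fam} (ht : t = .psl 8 ∨ t = .psu 8) : Killer (KI t 5) 5 := by
  rcases ht with rfl | rfl <;> exact kill8 7 (by norm_num) (by decide) (by norm_num) (by norm_num)

theorem rr8 {t : Fam} (ht : t = .psl 8 ∨ t = .psu 8) {q : ℕ} (hq : 3 ≤ q) : RR t q ≤ 3 * q ^ 22 := by
  rcases ht with rfl | rfl
  · exact RR_psl8 hq
  · exact (RR_psu8 hq).trans (Nat.mul_le_mul_right _ (by norm_num))

end SmL8

open SmL8

/-- **`psl 8`, `psu 8` and `E₆(u)`.** -/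
theorem sm_l8_e6 (h : EX t p f L G K S .e6 v f' tabE6 (kcl clE6 (v ^ f'))) (ht : t = .psl 8 ∨ t = .psu 8) : False := by
  obtain ⟨hq, hq3⟩ := h.q_odd
  obtain ⟨hrk, hwt⟩ := rk8 ht
  have hu : 2 ≤ v ^ f' := by
    obtain ⟨F, _, _, _, hF, -⟩ := h.frm.is
    rw [← hF]; exact Fintype.one_lt_card
  have hcl : ∀ x < 9, (448 : ℕ).testBit x = true → (clE6.getD x 0 = 8 ∨ clE6.getD x 0 = 12) ∨ clE6.getD x 0 = 9 := by
    decide
  obtain ⟨x, hx, hmx, hdx⟩ := one_e6 h (by omega) (i0 := 7) (m := 448) (by norm_num) (mem8 ht (by norm_num)) (kl7 ht)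
    (by rcases ht with rfl | rfl; exacts [k6_psl_7, k6_psu_7]) (by norm_num) (by decide) (by decide) (by decide)
  obtain ⟨y, hy, hmy, hdy⟩ := one_e6 h (by omega) (i0 := 8) (m := 448) (by norm_num) (mem8 ht (by norm_num)) (kl8 ht)
    (by rcases ht with rfl | rfl; exacts [k6_psl_8, k6_psu_8]) (by norm_num) (by decide) (by decide) (by decide)
  rw [idx8 ht] at hdy
  refine num_e6 (idx7 ht) (Or.inl rfl) hq hq3 hu (gcd_one h) ?_ (hcl x hx hmx) (dvd_ph hdx) (hcl y hy hmy) (dvd_ph hdy)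
  have hB := bigS6 h.ls h.is h.p2 (by omega) (by rw [hwt, hrk]) (by rw [hwt, hrk]; norm_num) h.frm.is
  have h1 : 180 * (max 169 (p ^ f) * RR t (p ^ f)) ≤ 180 * (max 169 (p ^ f) * (3 * (p ^ f) ^ 22)) :=
    Nat.mul_le_mul_left _ (Nat.mul_le_mul_left _ (rr8 ht hq3))
  have h2 : 180 * (max 169 (p ^ f) * (3 * (p ^ f) ^ 22)) = 540 * (max 169 (p ^ f) * (p ^ f) ^ 22) := by ring
  rw [h2] at h1
  have h3 := hB.trans h1
  omega

/-- **`psl 8`, `psu 8` and `²E₆(u)`.** -/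
theorem sm_l8_te6 (h : EX t p f L G K S .te6 v f' tabTE6 (kcl clTE6 (v ^ f'))) (ht : t = .psl 8 ∨ t = .psu 8) :
    False := by
  obtain ⟨hq, hq3⟩ := h.q_odd
  obtain ⟨hrk, hwt⟩ := rk8 ht
  obtain ⟨hu, -⟩ := te6_two h.ef.vp h.frm.is
  have hcl : ∀ x < 9, (416 : ℕ).testBit x = true → (clTE6.getD x 0 = 8 ∨ clTE6.getD x 0 = 12) ∨ clTE6.getD x 0 = 18 := by
    decide
  obtain ⟨x, hx, hmx, hdx⟩ := one_te6 h (by omega) (i0 := 7) (m := 416) (by norm_num) (mem8 ht (by norm_num)) (kl7 ht)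
    (by rcases ht with rfl | rfl; exacts [kt_psl_7, kt_psu_7]) (by norm_num) (by decide) (by decide) (by decide)
  obtain ⟨y, hy, hmy, hdy⟩ := one_te6 h (by omega) (i0 := 8) (m := 416) (by norm_num) (mem8 ht (by norm_num)) (kl8 ht)
    (by rcases ht with rfl | rfl; exacts [kt_psl_8, kt_psu_8]) (by norm_num) (by decide) (by decide) (by decide)
  rw [idx8 ht] at hdy
  refine num_e6 (idx7 ht) (Or.inr rfl) hq hq3 hu (gcd_one h) ?_ (hcl x hx hmx) (dvd_ph hdx) (hcl y hy hmy) (dvd_ph hdy)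
  have hB := bigST6 h.ls h.is h.p2 (by omega) (by rw [hwt, hrk]) (by rw [hwt, hrk]; norm_num) h.ef.vp h.frm.is
  have h1 : 360 * (max 169 (p ^ f) * RR t (p ^ f)) ≤ 360 * (max 169 (p ^ f) * (3 * (p ^ f) ^ 22)) :=
    Nat.mul_le_mul_left _ (Nat.mul_le_mul_left _ (rr8 ht hq3))
  have h2 : 360 * (max 169 (p ^ f) * (3 * (p ^ f) ^ 22)) = 1080 * (max 169 (p ^ f) * (p ^ f) ^ 22) := by ring
  rw [h2] at h1
  have h3 := hB.trans h1
  omega

/-- **`psl 8`, `psu 8` and `F₄(u)`.** -/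
theorem sm_l8_f4 (h : EX t p f L G K S .f4 v f' tabF4 (kcl clF4 (v ^ f'))) (ht : t = .psl 8 ∨ t = .psu 8) : False := by
  obtain ⟨hq, hq3⟩ := h.q_odd
  obtain ⟨hrk, hwt⟩ := rk8 ht
  have hu : 2 ≤ v ^ f' := by
    obtain ⟨F, _, _, _, hF, -⟩ := h.frm.is
    rw [← hF]; exact Fintype.one_lt_card
  have hcl : ∀ x < 7, (28 : ℕ).testBit x = true → clF4.getD x 0 = 3 ∨ clF4.getD x 0 = 4 ∨ clF4.getD x 0 = 6 := by
    decide
  obtain ⟨x, hx, hmx, hdx⟩ := one_f4 h (Or.inr ⟨hwt, by omega⟩) (i0 := 5) (m := 28) (by norm_num)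
    (mem8 ht (by norm_num)) (kl5 ht)
    (by rcases ht with rfl | rfl; exacts [kf_psl_5, kf_psu_5]) (by norm_num) (by decide) (by decide) (by decide)
  refine num_f4 (idx5 ht) hq hq3 hu (gcd_one h) ?_ (hcl x hx hmx) (dvd_ph hdx)
  have hB := bigSF4 h.ls h.is h.p2 (by omega) (by rw [hwt, hrk]) (by rw [hwt, hrk]; norm_num) h.frm.is
  have h1 : 12 * (max 169 (p ^ f) * RR t (p ^ f)) ≤ 12 * (max 169 (p ^ f) * (3 * (p ^ f) ^ 22)) :=
    Nat.mul_le_mul_left _ (Nat.mul_le_mul_left _ (rr8 ht hq3))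
  have h2 : 12 * (max 169 (p ^ f) * (3 * (p ^ f) ^ 22)) = 36 * (max 169 (p ^ f) * (p ^ f) ^ 22) := by ring
  rw [h2] at h1
  have h3 := hB.trans h1
  omega

end gen

end Cfsg.Agent.R2.Spec.EE
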