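import Cfsg.Agent.R2.Spec.EE.SmR5
import Cfsg.Agent.R2.Spec.EE.RowO6

/-!
# Small rank: `oplus 6` and `E₆`, `²E₆` (helper3)

The classes 5 and 10 (killers 10 and 3), on the machinery of helper28 (`SmGp`, `SmR5`):
* `EX.type2` : a group whose values are among `m` (without `v`, `K`, `c3`): a prime of the class `c9`, or small;
* `rokO6`, `RM_oplus6` : `R = RM (oplus 6) q ≤ 2 q^20`;
* `sm_o6_e6`, `sm_o6_te6`.
-/

set_option autoImplicit false
set_option linter.unusedSectionVars false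
set_option linter.unusedVariables false
set_option maxRecDepth 100000

namespace Cfsg.Agent.R2.Spec.EE

open Subgroup Cfsg Polynomial
open Cfsg.Agent Cfsg.Agent.H426.LieFam Cfsg.Agent.R2.Spec Cfsg.Agent.R2.Spec.P1 Cfsg.Agent.R2.Spec.F1
open Cfsg.Agent.H365.Zsig
open NumPoly

universe u w

theorem RM_oplus6 {q : ℕ} (hq : 3 ≤ q) : RM (.oplus 6) q ≤ 2 * q ^ 20 := by
  have h : cycm (.oplus 6) = [1, 2, 3, 4, 5, 6, 8, 10] := by decide
  unfold RM
  rw [h]
  exact bound_pos (by decide) (by decide +kernel) hq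

theorem cyco6 : (cycs (.oplus 6)).filter (fun d => !memb (.oplus 6) d) = [12] := by decide

theorem RN_oplus6 (q : ℕ) : RN (.oplus 6) q = ((q : ℤ) ^ 4 - (q : ℤ) ^ 2 + 1).natAbs := by
  unfold RN
  rw [cyco6, List.map_singleton, List.prod_singleton, show sg (.oplus 6) q = (q : ℤ) from rfl, NumA.eval_12]

theorem nb_oplus6 : Nb (.oplus 6) := by
  intro d hd hm
  have h1 : d ∈ (cycs (.oplus 6)).filter (fun d => !memb (.oplus 6) d) := by
    rw [List.mem_filter]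
    exact ⟨hd, by rw [hm]; rfl⟩
  rw [cyco6, List.mem_singleton] at h1
  subst h1
  refine ⟨by norm_num, fun y hy h5 h6 => ?_⟩
  have h7 : y ≤ 3 := prime_le (n := 12) (by norm_num) (by decide) y hy h6
  omega

/-- `X` is prime to 6 -/
theorem c12' {q : ℕ} (hq : q % 2 = 1) :
    ¬ (2 : ℤ) ∣ (q : ℤ) ^ 4 - (q : ℤ) ^ 2 + 1 ∧ ¬ (3 : ℤ) ∣ (q : ℤ) ^ 4 - (q : ℤ) ^ 2 + 1 := by
  have z3 : ∀ a : ZMod 3, a ^ 4 - a ^ 2 + 1 ≠ 0 := by decide
  have z2 : ∀ a : ZMod 2, a ^ 4 - a ^ 2 + 1 ≠ 0 := by decide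
  have e2 : (2 : ℤ) = ((2 : ℕ) : ℤ) := rfl
  have e3 : (3 : ℤ) = ((3 : ℕ) : ℤ) := rfl
  refine ⟨fun h => ?_, fun h => ?_⟩
  · rw [e2, ← ZMod.intCast_zmod_eq_zero_iff_dvd] at h
    push_cast at h
    exact z2 _ h
  · rw [e3, ← ZMod.intCast_zmod_eq_zero_iff_dvd] at h
    push_cast at h
    exact z3 _ h

section main

variable {t : Fam} {p f : ℕ} {L : Type w} [Group L] [Finite L] {G : Type u} [Group G] [Finite G]
  {K : Subgroup G} [K.Normal] {S : Subgroup (G ⧸ K)} [S.Normal] {t' : Fam} {v f' : ℕ} {T : Tab} {k : ℕ → ℕ}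

/-- **The number `R = RM`.** -/
theorem rokO6 (h : LS (.oplus 6) p f L G) (hI : Fam.Is p f L (.oplus 6)) (hp2 : p ≠ 2) :
    ROk L p (RM (.oplus 6) (p ^ f)) := by
  have hp := h.prime
  obtain ⟨hq, hq3⟩ := q_odd h hp2
  obtain ⟨x2, x3⟩ := c12' hq
  have y2 : ¬ 2 ∣ RN (.oplus 6) (p ^ f) := by
    rw [RN_oplus6]; exact fun h1 => x2 (Int.natCast_dvd.2 h1)
  have y3 : ¬ 3 ∣ RN (.oplus 6) (p ^ f) := by
    rw [RN_oplus6]; exact fun h1 => x3 (Int.natCast_dvd.2 h1)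
  have hRM := RM_ne_zero h.cla (by omega : 2 ≤ p ^ f)
  refine ⟨hRM, ?_, ?_, ?_⟩
  · intro y e hy h5 hyp he hx
    obtain ⟨i, hi1, hi2, h3⟩ := lexp h.cla hp hp2 hI hy (by omega) hyp hx
    exact pow_dvd_RM h nb_oplus6 hy h5 he hyp hx (h3.trans (tnum_dvd_RR h.cla (by omega) hi1 hi2))
  · have h1 : 32 ∣ RR (.oplus 6) (p ^ f) := by
      refine (odd_pow8 hq).trans ?_
      rw [← sg_pow_natAbs (t := .oplus 6) (by omega) (by decide : Even 8)]
      exact natAbs_dvd_RR h.cla (by norm_num) (by decide)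
    rw [RR_split] at h1
    refine Nat.Coprime.dvd_of_dvd_mul_right ?_ h1
    rw [show (32 : ℕ) = 2 ^ 5 by norm_num]
    exact Nat.Coprime.pow_left 5 ((Nat.Prime.coprime_iff_not_dvd Nat.prime_two).2 y2)
  · intro hp3
    have h0 : (p ^ f) % 3 ≠ 0 := fun h2 => by
      have h3 := (Nat.prime_three.dvd_of_dvd_pow (Nat.dvd_of_mod_eq_zero h2))
      exact hp3 ((Nat.prime_dvd_prime_iff_eq Nat.prime_three hp).1 h3).symm
    have h1 : 9 ∣ RR (.oplus 6) (p ^ f) := by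
      refine (pow6_nine h0).trans ?_
      rw [← sg_pow_natAbs (t := .oplus 6) (by omega) (by decide : Even 6)]
      exact natAbs_dvd_RR h.cla (by norm_num) (by decide)
    rw [RR_split] at h1
    refine Nat.Coprime.dvd_of_dvd_mul_right ?_ h1
    rw [show (9 : ℕ) = 3 ^ 2 by norm_num]
    exact Nat.Coprime.pow_left 2 ((Nat.Prime.coprime_iff_not_dvd Nat.prime_three).2 y3)

/-- **One group without `v`, `K`, `c3`** : a prime of the class `c9`, or small. -/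
theorem EX.type2 (h : EX t p f L G K S t' v f' T k) {V : List ℕ} {N e m m' c9 c12 c3 : ℕ} {s : S}
    (g : Gp t (p ^ f) (Nat.card ↥K) S.index e V N s)
    (hm : ∀ i ∈ V, ∀ z, Gd t (p ^ f) (Nat.card ↥K) S.index i z → m'.testBit (val T (Nat.card ↥K) v k z) = true)
    (hmm : ∀ j : ℕ, m'.testBit j = true → m.testBit j = true)
    (hmK : m.testBit (T.n + 2) = false) (h0 : m'.testBit T.n = false) (h1 : m'.testBit (T.n + 1) = false)
    (h3 : m'.testBit c3 = false) {Bd : ℕ → Prop}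
    (hB : ∀ s : S, (∀ y : ℕ, y.Prime → y ∣ orderOf s → 5 ≤ y ∧ y ≠ v ∧ m.testBit (k y) = true ∧ k y < T.n ∧ k y ≠ c9) →
      ¬ (T9 v c12 k (orderOf s) ∧ T9 v c3 k (orderOf s)) → Bd (orderOf s)) :
    T9 v c9 k (orderOf s) ∨ Sml Bd e N := by
  have hKm : m'.testBit (T.n + 2) = false := by
    by_contra hcon
    rw [Bool.not_eq_false] at hcon
    rw [hmm _ hcon] at hmK
    exact Bool.noConfusion hmK
  rcases h.type_of g (fun i hi z hz => hmm _ (hm i hi z hz)) hmK hB with x | x | x | x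
  · obtain ⟨i, hi, hgi⟩ := x
    have h5 := hm i hi v hgi
    rw [val, if_pos rfl] at h5
    split_ifs at h5
    · rw [h1] at h5; exact Bool.noConfusion h5
    · rw [h0] at h5; exact Bool.noConfusion h5
  · exact Or.inl x
  · obtain ⟨y, hy, hy5, hyv, hyd, hyc⟩ := x.2
    obtain ⟨-, i, hi, hgi⟩ := g.gd y hy hyd
    have h5 := hm i hi y hgi
    rw [val, if_neg hyv] at h5
    split_ifs at h5
    · rw [hKm] at h5; exact Bool.noConfusion h5
    · rw [hyc, h3] at h5; exact Bool.noConfusion h5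
  · exact Or.inr x

/-- **`oplus 6`** : the classes 5 and 10. -/
theorem EX.r6p (h : EX (.oplus 6) p f L G K S t' v f' T k) {m m' c9 c12 c3 : ℕ}
    {C : List (List ℕ)}
    (h5 : ∀ z, Gd (.oplus 6) (p ^ f) (Nat.card ↥K) S.index 5 z → m'.testBit (val T (Nat.card ↥K) v k z) = true)
    (h10 : ∀ z, Gd (.oplus 6) (p ^ f) (Nat.card ↥K) S.index 10 z → m'.testBit (val T (Nat.card ↥K) v k z) = true)
    (hmm : ∀ j : ℕ, m'.testBit j = true → m.testBit j = true)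
    (hmK : m.testBit (T.n + 2) = false) (h0 : m'.testBit T.n = false) (h1 : m'.testBit (T.n + 1) = false)
    (h3 : m'.testBit c3 = false) (a9 : (T.adj.getD c9 0).testBit c9 = true)
    (hB : ∀ s : S, (∀ y : ℕ, y.Prime → y ∣ orderOf s → 5 ≤ y ∧ y ≠ v ∧ m.testBit (k y) = true ∧ k y < T.n ∧ k y ≠ c9) →
      ¬ (T9 v c12 k (orderOf s) ∧ T9 v c3 k (orderOf s)) → BdL (v ^ f') C (orderOf s)) {lu : ℕ}
    (hC : Cok C lu (v ^ f')) :
    (p ^ f) ^ 4 ≤ 16 * 1 * (v ^ f') ^ lu ∧ ∃ g ∈ g5c, ∃ l ∈ C, nlf g (p ^ f) ∣ 1 * mlf l (v ^ f') := by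
  obtain ⟨hq, hq3⟩ := h.q_odd
  have m5 : mem (.oplus 6) 5 := Or.inl (show eta 5 + 1 ≤ 6 by decide)
  have m10 : mem (.oplus 6) 10 := Or.inl (show eta 10 + 1 ≤ 6 by decide)
  have i5 : idx (.oplus 6) 5 = 5 := rfl
  have i10 : idx (.oplus 6) 10 = 10 := rfl
  have n510 : na (.oplus 6) 5 10 := na_of_naB (by norm_num) (by norm_num) (by decide)
  obtain ⟨s1, g1⟩ := h.gp1k (i := 5) (by norm_num) m5 (kill8 10 (by norm_num) (by decide) (by norm_num) (by norm_num))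
  obtain ⟨s3, g3⟩ := h.gp1k (i := 10) (by norm_num) m10 (kill8 3 (by norm_num) (by decide) (by norm_num) (by norm_num))
  rw [i5] at g1
  rw [i10] at g3
  have hg : NaG (.oplus 6) [5] [10] := fun a ha b hb => by
    rw [List.mem_singleton.1 ha, List.mem_singleton.1 hb]; exact n510
  have e5 : Sml (BdL (v ^ f') C) 1 (Pm 5 (p ^ f)) →
      (p ^ f) ^ 4 ≤ 16 * 1 * (v ^ f') ^ lu ∧ ∃ g ∈ g5c, ∃ l ∈ C, nlf g (p ^ f) ∣ 1 * mlf l (v ^ f') := fun x => by
    obtain ⟨h1, h2⟩ := fin_of (g := [5]) (by rw [nlf, List.map_singleton, List.prod_singleton]; exact pm_eq (by decide))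
        (ge5 hq3) x hC le_rfl
    exact ⟨h1, [5], by decide, h2⟩
  have e10 : Sml (BdL (v ^ f') C) 1 (Pm 10 (p ^ f)) →
      (p ^ f) ^ 4 ≤ 16 * 1 * (v ^ f') ^ lu ∧ ∃ g ∈ g5c, ∃ l ∈ C, nlf g (p ^ f) ∣ 1 * mlf l (v ^ f') := fun x => by
    obtain ⟨h1, h2⟩ := fin_of (g := [10]) (by rw [nlf, List.map_singleton, List.prod_singleton]; exact pm_eq (by decide))
        (ge10 hq3) x hC le_rfl
    exact ⟨h1, [10], by decide, h2⟩
  rcases h.type2 g1 (fun i hi => by rw [List.mem_singleton.1 hi]; exact h5) hmm hmK h0 h1 h3 hB with x | x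
  · rcases h.type2 g3 (fun i hi => by rw [List.mem_singleton.1 hi]; exact h10) hmm hmK h0 h1 h3 hB with y | y
    · exact (h.t9_ne g1 g3 hg a9 x y).elim
    · exact e10 y
  · exact e5 x

theorem sub464 : ∀ j : ℕ, (464 : ℕ).testBit j = true → (2044 : ℕ).testBit j = true := by
  intro j hj
  by_cases h : j < 11
  · revert hj
    interval_cases j <;> decide
  · have : (464 : ℕ) < 2 ^ j := lt_of_lt_of_le (by norm_num : 464 < 2 ^ 11) (Nat.pow_le_pow_right (by norm_num) (by omega))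
    rw [Nat.testBit_lt_two_pow this] at hj
    exact Bool.noConfusion hj

theorem sub480 : ∀ j : ℕ, (480 : ℕ).testBit j = true → (2044 : ℕ).testBit j = true := by
  intro j hj
  by_cases h : j < 11
  · revert hj
    interval_cases j <;> decide
  · have : (480 : ℕ) < 2 ^ j := lt_of_lt_of_le (by norm_num : 480 < 2 ^ 11) (Nat.pow_le_pow_right (by norm_num) (by omega))
    rw [Nat.testBit_lt_two_pow this] at hj
    exact Bool.noConfusion hj

/-- **`E₆` and `oplus 6`** -/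
theorem sm_o6_e6 (h : EX (.oplus 6) p f L G K S .e6 v f' tabE6 (kcl clE6 (v ^ f'))) : False := by
  obtain ⟨hq, hq3⟩ := h.q_odd
  have hgd := h.gd_e6 (Or.inl (by decide))
  obtain ⟨h1, h2⟩ := h.r6p (m := 2044) (m' := 464) (c9 := 7) (c12 := 8) (c3 := 2)
    (fun z hz => h.row_val hgd mo6_e6_5 hz) (fun z hz => h.row_val hgd mo6_e6_10 hz) sub464
    (by decide) (by decide) (by decide) (by decide) (by decide) (hB_e6 h) (cok6 h.u_two)
  have hB : 288 * (v ^ f') ^ 24 ≤ 180 * (max 169 (p ^ f) * (2 * (p ^ f) ^ 20)) :=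
    (bigR6 h.ls h.is h.p2 (by decide) (rokO6 h.ls h.is h.p2) h.frm.is).trans
      (Nat.mul_le_mul_left _ (Nat.mul_le_mul_left _ (RM_oplus6 hq3)))
  obtain ⟨h3, h4⟩ := bnd5 h1 hB (by norm_num)
  exact bxc_false bx6c h3 h4 hq3 hq h.cop' h1 hB h2

/-- **`²E₆` and `oplus 6`** -/
theorem sm_o6_te6 (h : EX (.oplus 6) p f L G K S .te6 v f' tabTE6 (kcl clTE6 (v ^ f'))) : False := by
  obtain ⟨hq, hq3⟩ := h.q_odd
  have hgd := h.gd_te6 (Or.inl (by decide))
  obtain ⟨h1, h2⟩ := h.r6p (m := 2044) (m' := 480) (c9 := 8) (c12 := 7) (c3 := 4)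
    (fun z hz => h.row_val hgd mo6_te6_5 hz) (fun z hz => h.row_val hgd mo6_te6_10 hz) sub480
    (by decide) (by decide) (by decide) (by decide) (by decide) (hB_te6 h) (cokt6 h.u_two)
  have hB : 288 * (v ^ f') ^ 24 ≤ 360 * (max 169 (p ^ f) * (2 * (p ^ f) ^ 20)) :=
    (bigRT6 h.ls h.is h.p2 (by decide) (rokO6 h.ls h.is h.p2) h.ef.vp h.frm.is).trans
      (Nat.mul_le_mul_left _ (Nat.mul_le_mul_left _ (RM_oplus6 hq3)))
  obtain ⟨h3, h4⟩ := bnd5 h1 hB (by norm_num)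
  exact bxc_false bxt6c h3 h4 hq3 hq h.cop' h1 hB h2

end main

end Cfsg.Agent.R2.Spec.EE
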