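import Mathlib

/-!
# EE-NUM, arithmetic (helper12)

The inequalities `n1` ... `n6`.
-/

set_option autoImplicit false
set_option linter.unusedTactic false
set_option linter.unreachableTactic false

namespace Cfsg.Agent.R2.Spec.EE

namespace NumAr

/-- `3 q^6 ≤ 4 Φ₁₄(q)` -/
theorem six {q : ℤ} (hq : 3 ≤ q) : 3 * q ^ 6 ≤ 4 * (q ^ 6 - q ^ 5 + q ^ 4 - q ^ 3 + q ^ 2 - q + 1) := by
  obtain ⟨t, rfl⟩ : ∃ t, q = t + 3 := ⟨q - 3, by ring⟩
  have ht : 0 ≤ t := by linarith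
  have h : 0 ≤ 4 * ((t + 3) ^ 6 - (t + 3) ^ 5 + (t + 3) ^ 4 - (t + 3) ^ 3 + (t + 3) ^ 2 - (t + 3) + 1) -
      3 * (t + 3) ^ 6 := by
    ring_nf
    positivity
  linarith

/-- `3 q^12 ≤ 4 Φ₂₆(q)` -/
theorem twelve {q : ℤ} (hq : 3 ≤ q) : 3 * q ^ 12 ≤ 4 * (q ^ 12 - q ^ 11 + q ^ 10 - q ^ 9 + q ^ 8 - q ^ 7 + q ^ 6 -
    q ^ 5 + q ^ 4 - q ^ 3 + q ^ 2 - q + 1) := by
  obtain ⟨t, rfl⟩ : ∃ t, q = t + 3 := ⟨q - 3, by ring⟩
  have ht : 0 ≤ t := by linarith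
  have h : 0 ≤ 4 * ((t + 3) ^ 12 - (t + 3) ^ 11 + (t + 3) ^ 10 - (t + 3) ^ 9 + (t + 3) ^ 8 - (t + 3) ^ 7 + (t + 3) ^ 6 -
      (t + 3) ^ 5 + (t + 3) ^ 4 - (t + 3) ^ 3 + (t + 3) ^ 2 - (t + 3) + 1) - 3 * (t + 3) ^ 12 := by
    ring_nf
    positivity
  linarith

/-- the comparison: `A q^a ≤ B u^b`, `u^c ≤ C q^d`, `u ≥ U` -/
theorem cmp {q u A B C a b c d U : ℕ} (h1 : A * q ^ a ≤ B * u ^ b) (h2 : u ^ c ≤ C * q ^ d) (hU : U ≤ u) (hU0 : 0 < U)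
    (hcb : b * d ≤ a * c) (h3 : C ^ a * B ^ d < A ^ d * U ^ (a * c - b * d)) : False := by
  have e1 : (u ^ c) ^ a ≤ (C * q ^ d) ^ a := Nat.pow_le_pow_left h2 a
  have e2 : (A * q ^ a) ^ d ≤ (B * u ^ b) ^ d := Nat.pow_le_pow_left h1 d
  have e3 : A ^ d * u ^ (a * c) ≤ C ^ a * B ^ d * u ^ (b * d) := by
    calc A ^ d * u ^ (a * c) = A ^ d * (u ^ c) ^ a := by rw [← pow_mul, mul_comm c a]
      _ ≤ A ^ d * (C * q ^ d) ^ a := Nat.mul_le_mul_left _ e1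
      _ = C ^ a * (A * q ^ a) ^ d := by rw [mul_pow, mul_pow, ← pow_mul, ← pow_mul, mul_comm d a]; ring
      _ ≤ C ^ a * (B * u ^ b) ^ d := Nat.mul_le_mul_left _ e2
      _ = C ^ a * B ^ d * u ^ (b * d) := by rw [mul_pow, ← pow_mul]; ring
  have e4 : u ^ (a * c) = u ^ (a * c - b * d) * u ^ (b * d) := by rw [← pow_add]; congr 1; omega
  rw [e4, ← mul_assoc] at e3
  have e5 := Nat.le_of_mul_le_mul_right e3 (Nat.pow_pos (by omega))
  have e6 : A ^ d * U ^ (a * c - b * d) ≤ A ^ d * u ^ (a * c - b * d) := Nat.mul_le_mul_left _ (Nat.pow_le_pow_left hU _)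
  omega

/-- bounding `q` -/
theorem q_lt {q Q a X : ℕ} (h : q ^ a ≤ X) (hX : X < Q ^ a) : q < Q := by
  by_contra hcon
  have := Nat.pow_le_pow_left (not_lt.1 hcon) a
  omega

end NumAr

open NumAr

/-- `E₈`, six dimensional classes -/
theorem n1 {q u : ℕ} (hq : 3 ≤ q) (hu : 2 ≤ u)
    (hA : (q : ℤ) ^ 6 - q ^ 5 + q ^ 4 - q ^ 3 + q ^ 2 - q + 1 ≤ 7 * ((u : ℤ) ^ 8 + u ^ 7))
    (hB : u ^ 78 ≤ 1260 * (2 * 10 * q * (3 * q ^ 36))) : False := by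
  have h1 := six (q := (q : ℤ)) (by exact_mod_cast hq)
  have h2 : 3 * q ^ 6 ≤ 28 * (u ^ 8 + u ^ 7) := by zify; linarith
  have hB' : u ^ 78 ≤ 75600 * q ^ 37 := hB.trans (le_of_eq (by ring))
  rcases Nat.lt_or_ge u 3 with h3 | h3
  · obtain rfl : u = 2 := by omega
    have h4 : q < 4 := q_lt (a := 6) (X := 3584) (by norm_num at h2; omega) (by norm_num)
    obtain rfl : q = 3 := by omega
    norm_num at hB'
  · have h4 : 9 * q ^ 6 ≤ 112 * u ^ 8 := by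
      have h5 : 3 * u ^ 7 ≤ u ^ 8 := by rw [pow_succ' u 7]; exact Nat.mul_le_mul_right _ h3
      omega
    exact cmp h4 hB' h3 (by norm_num) (by norm_num) (by norm_num)

/-- `E₈`, eight dimensional classes -/
theorem n2 {q u : ℕ} (hq : 3 ≤ q) (hq2 : q % 2 = 1) (hu : 2 ≤ u) (hA : q ^ 8 + 1 ≤ 2 * (u ^ 8 + u ^ 7))
    (hB : u ^ 78 ≤ 1260 * (2 * 10 * q * (2 * q ^ 64))) : False := by
  have hB' : u ^ 78 ≤ 50400 * q ^ 65 := hB.trans (le_of_eq (by ring))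
  rcases Nat.lt_or_ge u 5 with h3 | h3
  · have h4 : q < 5 := by
      have h5 : u ^ 8 ≤ 4 ^ 8 := Nat.pow_le_pow_left (by omega) 8
      have h6 : u ^ 7 ≤ 4 ^ 7 := Nat.pow_le_pow_left (by omega) 7
      exact q_lt (a := 8) (X := 163840) (by norm_num at h5 h6; omega) (by norm_num)
    obtain rfl : q = 3 := by omega
    interval_cases u <;> first | (norm_num at hA; done) | (norm_num at hB'; done)
  · have h4 : 5 * q ^ 8 ≤ 12 * u ^ 8 := by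
      have h5 : 5 * u ^ 7 ≤ u ^ 8 := by rw [pow_succ' u 7]; exact Nat.mul_le_mul_right _ h3
      omega
    exact cmp h4 hB' h3 (by norm_num) (by norm_num) (by norm_num)

/-- `E₈`, the class 13 -/
theorem n3 {q u : ℕ} (hq : 3 ≤ q) (hu : 2 ≤ u)
    (hA : (q : ℤ) ^ 12 - q ^ 11 + q ^ 10 - q ^ 9 + q ^ 8 - q ^ 7 + q ^ 6 - q ^ 5 + q ^ 4 - q ^ 3 + q ^ 2 - q + 1 ≤
      13 * ((u : ℤ) ^ 8 + u ^ 7))
    (hB : u ^ 78 ≤ 1260 * (2 * 13 * q * (4 * q ^ 58))) : False := by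
  have h1 := twelve (q := (q : ℤ)) (by exact_mod_cast hq)
  have h2 : 3 * q ^ 12 ≤ 52 * (u ^ 8 + u ^ 7) := by zify; linarith
  have hB' : u ^ 78 ≤ 131040 * q ^ 59 := hB.trans (le_of_eq (by ring))
  rcases Nat.lt_or_ge u 3 with h3 | h3
  · obtain rfl : u = 2 := by omega
    have h4 : q < 3 := q_lt (a := 12) (X := 6656) (by norm_num at h2; omega) (by norm_num)
    omega
  · have h4 : 9 * q ^ 12 ≤ 208 * u ^ 8 := by
      have h5 : 3 * u ^ 7 ≤ u ^ 8 := by rw [pow_succ' u 7]; exact Nat.mul_le_mul_right _ h3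
      omega
    refine cmp h4 hB' h3 (by norm_num) (by norm_num) ?_
    rw [show 12 * 78 - 8 * 59 = 232 + 232 by norm_num, pow_add]
    norm_num

/-- `E₇`, `L₉`, `L₁₀` -/
theorem n4L {q u : ℕ} (hq : 3 ≤ q) (hq2 : q % 2 = 1) (hu : 2 ≤ u)
    (hA : (q % 3 = 1 ∧ q ^ 6 + q ^ 3 + 1 ≤ 3 * (2 * u ^ 6)) ∨ q ^ 6 + q ^ 3 + 1 ≤ 2 * u ^ 6)
    (hB : u ^ 46 ≤ 1260 * (2 * 10 * q * (3 * q ^ 32))) : False := by
  have hB' : u ^ 46 ≤ 75600 * q ^ 33 := hB.trans (le_of_eq (by ring))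
  rcases hA with ⟨h0, hA⟩ | hA
  · rcases Nat.lt_or_ge u 6 with h3 | h3
    · have h4 : q < 7 := by
        have h5 : u ^ 6 ≤ 5 ^ 6 := Nat.pow_le_pow_left (by omega) 6
        exact q_lt (a := 6) (X := 93750) (by norm_num at h5; omega) (by norm_num)
      omega
    · exact cmp (A := 1) (B := 6) (a := 6) (b := 6) (by omega) hB' h3 (by norm_num) (by norm_num) (by norm_num)
  · rcases Nat.lt_or_ge u 4 with h3 | h3
    · have h4 : q < 4 := by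
        have h5 : u ^ 6 ≤ 3 ^ 6 := Nat.pow_le_pow_left (by omega) 6
        exact q_lt (a := 6) (X := 1458) (by norm_num at h5; omega) (by norm_num)
      obtain rfl : q = 3 := by omega
      interval_cases u <;> first | (norm_num at hA; done) | (norm_num at hB'; done)
    · exact cmp (A := 1) (B := 2) (a := 6) (b := 6) (by omega) hB' h3 (by norm_num) (by norm_num) (by norm_num)

/-- `E₇`, `U₉`, `U₁₀` -/
theorem n4U {q u : ℕ} (hq : 3 ≤ q) (hq2 : q % 2 = 1) (hu : 2 ≤ u)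
    (hA : (q : ℤ) ^ 6 - q ^ 3 + 1 ≤ 3 * (2 * (u : ℤ) ^ 6))
    (hB : u ^ 46 ≤ 1260 * (2 * 10 * q * q ^ 32)) : False := by
  have hB' : u ^ 46 ≤ 25200 * q ^ 33 := hB.trans (le_of_eq (by ring))
  have h0 : 27 * q ^ 3 ≤ q ^ 6 := by
    have h1 : 3 ^ 3 ≤ q ^ 3 := Nat.pow_le_pow_left hq 3
    calc 27 * q ^ 3 ≤ q ^ 3 * q ^ 3 := Nat.mul_le_mul_right _ (by norm_num at h1; exact h1)
      _ = q ^ 6 := by ring
  have h2 : q ^ 6 + 1 ≤ 6 * u ^ 6 + q ^ 3 := by zify; linarith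
  have h4 : 13 * q ^ 6 ≤ 81 * u ^ 6 := by omega
  rcases Nat.lt_or_ge u 5 with h3 | h3
  · have h5 : q < 7 := by
      have h5 : u ^ 6 ≤ 4 ^ 6 := Nat.pow_le_pow_left (by omega) 6
      exact q_lt (a := 6) (X := 25521) (by norm_num at h5; omega) (by norm_num)
    interval_cases q <;> first | omega | skip
    all_goals interval_cases u <;> first | (norm_num at h2; done) | (norm_num at hB'; done)
  · exact cmp h4 hB' h3 (by norm_num) (by norm_num) (by norm_num)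

/-- `E₇`, eight dimensional classes -/
theorem n5 {q u : ℕ} (hq : 3 ≤ q) (hq2 : q % 2 = 1) (hu : 2 ≤ u) (hA : q ^ 8 + 1 ≤ 2 * (2 * u ^ 6))
    (hB : u ^ 46 ≤ 1260 * (2 * 8 * q * (2 * q ^ 44))) : False := by
  have hB' : u ^ 46 ≤ 40320 * q ^ 45 := hB.trans (le_of_eq (by ring))
  rcases Nat.lt_or_ge u 5 with h3 | h3
  · have h5 : q < 5 := by
      have h5 : u ^ 6 ≤ 4 ^ 6 := Nat.pow_le_pow_left (by omega) 6
      exact q_lt (a := 8) (X := 16384) (by norm_num at h5; omega) (by norm_num)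
    obtain rfl : q = 3 := by omega
    interval_cases u <;> first | (norm_num at hA; done) | (norm_num at hB'; done)
  · exact cmp (A := 1) (B := 4) (a := 8) (b := 6) (by omega) hB' h3 (by norm_num) (by norm_num) (by norm_num)

/-- `E₇`, six dimensional classes -/
theorem n6 {q u : ℕ} (hq : 3 ≤ q) (hq2 : q % 2 = 1) (hu : 2 ≤ u) (h33 : ¬ (u = 3 ∧ q = 3))
    (hA : (q : ℤ) ^ 6 - q ^ 5 + q ^ 4 - q ^ 3 + q ^ 2 - q + 1 ≤ 2 * (u : ℤ) ^ 6)
    (hB : u ^ 46 ≤ 1260 * (2 * 8 * q * (2 * q ^ 36))) : False := by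
  have hB' : u ^ 46 ≤ 40320 * q ^ 37 := hB.trans (le_of_eq (by ring))
  have h1 := six (q := (q : ℤ)) (by exact_mod_cast hq)
  have h2 : 3 * q ^ 6 ≤ 8 * u ^ 6 := by zify; linarith
  rcases Nat.lt_or_ge u 7 with h3 | h3
  · have h5 : q < 9 := by
      have h5 : u ^ 6 ≤ 6 ^ 6 := Nat.pow_le_pow_left (by omega) 6
      exact q_lt (a := 6) (X := 124416) (by norm_num at h5; omega) (by norm_num)
    have h6 : q = 3 ∨ q = 5 ∨ q = 7 := by omega
    rcases h6 with rfl | rfl | rfl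
    · interval_cases u
      · norm_num at hA
      · exact h33 ⟨rfl, rfl⟩
      all_goals norm_num at hB'
    · interval_cases u <;> first | (norm_num at hA; done) | (norm_num at hB'; done)
    · interval_cases u <;> first | (norm_num at hA; done) | (norm_num at hB'; done)
  · exact cmp h2 hB' h3 (by norm_num) (by norm_num) (by norm_num)

end Cfsg.Agent.R2.Spec.EE
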