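import Cfsg.Agent.H416.Arith

/-!
# EE-NUM, part (A), sizes (helper12)

`size8` : `Φ_a(u) ≤ u^8 + u^7` for the large classes of `E₈`; `size7` : `Φ_a(u) ≤ 2 u^6` for the large classes of `E₇`.
-/

set_option autoImplicit false

namespace Cfsg.Agent.R2.Spec.EE

namespace NumA

open Polynomial Cfsg.Agent.Lib.Zsigmondy Cfsg.Agent.H416.Arith

theorem eval_5 (x : ℤ) : (cyclotomic 5 ℤ).eval x = x ^ 4 + x ^ 3 + x ^ 2 + x + 1 := by
  have : Fact (Nat.Prime 5) := ⟨by norm_num⟩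
  rw [cyclotomic_prime ℤ 5]
  simp [Finset.sum_range_succ]; ring

theorem eval_7 (x : ℤ) : (cyclotomic 7 ℤ).eval x = x ^ 6 + x ^ 5 + x ^ 4 + x ^ 3 + x ^ 2 + x + 1 := by
  have : Fact (Nat.Prime 7) := ⟨by norm_num⟩
  rw [cyclotomic_prime ℤ 7]
  simp [Finset.sum_range_succ]; ring

theorem eval_4 (x : ℤ) : (cyclotomic 4 ℤ).eval x = x ^ 2 + 1 := by
  rw [show (4 : ℕ) = 2 ^ (1 + 1) by norm_num, cyclotomic_prime_pow_eq_geom_sum Nat.prime_two]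
  simp [Finset.sum_range_succ]; ring

theorem eval_8 (x : ℤ) : (cyclotomic 8 ℤ).eval x = x ^ 4 + 1 := by
  rw [show (8 : ℕ) = 2 ^ (2 + 1) by norm_num, cyclotomic_prime_pow_eq_geom_sum Nat.prime_two]
  simp [Finset.sum_range_succ]; ring

theorem eval_9 (x : ℤ) : (cyclotomic 9 ℤ).eval x = x ^ 6 + x ^ 3 + 1 := by
  rw [show (9 : ℕ) = 3 ^ (1 + 1) by norm_num, cyclotomic_prime_pow_eq_geom_sum Nat.prime_three]
  simp [Finset.sum_range_succ]; ring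

theorem eval_10 (x : ℤ) : (cyclotomic 10 ℤ).eval x = x ^ 4 - x ^ 3 + x ^ 2 - x + 1 := by
  have h := eval_cyclotomic_mul (r := 2) (m := 5) Nat.prime_two (by norm_num) x
  rw [eval_5, eval_5] at h
  have h0 : x ^ 4 + x ^ 3 + x ^ 2 + x + 1 ≠ 0 := by
    have : 0 < x ^ 4 + x ^ 3 + x ^ 2 + x + 1 := by
      nlinarith [sq_nonneg (2 * x ^ 2 + x), sq_nonneg (x + 2), sq_nonneg x]
    omega
  apply mul_right_cancel₀ h0
  rw [show (10 : ℕ) = 5 * 2 by norm_num, ← h]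
  ring

theorem eval_12 (x : ℤ) : (cyclotomic 12 ℤ).eval x = x ^ 4 - x ^ 2 + 1 := by
  have h := eval_cyclotomic_mul (r := 3) (m := 4) Nat.prime_three (by norm_num) x
  rw [eval_4, eval_4] at h
  have h0 : x ^ 2 + 1 ≠ 0 := by positivity
  apply mul_right_cancel₀ h0
  rw [show (12 : ℕ) = 4 * 3 by norm_num, ← h]
  ring

theorem eval_14 (x : ℤ) (hx : 0 ≤ x) : (cyclotomic 14 ℤ).eval x = x ^ 6 - x ^ 5 + x ^ 4 - x ^ 3 + x ^ 2 - x + 1 := by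
  have h := eval_cyclotomic_mul (r := 2) (m := 7) Nat.prime_two (by norm_num) x
  rw [eval_7, eval_7] at h
  have h0 : x ^ 6 + x ^ 5 + x ^ 4 + x ^ 3 + x ^ 2 + x + 1 ≠ 0 := by positivity
  apply mul_right_cancel₀ h0
  rw [show (14 : ℕ) = 7 * 2 by norm_num, ← h]
  ring

theorem eval_18 (x : ℤ) (hx : 0 ≤ x) : (cyclotomic 18 ℤ).eval x = x ^ 6 - x ^ 3 + 1 := by
  have h := eval_cyclotomic_mul (r := 2) (m := 9) Nat.prime_two (by norm_num) x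
  rw [eval_9, eval_9] at h
  have h0 : x ^ 6 + x ^ 3 + 1 ≠ 0 := by positivity
  apply mul_right_cancel₀ h0
  rw [show (18 : ℕ) = 9 * 2 by norm_num, ← h]
  ring

theorem eval_20 (x : ℤ) : (cyclotomic 20 ℤ).eval x = x ^ 8 - x ^ 6 + x ^ 4 - x ^ 2 + 1 := by
  have h := eval_cyclotomic_mul (r := 5) (m := 4) Nat.prime_five (by norm_num) x
  rw [eval_4, eval_4] at h
  have h0 : x ^ 2 + 1 ≠ 0 := by positivity
  apply mul_right_cancel₀ h0
  rw [show (20 : ℕ) = 4 * 5 by norm_num, ← h]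
  ring

/-- the bound for `E₈` -/
theorem cyc8_le {a : ℕ} (ha : a ∈ [7, 9, 14, 15, 18, 20, 24, 30]) {u : ℕ} (hu : 2 ≤ u) :
    (cyclotomic a ℤ).eval (u : ℤ) ≤ (u : ℤ) ^ 8 + (u : ℤ) ^ 7 := by
  obtain ⟨t, rfl⟩ : ∃ t : ℕ, u = t + 2 := ⟨u - 2, by omega⟩
  push_cast
  obtain ⟨z, hz⟩ : ∃ z : ℤ, z = (t : ℤ) := ⟨_, rfl⟩
  have hz0 : 0 ≤ z := by omega
  rw [← hz]
  have hz2 : 0 ≤ z + 2 := by linarith
  apply sub_nonneg.1
  simp only [List.mem_cons, List.not_mem_nil, or_false] at ha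
  rcases ha with rfl | rfl | rfl | rfl | rfl | rfl | rfl | rfl
  · rw [eval_7]; ring_nf; positivity
  · rw [eval_9]; ring_nf; positivity
  · rw [eval_14 _ hz2]; ring_nf; positivity
  · rw [eval_15]; ring_nf; positivity
  · rw [eval_18 _ hz2]; ring_nf; positivity
  · rw [eval_20]; ring_nf; positivity
  · rw [eval_24]; ring_nf; positivity
  · rw [eval_30]; ring_nf; positivity

/-- the bound for `E₇` -/
theorem cyc7_le {a : ℕ} (ha : a ∈ [7, 9, 14, 18, 5, 8, 10, 12]) {u : ℕ} (hu : 2 ≤ u) :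
    (cyclotomic a ℤ).eval (u : ℤ) ≤ 2 * (u : ℤ) ^ 6 := by
  obtain ⟨t, rfl⟩ : ∃ t : ℕ, u = t + 2 := ⟨u - 2, by omega⟩
  push_cast
  obtain ⟨z, hz⟩ : ∃ z : ℤ, z = (t : ℤ) := ⟨_, rfl⟩
  have hz0 : 0 ≤ z := by omega
  rw [← hz]
  have hz2 : 0 ≤ z + 2 := by linarith
  apply sub_nonneg.1
  simp only [List.mem_cons, List.not_mem_nil, or_false] at ha
  rcases ha with rfl | rfl | rfl | rfl | rfl | rfl | rfl | rfl
  · rw [eval_7]; ring_nf; positivity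
  · rw [eval_9]; ring_nf; positivity
  · rw [eval_14 _ hz2]; ring_nf; positivity
  · rw [eval_18 _ hz2]; ring_nf; positivity
  · rw [eval_5]; ring_nf; positivity
  · rw [eval_8]; ring_nf; positivity
  · rw [eval_10]; ring_nf; positivity
  · rw [eval_12]; ring_nf; positivity

/-- sizes for `E₈` -/
theorem size8 {a : ℕ} (ha : a ∈ [7, 9, 14, 15, 18, 20, 24, 30]) {u M : ℕ} (hu : 2 ≤ u)
    (hM : (M : ℤ) ∣ (cyclotomic a ℤ).eval ((u : ℕ) : ℤ)) : M ≤ u ^ 8 + u ^ 7 := by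
  have h1 : (0 : ℤ) < (cyclotomic a ℤ).eval ((u : ℕ) : ℤ) :=
    cyclotomic_pos' a (by exact_mod_cast (show 1 < u by omega))
  have h2 := (Int.le_of_dvd h1 hM).trans (cyc8_le ha hu)
  exact_mod_cast h2

/-- sizes for `E₇` -/
theorem size7 {a : ℕ} (ha : a ∈ [7, 9, 14, 18, 5, 8, 10, 12]) {u M : ℕ} (hu : 2 ≤ u)
    (hM : (M : ℤ) ∣ (cyclotomic a ℤ).eval ((u : ℕ) : ℤ)) : M ≤ 2 * u ^ 6 := by
  have h1 : (0 : ℤ) < (cyclotomic a ℤ).eval ((u : ℕ) : ℤ) :=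
    cyclotomic_pos' a (by exact_mod_cast (show 1 < u by omega))
  have h2 := (Int.le_of_dvd h1 hM).trans (cyc7_le ha hu)
  exact_mod_cast h2

end NumA

end Cfsg.Agent.R2.Spec.EE
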