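import Cfsg.Agent.R2.Spec.EE.NumC
import Cfsg.Agent.R2.Spec.EE.NumF
import Cfsg.Agent.R2.Spec.EE.NumSz

/-!
# The numbers of the regular classes with their size (helper8)

* `class_big` : for `n ≥ 3`, `q ≥ 3`: a divisor `M` of `Φ_n(q)`, all of whose primes have `n` as order of `q`,
  `Φ_n(q) ≤ l M`, `l` the largest prime of `n`;
* `class_num6` : the same for the class `i` of a classical family;
* `Ph_seven` ... : the values.
-/

set_option autoImplicit false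
set_option linter.unusedSectionVars false

namespace Cfsg.Agent.R2.Spec.EE

open Cfsg Polynomial
open Cfsg.Agent.H426.LieFam Cfsg.Agent.R2.Spec Cfsg.Agent.R2.Spec.P1 Cfsg.Agent.R2.Spec.F1
open Cfsg.Agent.H365.Zsig

/-- the primitive part of `Φ_n(q)` -/
theorem class_big {n q l : ℕ} (hn : 3 ≤ n) (hq : 3 ≤ q) (hl : ∀ r : ℕ, r.Prime → r ∣ n → r ≤ l) (hl1 : 1 ≤ l) :
    ∃ M : ℕ, M ∣ Ph n q ∧ (∀ r : ℕ, r.Prime → r ∣ M → orderOf (q : ZMod r) = n) ∧ Ph n q ≤ l * M := by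
  have hPh1 : 1 < Ph n q := Ph_gt_one (by omega) (by omega)
  by_cases hex : ∃ r : ℕ, r.Prime ∧ r ∣ Ph n q ∧ orderOf (q : ZMod r) ≠ n
  · obtain ⟨r, hr, hrd, hro⟩ := hex
    obtain ⟨k, m, hnk, hrm, hord, hmr, hm0⟩ := (prime_dvd_Ph (by omega) (by omega) hr hrd).resolve_left hro
    have hsq := sq_not_dvd hn (by omega) hr hnk hrm hord hmr hm0
    obtain ⟨M, hM⟩ := hrd
    have hrn : r ∣ n := by rw [hnk]; exact (dvd_pow_self r (Nat.succ_ne_zero k)).mul_right m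
    have hprim : ∀ s : ℕ, s.Prime → s ∣ M → orderOf (q : ZMod s) = n := by
      intro s hs hsM
      have hsd : s ∣ Ph n q := by rw [hM]; exact hsM.mul_left r
      rcases prime_dvd_Ph (by omega) (by omega) hs hsd with h | ⟨k', m', hnk', hrm', hord', hmr', hm0'⟩
      · exact h
      · exfalso
        have hsn : s ∣ n := by rw [hnk']; exact (dvd_pow_self s (Nat.succ_ne_zero k')).mul_right m'
        -- `s = r`
        have h1 : ∀ {a b e c : ℕ}, a.Prime → b.Prime → n = a ^ (e + 1) * c → c ∣ a - 1 → b ∣ n → b ≤ a := by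
          intro a b e c ha hb hn' hc hbn
          rw [hn'] at hbn
          rcases hb.dvd_mul.1 hbn with h | h
          · exact ((Nat.prime_dvd_prime_iff_eq hb ha).1 (hb.dvd_of_dvd_pow h)).le
          · have := Nat.le_of_dvd (by have := ha.two_le; omega) (h.trans hc)
            omega
        have hsr : s = r := le_antisymm (h1 hr hs hnk hmr hsn) (h1 hs hr hnk' hmr' hrn)
        subst hsr
        apply hsq
        rw [hM, pow_two]
        exact Nat.mul_dvd_mul_left s hsM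
    refine ⟨M, ⟨r, by rw [hM, mul_comm]⟩, hprim, ?_⟩
    rw [hM]
    exact Nat.mul_le_mul_right M (hl r hr hrn)
  · push Not at hex
    exact ⟨Ph n q, dvd_rfl, hex, Nat.le_mul_of_pos_left _ (by omega)⟩

/-- the index of the cyclotomic polynomial in `q` of the class `i` -/
def idx (t : Fam) (i : ℕ) : ℕ :=
  match t with
  | .psu _ => dl i
  | _ => i

theorem class_num6 {t : Fam} (ht : Classical t) {q i l : ℕ} (hq : q % 2 = 1) (hq3 : 3 ≤ q) (hi : 3 ≤ i) (hm : mem t i)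
    (hl : ∀ r : ℕ, r.Prime → r ∣ idx t i → r ≤ l) (hl1 : 1 ≤ l) :
    ∃ M : ℕ, M ∣ tnum t q i ∧ Odd M ∧ (∀ r : ℕ, r.Prime → r ∣ M → In t q i r) ∧ Ph (idx t i) q ≤ l * M := by
  -- the common part
  have fin : ∀ M n : ℕ, 3 ≤ n → (∀ r : ℕ, r.Prime → r ∣ M → orderOf (q : ZMod r) = n) →
      (∀ r : ℕ, r.Prime → r ≠ 2 → orderOf (q : ZMod r) = n → cls t q r = i) → M ∣ tnum t q i →
      Ph (idx t i) q ≤ l * M → ∃ M : ℕ, M ∣ tnum t q i ∧ Odd M ∧ (∀ r : ℕ, r.Prime → r ∣ M → In t q i r) ∧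
        Ph (idx t i) q ≤ l * M := by
    intro M n hn hM2 hcl hMt hMq
    have h2 : ¬ 2 ∣ M := by
      intro h2
      have h3 := hM2 2 Nat.prime_two h2
      have h4 : orderOf ((q : ℕ) : ZMod 2) ∣ 2 - 1 := by
        have := Fact.mk Nat.prime_two
        apply ZMod.orderOf_dvd_card_sub_one
        rw [Ne, ZMod.natCast_eq_zero_iff]
        omega
      rw [h3] at h4
      have := Nat.le_of_dvd (by norm_num) h4
      omega
    have hin : ∀ r : ℕ, r.Prime → r ∣ M → In t q i r := fun r hr hrM =>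
      ⟨hr, hcl r hr (fun h => h2 (h ▸ hrM)) (hM2 r hr hrM), hi, hm⟩
    exact ⟨M, hMt, Nat.odd_iff.2 (by omega), hin, hMq⟩
  have hnpsu : ∀ {n r : ℕ}, (∀ m, t ≠ .psu m) → orderOf (q : ZMod r) = n → cls t q r = n := by
    intro n r h1 h2
    rw [cls_eq_co h1, ← h2]
    rfl
  by_cases hpsu : ∀ m, t ≠ .psu m
  · have hidx : idx t i = i := by
      cases t with
      | psu n => exact absurd rfl (hpsu n)
      | _ => rfl
    rw [hidx] at hl
    obtain ⟨M, hM1, hM3, hM4⟩ := class_big hi hq3 hl hl1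
    have hMd : M ∣ q ^ i - 1 := hM1.trans (Ph_dvd (by omega) (by omega))
    refine fin M i hi hM3 (fun r _ _ h => hnpsu hpsu h) ?_ (by rw [hidx]; exact hM4)
    by_cases hpsl : ∀ m, t ≠ .psl m
    · rw [tnum_tn hpsl hpsu]
      unfold Cfsg.Agent.H72.AdjOrth.tn
      split_ifs with he
      · obtain ⟨j, hj⟩ := he
        have hj' : i / 2 = j := by omega
        rw [hj']
        have hij : i = 2 * j := by omega
        rw [hij] at hMd hM3
        exact dvd_plus (by omega) (by omega) hMd hM3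
      · exact hMd
    · push Not at hpsl
      obtain ⟨m, rfl⟩ := hpsl
      exact hMd
  · push Not at hpsu
    obtain ⟨m, rfl⟩ := hpsu
    obtain ⟨M, hM1, hM3, hM4⟩ := class_big (n := dl i) (dl_three hi) hq3 hl hl1
    have hMd : M ∣ q ^ dl i - 1 := hM1.trans (Ph_dvd (by have := dl_three hi; omega) (by omega))
    refine fin M (dl i) (dl_three hi) hM3 (fun r hr hr2 h => ?_) ?_ hM4
    · rw [cls, sg]
      push_cast
      exact neg_order hr hr2 hi h
    · unfold tnum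
      simp only
      split_ifs with he
      · refine hMd.trans ?_
        have h1 : dl i ∣ i := by
          unfold dl
          split_ifs with h2 h3
          · exact dvd_rfl
          · exact Nat.div_dvd_of_dvd (Nat.dvd_of_mod_eq_zero h3)
          · exact absurd (Nat.even_iff.1 he) h3
        exact Nat.pow_sub_one_dvd_pow_sub_one q h1
      · have h1 : dl i = 2 * i := by
          unfold dl
          rw [if_neg (by rw [Nat.even_iff] at he; omega), if_neg (by rw [Nat.even_iff] at he; omega)]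
        rw [h1] at hMd hM3
        exact dvd_plus (by omega) (by omega) hMd hM3

/-! ### the values -/

theorem eval_13 (x : ℤ) : (cyclotomic 13 ℤ).eval x = x ^ 12 + x ^ 11 + x ^ 10 + x ^ 9 + x ^ 8 + x ^ 7 + x ^ 6 + x ^ 5 +
    x ^ 4 + x ^ 3 + x ^ 2 + x + 1 := by
  have : Fact (Nat.Prime 13) := ⟨by norm_num⟩
  rw [cyclotomic_prime ℤ 13]
  simp [Finset.sum_range_succ]; ring

theorem eval_26 {x : ℤ} (hx : 0 ≤ x) : (cyclotomic 26 ℤ).eval x = x ^ 12 - x ^ 11 + x ^ 10 - x ^ 9 + x ^ 8 - x ^ 7 +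
    x ^ 6 - x ^ 5 + x ^ 4 - x ^ 3 + x ^ 2 - x + 1 := by
  have h := ev_sq_odd (j := 13) (by norm_num) x
  rw [eval_13, eval_13] at h
  have h0 : x ^ 12 + x ^ 11 + x ^ 10 + x ^ 9 + x ^ 8 + x ^ 7 + x ^ 6 + x ^ 5 +
    x ^ 4 + x ^ 3 + x ^ 2 + x + 1 ≠ 0 := by positivity
  apply mul_left_cancel₀ h0
  rw [show (26 : ℕ) = 2 * 13 by norm_num, h]
  ring

theorem eval_16 (x : ℤ) : (cyclotomic 16 ℤ).eval x = x ^ 8 + 1 := by
  rw [show (16 : ℕ) = 2 ^ (3 + 1) by norm_num, cyclotomic_prime_pow_eq_geom_sum Nat.prime_two]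
  simp [Finset.sum_range_succ]; ring

theorem six_le {x : ℤ} (hx : 0 ≤ x) : x ^ 6 - x ^ 5 + x ^ 4 - x ^ 3 + x ^ 2 - x + 1 ≤
    x ^ 6 + x ^ 5 + x ^ 4 + x ^ 3 + x ^ 2 + x + 1 := by
  have := pow_nonneg hx 5
  have := pow_nonneg hx 3
  linarith

theorem twelve_le {x : ℤ} (hx : 0 ≤ x) : x ^ 12 - x ^ 11 + x ^ 10 - x ^ 9 + x ^ 8 - x ^ 7 + x ^ 6 - x ^ 5 + x ^ 4 -
    x ^ 3 + x ^ 2 - x + 1 ≤ x ^ 12 + x ^ 11 + x ^ 10 + x ^ 9 + x ^ 8 + x ^ 7 + x ^ 6 + x ^ 5 + x ^ 4 + x ^ 3 + x ^ 2 +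
    x + 1 := by
  have := pow_nonneg hx 11
  have := pow_nonneg hx 9
  have := pow_nonneg hx 7
  have := pow_nonneg hx 5
  have := pow_nonneg hx 3
  linarith

/-- the classes 7, 14 -/
theorem Ph_six_le {n q : ℕ} (hn : n = 7 ∨ n = 14) (hq : 1 ≤ q) :
    (q : ℤ) ^ 6 - q ^ 5 + q ^ 4 - q ^ 3 + q ^ 2 - q + 1 ≤ (Ph n q : ℤ) := by
  rw [← Ph_cast hq]
  rcases hn with rfl | rfl
  · rw [NumA.eval_7]
    exact six_le (by positivity)
  · rw [NumA.eval_14 _ (by positivity)]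

/-- the classes 13, 26 -/
theorem Ph_twelve_le {n q : ℕ} (hn : n = 13 ∨ n = 26) (hq : 1 ≤ q) :
    (q : ℤ) ^ 12 - q ^ 11 + q ^ 10 - q ^ 9 + q ^ 8 - q ^ 7 + q ^ 6 - q ^ 5 + q ^ 4 - q ^ 3 + q ^ 2 - q + 1 ≤
      (Ph n q : ℤ) := by
  rw [← Ph_cast hq]
  rcases hn with rfl | rfl
  · rw [eval_13]
    exact twelve_le (by positivity)
  · rw [eval_26 (by positivity)]

theorem Ph_sixteen {q : ℕ} (hq : 1 ≤ q) : Ph 16 q = q ^ 8 + 1 := by
  have h1 := Ph_cast (n := 16) hq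
  rw [eval_16] at h1
  exact_mod_cast h1.symm

end Cfsg.Agent.R2.Spec.EE
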