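import Cfsg.Agent.R2.Spec.EE.NumEM
import Cfsg.Agent.R2.Spec.EE.NumM
import Cfsg.Agent.R2.Spec.EE.NumAr

/-!
# The small ranks: numbers (helper8)

* `no_u`, `no_f` : the comparison of `q ^ a ≤ c f (u + δ) ^ l` and `B0 u ^ b ≤ C0 q ^ d`;
* `Chk v r Q`, `kill_chk` : a prime `r` of `S` which does not divide `|L|` for `q < Q`.
-/

set_option autoImplicit false
set_option linter.unusedSectionVars false

namespace Cfsg.Agent.R2.Spec.EE

open Cfsg Cfsg.Lie Cfsg.Agent.H426.LieFam Cfsg.Agent.R2.Spec Cfsg.Agent.R2.Spec.P1 Cfsg.Agent.R2.Spec.F1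

universe u w

/-- the comparison -/
theorem no_u {q u U a c f δ l B0 b C0 d : ℕ} (hA : q ^ a ≤ c * f * (u + δ) ^ l) (hB : B0 * u ^ b ≤ C0 * q ^ d)
    (hU : U ≤ u) (hU0 : 0 < U) (hl : l * d ≤ a * b)
    (hn : C0 ^ a * (c * f) ^ d * (U + δ) ^ (l * d) < B0 ^ a * U ^ (a * b)) : False := by
  have e1 : B0 ^ a * u ^ (a * b) ≤ C0 ^ a * (c * f) ^ d * (u + δ) ^ (l * d) := by
    calc B0 ^ a * u ^ (a * b) = (B0 * u ^ b) ^ a := by rw [mul_pow, ← pow_mul, mul_comm b a]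
      _ ≤ (C0 * q ^ d) ^ a := Nat.pow_le_pow_left hB a
      _ = C0 ^ a * (q ^ a) ^ d := by rw [mul_pow, ← pow_mul, ← pow_mul, mul_comm d a]
      _ ≤ C0 ^ a * (c * f * (u + δ) ^ l) ^ d := Nat.mul_le_mul_left _ (Nat.pow_le_pow_left hA d)
      _ = _ := by rw [mul_pow (c * f), ← pow_mul, mul_assoc]
  have e2 : U ^ (l * d) * (u + δ) ^ (l * d) ≤ (U + δ) ^ (l * d) * u ^ (l * d) := by
    rw [← mul_pow, ← mul_pow]
    refine Nat.pow_le_pow_left ?_ _
    rw [Nat.mul_add, Nat.add_mul]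
    have : U * δ ≤ δ * u := by rw [mul_comm]; exact Nat.mul_le_mul_left _ hU
    omega
  have hu0 : 0 < u := by omega
  have e3 : B0 ^ a * U ^ (a * b) * u ^ (l * d) ≤ C0 ^ a * (c * f) ^ d * (U + δ) ^ (l * d) * u ^ (l * d) := by
    calc B0 ^ a * U ^ (a * b) * u ^ (l * d)
        = B0 ^ a * (U ^ (a * b - l * d) * u ^ (l * d)) * U ^ (l * d) := by
          have : U ^ (a * b) = U ^ (a * b - l * d) * U ^ (l * d) := by rw [← pow_add]; congr 1; omega
          rw [this]; ring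
      _ ≤ B0 ^ a * (u ^ (a * b - l * d) * u ^ (l * d)) * U ^ (l * d) :=
          Nat.mul_le_mul_right _ (Nat.mul_le_mul_left _ (Nat.mul_le_mul_right _ (Nat.pow_le_pow_left hU _)))
      _ = B0 ^ a * u ^ (a * b) * U ^ (l * d) := by
          rw [← pow_add]
          congr 3
          omega
      _ ≤ C0 ^ a * (c * f) ^ d * (u + δ) ^ (l * d) * U ^ (l * d) := Nat.mul_le_mul_right _ e1
      _ = C0 ^ a * (c * f) ^ d * (U ^ (l * d) * (u + δ) ^ (l * d)) := by ring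
      _ ≤ C0 ^ a * (c * f) ^ d * ((U + δ) ^ (l * d) * u ^ (l * d)) := Nat.mul_le_mul_left _ e2
      _ = _ := by ring
  have e4 := Nat.le_of_mul_le_mul_right e3 (Nat.pow_pos hu0)
  omega

/-- the comparison for large exponents -/
theorem no_f {q v f F a c δ l B0 b C0 d : ℕ} (hv : 2 ≤ v) (hA : q ^ a ≤ c * f * (v ^ f + δ) ^ l)
    (hB : B0 * (v ^ f) ^ b ≤ C0 * q ^ d) (hF0 : 1 ≤ F) (hF : F ≤ f) (hl : l * d + d ≤ a * b)
    (hn : C0 ^ a * (c * F) ^ d * (2 ^ F + δ) ^ (l * d) < B0 ^ a * (2 ^ F) ^ (a * b)) : False := by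
  have key : ∀ k : ℕ, C0 ^ a * (c * (F + k)) ^ d * (2 ^ (F + k) + δ) ^ (l * d) < B0 ^ a * (2 ^ (F + k)) ^ (a * b) := by
    intro k
    induction k with
    | zero => exact hn
    | succ k ih =>
      calc C0 ^ a * (c * (F + (k + 1))) ^ d * (2 ^ (F + (k + 1)) + δ) ^ (l * d)
          ≤ C0 ^ a * (2 * (c * (F + k))) ^ d * (2 * (2 ^ (F + k) + δ)) ^ (l * d) := by
            refine Nat.mul_le_mul (Nat.mul_le_mul_left _ (Nat.pow_le_pow_left ?_ _)) (Nat.pow_le_pow_left ?_ _)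
            · rw [Nat.mul_left_comm]
              exact Nat.mul_le_mul_left _ (by omega)
            · rw [show F + (k + 1) = F + k + 1 by omega, pow_succ]
              omega
        _ = 2 ^ (l * d + d) * (C0 ^ a * (c * (F + k)) ^ d * (2 ^ (F + k) + δ) ^ (l * d)) := by
            rw [mul_pow 2, mul_pow 2, pow_add]; ring
        _ ≤ 2 ^ (a * b) * (C0 ^ a * (c * (F + k)) ^ d * (2 ^ (F + k) + δ) ^ (l * d)) :=
            Nat.mul_le_mul_right _ (Nat.pow_le_pow_right (by norm_num) hl)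
        _ < 2 ^ (a * b) * (B0 ^ a * (2 ^ (F + k)) ^ (a * b)) := Nat.mul_lt_mul_of_pos_left ih (Nat.pow_pos (by norm_num))
        _ = B0 ^ a * (2 ^ (F + (k + 1))) ^ (a * b) := by
            rw [show F + (k + 1) = F + k + 1 by omega, pow_succ 2 (F + k), mul_pow (2 ^ (F + k)) 2]
            ring
  obtain ⟨k, rfl⟩ := Nat.exists_eq_add_of_le hF
  exact no_u hA hB (Nat.pow_le_pow_left hv _) (Nat.pow_pos (by norm_num)) (by omega) (key k)

/-! ### the bounds of `RR` -/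

/-- (B) for the symplectic and orthogonal groups -/
theorem bB_eta {r n q b u R : ℕ} (hq : 3 ≤ q) (hB : u ^ b ≤ 1260 * (2 * r * q * R)) (hR : R ≤ (q ^ 2 + 1) ^ n) :
    9 ^ n * u ^ b ≤ (2520 * r * 10 ^ n) * q ^ (2 * n + 1) := by
  have h1 : (9 * (q ^ 2 + 1)) ^ n ≤ (10 * q ^ 2) ^ n := by
    refine Nat.pow_le_pow_left ?_ _
    have : 3 * 3 ≤ q * q := Nat.mul_le_mul hq hq
    nlinarith
  calc 9 ^ n * u ^ b ≤ 9 ^ n * (1260 * (2 * r * q * (q ^ 2 + 1) ^ n)) :=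
        Nat.mul_le_mul_left _ (hB.trans (Nat.mul_le_mul_left _ (Nat.mul_le_mul_left _ hR)))
    _ = 2520 * r * q * (9 * (q ^ 2 + 1)) ^ n := by rw [mul_pow]; ring
    _ ≤ 2520 * r * q * (10 * q ^ 2) ^ n := Nat.mul_le_mul_left _ h1
    _ = _ := by rw [mul_pow, ← pow_mul, pow_succ]; ring

/-- (B) for the linear and unitary groups -/
theorem bB_lin {r n q b u R : ℕ} (hq : 3 ≤ q) (hB : u ^ b ≤ 1260 * (2 * r * q * R)) (hR : R ≤ (q + 1) ^ n) :
    3 ^ n * u ^ b ≤ (2520 * r * 4 ^ n) * q ^ (n + 1) := by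
  have h1 : (3 * (q + 1)) ^ n ≤ (4 * q) ^ n := Nat.pow_le_pow_left (by omega) _
  calc 3 ^ n * u ^ b ≤ 3 ^ n * (1260 * (2 * r * q * (q + 1) ^ n)) :=
        Nat.mul_le_mul_left _ (hB.trans (Nat.mul_le_mul_left _ (Nat.mul_le_mul_left _ hR)))
    _ = 2520 * r * q * (3 * (q + 1)) ^ n := by rw [mul_pow]; ring
    _ ≤ 2520 * r * q * (4 * q) ^ n := Nat.mul_le_mul_left _ h1
    _ = _ := by rw [mul_pow, pow_succ]; ring

/-! ### the prime divisors -/

/-- `r` is no prime divisor of `|L|` for the odd `q < Q` -/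
def Chk (v r Q : ℕ) : Prop :=
  ∀ q < Q, (q % 2 = 1 ∧ 3 ≤ q ∧ (v = 2 ∨ q % v ≠ 0)) → (q % r ≠ 0 ∧ ∀ j < 8, q ^ (2 * (j + 1)) % r ≠ 1)

instance (v r Q : ℕ) : Decidable (Chk v r Q) := by unfold Chk; infer_instance

section main

variable {t : Fam} {p f : ℕ} {L : Type w} [Group L] [Finite L] {G : Type u} [Group G] [Finite G]

theorem mod_of_zmod {r x : ℕ} (hr : 2 ≤ r) (h : ((x : ℕ) : ZMod r) = 1) : x % r = 1 := by
  have h1 : ((x : ℕ) : ZMod r) = ((1 : ℕ) : ZMod r) := by rw [h, Nat.cast_one]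
  rw [ZMod.natCast_eq_natCast_iff] at h1
  have h2 : x % r = 1 % r := h1
  rwa [Nat.mod_eq_of_lt (by omega : 1 < r)] at h2

/-- the orders of the elements of prime order -/
theorem exists_pow_eq (h : LS t p f L G) (hI : Fam.Is p f L t) (hp2 : p ≠ 2) (hrk : rk t ≤ 8) {r : ℕ} (hr : r.Prime)
    (hr2 : r ≠ 2) (hg : ∃ g : G, orderOf g = r) : (p ^ f) % r = 0 ∨ ∃ j < 8, (p ^ f) ^ (2 * (j + 1)) % r = 1 := by
  by_cases hrp : r = p
  · left
    rw [hrp]
    exact Nat.mod_eq_zero_of_dvd (dvd_pow_self p (by have := h.fpos; omega))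
  · right
    obtain ⟨i, hi1, hi2, h3⟩ := lexp h.cla h.prime hp2 hI (y := r) (e := 1) hr hr2 hrp
      ((h.ord _).1 (by rwa [pow_one]))
    rw [pow_one] at h3
    have h4 : (r : ℤ) ∣ (sg t (p ^ f)) ^ i - 1 := Int.natCast_dvd.2 (h3.trans (tnum_dvd_natAbs h.cla
      (Nat.pow_pos h.prime.pos)))
    have h5 : ((sg t (p ^ f) : ℤ) : ZMod r) ^ i = 1 := by
      have h6 := (ZMod.intCast_zmod_eq_zero_iff_dvd _ r).2 h4
      push_cast at h6
      exact sub_eq_zero.1 h6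
    have h6 : (((p ^ f : ℕ) : ℕ) : ZMod r) ^ (2 * i) = 1 := by
      have h7 : ((sg t (p ^ f) : ℤ) : ZMod r) ^ (2 * i) = 1 := by rw [mul_comm, pow_mul, h5, one_pow]
      have h8 : ((sg t (p ^ f) : ℤ) : ZMod r) ^ 2 = (((p ^ f : ℕ) : ℕ) : ZMod r) ^ 2 := by
        have hc := h.cla
        cases t with
        | psu n =>
          show ((-((p ^ f : ℕ) : ℤ) : ℤ) : ZMod r) ^ 2 = _
          rw [Int.cast_neg, Int.cast_natCast, neg_sq]
        | psl n => exact congrArg (· ^ 2) (Int.cast_natCast _)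
        | psp n => exact congrArg (· ^ 2) (Int.cast_natCast _)
        | oodd n => exact congrArg (· ^ 2) (Int.cast_natCast _)
        | oplus n => exact congrArg (· ^ 2) (Int.cast_natCast _)
        | ominus n => exact congrArg (· ^ 2) (Int.cast_natCast _)
        | _ => exact hc.elim
      rw [pow_mul, ← h8, ← pow_mul, h7]
    rcases wt_lin_or h.cla with hw | hw
    · rw [hw] at hi2
      refine ⟨i - 1, by omega, mod_of_zmod hr.two_le ?_⟩
      rw [Nat.cast_pow, show 2 * (i - 1 + 1) = 2 * i by omega]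
      exact h6
    · rw [hw] at hi2
      rcases eta_cases i with ⟨h7, h8⟩ | ⟨h7, h8⟩
      · refine ⟨i - 1, by omega, mod_of_zmod hr.two_le ?_⟩
        rw [Nat.cast_pow, show 2 * (i - 1 + 1) = 2 * i by omega]
        exact h6
      · have h9 : i % 2 = 0 := Nat.even_iff.1 h7
        refine ⟨i / 2 - 1, by omega, mod_of_zmod hr.two_le ?_⟩
        rw [Nat.cast_pow, show 2 * (i / 2 - 1 + 1) = i by omega]
        rw [sg_eta h.cla hw, Int.cast_natCast] at h5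
        exact h5

/-- **The contradiction for small `q`.** -/
theorem kill_chk (h : LS t p f L G) (hI : Fam.Is p f L t) (hp2 : p ≠ 2) (hrk : rk t ≤ 8) {v r Q : ℕ} (hvp : v.Prime)
    (hv : v ≠ p) (hr : r.Prime) (hr2 : r ≠ 2) (hg : ∃ g : G, orderOf g = r) (hc : Chk v r Q) (hq : p ^ f < Q) :
    False := by
  obtain ⟨h1, h2⟩ := q_odd h hp2
  obtain ⟨h3, h4⟩ := hc _ hq ⟨h1, h2, Or.inr fun h3 => hv ((Nat.prime_dvd_prime_iff_eq hvp h.prime).1
    (hvp.dvd_of_dvd_pow (Nat.dvd_of_mod_eq_zero h3)))⟩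
  rcases exists_pow_eq h hI hp2 hrk hr hr2 hg with h5 | ⟨j, hj, h5⟩
  · exact h3 h5
  · exact h4 j hj h5

end main

end Cfsg.Agent.R2.Spec.EE
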