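import Cfsg.Agent.R2.Spec.EE.SmB5
import Cfsg.Agent.R2.Spec.EE.RowR5
import Cfsg.Agent.R2.Spec.EE.SmE7
import Cfsg.Agent.R2.Spec.EE.SmNum

/-!
# Small rank: `psp 5`, `oodd 5`, `oplus 5`, `ominus 5` and `E₆`, `²E₆`, `F₄` (helper28)

* `sm5_e6`, `sm5_te6` : rank 5; `sm5_f4` : `oplus 5`, `ominus 5`.
-/

set_option autoImplicit false
set_option linter.unusedSectionVars false
set_option linter.unusedVariables false
set_option maxRecDepth 100000

namespace Cfsg.Agent.R2.Spec.EE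

open Subgroup Cfsg Polynomial
open Cfsg.Agent Cfsg.Agent.H426.LieFam Cfsg.Agent.R2.Spec Cfsg.Agent.R2.Spec.P1 Cfsg.Agent.R2.Spec.F1
open Cfsg.Agent.H365.Zsig
open NumPoly

universe u w

/-! ### the boxes -/

/-- the number of a group -/
def nlf (l : List ℕ) (q : ℕ) : ℕ := (l.map fun n => pc n q / Nat.gcd (pc n q) n).prod

/-- the number of a clique -/
def mlf (l : List ℕ) (u : ℕ) : ℕ := (l.map fun n => pc n u).prod

/-- a bad pair -/
def bad5 (b c R d lu : ℕ) (G C : List (List ℕ)) (E u q : ℕ) : Bool :=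
  Nat.ble 3 q && (Nat.beq (q % 2) 1 && (Nat.beq (Nat.gcd u q) 1 && (Nat.ble (q ^ 4) (16 * E * u ^ lu) &&
    (Nat.ble (288 * u ^ b) (c * (max 169 q * (R * q ^ d))) &&
      (G.any fun g => C.any fun l => Nat.beq ((E * mlf l u) % nlf g q) 0)))))

/-- the box without `E` -/
def bxc (b c R d lu : ℕ) (G C : List (List ℕ)) (U : ℕ) : Bool :=
  (List.range U).all fun u => (List.range (2 * u + 1)).all fun q => !(bad5 b c R d lu G C 1 u q)

/-- the box with `E` -/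
def bxd (b c R d lu : ℕ) (G C : List (List ℕ)) (V U Q : ℕ) (sv : List (ℕ × ℕ × ℕ)) : Bool :=
  (List.range 6).all fun E => (List.range V).all fun v => (List.range Q).all fun q =>
    !(Nat.blt (v ^ E) U && bad5 b c R d lu G C E (v ^ E) q) || sv.contains (v, E, q)

def g5c : List (List ℕ) := [[5], [8], [10]]
def g5p : List (List ℕ) := [[5], [8], [4, 6]]
def g5m : List (List ℕ) := [[10], [8], [3, 4]]
def k6 : List (List ℕ) := [[5], [8], [12], [3, 6], [4, 6]]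
def kt6 : List (List ℕ) := [[10], [8], [12], [3, 6], [3, 4]]
def kf4 : List (List ℕ) := [[3], [4], [6]]

theorem bx6c : bxc 24 180 2 20 4 g5c k6 174 = true := by decide +kernel
theorem bxt6c : bxc 24 360 2 20 4 g5c kt6 174 = true := by decide +kernel
theorem bx6p : bxd 24 180 10 16 4 g5p k6 37 37 108 [(3, 1, 5)] = true := by decide +kernel
theorem bx6m : bxd 24 180 10 16 4 g5m k6 37 37 108 [] = true := by decide +kernel
theorem bxt6p : bxd 24 360 10 16 4 g5p kt6 37 37 108 [(2, 1, 3), (3, 1, 5), (4, 1, 5), (2, 2, 5)] = true := by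
  decide +kernel
theorem bxt6m : bxd 24 360 10 16 4 g5m kt6 37 37 108 [] = true := by decide +kernel
theorem bxf4p : bxd 14 12 10 16 2 g5p kf4 53 53 22 [] = true := by decide +kernel
theorem bxf4m : bxd 14 12 10 16 2 g5m kf4 53 53 22 [] = true := by decide +kernel

theorem bad5_of {b c R d lu : ℕ} {G C : List (List ℕ)} {E u q : ℕ} (hq3 : 3 ≤ q) (hq2 : q % 2 = 1)
    (hc : Nat.gcd u q = 1) (hA : q ^ 4 ≤ 16 * E * u ^ lu) (hB : 288 * u ^ b ≤ c * (max 169 q * (R * q ^ d)))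
    (hD : ∃ g ∈ G, ∃ l ∈ C, nlf g q ∣ E * mlf l u) : bad5 b c R d lu G C E u q = true := by
  obtain ⟨g, hg, l, hl, hd⟩ := hD
  have h1 : (G.any fun g => C.any fun l => Nat.beq ((E * mlf l u) % nlf g q) 0) = true := by
    rw [List.any_eq_true]
    refine ⟨g, hg, ?_⟩
    rw [List.any_eq_true]
    exact ⟨l, hl, (Nat.beq_eq (y := 0)).mpr (Nat.mod_eq_zero_of_dvd hd)⟩
  rw [bad5, h1, (Nat.ble_eq (x := 3) (y := q)).mpr hq3, (Nat.beq_eq (x := q % 2) (y := 1)).mpr hq2,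
    (Nat.beq_eq (x := Nat.gcd u q) (y := 1)).mpr hc, Nat.ble_eq.mpr hA, Nat.ble_eq.mpr hB]
  rfl

theorem bxc_false {b c R d lu : ℕ} {G C : List (List ℕ)} {U u q : ℕ} (h : bxc b c R d lu G C U = true) (hu : u < U)
    (hqu : q < 2 * u + 1) (hq3 : 3 ≤ q) (hq2 : q % 2 = 1) (hc : Nat.gcd u q = 1) (hA : q ^ 4 ≤ 16 * 1 * u ^ lu)
    (hB : 288 * u ^ b ≤ c * (max 169 q * (R * q ^ d))) (hD : ∃ g ∈ G, ∃ l ∈ C, nlf g q ∣ 1 * mlf l u) : False := by
  rw [bxc, List.all_eq_true] at h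
  have h1 := h u (List.mem_range.2 hu)
  rw [List.all_eq_true] at h1
  have h2 := h1 q (List.mem_range.2 hqu)
  rw [bad5_of hq3 hq2 hc hA hB hD] at h2
  exact Bool.noConfusion h2

theorem bxd_mem {b c R d lu : ℕ} {G C : List (List ℕ)} {V U Q : ℕ} {sv : List (ℕ × ℕ × ℕ)}
    (h : bxd b c R d lu G C V U Q sv = true) {v E q : ℕ} (hE : E < 6) (hv : v < V) (hu : v ^ E < U) (hqQ : q < Q)
    (hq3 : 3 ≤ q) (hq2 : q % 2 = 1) (hc : Nat.gcd (v ^ E) q = 1) (hA : q ^ 4 ≤ 16 * E * (v ^ E) ^ lu)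
    (hB : 288 * (v ^ E) ^ b ≤ c * (max 169 q * (R * q ^ d))) (hD : ∃ g ∈ G, ∃ l ∈ C, nlf g q ∣ E * mlf l (v ^ E)) :
    (v, E, q) ∈ sv := by
  rw [bxd, List.all_eq_true] at h
  have h1 := h E (List.mem_range.2 hE)
  rw [List.all_eq_true] at h1
  have h2 := h1 v (List.mem_range.2 hv)
  rw [List.all_eq_true] at h2
  have h3 := h2 q (List.mem_range.2 hqQ)
  rw [bad5_of hq3 hq2 hc hA hB hD, Bool.and_true, Bool.or_eq_true] at h3
  rcases h3 with h4 | h4
  · rw [Nat.blt_eq.mpr hu] at h4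
    exact Bool.noConfusion h4
  · exact List.contains_iff_mem.1 h4

/-! ### the inequalities -/

theorem max_le57 {q : ℕ} (hq : 3 ≤ q) : max 169 q ≤ 57 * q := by
  rw [max_le_iff]
  constructor <;> omega

theorem bnd5 {u q c : ℕ} (hA : q ^ 4 ≤ 16 * 1 * u ^ 4) (hB : 288 * u ^ 24 ≤ c * (max 169 q * (2 * q ^ 20)))
    (hc : c ≤ 360) : u < 174 ∧ q < 2 * u + 1 := by
  have hA' : q ^ 4 ≤ 16 * 1 * (u + 0) ^ 4 := by rw [add_zero]; exact hA
  refine ⟨?_, ?_⟩
  · by_contra hcon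
    have hB' := hB.trans (Nat.mul_le_mul_right _ hc)
    rcases le_total q 169 with h1 | h1
    · rw [max_eq_left h1] at hB'
      exact no_u (U := 174) (C0 := 360 * 169 * 2) (d := 20) hA' (hB'.trans (le_of_eq (by ring))) (by omega)
        (by norm_num) (by norm_num) (by decide +kernel)
    · rw [max_eq_right h1] at hB'
      exact no_u (U := 174) (C0 := 720) (d := 21) hA' (hB'.trans (le_of_eq (by ring))) (by omega)
        (by norm_num) (by norm_num) (by decide +kernel)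
  · by_contra hcon
    have h1 : (2 * u + 1) ^ 4 ≤ q ^ 4 := Nat.pow_le_pow_left (by omega) 4
    have h2 : (2 * u) ^ 4 < (2 * u + 1) ^ 4 := Nat.pow_lt_pow_left (by omega) (by norm_num)
    rw [mul_pow] at h2
    omega

theorem bndD {v E q c b lu U Q : ℕ} (hv : 2 ≤ v) (hE : 1 ≤ E) (hq3 : 3 ≤ q) (hA : q ^ 4 ≤ 16 * E * (v ^ E) ^ lu)
    (hB : 288 * (v ^ E) ^ b ≤ c * (max 169 q * (10 * q ^ 16))) {C0 : ℕ} (hC : c * 570 = C0)
    (n1 : lu * 17 + 17 ≤ 4 * b)
    (n2 : C0 ^ 4 * (16 * 6) ^ 17 * (2 ^ 6 + 0) ^ (lu * 17) < 288 ^ 4 * (2 ^ 6) ^ (4 * b))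
    (hU : 0 < U) (n3 : C0 ^ 4 * (16 * 5) ^ 17 * (U + 0) ^ (lu * 17) < 288 ^ 4 * U ^ (4 * b))
    (n4 : 16 * 5 * (U - 1) ^ lu < Q ^ 4) : E < 6 ∧ v < U ∧ v ^ E < U ∧ q < Q := by
  have hA' : q ^ 4 ≤ 16 * E * (v ^ E + 0) ^ lu := by rw [add_zero]; exact hA
  have hB' : 288 * (v ^ E) ^ b ≤ C0 * q ^ 17 := by
    refine hB.trans ((Nat.mul_le_mul_left c (Nat.mul_le_mul_right _ (max_le57 hq3))).trans (le_of_eq ?_))
    rw [← hC]
    ring
  have h1 : E < 6 := by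
    by_contra hcon
    exact no_f (F := 6) hv hA' hB' (by norm_num) (by omega) n1 n2
  have hE5 : 16 * E ≤ 16 * 5 := by omega
  have h2 : v ^ E < U := by
    by_contra hcon
    refine no_u (U := U) (c := 16) (f := 5) (δ := 0) (hA'.trans (Nat.mul_le_mul_right _ hE5)) hB' (by omega) hU (by omega) n3
  refine ⟨h1, lt_of_le_of_lt (Nat.le_self_pow (by omega) v) h2, h2, ?_⟩
  by_contra hcon
  have h3 : Q ^ 4 ≤ q ^ 4 := Nat.pow_le_pow_left (by omega) 4
  have h4 : 16 * E * (v ^ E) ^ lu ≤ 16 * 5 * (U - 1) ^ lu :=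
    Nat.mul_le_mul hE5 (Nat.pow_le_pow_left (by omega) lu)
  omega

/-! ### the cliques are small -/

theorem Phv {n u : ℕ} (hu : 1 ≤ u) : ((Ph n u : ℕ) : ℤ) = (cyclotomic n ℤ).eval (u : ℤ) := (Ph_cast hu).symm

theorem p5_le {u : ℕ} (hu : 2 ≤ u) : 7 * Ph 5 u ≤ 16 * u ^ 4 := by
  zify
  rw [Phv (by omega), NumA.eval_5]
  obtain ⟨x, rfl⟩ : ∃ x : ℕ, u = x + 2 := ⟨u - 2, by omega⟩
  push_cast
  apply sub_nonneg.1
  ring_nf
  positivity

theorem p8_le {u : ℕ} (hu : 2 ≤ u) : 7 * Ph 8 u ≤ 16 * u ^ 4 := by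
  zify
  rw [Phv (by omega), NumA.eval_8]
  obtain ⟨x, rfl⟩ : ∃ x : ℕ, u = x + 2 := ⟨u - 2, by omega⟩
  push_cast
  apply sub_nonneg.1
  ring_nf
  positivity

theorem p10_le {u : ℕ} (hu : 2 ≤ u) : 7 * Ph 10 u ≤ 16 * u ^ 4 := by
  zify
  rw [Phv (by omega), NumA.eval_10]
  obtain ⟨x, rfl⟩ : ∃ x : ℕ, u = x + 2 := ⟨u - 2, by omega⟩
  push_cast
  apply sub_nonneg.1
  ring_nf
  positivity

theorem p12_le {u : ℕ} (hu : 2 ≤ u) : 7 * Ph 12 u ≤ 16 * u ^ 4 := by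
  zify
  rw [Phv (by omega), NumA.eval_12]
  obtain ⟨x, rfl⟩ : ∃ x : ℕ, u = x + 2 := ⟨u - 2, by omega⟩
  push_cast
  apply sub_nonneg.1
  ring_nf
  positivity

theorem Ph6v {x : ℕ} : Ph 6 (x + 2) = x ^ 2 + 3 * x + 3 := by
  rw [Ph_six (by omega)]
  have : (x + 2) ^ 2 = (x ^ 2 + 3 * x + 2) + (x + 2) := by ring
  omega

theorem p36_le {u : ℕ} (hu : 2 ≤ u) : 7 * (Ph 3 u * Ph 6 u) ≤ 16 * u ^ 4 := by
  obtain ⟨x, rfl⟩ : ∃ x : ℕ, u = x + 2 := ⟨u - 2, by omega⟩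
  rw [Ph_three, Ph6v]
  zify
  apply sub_nonneg.1
  ring_nf
  positivity

theorem p46_le {u : ℕ} (hu : 2 ≤ u) : 7 * (Ph 4 u * Ph 6 u) ≤ 16 * u ^ 4 := by
  obtain ⟨x, rfl⟩ : ∃ x : ℕ, u = x + 2 := ⟨u - 2, by omega⟩
  rw [Ph_four, Ph6v]
  zify
  apply sub_nonneg.1
  ring_nf
  positivity

theorem p34_le {u : ℕ} (hu : 2 ≤ u) : 7 * (Ph 3 u * Ph 4 u) ≤ 16 * u ^ 4 := by
  obtain ⟨x, rfl⟩ : ∃ x : ℕ, u = x + 2 := ⟨u - 2, by omega⟩
  rw [Ph_four, Ph_three]
  zify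
  apply sub_nonneg.1
  ring_nf
  positivity

theorem p3_le {u : ℕ} (hu : 2 ≤ u) : 7 * Ph 3 u ≤ 16 * u ^ 2 := by
  rw [Ph_three]
  nlinarith

theorem p4_le {u : ℕ} (hu : 2 ≤ u) : 7 * Ph 4 u ≤ 16 * u ^ 2 := by
  rw [Ph_four]
  nlinarith

theorem p6_le {u : ℕ} (hu : 2 ≤ u) : 7 * Ph 6 u ≤ 16 * u ^ 2 := by
  rw [Ph_six (by omega)]
  have : u ^ 2 - u + 1 ≤ u ^ 2 + 1 := by omega
  nlinarith

theorem Ph_pos' {n u : ℕ} (hn : 2 ≤ n) (hu : 2 ≤ u) : 0 < Ph n u := by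
  have := Ph_gt_one (n := n) (q := u) (by omega) hu
  omega

/-- the clique is small -/
def Cok (C : List (List ℕ)) (lu u : ℕ) : Prop :=
  ∀ l ∈ C, (∀ n ∈ l, n ∈ [1, 2, 3, 4, 5, 6, 7, 8, 9, 10, 11, 12, 13, 14, 16, 18, 20]) ∧
    7 * (l.map fun n => Ph n u).prod ≤ 16 * u ^ lu ∧ 0 < (l.map fun n => Ph n u).prod

theorem cok6 {u : ℕ} (hu : 2 ≤ u) : Cok k6 4 u := by
  intro l hl
  simp only [k6, List.mem_cons, List.not_mem_nil, or_false] at hl
  have h3 := Ph_pos' (n := 3) (by norm_num) hu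
  have h4 := Ph_pos' (n := 4) (by norm_num) hu
  have h5 := Ph_pos' (n := 5) (by norm_num) hu
  have h6 := Ph_pos' (n := 6) (by norm_num) hu
  have h8 := Ph_pos' (n := 8) (by norm_num) hu
  have h12 := Ph_pos' (n := 12) (by norm_num) hu
  rcases hl with rfl | rfl | rfl | rfl | rfl
  · simpa using ⟨p5_le hu, h5⟩
  · simpa using ⟨p8_le hu, h8⟩
  · simpa using ⟨p12_le hu, h12⟩
  · simpa using ⟨p36_le hu, h3, h6⟩
  · simpa using ⟨p46_le hu, h4, h6⟩

theorem cokt6 {u : ℕ} (hu : 2 ≤ u) : Cok kt6 4 u := by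
  intro l hl
  simp only [kt6, List.mem_cons, List.not_mem_nil, or_false] at hl
  have h3 := Ph_pos' (n := 3) (by norm_num) hu
  have h4 := Ph_pos' (n := 4) (by norm_num) hu
  have h10 := Ph_pos' (n := 10) (by norm_num) hu
  have h6 := Ph_pos' (n := 6) (by norm_num) hu
  have h8 := Ph_pos' (n := 8) (by norm_num) hu
  have h12 := Ph_pos' (n := 12) (by norm_num) hu
  rcases hl with rfl | rfl | rfl | rfl | rfl
  · simpa using ⟨p10_le hu, h10⟩
  · simpa using ⟨p8_le hu, h8⟩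
  · simpa using ⟨p12_le hu, h12⟩
  · simpa using ⟨p36_le hu, h3, h6⟩
  · simpa using ⟨p34_le hu, h3, h4⟩

theorem cokf4 {u : ℕ} (hu : 2 ≤ u) : Cok kf4 2 u := by
  intro l hl
  simp only [kf4, List.mem_cons, List.not_mem_nil, or_false] at hl
  have h3 := Ph_pos' (n := 3) (by norm_num) hu
  have h4 := Ph_pos' (n := 4) (by norm_num) hu
  have h6 := Ph_pos' (n := 6) (by norm_num) hu
  rcases hl with rfl | rfl | rfl
  · simpa using ⟨p3_le hu, h3⟩
  · simpa using ⟨p4_le hu, h4⟩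
  · simpa using ⟨p6_le hu, h6⟩

theorem ml_eq {l : List ℕ} {u : ℕ} (h : ∀ n ∈ l, n ∈ [1, 2, 3, 4, 5, 6, 7, 8, 9, 10, 11, 12, 13, 14, 16, 18, 20]) :
    (l.map fun n => Ph n u).prod = mlf l u := by
  rw [mlf]
  congr 1
  exact List.map_congr_left fun n hn => Ph_pc (h n hn)

theorem pm_eq {n q : ℕ} (h : n ∈ [1, 2, 3, 4, 5, 6, 7, 8, 9, 10, 11, 12, 13, 14, 16, 18, 20]) :
    Pm n q = pc n q / Nat.gcd (pc n q) n := by
  rw [Pm, Ph_pc h]

/-- **The conclusion of a group.** -/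
theorem fin_of {u q e lu N : ℕ} {g : List ℕ} {C : List (List ℕ)} (hN : N = nlf g q) (hq : q ^ 4 ≤ 7 * N)
    (hS : Sml (BdL u C) e N) (hC : Cok C lu u) (he : 1 ≤ e) :
    q ^ 4 ≤ 16 * e * u ^ lu ∧ ∃ l ∈ C, nlf g q ∣ e * mlf l u := by
  obtain ⟨m, ⟨l, hl, hm⟩, hd⟩ := hS
  obtain ⟨h1, h2, h3⟩ := hC l hl
  have h4 : N ∣ e * (l.map fun n => Ph n u).prod := hd.trans (Nat.mul_dvd_mul_left e hm)
  refine ⟨?_, l, hl, ?_⟩
  · have h5 := Nat.le_of_dvd (Nat.mul_pos he h3) h4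
    calc q ^ 4 ≤ 7 * N := hq
      _ ≤ 7 * (e * (l.map fun n => Ph n u).prod) := Nat.mul_le_mul_left _ h5
      _ = e * (7 * (l.map fun n => Ph n u).prod) := by ring
      _ ≤ e * (16 * u ^ lu) := Nat.mul_le_mul_left _ h2
      _ = 16 * e * u ^ lu := by ring
  · rw [← hN, ← ml_eq h1]
    exact h4

section main

variable {t : Fam} {p f : ℕ} {L : Type w} [Group L] [Finite L] {G : Type u} [Group G] [Finite G]
  {K : Subgroup G} [K.Normal] {S : Subgroup (G ⧸ K)} [S.Normal] {t' : Fam} {v f' : ℕ} {T : Tab} {k : ℕ → ℕ}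

theorem EX.cop' (h : EX t p f L G K S t' v f' T k) : Nat.gcd (v ^ f') (p ^ f) = 1 :=
  Nat.Coprime.pow _ _ ((Nat.coprime_primes h.ef.vp h.ls.prime).2 h.vp)

theorem EX.u_two (h : EX t p f L G K S t' v f' T k) : 2 ≤ v ^ f' :=
  h.ef.vp.two_le.trans (Nat.le_self_pow (by have := h.frm.fpos; omega) v)

/-- **Rank 5, `psp`, `oodd`.** -/
theorem EX.r5c (h : EX t p f L G K S t' v f' T k) (ht : t = .psp 5 ∨ t = .oodd 5) {m c9 c12 c3 : ℕ}
    {C : List (List ℕ)} (hm : ∀ i ∈ [5, 8, 10], ∀ z, Gd t (p ^ f) (Nat.card ↥K) S.index i z →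
      m.testBit (val T (Nat.card ↥K) v k z) = true)
    (hmK : m.testBit (T.n + 2) = false) (a9 : (T.adj.getD c9 0).testBit c9 = true)
    (a12 : (T.adj.getD c12 0).testBit c12 = true)
    (hV : T.nt.testBit c3 = true ∨ (m.testBit T.n = false ∧ m.testBit (T.n + 1) = false))
    (hB : ∀ s : S, (∀ y : ℕ, y.Prime → y ∣ orderOf s → 5 ≤ y ∧ y ≠ v ∧ m.testBit (k y) = true ∧ k y < T.n ∧ k y ≠ c9) →
      ¬ (T9 v c12 k (orderOf s) ∧ T9 v c3 k (orderOf s)) → BdL (v ^ f') C (orderOf s)) {lu : ℕ}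
    (hC : Cok C lu (v ^ f')) :
    (p ^ f) ^ 4 ≤ 16 * 1 * (v ^ f') ^ lu ∧ ∃ g ∈ g5c, ∃ l ∈ C, nlf g (p ^ f) ∣ 1 * mlf l (v ^ f') := by
  obtain ⟨hq, hq3⟩ := h.q_odd
  have m5 : mem t 5 := by rcases ht with rfl | rfl <;> exact (show eta 5 ≤ 5 by decide)
  have m8 : mem t 8 := by rcases ht with rfl | rfl <;> exact (show eta 8 ≤ 5 by decide)
  have m10 : mem t 10 := by rcases ht with rfl | rfl <;> exact (show eta 10 ≤ 5 by decide)
  have i5 : idx t 5 = 5 := by rcases ht with rfl | rfl <;> rfl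
  have i8 : idx t 8 = 8 := by rcases ht with rfl | rfl <;> rfl
  have i10 : idx t 10 = 10 := by rcases ht with rfl | rfl <;> rfl
  have n58 : na t 5 8 := by
    rcases ht with rfl | rfl <;> exact na_of_naB (by norm_num) (by norm_num) (by decide)
  have n510 : na t 5 10 := by
    rcases ht with rfl | rfl <;> exact na_of_naB (by norm_num) (by norm_num) (by decide)
  have n810 : na t 8 10 := by
    rcases ht with rfl | rfl <;> exact na_of_naB (by norm_num) (by norm_num) (by decide)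
  obtain ⟨s1, g1⟩ := h.gp1k (i := 5) (by norm_num) m5 (by
    rcases ht with rfl | rfl <;> exact kill8 10 (by norm_num) (by decide) (by norm_num) (by norm_num))
  obtain ⟨s2, g2⟩ := h.gp1k (i := 8) (by norm_num) m8 (by
    rcases ht with rfl | rfl <;> exact kill4 5 (by norm_num) (by decide) (by norm_num) (by norm_num))
  obtain ⟨s3, g3⟩ := h.gp1k (i := 10) (by norm_num) m10 (by
    rcases ht with rfl | rfl <;> exact kill8 5 (by norm_num) (by decide) (by norm_num) (by norm_num))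
  rw [i5] at g1
  rw [i8] at g2
  rw [i10] at g3
  have hg : ∀ {i j : ℕ}, na t i j → NaG t [i] [j] := fun hij a ha b hb => by
    rw [List.mem_singleton.1 ha, List.mem_singleton.1 hb]; exact hij
  rcases h.three (c9 := c9) (c12 := c12) (c3 := c3) g1 g2 g3 (hg n58) (hg n510) (hg n810)
    (fun i hi => hm i (by rw [List.mem_singleton.1 hi]; simp)) (fun i hi => hm i (by rw [List.mem_singleton.1 hi]; simp))
    (fun i hi => hm i (by rw [List.mem_singleton.1 hi]; simp)) hmK a9 a12 hV hB with x | x | x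
  · obtain ⟨h1, h2⟩ := fin_of (g := [5]) (by rw [nlf, List.map_singleton, List.prod_singleton]; exact pm_eq (by decide))
      (ge5 hq3) x hC le_rfl
    exact ⟨h1, [5], by decide, h2⟩
  · obtain ⟨h1, h2⟩ := fin_of (g := [8]) (by rw [nlf, List.map_singleton, List.prod_singleton]; exact pm_eq (by decide))
      (ge8 hq3) x hC le_rfl
    exact ⟨h1, [8], by decide, h2⟩
  · obtain ⟨h1, h2⟩ := fin_of (g := [10]) (by rw [nlf, List.map_singleton, List.prod_singleton]; exact pm_eq (by decide))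
      (ge10 hq3) x hC le_rfl
    exact ⟨h1, [10], by decide, h2⟩

/-- **Rank 5, `oplus`, `ominus`.** -/
theorem EX.r5d (h : EX t p f L G K S t' v f' T k) {j a b : ℕ} {G5 : List (List ℕ)}
    (ht : (t = .oplus 5 ∧ j = 5 ∧ a = 4 ∧ b = 6 ∧ G5 = g5p) ∨ (t = .ominus 5 ∧ j = 10 ∧ a = 3 ∧ b = 4 ∧ G5 = g5m))
    {m c9 c12 c3 : ℕ}
    {C : List (List ℕ)} (hm : ∀ i ∈ [j, 8, a, b], ∀ z, Gd t (p ^ f) (Nat.card ↥K) S.index i z →
      m.testBit (val T (Nat.card ↥K) v k z) = true)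
    (hmK : m.testBit (T.n + 2) = false) (a9 : (T.adj.getD c9 0).testBit c9 = true)
    (a12 : (T.adj.getD c12 0).testBit c12 = true)
    (hV : T.nt.testBit c3 = true ∨ (m.testBit T.n = false ∧ m.testBit (T.n + 1) = false))
    (hB : ∀ s : S, (∀ y : ℕ, y.Prime → y ∣ orderOf s → 5 ≤ y ∧ y ≠ v ∧ m.testBit (k y) = true ∧ k y < T.n ∧ k y ≠ c9) →
      ¬ (T9 v c12 k (orderOf s) ∧ T9 v c3 k (orderOf s)) → BdL (v ^ f') C (orderOf s)) {lu : ℕ}
    (hC : Cok C lu (v ^ f')) :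
    (p ^ f) ^ 4 ≤ 16 * f' * (v ^ f') ^ lu ∧ ∃ g ∈ G5, ∃ l ∈ C, nlf g (p ^ f) ∣ f' * mlf l (v ^ f') := by
  obtain ⟨hq, hq3⟩ := h.q_odd
  have mj : mem t j := by
    rcases ht with ⟨rfl, rfl, -⟩ | ⟨rfl, rfl, -⟩
    · exact Or.inr ⟨rfl, rfl⟩
    · exact Or.inr rfl
  have m8 : mem t 8 := by rcases ht with ⟨rfl, -⟩ | ⟨rfl, -⟩ <;> exact Or.inl (show eta 8 + 1 ≤ 5 by decide)
  have ma : mem t a := by
    rcases ht with ⟨rfl, -, rfl, -⟩ | ⟨rfl, -, rfl, -⟩
    · exact Or.inl (show eta 4 + 1 ≤ 5 by decide)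
    · exact Or.inl (show eta 3 + 1 ≤ 5 by decide)
  have mb : mem t b := by
    rcases ht with ⟨rfl, -, -, rfl, -⟩ | ⟨rfl, -, -, rfl, -⟩
    · exact Or.inl (show eta 6 + 1 ≤ 5 by decide)
    · exact Or.inl (show eta 4 + 1 ≤ 5 by decide)
  have hj3 : 3 ≤ j ∧ 3 ≤ a ∧ 3 ≤ b ∧ a ≠ b := by
    rcases ht with ⟨-, rfl, rfl, rfl, -⟩ | ⟨-, rfl, rfl, rfl, -⟩ <;> decide
  have hid : idx t j = j ∧ idx t 8 = 8 ∧ idx t a = a ∧ idx t b = b := by
    rcases ht with ⟨rfl, -⟩ | ⟨rfl, -⟩ <;> exact ⟨rfl, rfl, rfl, rfl⟩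
  have nj8 : na t j 8 := by
    rcases ht with ⟨rfl, rfl, -⟩ | ⟨rfl, rfl, -⟩ <;> exact na_of_naB (by norm_num) (by norm_num) (by decide)
  have nja : na t j a := by
    rcases ht with ⟨rfl, rfl, rfl, -⟩ | ⟨rfl, rfl, rfl, -⟩ <;> exact na_of_naB (by norm_num) (by norm_num) (by decide)
  have njb : na t j b := by
    rcases ht with ⟨rfl, rfl, -, rfl, -⟩ | ⟨rfl, rfl, -, rfl, -⟩ <;>
      exact na_of_naB (by norm_num) (by norm_num) (by decide)
  have n8a : na t 8 a := by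
    rcases ht with ⟨rfl, -, rfl, -⟩ | ⟨rfl, -, rfl, -⟩ <;> exact na_of_naB (by norm_num) (by norm_num) (by decide)
  have n8b : na t 8 b := by
    rcases ht with ⟨rfl, -, -, rfl, -⟩ | ⟨rfl, -, -, rfl, -⟩ <;> exact na_of_naB (by norm_num) (by norm_num) (by decide)
  have nab : ¬ na t a b := by
    intro h1
    have h2 := naB_of_na h1
    revert h2
    rcases ht with ⟨rfl, -, rfl, rfl, -⟩ | ⟨rfl, -, rfl, rfl, -⟩ <;> decide
  obtain ⟨s1, g1⟩ := h.gp1 hj3.1 mj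
  obtain ⟨s2, g2⟩ := h.gp1 (i := 8) (by norm_num) m8
  obtain ⟨s3, g3⟩ := h.gp2 hj3.2.1 ma hj3.2.2.1 mb hj3.2.2.2 nab
  rw [hid.1] at g1
  rw [hid.2.1] at g2
  rw [hid.2.2.1, hid.2.2.2] at g3
  have q1 : NaG t [j] [8] := fun x hx y hy => by
    rw [List.mem_singleton.1 hx, List.mem_singleton.1 hy]; exact nj8
  have q2 : NaG t [j] [a, b] := fun x hx y hy => by
    rw [List.mem_singleton.1 hx]
    simp only [List.mem_cons, List.not_mem_nil, or_false] at hy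
    rcases hy with rfl | rfl
    · exact nja
    · exact njb
  have q3 : NaG t [8] [a, b] := fun x hx y hy => by
    rw [List.mem_singleton.1 hx]
    simp only [List.mem_cons, List.not_mem_nil, or_false] at hy
    rcases hy with rfl | rfl
    · exact n8a
    · exact n8b
  have hf := h.frm.fpos
  rcases h.three (c9 := c9) (c12 := c12) (c3 := c3) g1 g2 g3 q1 q2 q3
    (fun i hi => hm i (by rw [List.mem_singleton.1 hi]; simp)) (fun i hi => hm i (by rw [List.mem_singleton.1 hi]; simp))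
    (fun i hi => hm i (by
      simp only [List.mem_cons, List.not_mem_nil, or_false] at hi
      rcases hi with rfl | rfl <;> simp)) hmK a9 a12 hV hB with x | x | x
  · rcases ht with ⟨-, rfl, -, -, rfl⟩ | ⟨-, rfl, -, -, rfl⟩
    · obtain ⟨h1, h2⟩ := fin_of (g := [5]) (by rw [nlf, List.map_singleton, List.prod_singleton]; exact pm_eq (by decide))
        (ge5 hq3) x hC hf
      exact ⟨h1, [5], by decide, h2⟩
    · obtain ⟨h1, h2⟩ := fin_of (g := [10]) (by rw [nlf, List.map_singleton, List.prod_singleton]; exact pm_eq (by decide))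
        (ge10 hq3) x hC hf
      exact ⟨h1, [10], by decide, h2⟩
  · obtain ⟨h1, h2⟩ := fin_of (g := [8]) (by rw [nlf, List.map_singleton, List.prod_singleton]; exact pm_eq (by decide))
      (ge8 hq3) x hC hf
    refine ⟨h1, [8], ?_, h2⟩
    rcases ht with ⟨-, -, -, -, rfl⟩ | ⟨-, -, -, -, rfl⟩ <;> decide
  · rcases ht with ⟨-, -, rfl, rfl, rfl⟩ | ⟨-, -, rfl, rfl, rfl⟩
    · obtain ⟨h1, h2⟩ := fin_of (g := [4, 6]) (by
        rw [nlf, List.map_cons, List.map_singleton, List.prod_cons, List.prod_singleton, pm_eq (by decide), pm_eq (by decide)])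
        (ge46 hq3) x hC hf
      exact ⟨h1, [4, 6], by decide, h2⟩
    · obtain ⟨h1, h2⟩ := fin_of (g := [3, 4]) (by
        rw [nlf, List.map_cons, List.map_singleton, List.prod_cons, List.prod_singleton, pm_eq (by decide), pm_eq (by decide)])
        (ge34 hq3) x hC hf
      exact ⟨h1, [3, 4], by decide, h2⟩

/-! ### the rows -/

/-- an element of prime order, `E₆` -/
theorem exists_ord6 (h : EX t p f L G K S .e6 v f' tabE6 (kcl clE6 (v ^ f'))) {a r : ℕ} (ha : a ∈ clE6)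
    (h3 : r.Coprime 3) (hd : (r : ℤ) ∣ CertTab.cyc a ((v ^ f' : ℕ) : ℤ)) : ∃ g : G, orderOf g = r := by
  obtain ⟨F, _, _, _, hF, ⟨E⟩⟩ := h.frm.is
  refine exists_of_S (S := S) ?_
  obtain ⟨x, hx⟩ := ord6 (F := F) (a := a) (m := r) ha h3 (by rw [Nat.card_eq_fintype_card, hF]; exact hd)
  exact ⟨E.symm x, by rw [MulEquiv.orderOf_eq, hx]⟩

/-- an element of prime order, `²E₆` -/
theorem exists_ordT6 (h : EX t p f L G K S .te6 v f' tabTE6 (kcl clTE6 (v ^ f'))) {a r : ℕ} (ha : a ∈ clTE6)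
    (h3 : r.Coprime 3) (hd : (r : ℤ) ∣ CertTab.cyc a ((v ^ f' : ℕ) : ℤ)) : ∃ g : G, orderOf g = r := by
  obtain ⟨F, _, _, _, hF, ⟨E⟩⟩ := h.frm.is
  refine exists_of_S (S := S) ?_
  obtain ⟨x, hx⟩ := ordT6 (K := F) (q := v ^ f') (h.ef.vp.isPrimePow.pow (by have := h.frm.fpos; omega)) hF
    (a := a) (m := r) ha h3 hd
  exact ⟨E.symm x, by rw [MulEquiv.orderOf_eq, hx]⟩

theorem ck3 : Chk 3 757 6 := by decide +kernel
theorem ck2 : Chk 2 19 4 := by decide +kernel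
theorem ck4 : Chk 2 37 6 := by decide +kernel
theorem ck3' : Chk 3 19 6 := by decide +kernel

/-- **`E₆` and `psp 5`, `oodd 5`** -/
theorem sm5_e6c (h : EX t p f L G K S .e6 v f' tabE6 (kcl clE6 (v ^ f'))) (ht : t = .psp 5 ∨ t = .oodd 5) : False := by
  obtain ⟨hq, hq3⟩ := h.q_odd
  have hgd := h.gd_e6 (Or.inl (by rcases ht with rfl | rfl <;> decide))
  obtain ⟨h1, h2⟩ := h.r5c (m := 2044) (c9 := 7) (c12 := 8) (c3 := 2) ht (fun i hi z hz => by
      simp only [List.mem_cons, List.not_mem_nil, or_false] at hi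
      rcases ht with rfl | rfl
      · rcases hi with rfl | rfl | rfl
        · exact h.row_val hgd r56_psp_5 hz
        · exact h.row_val hgd r56_psp_8 hz
        · exact h.row_val hgd r56_psp_10 hz
      · rcases hi with rfl | rfl | rfl
        · exact h.row_val hgd r56_oodd_5 hz
        · exact h.row_val hgd r56_oodd_8 hz
        · exact h.row_val hgd r56_oodd_10 hz)
    (by decide) (by decide) (by decide) (Or.inl (by decide)) (hB_e6 h) (cok6 h.u_two)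
  have hB : 288 * (v ^ f') ^ 24 ≤ 180 * (max 169 (p ^ f) * (2 * (p ^ f) ^ 20)) :=
    (bigS6 h.ls h.is h.p2 (by rcases ht with rfl | rfl <;> decide) (by rcases ht with rfl | rfl <;> decide)
      (by rcases ht with rfl | rfl <;> decide) h.frm.is).trans (Nat.mul_le_mul_left _ (Nat.mul_le_mul_left _ (by
        rcases ht with rfl | rfl <;> exact RR_psp5 hq3)))
  obtain ⟨h3, h4⟩ := bnd5 h1 hB (by norm_num)
  exact bxc_false bx6c h3 h4 hq3 hq h.cop' h1 hB h2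

/-- **`²E₆` and `psp 5`, `oodd 5`** -/
theorem sm5_te6c (h : EX t p f L G K S .te6 v f' tabTE6 (kcl clTE6 (v ^ f'))) (ht : t = .psp 5 ∨ t = .oodd 5) :
    False := by
  obtain ⟨hq, hq3⟩ := h.q_odd
  have hgd := h.gd_te6 (Or.inl (by rcases ht with rfl | rfl <;> decide))
  obtain ⟨h1, h2⟩ := h.r5c (m := 2044) (c9 := 8) (c12 := 7) (c3 := 4) ht (fun i hi z hz => by
      simp only [List.mem_cons, List.not_mem_nil, or_false] at hi
      rcases ht with rfl | rfl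
      · rcases hi with rfl | rfl | rfl
        · exact h.row_val hgd r5t6_psp_5 hz
        · exact h.row_val hgd r5t6_psp_8 hz
        · exact h.row_val hgd r5t6_psp_10 hz
      · rcases hi with rfl | rfl | rfl
        · exact h.row_val hgd r5t6_oodd_5 hz
        · exact h.row_val hgd r5t6_oodd_8 hz
        · exact h.row_val hgd r5t6_oodd_10 hz)
    (by decide) (by decide) (by decide) (Or.inl (by decide)) (hB_te6 h) (cokt6 h.u_two)
  have hB : 288 * (v ^ f') ^ 24 ≤ 360 * (max 169 (p ^ f) * (2 * (p ^ f) ^ 20)) :=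
    (bigST6 h.ls h.is h.p2 (by rcases ht with rfl | rfl <;> decide) (by rcases ht with rfl | rfl <;> decide)
      (by rcases ht with rfl | rfl <;> decide) h.ef.vp h.frm.is).trans (Nat.mul_le_mul_left _ (Nat.mul_le_mul_left _ (by
        rcases ht with rfl | rfl <;> exact RR_psp5 hq3)))
  obtain ⟨h3, h4⟩ := bnd5 h1 hB (by norm_num)
  exact bxc_false bxt6c h3 h4 hq3 hq h.cop' h1 hB h2

/-- the numbers for `R = 5 RM` -/
theorem r_le {X c q R : ℕ} (h : X ≤ c * (max 169 q * (5 * R))) (hR : R ≤ 2 * q ^ 16) :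
    X ≤ c * (max 169 q * (10 * q ^ 16)) :=
  h.trans (Nat.mul_le_mul_left _ (Nat.mul_le_mul_left _ (by omega)))

/-- **`E₆` and `oplus 5`** -/
theorem sm5_e6p (h : EX (.oplus 5) p f L G K S .e6 v f' tabE6 (kcl clE6 (v ^ f'))) : False := by
  obtain ⟨hq, hq3⟩ := h.q_odd
  have hgd := h.gd_e6 (Or.inl (by decide))
  obtain ⟨h1, h2⟩ := h.r5d (m := 2044) (c9 := 7) (c12 := 8) (c3 := 2) (Or.inl ⟨rfl, rfl, rfl, rfl, rfl⟩)
    (fun i hi z hz => by
      simp only [List.mem_cons, List.not_mem_nil, or_false] at hi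
      rcases hi with rfl | rfl | rfl | rfl
      · exact h.row_val hgd r56_oplus_5 hz
      · exact h.row_val hgd r56_oplus_8 hz
      · exact h.row_val hgd r56_oplus_4 hz
      · exact h.row_val hgd r56_oplus_6 hz)
    (by decide) (by decide) (by decide) (Or.inl (by decide)) (hB_e6 h) (cok6 h.u_two)
  have hB := r_le (bigR6 h.ls h.is h.p2 (by decide) (rok_oplus5 h.ls h.is h.p2) h.frm.is) (RM_oplus5 hq3)
  obtain ⟨h3, h4, h5, h6⟩ := bndD (U := 37) (Q := 108) h.ef.vp.two_le h.frm.fpos hq3 h1 hB rfl (by norm_num)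
    (by decide +kernel) (by norm_num) (by decide +kernel) (by norm_num)
  have h7 := bxd_mem bx6p h3 h4 h5 h6 hq3 hq h.cop' h1 hB h2
  simp only [List.mem_cons, List.not_mem_nil, or_false, Prod.mk.injEq] at h7
  obtain ⟨rfl, rfl, h8⟩ := h7
  exact kill_chk h.ls h.is h.p2 (by decide) (v := 3) (r := 757) (by norm_num) h.vp (by norm_num) (by norm_num)
    (exists_ord6 h (a := 9) (by decide) (by norm_num) (by decide +kernel)) ck3 (by omega)

/-- **`E₆` and `ominus 5`** -/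
theorem sm5_e6m (h : EX (.ominus 5) p f L G K S .e6 v f' tabE6 (kcl clE6 (v ^ f'))) : False := by
  obtain ⟨hq, hq3⟩ := h.q_odd
  have hgd := h.gd_e6 (Or.inl (by decide))
  obtain ⟨h1, h2⟩ := h.r5d (m := 2044) (c9 := 7) (c12 := 8) (c3 := 2) (Or.inr ⟨rfl, rfl, rfl, rfl, rfl⟩)
    (fun i hi z hz => by
      simp only [List.mem_cons, List.not_mem_nil, or_false] at hi
      rcases hi with rfl | rfl | rfl | rfl
      · exact h.row_val hgd r56_ominus_10 hz
      · exact h.row_val hgd r56_ominus_8 hz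
      · exact h.row_val hgd r56_ominus_3 hz
      · exact h.row_val hgd r56_ominus_4 hz)
    (by decide) (by decide) (by decide) (Or.inl (by decide)) (hB_e6 h) (cok6 h.u_two)
  have hB := r_le (bigR6 h.ls h.is h.p2 (by decide) (rok_ominus5 h.ls h.is h.p2) h.frm.is) (RM_ominus5 hq3)
  obtain ⟨h3, h4, h5, h6⟩ := bndD (U := 37) (Q := 108) h.ef.vp.two_le h.frm.fpos hq3 h1 hB rfl (by norm_num)
    (by decide +kernel) (by norm_num) (by decide +kernel) (by norm_num)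
  exact List.not_mem_nil (bxd_mem bx6m h3 h4 h5 h6 hq3 hq h.cop' h1 hB h2)

/-- **`²E₆` and `oplus 5`** -/
theorem sm5_te6p (h : EX (.oplus 5) p f L G K S .te6 v f' tabTE6 (kcl clTE6 (v ^ f'))) : False := by
  obtain ⟨hq, hq3⟩ := h.q_odd
  have hgd := h.gd_te6 (Or.inl (by decide))
  obtain ⟨h1, h2⟩ := h.r5d (m := 2044) (c9 := 8) (c12 := 7) (c3 := 4) (Or.inl ⟨rfl, rfl, rfl, rfl, rfl⟩)
    (fun i hi z hz => by
      simp only [List.mem_cons, List.not_mem_nil, or_false] at hi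
      rcases hi with rfl | rfl | rfl | rfl
      · exact h.row_val hgd r5t6_oplus_5 hz
      · exact h.row_val hgd r5t6_oplus_8 hz
      · exact h.row_val hgd r5t6_oplus_4 hz
      · exact h.row_val hgd r5t6_oplus_6 hz)
    (by decide) (by decide) (by decide) (Or.inl (by decide)) (hB_te6 h) (cokt6 h.u_two)
  have hB := r_le (bigRT6 h.ls h.is h.p2 (by decide) (rok_oplus5 h.ls h.is h.p2) h.ef.vp h.frm.is) (RM_oplus5 hq3)
  obtain ⟨h3, h4, h5, h6⟩ := bndD (U := 37) (Q := 108) h.ef.vp.two_le h.frm.fpos hq3 h1 hB rfl (by norm_num)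
    (by decide +kernel) (by norm_num) (by decide +kernel) (by norm_num)
  have h7 := bxd_mem bxt6p h3 h4 h5 h6 hq3 hq h.cop' h1 hB h2
  simp only [List.mem_cons, List.not_mem_nil, or_false, Prod.mk.injEq] at h7
  rcases h7 with ⟨rfl, rfl, h8⟩ | ⟨rfl, rfl, h8⟩ | ⟨rfl, rfl, h8⟩ | ⟨rfl, rfl, h8⟩
  · exact kill_chk h.ls h.is h.p2 (by decide) (v := 2) (r := 19) (by norm_num) h.vp (by norm_num) (by norm_num)
      (exists_ordT6 h (a := 18) (by decide) (by norm_num) (by decide +kernel)) ck2 (by omega)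
  · exact kill_chk h.ls h.is h.p2 (by decide) (v := 3) (r := 19) (by norm_num) h.vp (by norm_num) (by norm_num)
      (exists_ordT6 h (a := 18) (by decide) (by norm_num) (by decide +kernel)) ck3' (by omega)
  · exact absurd h.ef.vp (by norm_num)
  · exact kill_chk h.ls h.is h.p2 (by decide) (v := 2) (r := 37) (by norm_num) h.vp (by norm_num) (by norm_num)
      (exists_ordT6 h (a := 18) (by decide) (by norm_num) (by decide +kernel)) ck4 (by omega)

/-- **`²E₆` and `ominus 5`** -/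
theorem sm5_te6m (h : EX (.ominus 5) p f L G K S .te6 v f' tabTE6 (kcl clTE6 (v ^ f'))) : False := by
  obtain ⟨hq, hq3⟩ := h.q_odd
  have hgd := h.gd_te6 (Or.inl (by decide))
  obtain ⟨h1, h2⟩ := h.r5d (m := 2044) (c9 := 8) (c12 := 7) (c3 := 4) (Or.inr ⟨rfl, rfl, rfl, rfl, rfl⟩)
    (fun i hi z hz => by
      simp only [List.mem_cons, List.not_mem_nil, or_false] at hi
      rcases hi with rfl | rfl | rfl | rfl
      · exact h.row_val hgd r5t6_ominus_10 hz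
      · exact h.row_val hgd r5t6_ominus_8 hz
      · exact h.row_val hgd r5t6_ominus_3 hz
      · exact h.row_val hgd r5t6_ominus_4 hz)
    (by decide) (by decide) (by decide) (Or.inl (by decide)) (hB_te6 h) (cokt6 h.u_two)
  have hB := r_le (bigRT6 h.ls h.is h.p2 (by decide) (rok_ominus5 h.ls h.is h.p2) h.ef.vp h.frm.is) (RM_ominus5 hq3)
  obtain ⟨h3, h4, h5, h6⟩ := bndD (U := 37) (Q := 108) h.ef.vp.two_le h.frm.fpos hq3 h1 hB rfl (by norm_num)
    (by decide +kernel) (by norm_num) (by decide +kernel) (by norm_num)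
  exact List.not_mem_nil (bxd_mem bxt6m h3 h4 h5 h6 hq3 hq h.cop' h1 hB h2)

/-- **`F₄` and `oplus 5`** -/
theorem sm5_f4p (h : EX (.oplus 5) p f L G K S .f4 v f' tabF4 (kcl clF4 (v ^ f'))) : False := by
  obtain ⟨hq, hq3⟩ := h.q_odd
  have hgd := h.gd_f4 (Or.inl (by decide))
  obtain ⟨h1, h2⟩ := h.r5d (m := 124) (c9 := 5) (c12 := 6) (c3 := 6) (Or.inl ⟨rfl, rfl, rfl, rfl, rfl⟩)
    (fun i hi z hz => by
      simp only [List.mem_cons, List.not_mem_nil, or_false] at hi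
      rcases hi with rfl | rfl | rfl | rfl
      · exact h.row_val hgd r5f_oplus_5 hz
      · exact h.row_val hgd r5f_oplus_8 hz
      · exact h.row_val hgd r5f_oplus_4 hz
      · exact h.row_val hgd r5f_oplus_6 hz)
    (by decide) (by decide) (by decide) (Or.inr (by decide)) (hB_f4 h) (cokf4 h.u_two)
  have hB := r_le (bigRF4 h.ls h.is h.p2 (by decide) (rok_oplus5 h.ls h.is h.p2) h.frm.is) (RM_oplus5 hq3)
  obtain ⟨h3, h4, h5, h6⟩ := bndD (U := 53) (Q := 22) h.ef.vp.two_le h.frm.fpos hq3 h1 hB rfl (by norm_num)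
    (by decide +kernel) (by norm_num) (by decide +kernel) (by norm_num)
  exact List.not_mem_nil (bxd_mem bxf4p h3 h4 h5 h6 hq3 hq h.cop' h1 hB h2)

/-- **`F₄` and `ominus 5`** -/
theorem sm5_f4m (h : EX (.ominus 5) p f L G K S .f4 v f' tabF4 (kcl clF4 (v ^ f'))) : False := by
  obtain ⟨hq, hq3⟩ := h.q_odd
  have hgd := h.gd_f4 (Or.inl (by decide))
  obtain ⟨h1, h2⟩ := h.r5d (m := 124) (c9 := 5) (c12 := 6) (c3 := 6) (Or.inr ⟨rfl, rfl, rfl, rfl, rfl⟩)
    (fun i hi z hz => by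
      simp only [List.mem_cons, List.not_mem_nil, or_false] at hi
      rcases hi with rfl | rfl | rfl | rfl
      · exact h.row_val hgd r5f_ominus_10 hz
      · exact h.row_val hgd r5f_ominus_8 hz
      · exact h.row_val hgd r5f_ominus_3 hz
      · exact h.row_val hgd r5f_ominus_4 hz)
    (by decide) (by decide) (by decide) (Or.inr (by decide)) (hB_f4 h) (cokf4 h.u_two)
  have hB := r_le (bigRF4 h.ls h.is h.p2 (by decide) (rok_ominus5 h.ls h.is h.p2) h.frm.is) (RM_ominus5 hq3)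
  obtain ⟨h3, h4, h5, h6⟩ := bndD (U := 53) (Q := 22) h.ef.vp.two_le h.frm.fpos hq3 h1 hB rfl (by norm_num)
    (by decide +kernel) (by norm_num) (by decide +kernel) (by norm_num)
  exact List.not_mem_nil (bxd_mem bxf4m h3 h4 h5 h6 hq3 hq h.cop' h1 hB h2)

/-- **`E₆`, rank 5.** -/
theorem sm5_e6 (h : EX t p f L G K S .e6 v f' tabE6 (kcl clE6 (v ^ f')))
    (ht : t = .psp 5 ∨ t = .oodd 5 ∨ t = .oplus 5 ∨ t = .ominus 5) : False := by
  rcases ht with rfl | rfl | rfl | rfl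
  · exact sm5_e6c h (Or.inl rfl)
  · exact sm5_e6c h (Or.inr rfl)
  · exact sm5_e6p h
  · exact sm5_e6m h

/-- **`²E₆`, rank 5.** -/
theorem sm5_te6 (h : EX t p f L G K S .te6 v f' tabTE6 (kcl clTE6 (v ^ f')))
    (ht : t = .psp 5 ∨ t = .oodd 5 ∨ t = .oplus 5 ∨ t = .ominus 5) : False := by
  rcases ht with rfl | rfl | rfl | rfl
  · exact sm5_te6c h (Or.inl rfl)
  · exact sm5_te6c h (Or.inr rfl)
  · exact sm5_te6p h
  · exact sm5_te6m h

/-- **`F₄`, rank 5.** -/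
theorem sm5_f4 (h : EX t p f L G K S .f4 v f' tabF4 (kcl clF4 (v ^ f'))) (ht : t = .oplus 5 ∨ t = .ominus 5) : False := by
  rcases ht with rfl | rfl
  · exact sm5_f4p h
  · exact sm5_f4m h

end main

end Cfsg.Agent.R2.Spec.EE
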