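import Cfsg.Agent.R2.Spec.EE.SmRee2

/-!
# `S = Ree(u)` : `psl 8`, `psu 8`, `oplus 5`, `oplus 6`, `ominus 5` (helper29)
-/

set_option autoImplicit false
set_option linter.unusedSectionVars false
set_option linter.unusedVariables false

namespace Cfsg.Agent.R2.Spec.EE

open Subgroup Cfsg
open Cfsg.Agent.H426.LieFam Cfsg.Agent.R2.Spec Cfsg.Agent.R2.Spec.P1 Cfsg.Agent.R2.Spec.F1
open Cfsg.Agent.H365.Zsig
open ReeNum

universe u w

theorem nab {t : Fam} {i j : ℕ} (hi : 1 ≤ i) (hj : 1 ≤ j) (h : naB t i j = true) : na t i j := na_of_naB hi hj h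

theorem wit_psl8 : Wit (.psl 8) 7 8 5 6 := by
  constructor
  all_goals first | exact nab (by norm_num) (by norm_num) (by decide) | simp [mem, top, nap]

theorem wit_psu8 : Wit (.psu 8) 7 8 5 6 := by
  constructor
  all_goals first | exact nab (by norm_num) (by norm_num) (by decide) | simp [mem, top, nap]

theorem wit_oplus5 : Wit (.oplus 5) 5 8 3 6 := by
  constructor
  all_goals first | exact nab (by norm_num) (by norm_num) (by decide) | simp [mem, top, nap, eta]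

theorem wit_ominus5 : Wit (.ominus 5) 10 8 3 6 := by
  constructor
  all_goals first | exact nab (by norm_num) (by norm_num) (by decide) | simp [mem, top, nap, eta]

theorem wit_oplus6 : Wit (.oplus 6) 5 10 3 8 := by
  constructor
  all_goals first | exact nab (by norm_num) (by norm_num) (by decide) | simp [mem, top, nap, eta]

section

variable {p f : ℕ} {L : Type w} [Group L] [Finite L] {G : Type u} [Group G] [Finite G]
  {K : Subgroup G} [K.Normal] {S : Subgroup (G ⧸ K)} [S.Normal] {v f' : ℕ} {T : Tab} {k : ℕ → ℕ}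

/-- the powers of 3 -/
theorem pow3 {m : ℕ} (hm : 1 ≤ m) : (9 : ℤ) ≤ 3 ^ (m + 1) ∧ 3 * (3 : ℤ) ^ (2 * m + 1) = (3 ^ (m + 1)) ^ 2 := by
  constructor
  · have h1 : (3 : ℤ) ^ 2 ≤ 3 ^ (m + 1) := pow_le_pow_right₀ (by norm_num) (by omega)
    linarith
  · rw [← pow_mul, ← pow_succ']
    congr 1
    omega

/-- the quotient -/
theorem quo {X N N' : ℕ} (h : X ∣ N) (hN : N ∣ N') (h0 : 0 < N') : ∃ c : ℤ, 0 < c ∧ c * (X : ℤ) = (N' : ℤ) ∧ 0 < (X : ℤ) := by
  obtain ⟨c, hc⟩ := h.trans hN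
  have h1 : 0 < X * c := by rw [← hc]; exact h0
  have h2 : 0 < c := Nat.pos_of_mul_pos_left h1
  have h3 : 0 < X := Nat.pos_of_mul_pos_right h1
  refine ⟨c, by exact_mod_cast h2, ?_, by exact_mod_cast h3⟩
  rw [hc]
  push_cast
  ring

theorem ph7 {q : ℕ} (hq : 1 ≤ q) : Ph 7 q = P7 q := by
  have h1 := Ph_cast (n := 7) hq
  rw [NumA.eval_7] at h1
  rw [P7]
  exact_mod_cast h1.symm

theorem ph8 {q : ℕ} (hq : 1 ≤ q) : Ph 8 q = q ^ 4 + 1 := by
  have h1 := Ph_cast (n := 8) hq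
  rw [NumA.eval_8] at h1
  exact_mod_cast h1.symm

theorem ph14 {q : ℕ} (hq : 1 ≤ q) : Ph 14 q = P14 q := by
  have h1 := Ph_cast (n := 14) hq
  rw [NumA.eval_14 _ (by positivity)] at h1
  have h2 : Ph 14 q + q ^ 5 + q ^ 3 + q = q ^ 6 + q ^ 4 + q ^ 2 + 1 := by
    zify
    rw [← h1]
    ring
  rw [P14]
  omega

theorem dv1 {q : ℕ} (hq : q % 2 = 1) : (q - 1) * 8 ∣ q ^ 8 - 1 := by
  obtain ⟨c, rfl⟩ : ∃ c, q = 2 * c + 1 := ⟨q / 2, by omega⟩
  refine ⟨(c + 1) * (2 * c ^ 2 + 2 * c + 1) * (8 * c ^ 4 + 16 * c ^ 3 + 12 * c ^ 2 + 4 * c + 1), ?_⟩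
  rw [Nat.add_sub_cancel]
  refine Nat.sub_eq_of_eq_add ?_
  ring

theorem dv2 {q : ℕ} (hq : q % 2 = 1) : (q + 1) * 8 ∣ q ^ 8 - 1 := by
  obtain ⟨c, rfl⟩ : ∃ c, q = 2 * c + 1 := ⟨q / 2, by omega⟩
  refine ⟨c * (2 * c ^ 2 + 2 * c + 1) * (8 * c ^ 4 + 16 * c ^ 3 + 12 * c ^ 2 + 4 * c + 1), ?_⟩
  refine Nat.sub_eq_of_eq_add ?_
  ring

/-- integers -/
theorem cast_sub_pow {q n : ℕ} (hq : 1 ≤ q) : ((q ^ n - 1 : ℕ) : ℤ) = (q : ℤ) ^ n - 1 := by
  rw [Nat.cast_sub (Nat.one_le_pow _ _ hq)]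
  push_cast
  ring

/-- **`Ree(u)` against `L_8(q)`** -/
theorem sm_ree_psl8 (h : EX (.psl 8) p f L G K S .ree v f' T k) : False := by
  obtain ⟨q1, q5, q3⟩ := h.ree_q
  set q := p ^ f with hq
  have f2 : 5 ^ 2 ≤ q ^ 2 := Nat.pow_le_pow_left q5 2
  have f4 : 5 ^ 4 ≤ q ^ 4 := Nat.pow_le_pow_left q5 4
  have f7 : 5 ^ 7 ≤ q ^ 7 := Nat.pow_le_pow_left q5 7
  have f8 : 5 ^ 8 ≤ q ^ 8 := Nat.pow_le_pow_left q5 8
  obtain ⟨M, a1, a2, a3, a4, a5⟩ := h.cn (i := 7) (l := 7) (by norm_num) (by simp [mem]) (by decide) (by decide) (by norm_num)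
    (by
      show 7 < Ph 7 q
      rw [ph7 (by omega), P7]
      omega)
  obtain ⟨M', b1, b2, b3, b4, -⟩ := h.cn (i := 8) (l := 2) (by norm_num) (by simp [mem]) (by decide) (by decide) (by norm_num)
    (by
      show 2 < Ph 8 q
      rw [ph8 (by omega)]
      omega)
  obtain ⟨m, x, y, hm, hx, hy, hxy, x1, x2, y1, y2⟩ := h.ree_two wit_psl8 a1 a2 a3 a4 b1 b2 b3 b4
  have hX0 : 0 < XN m x := lt_of_lt_of_le (by positivity) (XN_ge hm hx)
  have hPh : P7 q ≤ 7 * XN m x := by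
    have h1 : Ph 7 q ≤ 7 * M := a5
    rw [ph7 (by omega)] at h1
    exact h1.trans (Nat.mul_le_mul_left 7 (Nat.le_of_dvd hX0 x1))
  have hX : XN m x ∣ 2 * (q ^ 7 - 1) := by
    refine x2.trans (mul_dvd_mul_left 2 ?_)
    show ttor (.psl 8) q 7 ∣ q ^ 7 - 1
    simp only [ttor]
    norm_num
    refine Nat.div_dvd_of_dvd ((Nat.gcd_dvd_right _ _).trans ?_)
    simpa using Nat.sub_dvd_pow_sub_pow q 1 7
  rcases Nat.lt_or_ge q 1203 with hQ | hQ
  · refine no_small (by omega) ?_ (chk_all q1 (by omega) q3 hQ).2.2.1 hm hx hX hPh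
    have : q ^ 7 ≤ 1203 ^ 7 := Nat.pow_le_pow_left hQ.le 7
    have : (2 * 1203 ^ 7 : ℕ) < 3 ^ 48 := by norm_num
    omega
  · -- the second torus
    have hg : (q - 1) * Nat.gcd 8 (q - 1) ∣ q ^ 8 - 1 := (mul_dvd_mul_left _ (Nat.gcd_dvd_left _ _)).trans (dv1 q1)
    have e8 : ttor (.psl 8) q 8 * ((q - 1) * Nat.gcd 8 (q - 1)) = q ^ 8 - 1 := by
      have h0 : ttor (.psl 8) q 8 = (q ^ 8 - 1) / ((q - 1) * Nat.gcd 8 (q - 1)) := by simp [ttor]
      rw [h0]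
      exact Nat.div_mul_cancel hg
    obtain ⟨c, hc⟩ := y2
    obtain ⟨h1, h1p, h1e, h1x⟩ := quo hX dvd_rfl (by omega)
    obtain ⟨w9, hu⟩ := pow3 hm
    have hq1 : (((q - 1 : ℕ)) : ℤ) = (q : ℤ) - 1 := by rw [Nat.cast_sub (by omega)]; simp
    have hQ' : (1203 : ℤ) ≤ (q : ℤ) := by exact_mod_cast hQ
    have e9 : ((q : ℤ) - 1) * (((c : ℤ) * Nat.gcd 8 (q - 1)) * (XN m y : ℕ)) = 2 * ((q : ℤ) ^ 8 - 1) := by
      have h2 := congrArg (fun n : ℕ => (n : ℤ)) hc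
      have h3 := congrArg (fun n : ℕ => (n : ℤ)) e8
      simp only [Nat.cast_mul, cast_sub_pow (show 1 ≤ q by omega), hq1] at h2 h3
      push_cast at h2 h3 ⊢
      have h4 : ((c : ℤ) * Nat.gcd 8 (q - 1)) * (XN m y : ℕ) = (Nat.gcd 8 (q - 1)) * (2 * (ttor (.psl 8) q 8 : ℕ)) := by
        rw [h2]; ring
      rw [h4]
      linear_combination 2 * h3
    rw [Nat.cast_mul, cast_sub_pow (show 1 ≤ q by omega)] at h1e
    push_cast at h1e
    have key := brk (Z := ((q : ℤ) - 1) * ((c : ℤ) * Nat.gcd 8 (q - 1)) - q * h1) (a := (q : ℤ) - 1)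
      (h := (c : ℤ) * Nat.gcd 8 (q - 1)) (b := 2 * ((q : ℤ) - 1)) (B := 2 * ((q : ℤ) + 1)) (RX_of (m := m) hx) (RX_of hy) w9 hu ?_
      (by omega) (by positivity) rfl (Or.inr (by linear_combination e9 - (q : ℤ) * h1e)) (by rw [abs_of_nonneg (by omega)]; omega)
    · obtain ⟨-, s1⟩ := (RX_of (m := m) hx).size w9 hu
      refine ReeNum.big8 (q := q) (by omega) w9 key (by rw [show ((q : ℤ) - 1) * ((c : ℤ) * Nat.gcd 8 (q - 1) * (XN m y : ℕ)) = 2 * ((q : ℤ) ^ 8 - 1) from e9]; linarith) le_rfl ?_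
      have h5 : ((P7 q : ℕ) : ℤ) ≤ 7 * (XN m x : ℕ) := by exact_mod_cast hPh
      have h6 : (q : ℤ) ^ 6 ≤ ((P7 q : ℕ) : ℤ) := by
        rw [P7]; push_cast
        nlinarith [pow_pos (show (0:ℤ) < q by omega) 5, pow_pos (show (0:ℤ) < q by omega) 4, pow_pos (show (0:ℤ) < q by omega) 3,
          pow_pos (show (0:ℤ) < q by omega) 2]
      linarith
    · intro hZ
      have h7 : (q : ℤ) ∣ 2 := ⟨2 * q ^ 7 - h1 * (XN m y : ℕ), by linear_combination e9 - (XN m y : ℕ) * hZ⟩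
      have := Int.le_of_dvd (by norm_num) h7
      omega

/-- **`Ree(u)` against `U_8(q)`** -/
theorem sm_ree_psu8 (h : EX (.psu 8) p f L G K S .ree v f' T k) : False := by
  obtain ⟨q1, q5, q3⟩ := h.ree_q
  set q := p ^ f with hq
  have f2 : 5 ^ 2 ≤ q ^ 2 := Nat.pow_le_pow_left q5 2
  have f4 : 5 ^ 4 ≤ q ^ 4 := Nat.pow_le_pow_left q5 4
  have f7 : 5 ^ 7 ≤ q ^ 7 := Nat.pow_le_pow_left q5 7
  have f8 : 5 ^ 8 ≤ q ^ 8 := Nat.pow_le_pow_left q5 8
  obtain ⟨M, a1, a2, a3, a4, a5⟩ := h.cn (i := 7) (l := 7) (by norm_num) (by simp [mem]) (by decide) (by decide) (by norm_num)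
    (by
      show 7 < Ph 14 q
      rw [ph14 (by omega), P14]
      have : 5 * q ^ 5 ≤ q ^ 6 := by rw [pow_succ q 5, mul_comm]; exact Nat.mul_le_mul_left _ q5
      have : 5 * q ^ 3 ≤ q ^ 5 := by rw [show q ^ 5 = q ^ 3 * (q * q) by ring, mul_comm]; exact Nat.mul_le_mul_left _ (by nlinarith)
      have : 5 * q ≤ q ^ 3 := by rw [show q ^ 3 = q * (q * q) by ring, mul_comm]; exact Nat.mul_le_mul_left _ (by nlinarith)
      omega)
  obtain ⟨M', b1, b2, b3, b4, -⟩ := h.cn (i := 8) (l := 2) (by norm_num) (by simp [mem]) (by decide) (by decide) (by norm_num)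
    (by
      show 2 < Ph 8 q
      rw [ph8 (by omega)]
      omega)
  obtain ⟨m, x, y, hm, hx, hy, hxy, x1, x2, y1, y2⟩ := h.ree_two wit_psu8 a1 a2 a3 a4 b1 b2 b3 b4
  have hX0 : 0 < XN m x := lt_of_lt_of_le (by positivity) (XN_ge hm hx)
  have hPh : P14 q ≤ 7 * XN m x := by
    have h1 : Ph 14 q ≤ 7 * M := a5
    rw [ph14 (by omega)] at h1
    exact h1.trans (Nat.mul_le_mul_left 7 (Nat.le_of_dvd hX0 x1))
  have hX : XN m x ∣ 2 * (q ^ 7 + 1) := by
    refine x2.trans (mul_dvd_mul_left 2 ?_)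
    show ttor (.psu 8) q 7 ∣ q ^ 7 + 1
    simp only [ttor]
    norm_num
    refine Nat.div_dvd_of_dvd ((Nat.gcd_dvd_right _ _).trans ?_)
    simpa using Odd.nat_add_dvd_pow_add_pow q 1 (n := 7) (by decide)
  rcases Nat.lt_or_ge q 1203 with hQ | hQ
  · refine no_small (by omega) ?_ (chk_all q1 (by omega) q3 hQ).2.2.2 hm hx hX hPh
    have : q ^ 7 ≤ 1203 ^ 7 := Nat.pow_le_pow_left hQ.le 7
    have : (2 * 1203 ^ 7 : ℕ) < 3 ^ 48 := by norm_num
    omega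
  · -- the second torus
    have hg : (q + 1) * Nat.gcd 8 (q + 1) ∣ q ^ 8 - 1 := (mul_dvd_mul_left _ (Nat.gcd_dvd_left _ _)).trans (dv2 q1)
    have e8 : ttor (.psu 8) q 8 * ((q + 1) * Nat.gcd 8 (q + 1)) = q ^ 8 - 1 := by
      have h0 : ttor (.psu 8) q 8 = (q ^ 8 - 1) / ((q + 1) * Nat.gcd 8 (q + 1)) := by simp [ttor]
      rw [h0]
      exact Nat.div_mul_cancel hg
    obtain ⟨c, hc⟩ := y2
    obtain ⟨h1, h1p, h1e, h1x⟩ := quo hX dvd_rfl (by omega)
    obtain ⟨w9, hu⟩ := pow3 hm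
    have hQ' : (1203 : ℤ) ≤ (q : ℤ) := by exact_mod_cast hQ
    have e9 : ((q : ℤ) + 1) * (((c : ℤ) * Nat.gcd 8 (q + 1)) * (XN m y : ℕ)) = 2 * ((q : ℤ) ^ 8 - 1) := by
      have h2 := congrArg (fun n : ℕ => (n : ℤ)) hc
      have h3 := congrArg (fun n : ℕ => (n : ℤ)) e8
      simp only [Nat.cast_mul, cast_sub_pow (show 1 ≤ q by omega)] at h2 h3
      push_cast at h2 h3 ⊢
      have h4 : ((c : ℤ) * Nat.gcd 8 (q + 1)) * (XN m y : ℕ) = (Nat.gcd 8 (q + 1)) * (2 * (ttor (.psu 8) q 8 : ℕ)) := by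
        rw [h2]; ring
      rw [h4]
      linear_combination 2 * h3
    push_cast at h1e
    have key := brk (Z := ((q : ℤ) + 1) * ((c : ℤ) * Nat.gcd 8 (q + 1)) - q * h1) (a := (q : ℤ) + 1)
      (h := (c : ℤ) * Nat.gcd 8 (q + 1)) (b := -(2 * ((q : ℤ) + 1))) (B := 2 * ((q : ℤ) + 1)) (RX_of (m := m) hx) (RX_of hy) w9 hu ?_
      (by omega) (by positivity) rfl (Or.inr (by linear_combination e9 - (q : ℤ) * h1e)) (by rw [abs_neg, abs_of_nonneg (by omega)])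
    · obtain ⟨-, s1⟩ := (RX_of (m := m) hx).size w9 hu
      refine ReeNum.big8 (q := q) (by omega) w9 key (by rw [show ((q : ℤ) + 1) * ((c : ℤ) * Nat.gcd 8 (q + 1) * (XN m y : ℕ)) = 2 * ((q : ℤ) ^ 8 - 1) from e9]; linarith) le_rfl ?_
      have h5 : ((P14 q : ℕ) : ℤ) ≤ 7 * (XN m x : ℕ) := by exact_mod_cast hPh
      have h6 : 4 * (q : ℤ) ^ 6 ≤ 5 * ((P14 q : ℕ) : ℤ) := by
        rw [← ph14 (show 1 ≤ q by omega), ← Ph_cast (show 1 ≤ q by omega), NumA.eval_14 _ (by positivity)]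
        nlinarith [pow_pos (show (0:ℤ) < q by omega) 5, pow_pos (show (0:ℤ) < q by omega) 4, pow_pos (show (0:ℤ) < q by omega) 3,
          pow_pos (show (0:ℤ) < q by omega) 2]
      linarith
    · intro hZ
      have h7 : (q : ℤ) ∣ 2 := ⟨2 * q ^ 7 - h1 * (XN m y : ℕ), by linear_combination e9 - (XN m y : ℕ) * hZ⟩
      have := Int.le_of_dvd (by norm_num) h7
      omega

/-! ### the orthogonal groups -/

theorem ph5 {q : ℕ} (hq : 1 ≤ q) : Ph 5 q = P5 q := by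
  have h1 := Ph_cast (n := 5) hq
  rw [NumA.eval_5] at h1
  rw [P5]
  exact_mod_cast h1.symm

theorem ph10 {q : ℕ} (hq : 1 ≤ q) : Ph 10 q = P10 q := by
  have h1 := Ph_cast (n := 10) hq
  rw [NumA.eval_10] at h1
  have h2 : Ph 10 q + q ^ 3 + q = q ^ 4 + q ^ 2 + 1 := by
    zify
    rw [← h1]
    ring
  rw [P10]
  omega

theorem in_sq {t : Fam} {q i r : ℕ} (hs : sg t q = (q : ℤ)) (h : In t q i r) : ¬ ((r : ℤ) ∣ (q : ℤ) ^ 2 - 1) := by
  intro h1
  have h2 : orderOf ((sg t q : ℤ) : ZMod r) = i := h.cls_eq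
  rw [hs] at h2
  have h3 : (((q : ℤ) ^ 2 - 1 : ℤ) : ZMod r) = 0 := (ZMod.intCast_zmod_eq_zero_iff_dvd _ _).2 h1
  push_cast at h3
  have h4 : (((q : ℤ) : ZMod r)) ^ 2 = 1 := by
    push_cast
    linear_combination h3
  have h5 := Nat.le_of_dvd (by norm_num) (orderOf_dvd_of_pow_eq_one h4)
  have := h.reg
  omega

/-- `M ∣ Φ` if `M ∣ c Φ` and no prime of `M` divides `q² - 1` -/
theorem dvd_phi {t : Fam} {q i M c : ℕ} {Φ : ℤ} (hs : sg t q = (q : ℤ)) (hin : ∀ r : ℕ, r.Prime → r ∣ M → In t q i r)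
    (hM : (M : ℤ) ∣ (c : ℤ) * Φ) (hc : (c : ℤ) ∣ (q : ℤ) ^ 2 - 1) : (M : ℤ) ∣ Φ := by
  refine IsCoprime.dvd_of_dvd_mul_left ?_ hM
  rw [Nat.isCoprime_iff_coprime]
  by_contra hcon
  obtain ⟨r, hr, h1, h2⟩ := Nat.Prime.not_coprime_iff_dvd.1 hcon
  exact in_sq hs (hin r hr h1) ((Int.natCast_dvd_natCast.2 h2).trans hc)

theorem even4 {q : ℕ} (hq : q % 2 = 1) : 4 ∣ (q ^ 4 + 1) * (q + 1) ∧ 4 ∣ (q ^ 4 + 1) * (q - 1) := by
  obtain ⟨c, rfl⟩ : ∃ c, q = 2 * c + 1 := ⟨q / 2, by omega⟩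
  constructor
  · exact ⟨(8 * c ^ 4 + 16 * c ^ 3 + 12 * c ^ 2 + 4 * c + 1) * (c + 1), by ring⟩
  · exact ⟨(8 * c ^ 4 + 16 * c ^ 3 + 12 * c ^ 2 + 4 * c + 1) * c, by rw [Nat.add_sub_cancel]; ring⟩

/-- **`Ree(u)` against `PΩ⁺₁₀(q)`** -/
theorem sm_ree_oplus5 (h : EX (.oplus 5) p f L G K S .ree v f' T k) : False := by
  obtain ⟨q1, q5, q3⟩ := h.ree_q
  set q := p ^ f with hq
  have f4 : 5 ^ 4 ≤ q ^ 4 := Nat.pow_le_pow_left q5 4
  have f5 : 5 ^ 5 ≤ q ^ 5 := Nat.pow_le_pow_left q5 5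
  obtain ⟨M, a1, a2, a3, a4, a5⟩ := h.cn (i := 5) (l := 5) (by norm_num) (by simp [mem, eta]) (by decide) (by decide) (by norm_num)
    (by
      show 5 < Ph 5 q
      rw [ph5 (by omega), P5]
      omega)
  obtain ⟨M', b1, b2, b3, b4, b5⟩ := h.cn (i := 8) (l := 2) (by norm_num) (by simp [mem, eta]) (by decide) (by decide) (by norm_num)
    (by
      show 2 < Ph 8 q
      rw [ph8 (by omega)]
      omega)
  obtain ⟨m, x, y, hm, hx, hy, hxy, x1, x2, y1, y2⟩ := h.ree_two wit_oplus5 a1 a2 a3 a4 b1 b2 b3 b4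
  have hX0 : 0 < XN m x := lt_of_lt_of_le (by positivity) (XN_ge hm hx)
  have hMP : P5 q ≤ 5 * M := by
    have h1 : Ph 5 q ≤ 5 * M := a5
    rwa [ph5 (by omega)] at h1
  have hPh : P5 q ≤ 5 * XN m x := hMP.trans (Nat.mul_le_mul_left 5 (Nat.le_of_dvd hX0 x1))
  have hX : XN m x ∣ 2 * (q ^ 5 - 1) := by
    refine x2.trans (mul_dvd_mul_left 2 ?_)
    show ttor (.oplus 5) q 5 ∣ q ^ 5 - 1
    simp only [ttor]
    norm_num
    exact Nat.div_dvd_of_dvd (Nat.gcd_dvd_right _ _)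
  rcases Nat.lt_or_ge q 1203 with hQ | hQ
  · refine no_small (by omega) ?_ (chk_all q1 (by omega) q3 hQ).1 hm hx hX hPh
    have : q ^ 5 ≤ 1203 ^ 5 := Nat.pow_le_pow_left hQ.le 5
    have : (2 * 1203 ^ 5 : ℕ) < 3 ^ 48 := by norm_num
    omega
  · have hY : XN m y ∣ 2 * ((q ^ 4 + 1) * (q + 1)) := by
      refine y2.trans (mul_dvd_mul_left 2 ?_)
      show ttor (.oplus 5) q 8 ∣ _
      simp only [ttor]
      norm_num
      exact Nat.div_dvd_of_dvd ((Nat.gcd_dvd_left _ _).trans (even4 q1).1)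
    obtain ⟨h1, h1p, h1e, h1x⟩ := quo hX dvd_rfl (by omega)
    obtain ⟨h2, h2p, h2e, h2x⟩ := quo hY dvd_rfl (by positivity)
    obtain ⟨w9, hu⟩ := pow3 hm
    have hQ' : (1203 : ℤ) ≤ (q : ℤ) := by exact_mod_cast hQ
    rw [Nat.cast_mul, cast_sub_pow (show 1 ≤ q by omega)] at h1e
    push_cast at h1e h2e
    have key := brk (Z := ((q : ℤ) + 1) * h1 - q * h2) (a := (q : ℤ))
      (h := h2) (b := -(2 * ((q : ℤ) + 1) ^ 2)) (B := 2 * ((q : ℤ) + 1) ^ 2) (RX_of (m := m) hx) (RX_of hy) w9 hu ?_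
      (by omega) (by omega) rfl (Or.inl (by linear_combination ((q : ℤ) + 1) * h1e - (q : ℤ) * h2e))
      (by rw [abs_neg, abs_of_nonneg (by positivity)])
    · have hw := bound5 (q := q) (by omega) key (by rw [h2e]; linarith) le_rfl
      obtain ⟨-, s1⟩ := (RX_of (m := m) hx).size w9 hu
      obtain ⟨e, he⟩ := x1
      obtain ⟨e', he'⟩ := y1
      have d1 : (M : ℤ) ∣ (q : ℤ) ^ 4 + q ^ 3 + q ^ 2 + q + 1 := by
        refine dvd_phi (t := .oplus 5) (q := q) (c := q - 1) rfl a3 ?_ ?_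
        · have h3 : ((M : ℕ) : ℤ) ∣ ((q ^ 5 - 1 : ℕ) : ℤ) := Int.natCast_dvd_natCast.2 a1
          rw [cast_sub_pow (show 1 ≤ q by omega)] at h3
          refine h3.trans (dvd_of_eq ?_)
          rw [Nat.cast_sub (by omega)]
          push_cast
          ring
        · rw [Nat.cast_sub (by omega)]
          exact ⟨(q : ℤ) + 1, by push_cast; ring⟩
      have d2 : (M' : ℤ) ∣ (q : ℤ) ^ 4 + 1 := by
        have h3 : ((M' : ℕ) : ℤ) ∣ ((q ^ 4 + 1 : ℕ) : ℤ) := Int.natCast_dvd_natCast.2 b1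
        push_cast at h3
        exact h3
      obtain ⟨n, hn⟩ := d1
      obtain ⟨n', hn'⟩ := d2
      have hM0 : 0 < M := Nat.pos_of_ne_zero (by rintro rfl; rw [P5] at hMP; omega)
      have hMP' : (q : ℤ) ^ 4 + q ^ 3 + q ^ 2 + q + 1 ≤ 5 * M := by
        have h3 : ((P5 q : ℕ) : ℤ) ≤ ((5 * M : ℕ) : ℤ) := by exact_mod_cast hMP
        rw [P5] at h3
        push_cast at h3
        exact h3
      have hM2 : (q : ℤ) ^ 4 + 1 ≤ 2 * M' := by
        have h3 : Ph 8 q ≤ 2 * M' := b5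
        rw [ph8 (by omega)] at h3
        exact_mod_cast h3
      have hM0' : (0 : ℤ) < M' := by nlinarith [pow_pos (show (0:ℤ) < q by omega) 4]
      have hM0z : (0 : ℤ) < M := by exact_mod_cast hM0
      refine second (q := q) (w := 3 ^ (m + 1)) (X := (XN m x : ℕ)) (Y := (XN m y : ℕ)) (M := M) (M' := M') (e := e) (e' := e')
        (m := n) (m' := n') (Φ := (q : ℤ) ^ 4 + q ^ 3 + q ^ 2 + q + 1) (by omega) (by positivity) hw (by rw [he]; push_cast; ring)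
        (by rw [he']; push_cast; ring) (by rw [hn]; ring) (by rw [hn']; ring) ?_ ?_ ?_ ?_
        ((RX_of (m := m) hx).diff (RX_of hy) w9) s1 h1x h2x (Or.inl rfl)
      · by_contra hcon
        have h3 : (M : ℤ) * n ≤ 0 := mul_nonpos_of_nonneg_of_nonpos hM0z.le (by omega)
        rw [← hn] at h3
        have : (0 : ℤ) < (q : ℤ) ^ 4 + q ^ 3 + q ^ 2 + q + 1 := by positivity
        omega
      · by_contra hcon
        have h3 : (M : ℤ) * 6 ≤ M * n := mul_le_mul_of_nonneg_left (by omega) hM0z.le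
        rw [← hn] at h3
        omega
      · by_contra hcon
        have h3 : (M' : ℤ) * n' ≤ 0 := mul_nonpos_of_nonneg_of_nonpos hM0'.le (by omega)
        rw [← hn'] at h3
        have : (0 : ℤ) < (q : ℤ) ^ 4 + 1 := by positivity
        omega
      · by_contra hcon
        have h3 : (M' : ℤ) * 3 ≤ M' * n' := mul_le_mul_of_nonneg_left (by omega) hM0'.le
        rw [← hn'] at h3
        omega
    · intro hZ
      have h7 : (q : ℤ) ∣ 2 := ⟨2 * q ^ 5 + 2 * q ^ 4 - 2 - h2 * (XN m x : ℕ),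
        by linear_combination ((q : ℤ) + 1) * h1e - (XN m x : ℕ) * hZ⟩
      have := Int.le_of_dvd (by norm_num) h7
      omega

/-- **`Ree(u)` against `PΩ⁻₁₀(q)`** -/
theorem sm_ree_ominus5 (h : EX (.ominus 5) p f L G K S .ree v f' T k) : False := by
  obtain ⟨q1, q5, q3⟩ := h.ree_q
  set q := p ^ f with hq
  have f4 : 5 ^ 4 ≤ q ^ 4 := Nat.pow_le_pow_left q5 4
  have f5 : 5 ^ 5 ≤ q ^ 5 := Nat.pow_le_pow_left q5 5
  obtain ⟨M, a1, a2, a3, a4, a5⟩ := h.cn (i := 10) (l := 5) (by norm_num) (by simp [mem, eta]) (by decide) (by decide) (by norm_num)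
    (by
      show 5 < Ph 10 q
      rw [ph10 (by omega), P10]
      have : 5 * q ^ 3 ≤ q ^ 4 := by rw [pow_succ q 3, mul_comm]; exact Nat.mul_le_mul_left _ q5
      have : 5 * q ≤ q ^ 3 := by rw [show q ^ 3 = q * (q * q) by ring, mul_comm]; exact Nat.mul_le_mul_left _ (by nlinarith)
      omega)
  obtain ⟨M', b1, b2, b3, b4, b5⟩ := h.cn (i := 8) (l := 2) (by norm_num) (by simp [mem, eta]) (by decide) (by decide) (by norm_num)
    (by
      show 2 < Ph 8 q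
      rw [ph8 (by omega)]
      omega)
  obtain ⟨m, x, y, hm, hx, hy, hxy, x1, x2, y1, y2⟩ := h.ree_two wit_ominus5 a1 a2 a3 a4 b1 b2 b3 b4
  have hX0 : 0 < XN m x := lt_of_lt_of_le (by positivity) (XN_ge hm hx)
  have hMP : P10 q ≤ 5 * M := by
    have h1 : Ph 10 q ≤ 5 * M := a5
    rwa [ph10 (by omega)] at h1
  have hPh : P10 q ≤ 5 * XN m x := hMP.trans (Nat.mul_le_mul_left 5 (Nat.le_of_dvd hX0 x1))
  have hX : XN m x ∣ 2 * (q ^ 5 + 1) := by
    refine x2.trans (mul_dvd_mul_left 2 ?_)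
    show ttor (.ominus 5) q 10 ∣ q ^ 5 + 1
    simp only [ttor]
    norm_num
    exact Nat.div_dvd_of_dvd (Nat.gcd_dvd_right _ _)
  rcases Nat.lt_or_ge q 1203 with hQ | hQ
  · refine no_small (by omega) ?_ (chk_all q1 (by omega) q3 hQ).2.1 hm hx hX hPh
    have : q ^ 5 ≤ 1203 ^ 5 := Nat.pow_le_pow_left hQ.le 5
    have : (2 * 1203 ^ 5 : ℕ) < 3 ^ 48 := by norm_num
    omega
  · have hY : XN m y ∣ 2 * ((q ^ 4 + 1) * (q - 1)) := by
      refine y2.trans (mul_dvd_mul_left 2 ?_)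
      show ttor (.ominus 5) q 8 ∣ _
      simp only [ttor]
      norm_num
      exact Nat.div_dvd_of_dvd ((Nat.gcd_dvd_left _ _).trans (even4 q1).2)
    obtain ⟨h1, h1p, h1e, h1x⟩ := quo hX dvd_rfl (by omega)
    obtain ⟨h2, h2p, h2e, h2x⟩ := quo hY dvd_rfl (Nat.mul_pos (by norm_num) (Nat.mul_pos (by positivity) (by omega)))
    obtain ⟨w9, hu⟩ := pow3 hm
    have hQ' : (1203 : ℤ) ≤ (q : ℤ) := by exact_mod_cast hQ
    have hq1 : (((q - 1 : ℕ)) : ℤ) = (q : ℤ) - 1 := by rw [Nat.cast_sub (by omega)]; simp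
    push_cast [hq1] at h1e h2e
    have key := brk (Z := ((q : ℤ) - 1) * h1 - q * h2) (a := (q : ℤ))
      (h := h2) (b := -(2 * ((q : ℤ) - 1) ^ 2)) (B := 2 * ((q : ℤ) - 1) ^ 2) (RX_of (m := m) hx) (RX_of hy) w9 hu ?_
      (by omega) (by omega) rfl (Or.inl (by linear_combination ((q : ℤ) - 1) * h1e - (q : ℤ) * h2e))
      (by rw [abs_neg, abs_of_nonneg (by positivity)])
    · have hw := bound5 (q := q) (by omega) key (by rw [h2e]; nlinarith [mul_pos (show (0:ℤ) < q by omega) (show (0:ℤ) < (q:ℤ) ^ 4 + 1 by positivity)]) (by nlinarith)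
      obtain ⟨-, s1⟩ := (RX_of (m := m) hx).size w9 hu
      obtain ⟨e, he⟩ := x1
      obtain ⟨e', he'⟩ := y1
      have d1 : (M : ℤ) ∣ (q : ℤ) ^ 4 - q ^ 3 + q ^ 2 - q + 1 := by
        refine dvd_phi (t := .ominus 5) (q := q) (c := q + 1) rfl a3 ?_ ?_
        · have h3 : ((M : ℕ) : ℤ) ∣ ((q ^ 5 + 1 : ℕ) : ℤ) := Int.natCast_dvd_natCast.2 a1
          refine h3.trans (dvd_of_eq ?_)
          push_cast
          ring
        · exact ⟨(q : ℤ) - 1, by push_cast; ring⟩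
      have d2 : (M' : ℤ) ∣ (q : ℤ) ^ 4 + 1 := by
        have h3 : ((M' : ℕ) : ℤ) ∣ ((q ^ 4 + 1 : ℕ) : ℤ) := Int.natCast_dvd_natCast.2 b1
        push_cast at h3
        exact h3
      obtain ⟨n, hn⟩ := d1
      obtain ⟨n', hn'⟩ := d2
      have hM0 : 0 < M := Nat.pos_of_ne_zero (by rintro rfl; rcases a2 with ⟨c, hc⟩; omega)
      have hMP' : (q : ℤ) ^ 4 - q ^ 3 + q ^ 2 - q + 1 ≤ 5 * M := by
        have h3 : ((P10 q : ℕ) : ℤ) ≤ ((5 * M : ℕ) : ℤ) := by exact_mod_cast hMP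
        rw [← ph10 (show 1 ≤ q by omega), ← Ph_cast (show 1 ≤ q by omega), NumA.eval_10] at h3
        push_cast at h3
        exact h3
      have hM2 : (q : ℤ) ^ 4 + 1 ≤ 2 * M' := by
        have h3 : Ph 8 q ≤ 2 * M' := b5
        rw [ph8 (by omega)] at h3
        exact_mod_cast h3
      have hM0' : (0 : ℤ) < M' := by nlinarith [pow_pos (show (0:ℤ) < q by omega) 4]
      have hM0z : (0 : ℤ) < M := by exact_mod_cast hM0
      refine second (q := q) (w := 3 ^ (m + 1)) (X := (XN m x : ℕ)) (Y := (XN m y : ℕ)) (M := M) (M' := M') (e := e) (e' := e')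
        (m := n) (m' := n') (Φ := (q : ℤ) ^ 4 - q ^ 3 + q ^ 2 - q + 1) (by omega) (by positivity) hw (by rw [he]; push_cast; ring)
        (by rw [he']; push_cast; ring) (by rw [hn]; ring) (by rw [hn']; ring) ?_ ?_ ?_ ?_
        ((RX_of (m := m) hx).diff (RX_of hy) w9) s1 h1x h2x (Or.inr rfl)
      · by_contra hcon
        have h3 : (M : ℤ) * n ≤ 0 := mul_nonpos_of_nonneg_of_nonpos hM0z.le (by omega)
        rw [← hn] at h3
        have : (0 : ℤ) < (q : ℤ) ^ 4 - q ^ 3 + q ^ 2 - q + 1 := by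
          nlinarith [pow_pos (show (0:ℤ) < q by omega) 3, pow_pos (show (0:ℤ) < q by omega) 2]
        omega
      · by_contra hcon
        have h3 : (M : ℤ) * 6 ≤ M * n := mul_le_mul_of_nonneg_left (by omega) hM0z.le
        rw [← hn] at h3
        omega
      · by_contra hcon
        have h3 : (M' : ℤ) * n' ≤ 0 := mul_nonpos_of_nonneg_of_nonpos hM0'.le (by omega)
        rw [← hn'] at h3
        have : (0 : ℤ) < (q : ℤ) ^ 4 + 1 := by positivity
        omega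
      · by_contra hcon
        have h3 : (M' : ℤ) * 3 ≤ M' * n' := mul_le_mul_of_nonneg_left (by omega) hM0'.le
        rw [← hn'] at h3
        omega
    · intro hZ
      have h7 : (q : ℤ) ∣ 2 := ⟨2 * q ^ 5 - 2 * q ^ 4 + 2 - h2 * (XN m x : ℕ),
        by linear_combination ((q : ℤ) - 1) * h1e - (XN m x : ℕ) * hZ⟩
      have := Int.le_of_dvd (by norm_num) h7
      omega

/-- **`Ree(u)` against `PΩ⁺₁₂(q)`** -/
theorem sm_ree_oplus6 (h : EX (.oplus 6) p f L G K S .ree v f' T k) : False := by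
  obtain ⟨q1, q5, q3⟩ := h.ree_q
  set q := p ^ f with hq
  have f4 : 5 ^ 4 ≤ q ^ 4 := Nat.pow_le_pow_left q5 4
  have f5 : 5 ^ 5 ≤ q ^ 5 := Nat.pow_le_pow_left q5 5
  obtain ⟨M, a1, a2, a3, a4, a5⟩ := h.cn (i := 5) (l := 5) (by norm_num) (by simp [mem, eta]) (by decide) (by decide) (by norm_num)
    (by
      show 5 < Ph 5 q
      rw [ph5 (by omega), P5]
      omega)
  obtain ⟨M', b1, b2, b3, b4, b5⟩ := h.cn (i := 10) (l := 5) (by norm_num) (by simp [mem, eta]) (by decide) (by decide) (by norm_num)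
    (by
      show 5 < Ph 10 q
      rw [ph10 (by omega), P10]
      have : 5 * q ^ 3 ≤ q ^ 4 := by rw [pow_succ q 3, mul_comm]; exact Nat.mul_le_mul_left _ q5
      have : 5 * q ≤ q ^ 3 := by rw [show q ^ 3 = q * (q * q) by ring, mul_comm]; exact Nat.mul_le_mul_left _ (by nlinarith)
      omega)
  obtain ⟨m, x, y, hm, hx, hy, hxy, x1, x2, y1, y2⟩ := h.ree_two wit_oplus6 a1 a2 a3 a4 b1 b2 b3 b4
  have hX0 : 0 < XN m x := lt_of_lt_of_le (by positivity) (XN_ge hm hx)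
  have hMP : P5 q ≤ 5 * M := by
    have h1 : Ph 5 q ≤ 5 * M := a5
    rwa [ph5 (by omega)] at h1
  have hPh : P5 q ≤ 5 * XN m x := hMP.trans (Nat.mul_le_mul_left 5 (Nat.le_of_dvd hX0 x1))
  have hX : XN m x ∣ 2 * (q ^ 5 - 1) := by
    refine x2.trans (mul_dvd_mul_left 2 ?_)
    show ttor (.oplus 6) q 5 ∣ q ^ 5 - 1
    simp only [ttor]
    norm_num
    refine Nat.div_dvd_of_dvd ((Nat.gcd_dvd_right _ _).trans ?_)
    simpa using Nat.sub_dvd_pow_sub_pow q 1 5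
  rcases Nat.lt_or_ge q 1203 with hQ | hQ
  · refine no_small (by omega) ?_ (chk_all q1 (by omega) q3 hQ).1 hm hx hX hPh
    have : q ^ 5 ≤ 1203 ^ 5 := Nat.pow_le_pow_left hQ.le 5
    have : (2 * 1203 ^ 5 : ℕ) < 3 ^ 48 := by norm_num
    omega
  · have hY : XN m y ∣ 2 * (q ^ 5 + 1) := by
      refine y2.trans (mul_dvd_mul_left 2 ?_)
      show ttor (.oplus 6) q 10 ∣ _
      simp only [ttor]
      norm_num
      refine Nat.div_dvd_of_dvd ((Nat.gcd_dvd_left _ _).trans ?_)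
      have : q ^ 5 % 2 = 1 := by rw [Nat.pow_mod, q1]
      omega
    obtain ⟨h1, h1p, h1e, h1x⟩ := quo hX dvd_rfl (by omega)
    obtain ⟨h2, h2p, h2e, h2x⟩ := quo hY dvd_rfl (by positivity)
    obtain ⟨w9, hu⟩ := pow3 hm
    have hQ' : (1203 : ℤ) ≤ (q : ℤ) := by exact_mod_cast hQ
    rw [Nat.cast_mul, cast_sub_pow (show 1 ≤ q by omega)] at h1e
    push_cast at h1e h2e
    have rX := RX_of (m := m) hx
    have rY := RX_of (m := m) hy
    have key := brk (Z := h1 - h2) (a := 1) (h := h2) (b := -4) (B := 4) rX rY w9 hu ?_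
      (by omega) (by omega) rfl (Or.inl (by linear_combination h1e - h2e)) (by norm_num)
    · obtain ⟨-, s1⟩ := rX.size w9 hu
      refine big6 (q := q) (by omega) w9 key (by rw [one_mul, h2e]) le_rfl ?_
      have h5 : ((P5 q : ℕ) : ℤ) ≤ 5 * (XN m x : ℕ) := by exact_mod_cast hPh
      have h6 : (q : ℤ) ^ 4 ≤ ((P5 q : ℕ) : ℤ) := by
        rw [P5]; push_cast
        nlinarith [pow_pos (show (0:ℤ) < q by omega) 3, pow_pos (show (0:ℤ) < q by omega) 2]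
      linarith
    · intro hZ
      have e4 : h2 * ((XN m y : ℕ) - (XN m x : ℕ) : ℤ) = 4 := by linear_combination h2e - h1e + (XN m x : ℕ) * hZ
      generalize ((XN m x : ℕ) : ℤ) = X at *
      generalize ((XN m y : ℕ) : ℤ) = Y at *
      have hno : ∀ d : ℤ, (7 ≤ d ∨ d ≤ 0) → h2 * d ≠ 4 := by
        intro d hd e
        rcases hd with hd | hd
        · nlinarith
        · nlinarith
      by_cases hc : X = 3 ^ (2 * m + 1) - 1 ∧ Y = 3 ^ (2 * m + 1) + 1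
      · obtain ⟨rfl, rfl⟩ := hc
        have h3 : h2 = 2 := by
          have : h2 * 2 = 4 := by linear_combination e4
          omega
        rw [h3] at h2e
        have h4 : (3 : ℤ) ^ (2 * m + 1) = (q : ℤ) ^ 5 := by linarith
        have h5 : 3 ^ (2 * m + 1) = q ^ 5 := by exact_mod_cast h4
        have h6 : 3 ∣ q ^ 5 := by rw [← h5]; exact dvd_pow_self 3 (by omega)
        exact q3 (Nat.prime_three.dvd_of_dvd_pow h6)
      · refine hno (Y - X) ?_ e4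
        rcases rX with rfl | rfl | rfl | rfl <;> rcases rY with rfl | rfl | rfl | rfl <;>
          first
            | exact absurd ⟨rfl, rfl⟩ hc
            | (left; linarith)
            | (right; linarith)

/-- **`S = Ree(u)`, all the surviving small ranks** -/
theorem sm_ree {t : Fam} (h : EX t p f L G K S .ree v f' T k)
    (ht : t = .psl 8 ∨ t = .psu 8 ∨ t = .oplus 5 ∨ t = .oplus 6 ∨ t = .ominus 5) : False := by
  rcases ht with rfl | rfl | rfl | rfl | rfl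
  · exact sm_ree_psl8 h
  · exact sm_ree_psu8 h
  · exact sm_ree_oplus5 h
  · exact sm_ree_oplus6 h
  · exact sm_ree_ominus5 h

end

end Cfsg.Agent.R2.Spec.EE
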