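import Cfsg.Agent.R2.Spec.EE.SmE7
import Cfsg.Agent.R2.Spec.EE.SmGdC
import Cfsg.Agent.R2.Spec.EE.OrdTF4
import Cfsg.Agent.R2.Spec.EE.SokTF4
import Cfsg.Agent.R2.Spec.EE.RowMTF
import Cfsg.Agent.R2.Spec.EE.SmTFn

/-!
# `S = ²F₄(u)`, `t = psp 5`, `oodd 5`, `oplus 6` (helper3)

The classes 5 and 10 are tops with torus numbers `(q^5 ∓ 1) / 2`.
-/

set_option autoImplicit false
set_option linter.unusedSectionVars false
set_option linter.unusedVariables false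

namespace Cfsg.Agent.R2.Spec.EE

open Subgroup Cfsg Polynomial
open Cfsg.Agent.H426.LieFam Cfsg.Agent.R2.Spec Cfsg.Agent.R2.Spec.P1 Cfsg.Agent.R2.Spec.F1
open Cfsg.Agent.H365.Zsig Cfsg.Agent.H493.PGF4T

universe u w

/-- the data of `²F₄(u)` -/
theorem tf4_data {S : Type u} [Group S] [Finite S] {v f : ℕ} (h : Fam.Is v f S .tf4) :
    v = 2 ∧ ∃ m, 1 ≤ m ∧ f = 2 * m + 1 ∧
      (∀ r : ℕ, r.Prime → 5 ≤ r → r ∣ Nat.card S → (r : ℤ) ∣ NTF (2 ^ m) (kTF4 f r) ∧ kTF4 f r < 6) ∧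
      (∀ j N : ℕ, 3 ≤ j → j < 6 → (N : ℤ) = NTF (2 ^ m) j → ∃ s : S, orderOf s = N) ∧
      (∀ s : S, (orderOf s).Coprime 2 → orderOf s ≤ (2 * (2 ^ m) ^ 2 + 2 * 2 ^ m + 1) ^ 2) := by
  obtain ⟨rfl, m, hm, hf, K, _, _, hK, ⟨e⟩⟩ := h
  refine ⟨rfl, m, hm, hf, ?_, ?_, ?_⟩
  · have e1 : (f + 1) / 2 = m + 1 := by omega
    have hone : 1 ≤ 2 ^ f := Nat.one_le_pow _ _ (by norm_num)
    have hle : 2 ^ f ≤ (2 ^ f) ^ 2 := Nat.le_self_pow (by norm_num) _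
    have hu : ((2 : ℤ) ^ f) = 2 * (2 ^ m) ^ 2 := by rw [hf]; exact two_pow_f m
    have hw : ((2 : ℤ) ^ (m + 1)) = 2 * 2 ^ m := by ring
    have c0 : ∀ d : ℕ, d ∣ 2 ^ f - 1 ↔ (d : ℤ) ∣ NTF (2 ^ m) 0 := fun d => by
      simp only [NTF]; rw [← Int.natCast_dvd_natCast, Nat.cast_sub hone]; push_cast; rw [hu]
    have c1 : ∀ d : ℕ, d ∣ 2 ^ f + 1 ↔ (d : ℤ) ∣ NTF (2 ^ m) 1 := fun d => by
      simp only [NTF]; rw [← Int.natCast_dvd_natCast]; push_cast; rw [hu]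
    have c2 : ∀ d : ℕ, d ∣ (2 ^ f) ^ 2 + 1 ↔ (d : ℤ) ∣ NTF (2 ^ m) 2 := fun d => by
      simp only [NTF]; rw [← Int.natCast_dvd_natCast]; push_cast
      rw [hu, show (2 * ((2 : ℤ) ^ m) ^ 2) ^ 2 + 1 = 4 * (2 ^ m) ^ 4 + 1 by ring]
    have c3 : ∀ d : ℕ, d ∣ (2 ^ f) ^ 2 - 2 ^ f + 1 ↔ (d : ℤ) ∣ NTF (2 ^ m) 3 := fun d => by
      simp only [NTF]; rw [← Int.natCast_dvd_natCast, Nat.cast_add, Nat.cast_sub hle]; push_cast
      rw [hu, show (2 * ((2 : ℤ) ^ m) ^ 2) ^ 2 - 2 * (2 ^ m) ^ 2 + 1 = 4 * (2 ^ m) ^ 4 - 2 * (2 ^ m) ^ 2 + 1 by ring]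
    have c4 : ∀ d : ℕ, d ∣ (2 ^ f) ^ 2 + 2 ^ (m + 1) * 2 ^ f + 2 ^ f + 2 ^ (m + 1) + 1 ↔ (d : ℤ) ∣ NTF (2 ^ m) 4 := fun d => by
      simp only [NTF]; rw [← Int.natCast_dvd_natCast]; push_cast
      rw [hu, hw, show (2 * ((2 : ℤ) ^ m) ^ 2) ^ 2 + 2 * 2 ^ m * (2 * (2 ^ m) ^ 2) + 2 * (2 ^ m) ^ 2 + 2 * 2 ^ m + 1 =
        4 * (2 ^ m) ^ 4 + 4 * (2 ^ m) ^ 3 + 2 * (2 ^ m) ^ 2 + 2 * 2 ^ m + 1 by ring]
    have hcard : Nat.card S = Nat.card ↥(Lie.twistedF4 K (2 ^ m)) := Nat.card_congr e.toEquiv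
    intro r hr h5 hd
    unfold kTF4
    rw [e1]
    split_ifs with a0 a1 a2 a3 a4
    · exact ⟨(c0 r).1 a0, by norm_num⟩
    · exact ⟨(c1 r).1 a1, by norm_num⟩
    · exact ⟨(c2 r).1 a2, by norm_num⟩
    · exact ⟨(c3 r).1 a3, by norm_num⟩
    · exact ⟨(c4 r).1 a4, by norm_num⟩
    · rw [hcard] at hd
      obtain ⟨i, hi, h1⟩ := tf4_cov hK hr h5 hd
      have : i = 5 := by
        rcases (by omega : i = 0 ∨ i = 1 ∨ i = 2 ∨ i = 3 ∨ i = 4 ∨ i = 5) with rfl | rfl | rfl | rfl | rfl | rfl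
        · exact absurd ((c0 r).2 h1) a0
        · exact absurd ((c1 r).2 h1) a1
        · exact absurd ((c2 r).2 h1) a2
        · exact absurd ((c3 r).2 h1) a3
        · exact absurd ((c4 r).2 h1) a4
        · rfl
      subst this
      exact ⟨h1, by norm_num⟩
  · intro j N hj3 hj6 hN
    have key : ∃ x : ↥(Lie.twistedF4 K (2 ^ m)), orderOf x = N := by
      interval_cases j
      · exact OTF4.ord_f6 hK (by rw [hN]; simp only [NTF, f6]; exact dvd_rfl)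
      · exact OTF4.ord_fP hK (by rw [hN]; simp only [NTF, fP]; exact dvd_rfl)
      · exact OTF4.ord_fM hK (by rw [hN]; simp only [NTF, fM]; exact dvd_rfl)
    obtain ⟨x, hx⟩ := key
    exact ⟨e.symm x, by rw [MulEquiv.orderOf_eq, hx]⟩
  · intro s hs
    have h1 := odd_ord hK (e s) (by rw [MulEquiv.orderOf_eq]; exact hs)
    rw [MulEquiv.orderOf_eq] at h1
    have hb : (1 : ℤ) ≤ 2 ^ m := one_le_pow₀ (by norm_num)
    have hgoal : ((orderOf s : ℕ) : ℤ) ≤ (2 * (2 ^ m) ^ 2 + 2 * 2 ^ m + 1) ^ 2 := by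
      have ho : (0 : ℤ) < ((orderOf s : ℕ) : ℤ) := by exact_mod_cast orderOf_pos s
      generalize ((orderOf s : ℕ) : ℤ) = n at h1 ho
      generalize (2 : ℤ) ^ m = b at h1 hb
      have p3 : 0 ≤ b ^ 3 := by positivity
      have p2 : 0 ≤ b ^ 2 := by positivity
      have p1 : b ≤ b ^ 2 := by nlinarith
      have p4 : b ^ 3 ≤ b ^ 4 := by nlinarith [mul_nonneg p3 (show (0 : ℤ) ≤ b - 1 by linarith)]
      have p5 : b ^ 2 ≤ b ^ 3 := by nlinarith [mul_nonneg p2 (show (0 : ℤ) ≤ b - 1 by linarith)]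
      have fin : ∀ z : ℤ, n ∣ z → 0 < z → z ≤ (2 * b ^ 2 + 2 * b + 1) ^ 2 → n ≤ (2 * b ^ 2 + 2 * b + 1) ^ 2 :=
        fun z hz h0 h2 => (Int.le_of_dvd h0 hz).trans h2
      rcases h1 with h | h | h | h | h | h | h | h | h | h | h
      all_goals refine fin _ h (by nlinarith) (by nlinarith)
    exact_mod_cast hgoal

section main

variable {t : Fam} {p f : ℕ} {L : Type w} [Group L] [Finite L] {G : Type u} [Group G] [Finite G]
  {K : Subgroup G} [K.Normal] {S : Subgroup (G ⧸ K)} [S.Normal] {v f' : ℕ}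

/-- **The general form.** -/
theorem tf_tops (h : EX t p f L G K S .tf4 v f' tabTF4 (kTF4 f')) (ht : Sm t) (hm5 : memB t 5 = true)
    (hm10 : memB t 10 = true) (hk5 : Killer (KI t 5) 5) (hk10 : Killer (KI t 10) 10) (hna : na t 5 10) (hidx : idx t 5 = 5)
    (c5 : (dat tabTF4.tbl t (cls3 t)).go (cls3 t).length (st0 tabTF4.tbl (cls3 t) (tabTF4.domX 5 56)) 0 = false)
    (c10 : (dat tabTF4.tbl t (cls3 t)).go (cls3 t).length (st0 tabTF4.tbl (cls3 t) (tabTF4.domX 10 56)) 0 = false)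
    (h5 : top t 5) (h10 : top t 10) (t5 : ∀ q : ℕ, ttor t q 5 = (q ^ 5 - 1) / Nat.gcd 2 (q - 1))
    (t10 : ∀ q : ℕ, ttor t q 10 = (q ^ 5 + 1) / Nat.gcd 2 (q - 1)) : False := by
  obtain ⟨hq, hq3⟩ := h.q_odd
  obtain ⟨hv2, m, hm1, hf', kk, hex, hodd⟩ := tf4_data h.frm.is
  have hgd := h.gd_tf4_sm ht
  have hg2 : Nat.gcd 2 (p ^ f - 1) = 2 := Nat.gcd_eq_left (by omega)
  -- the values
  have val : ∀ {i : ℕ}, Killer (KI t i) i →
      (dat tabTF4.tbl t (cls3 t)).go (cls3 t).length (st0 tabTF4.tbl (cls3 t) (tabTF4.domX i 56)) 0 = false →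
      ∀ y, In t (p ^ f) i y → y ≠ v ∧ ¬ y ∣ Nat.card ↥K ∧ 3 ≤ kTF4 f' y ∧ kTF4 f' y < 6 := by
    intro i hki hc y hy
    obtain ⟨h1, h2, h3⟩ := val_mask (T := tabTF4) (by decide) (h.row_val hgd hc (h.gd_of_kill hy hki))
    have h4 : kTF4 f' y < 6 := by
      by_contra hcon
      rw [Nat.testBit_lt_two_pow (lt_of_lt_of_le (by norm_num : 56 < 2 ^ 6)
        (Nat.pow_le_pow_right (by norm_num) (not_lt.1 hcon)))] at h3
      exact Bool.noConfusion h3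
    refine ⟨h1, h2, ?_, h4⟩
    generalize kTF4 f' y = z at h3 h4
    revert h3
    interval_cases z <;> decide
  have dvS : ∀ {i y : ℕ}, Killer (KI t i) i → In t (p ^ f) i y → ¬ y ∣ Nat.card ↥K → y ∣ Nat.card ↥S := by
    intro i y hki hy hyK
    have := Fact.mk hy.prime
    obtain ⟨g, hg⟩ := exists_prime_orderOf_dvd_card' y (hy.dvd h.ls)
    have heq : ∀ z : ℕ, z.Prime → z ∣ y → z = y := fun z hz hzy => (Nat.prime_dvd_prime_iff_eq hz hy.prime).1 hzy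
    obtain ⟨s, hs⟩ := exists_of_coprime (S := S) hg (fun z hz hzy => by rw [heq z hz hzy]; exact hyK)
      (fun z hz hzy => by rw [heq z hz hzy]; exact h.kill hy hyK hki)
    rw [← hs]
    exact orderOf_dvd_natCard s
  -- the elements
  have hx2 : (2 : ℤ) ≤ 2 ^ m := by
    calc (2 : ℤ) = 2 ^ 1 := by norm_num
      _ ≤ 2 ^ m := pow_le_pow_right₀ (by norm_num) hm1
  have elt : ∀ j : ℕ, 3 ≤ j → j < 6 → ∃ N : ℕ, (N : ℤ) = NTF (2 ^ m) j ∧ ∃ g : G, orderOf g = N := by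
    intro j hj3 hj6
    have hpos : 0 ≤ NTF (2 ^ m) j := by
      have h1 := TFn.nB_pos hx2
      have h2 := TFn.nB_le_nU hx2
      have h3 := TFn.nU_le_nA hx2
      unfold TFn.nB at h1 h2
      unfold TFn.nU at h2 h3
      unfold TFn.nA at h3
      interval_cases j <;> simp only [NTF] <;> linarith
    obtain ⟨N, hN⟩ := Int.eq_ofNat_of_zero_le hpos
    exact ⟨N, hN.symm, exists_of_S (hex j N hj3 hj6 hN.symm)⟩
  have tops := top_facts_all h.ls.cla h.ls.prime h.is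
  -- the tops
  obtain ⟨r, hr⟩ := h.exists_in (i := 5) (by norm_num) (mem_of_memB hm5)
  obtain ⟨s, hs⟩ := h.exists_in (i := 10) (by norm_num) (mem_of_memB hm10)
  have hne : r ≠ s := hr.ne hs (by norm_num)
  obtain ⟨r1, r2, r3, r4⟩ := val hk5 c5 r hr
  obtain ⟨s1, s2, s3, s4⟩ := val hk10 c10 s hs
  obtain ⟨rN, -⟩ := kk r hr.prime hr.five (dvS hk5 hr r2)
  obtain ⟨sN, -⟩ := kk s hs.prime hs.five (dvS hk10 hs s2)
  obtain ⟨A, hA, gA, hgA⟩ := elt _ r3 r4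
  obtain ⟨B, hB, gB, hgB⟩ := elt _ s3 s4
  have rA : r ∣ A := by rw [← hA] at rN; exact Int.natCast_dvd_natCast.1 rN
  have sB : s ∣ B := by rw [← hB] at sN; exact Int.natCast_dvd_natCast.1 sN
  have hjne : kTF4 f' r ≠ kTF4 f' s := by
    intro hj
    have hAB : A = B := by
      have : (A : ℤ) = B := by rw [hA, hB, hj]
      exact_mod_cast this
    rw [← hAB] at sB
    have h1 := exists_mul_of_dvd (x := gA) hr.prime hs.prime hne (by rw [hgA]; exact rA) (by rw [hgA]; exact sB)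
    exact (h.ls.adj_iff hr hs hne).1 h1 hna
  have dA : A ∣ (( p ^ f) ^ 5 - 1) / 2 := by
    obtain ⟨x, hx⟩ := (h.ls.ord _).1 ⟨gA, hgA⟩
    have h1 := tops.ub r hr.prime (hr.not_dvd h.ls.fpos) (by rw [hr.cls_eq]; exact h5) x (by rw [hx]; exact rA)
    rw [hr.cls_eq, t5, hg2, hx] at h1
    exact h1
  have dB : B ∣ (( p ^ f) ^ 5 + 1) / 2 := by
    obtain ⟨x, hx⟩ := (h.ls.ord _).1 ⟨gB, hgB⟩
    have h1 := tops.ub s hs.prime (hs.not_dvd h.ls.fpos) (by rw [hs.cls_eq]; exact h10) x (by rw [hx]; exact sB)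
    rw [hs.cls_eq, t10, hg2, hx] at h1
    exact h1
  -- the size
  have hsz : (p ^ f) ^ 4 ≤ 5 * (2 * (2 ^ m) ^ 2 + 2 * 2 ^ m + 1) ^ 2 := by
    obtain ⟨hM, hod, hin⟩ := Pm_tor h.ls.cla hq hq3 (by norm_num : 3 ≤ 5) (mem_of_memB hm5)
    obtain ⟨g, hg⟩ := exists_tor h.ls h.is (by norm_num : 3 ≤ 5) (mem_of_memB hm5) hod hM hin
    obtain ⟨s, hs⟩ := exists_of_coprime (S := S) hg (fun y hy hd => (val hk5 c5 y (hin y hy hd)).2.1)
      (fun y hy hd => h.kill (hin y hy hd) (val hk5 c5 y (hin y hy hd)).2.1 hk5)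
    have h1 := hodd s (by rw [hs]; exact Nat.coprime_two_right.2 hod)
    rw [hs, hidx] at h1
    calc (p ^ f) ^ 4 = 1 * (p ^ f) ^ 4 := (one_mul _).symm
      _ ≤ 1 * Ph 5 (p ^ f) := low5
      _ = Ph 5 (p ^ f) := one_mul _
      _ ≤ 5 * Pm 5 (p ^ f) := Pm_le (by norm_num)
      _ ≤ _ := Nat.mul_le_mul_left _ h1
  generalize hqq : p ^ f = q at *
  have hq5 : 1 ≤ q ^ 5 := Nat.one_le_pow _ _ (by omega)
  have hqo : q ^ 5 % 2 = 1 := by rw [Nat.pow_mod, hq]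
  obtain ⟨k, hk⟩ := dA
  obtain ⟨k', hk'⟩ := dB
  have e1 : 2 * (k * A) + 1 = q ^ 5 := by
    have : 2 * ((q ^ 5 - 1) / 2) = q ^ 5 - 1 := by omega
    rw [hk] at this
    have h2 : 2 * (k * A) = 2 * (A * k) := by ring
    omega
  have e2 : 2 * (k' * B) = q ^ 5 + 1 := by
    have : 2 * ((q ^ 5 + 1) / 2) = q ^ 5 + 1 := by omega
    rw [hk'] at this
    have h2 : 2 * (k' * B) = 2 * (B * k') := by ring
    omega
  have n1 : ∀ j N : ℕ, 3 ≤ j → j < 6 → (N : ℤ) = NTF (2 ^ m) j →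
      (N : ℤ) = TFn.nU (2 ^ m) ∨ (N : ℤ) = TFn.nA (2 ^ m) ∨ (N : ℤ) = TFn.nB (2 ^ m) := by
    intro j N hj3 hj6 hN
    interval_cases j
    · left; rw [hN]; simp only [NTF, TFn.nU]
    · right; left; rw [hN]; simp only [NTF, TFn.nA]
    · right; right; rw [hN]; simp only [NTF, TFn.nB]
  have hAB : (A : ℤ) ≠ B := by
    rw [hA, hB]
    generalize kTF4 f' r = i at r3 r4 hjne
    generalize kTF4 f' s = j at s3 s4 hjne
    have x3 : (0 : ℤ) < (2 ^ m) ^ 3 := by positivity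
    have x23 : (2 ^ m : ℤ) ^ 2 ≤ (2 ^ m) ^ 3 := pow_le_pow_right₀ (by linarith) (by norm_num)
    have x2 : (0 : ℤ) < (2 ^ m) ^ 2 := by positivity
    intro hcon
    interval_cases i <;> interval_cases j <;> first | exact hjne rfl | (simp only [NTF] at hcon; linarith)
  exact TFn.final (k := (k : ℤ)) (k' := (k' : ℤ)) hm1 hq3 hq (n1 _ _ r3 r4 hA) (n1 _ _ s3 s4 hB) hAB (by exact_mod_cast e1) (by exact_mod_cast e2) hsz

/-- **`psp 5`** -/
theorem sm_tf_psp5 (h : EX (.psp 5) p f L G K S .tf4 v f' tabTF4 (kTF4 f')) : False :=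
  tf_tops h (by rw [sm_iff]; simp) (by decide) (by decide)
    (kill8 10 (by norm_num) (by decide) (by norm_num) (by norm_num))
    (kill8 3 (by norm_num) (by decide) (by norm_num) (by norm_num))
    (na_of_naB (by norm_num) (by norm_num) (by decide)) rfl mtf_psp5_5 mtf_psp5_10
    (Or.inr ⟨rfl, rfl⟩) (Or.inl rfl) (fun q => rfl) (fun q => rfl)

/-- **`oodd 5`** -/
theorem sm_tf_oodd5 (h : EX (.oodd 5) p f L G K S .tf4 v f' tabTF4 (kTF4 f')) : False :=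
  tf_tops h (by rw [sm_iff]; simp) (by decide) (by decide)
    (kill8 10 (by norm_num) (by decide) (by norm_num) (by norm_num))
    (kill8 3 (by norm_num) (by decide) (by norm_num) (by norm_num))
    (na_of_naB (by norm_num) (by norm_num) (by decide)) rfl mtf_oodd5_5 mtf_oodd5_10
    (Or.inr ⟨rfl, rfl⟩) (Or.inl rfl) (fun q => rfl) (fun q => rfl)

/-- **`oplus 6`** -/
theorem sm_tf_oplus6 (h : EX (.oplus 6) p f L G K S .tf4 v f' tabTF4 (kTF4 f')) : False :=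
  tf_tops h (by rw [sm_iff]; simp) (by decide) (by decide)
    (kill8 10 (by norm_num) (by decide) (by norm_num) (by norm_num))
    (kill8 3 (by norm_num) (by decide) (by norm_num) (by norm_num))
    (na_of_naB (by norm_num) (by norm_num) (by decide)) rfl mtf_oplus6_5 mtf_oplus6_10
    (Or.inr (Or.inr ⟨rfl, rfl⟩)) (Or.inr (Or.inl rfl)) (fun q => rfl) (fun q => rfl)

end main

end Cfsg.Agent.R2.Spec.EE
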