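import Cfsg.Agent.R2.Spec.EE.Fr
import Cfsg.Agent.R2.Spec.EE.TabDef

/-!
# S3435, EE: rows computed by the kernel (helper13)
-/

set_option autoImplicit false
set_option maxRecDepth 1000000

namespace Cfsg.Agent.R2.Spec.EE

open Cfsg.Agent.H426.LieFam

theorem qtf8_psl : (dat tabTF4.tbl (.psl 8) (cls3 (.psl 8))).go (cls3 (.psl 8)).length (st0 tabTF4.tbl (cls3 (.psl 8)) (tabTF4.domX 7 56)) 0 = false := by
  have h1 : dat tabTF4.tbl (.psl 8) (cls3 (.psl 8)) = ⟨6, 10, 60, 511, 20789489670145311777139950039859200, 10623429221444254318118514470368051200, 10644218711114399629895654420407910400, 618138006237254661361307079, 67766024132634520586350648, 2241934128891662168663076295124617090380890709636682430890944309070459362706843710775164358104816025600, 2293498615992157436452530077946651558252417299816580199980928187198465244561641585872508314023878275892225⟩ := by decide +kernel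
  have h2 : (cls3 (.psl 8)).length = 6 ∧ st0 tabTF4.tbl (cls3 (.psl 8)) (tabTF4.domX 7 56) = 6630711389838549963363903016643067904 := by decide +kernel
  rw [h1, h2.1, h2.2]
  decide +kernel

theorem qtf8_psu : (dat tabTF4.tbl (.psu 8) (cls3 (.psu 8))).go (cls3 (.psu 8)).length (st0 tabTF4.tbl (cls3 (.psu 8)) (tabTF4.domX 7 56)) 0 = false := by
  have h1 : dat tabTF4.tbl (.psu 8) (cls3 (.psu 8)) = ⟨6, 10, 60, 511, 20789489670145311777139950039859200, 10623429221444254318118514470368051200, 10644218711114399629895654420407910400, 618138006237254661361307079, 67766024132634520586350648, 2241934128891662168663076295124617090380890709636682430890944309070459362706843710775164358104816025600, 2293498615992157436452530077946651558252417299816580199980928187198465244561641585872508314023878275892225⟩ := by decide +kernel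
  have h2 : (cls3 (.psu 8)).length = 6 ∧ st0 tabTF4.tbl (cls3 (.psu 8)) (tabTF4.domX 7 56) = 6630711389838549963363903016643067904 := by decide +kernel
  rw [h1, h2.1, h2.2]
  decide +kernel

end Cfsg.Agent.R2.Spec.EE
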