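import Cfsg.Agent.R2.Spec.EE.Fr
import Cfsg.Agent.R2.Spec.EE.TabDef

/-!
# The small ranks (helper13)

`Sm t` : `psl 8`, `psu 8`, `psp n`, `oodd n`, `oplus n`, `ominus n` with `n = 5, 6, 7`.
-/

set_option autoImplicit false

namespace Cfsg.Agent.R2.Spec.EE

open Cfsg.Agent.H426.LieFam

/-- the small ranks -/
def smL : List Fam := [.psl 8, .psu 8, .psp 5, .psp 6, .psp 7, .oodd 5, .oodd 6, .oodd 7, .oplus 5, .oplus 6, .oplus 7,
  .ominus 5, .ominus 6, .ominus 7]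

/-- the small ranks -/
def Sm (t : Fam) : Prop := t ∈ smL

theorem sm_iff (t : Fam) : Sm t ↔ t = .psl 8 ∨ t = .psu 8 ∨ t = .psp 5 ∨ t = .psp 6 ∨ t = .psp 7 ∨ t = .oodd 5 ∨
    t = .oodd 6 ∨ t = .oodd 7 ∨ t = .oplus 5 ∨ t = .oplus 6 ∨ t = .oplus 7 ∨ t = .ominus 5 ∨ t = .ominus 6 ∨
    t = .ominus 7 := by
  simp only [Sm, smL, List.mem_cons, List.not_mem_nil, or_false]

end Cfsg.Agent.R2.Spec.EE
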