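import Cfsg.Agent.R2.Spec.P1.Exp
import Cfsg.Agent.R2.Spec.F1.TwoTor

/-!
# Strong adjacency in the classical groups (helper13)

`strong` : if the regular classes `i`, `j` are not nonadjacent then `X` has elements of order `M N`, `M ∣ tnum t q i`,
`N ∣ tnum t q j` coprime and odd with prime divisors of regular classes.
-/

set_option autoImplicit false
set_option linter.unusedVariables false

namespace Cfsg.Agent.R2.Spec.EE

open Cfsg Cfsg.Agent.H426.LieFam Cfsg.Agent.R2.Spec Cfsg.Agent.R2.Spec.P1 Cfsg.Agent.H390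
open Cfsg.Agent.H403.NumTop
open Cfsg.Agent.H403 (IsL IsL.exists_tor_le two_le_of_card)
open Cfsg.Agent.H377 (Elt Elt2 elt_tor_plus)
open Cfsg.Agent.H72.AdjOrth (tn)

universe u

theorem tn_dvd_oddMul {q i j : ℕ} (h : OddMul i j) : tn q i ∣ tn q j := by
  obtain ⟨k, hk, rfl⟩ := h
  rw [← Nat.odd_iff] at hk
  unfold tn
  by_cases he : Even i
  · rw [if_pos he, if_pos (he.mul_right k)]
    obtain ⟨j, rfl⟩ := he
    rw [show (j + j) / 2 = j by omega, show (j + j) * k / 2 = j * k by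
      rw [← two_mul, mul_assoc, Nat.mul_div_cancel_left _ (by norm_num)], pow_mul]
    have := Odd.nat_add_dvd_pow_add_pow (q ^ j) 1 hk
    rwa [one_pow] at this
  · have ho := Nat.not_even_iff_odd.1 he
    rw [if_neg he, if_neg (Nat.not_even_iff_odd.2 (ho.mul hk)), pow_mul]
    exact Nat.sub_one_dvd_pow_sub_one _ _

section lin

variable {e : Bool} {n q : ℕ} {F : Type*} [Field F] [Fintype F] {X : Type*} [Group X]

theorem coprime_AA {q M : ℕ} (hq : 1 ≤ q) (hM : ∀ r : ℕ, r.Prime → r ∣ M → 3 ≤ cl e q r) : Nat.Coprime M (AA e 1 q) := by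
  refine Nat.coprime_of_dvd ?_
  intro r hr h1 h2
  have h3 := coprime_one hq hr (e := e) (by have := hM r hr h1; omega)
  exact (Nat.Prime.coprime_iff_not_dvd hr).1 h3 h2

theorem strong_lin (h : IsL X e n q F) (hF : Fintype.card F = q ^ (cond e 0 1 + 1)) (hn : 3 ≤ n) {i j M N : ℕ}
    (hi : 3 ≤ i) (hj : 3 ≤ j) (mi : i ≤ n) (mj : j ≤ n) (hna : ¬ (n < i + j ∧ ¬ i ∣ j ∧ ¬ j ∣ i)) (hM0 : 0 < M)
    (hN0 : 0 < N) (hMN : Nat.Coprime M N)
    (hMr : ∀ r : ℕ, r.Prime → r ∣ M → 3 ≤ cl e q r) (hNr : ∀ r : ℕ, r.Prime → r ∣ N → 3 ≤ cl e q r)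
    (hMd : M ∣ AA e i q) (hNd : N ∣ AA e j q) : ∃ x : X, orderOf x = M * N := by
  have hq2 : 2 ≤ q := two_le_of_card hF
  have h1 := coprime_AA (e := e) (q := q) (by omega) hMr
  have h2 := coprime_AA (e := e) (q := q) (by omega) hNr
  have key : ∀ {i j : ℕ}, i ∣ j → AA e i q ∣ AA e j q := by
    intro i j hij
    rw [dvd_AA_iff (by omega)]
    obtain ⟨k, rfl⟩ := hij
    rw [pow_mul, (dvd_AA_iff (e := e) (i := i) (q := q) (r := AA e i q) (by omega)).1 dvd_rfl, one_pow]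
  by_cases h3 : i + j ≤ n
  · cases e with
    | true =>
      have hF' : Fintype.card F = q := by simpa using hF
      obtain ⟨E⟩ := h
      have hMd' : M ∣ Fintype.card F ^ i - 1 := by rw [hF']; simpa [AA] using hMd
      have hNd' : N ∣ Fintype.card F ^ j - 1 := by rw [hF']; simpa [AA] using hNd
      have h1' : Nat.Coprime M (Fintype.card F - 1) := by rw [hF']; simpa [AA] using h1
      have h2' : Nat.Coprime N (Fintype.card F - 1) := by rw [hF']; simpa [AA] using h2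
      obtain ⟨z, hz⟩ := Cfsg.Agent.H72.AdjPSL.exists_order_of_blocks (n := n)
        (Cfsg.Agent.H72.AdjPSL.hasBlock_singer (F := F) (by omega) hMd' h1')
        (Cfsg.Agent.H72.AdjPSL.hasBlock_singer (F := F) (by omega) hNd' h2') (by omega) (by omega) h3 hMN _ dvd_rfl
      exact ⟨E.symm z, by rw [MulEquiv.orderOf_eq, hz]⟩
    | false =>
      have hF' : Fintype.card F = q ^ 2 := by simpa using hF
      obtain ⟨E⟩ := h
      have h1' : Nat.Coprime M (q + 1) := by simpa [AA] using h1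
      have h2' : Nat.Coprime N (q + 1) := by simpa [AA] using h2
      have hMd' : if Even i then M ∣ q ^ i - 1 else M ∣ q ^ i + 1 := by
        rw [AA] at hMd
        by_cases he : Even i
        · rw [if_pos he]
          simpa [Nat.even_iff.1 he] using hMd
        · rw [if_neg he]
          simpa [Nat.odd_iff.1 (Nat.not_even_iff_odd.1 he)] using hMd
      have hNd' : if Even j then N ∣ q ^ j - 1 else N ∣ q ^ j + 1 := by
        rw [AA] at hNd
        by_cases he : Even j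
        · rw [if_pos he]
          simpa [Nat.even_iff.1 he] using hNd
        · rw [if_neg he]
          simpa [Nat.odd_iff.1 (Nat.not_even_iff_odd.1 he)] using hNd
      obtain ⟨z, hz⟩ := Cfsg.Agent.H72.AdjPSU.exists_order_of_blocks hF' hn
        (Cfsg.Agent.H72.AdjPSU.hasBlock_nu hF' (by omega) hMd' h1')
        (Cfsg.Agent.H72.AdjPSU.hasBlock_nu hF' (by omega) hNd' h2') (by omega) (by omega) h3 hMN _ dvd_rfl
      exact ⟨E.symm z, by rw [MulEquiv.orderOf_eq, hz]⟩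
  by_cases h4 : i ∣ j
  · exact h.exists_tor_le hF hn (i := j) (by omega) mj (Nat.mul_pos hM0 hN0) (Nat.Coprime.mul_left h1 h2)
      (hMN.mul_dvd_of_dvd_of_dvd (hMd.trans (key h4)) hNd)
  by_cases h5 : j ∣ i
  · exact h.exists_tor_le hF hn (i := i) (by omega) mi (Nat.mul_pos hM0 hN0) (Nat.Coprime.mul_left h1 h2)
      (hMN.mul_dvd_of_dvd_of_dvd hMd (hNd.trans (key h5)))
  exact absurd ⟨by omega, h4, h5⟩ hna

end lin

section orth

variable {F : Type} [Field F] [Fintype F] {X : Type u} [Group X] {m : ℕ} {δ : ℤ}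

theorem od_of_elt (h : OD F X m δ) {N : ℕ} (ho : Odd N) (he : Elt F m δ N) : ∃ x : X, orderOf x = N :=
  h.ex _ (Cfsg.Agent.H377.Elt.two (by have := h.hm; omega) ho he)

theorem od_sum (h : OD F X m δ) {i j M N : ℕ} (hi : 3 ≤ i) (hj : 3 ≤ j) (hM : Odd M) (hN : Odd N)
    (hMN : Nat.Coprime M N) (hMd : M ∣ tn (Nat.card F) i) (hNd : N ∣ tn (Nat.card F) j)
    (hm : eta i + eta j < m ∨ (m = eta i + eta j ∧ sgn i * sgn j = δ)) : ∃ x : X, orderOf x = M * N := by
  have h1 := Cfsg.Agent.H72.AdjOrth.elt_tn (F := F) (k := i) (by omega) hMd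
  have h2 := Cfsg.Agent.H72.AdjOrth.elt_tn (F := F) (k := j) (by omega) hNd
  rw [← eta_eq] at h1 h2
  have h3 := h1.prod h2
  rw [hMN.lcm_eq_mul] at h3
  refine od_of_elt h (hM.mul hN) ?_
  rcases hm with hm | ⟨hm1, hm2⟩
  · exact Cfsg.Agent.H72.AdjOrth.elt_extend h3 (Cfsg.Agent.H72.AdjOrth.mul_pm (sgn_pm _) (sgn_pm _)) h.hδ hm
  · rw [hm1, ← hm2]
    exact h3

theorem od_mul (h : OD F X m δ) {i j M N : ℕ} (hi : 3 ≤ i) (hj : 3 ≤ j) (hM : Odd M) (hN : Odd N)
    (hMN : Nat.Coprime M N) (hMd : M ∣ tn (Nat.card F) i) (hNd : N ∣ tn (Nat.card F) j) (hij : OddMul i j)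
    (hm : eta j < m ∨ (eta j = m ∧ sgn j = δ)) : ∃ x : X, orderOf x = M * N :=
  h.tor hj hm (hM.mul hN) (hMN.mul_dvd_of_dvd_of_dvd (hMd.trans (tn_dvd_oddMul hij)) hNd)

theorem od_lin (h : OD F X m 1) {i j M N : ℕ} (hM : Odd M) (hN : Odd N) (hMN : Nat.Coprime M N)
    (hMd : M ∣ Nat.card F ^ m - 1) (hNd : N ∣ Nat.card F ^ m - 1) : ∃ x : X, orderOf x = M * N :=
  od_of_elt h (hM.mul hN) (elt_tor_plus (by have := h.hm; omega) (hMN.mul_dvd_of_dvd_of_dvd hMd hNd))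

theorem tn_dvd_pow {q i m : ℕ} (h : i ∣ m) : tn q i ∣ q ^ m - 1 := by
  obtain ⟨k, rfl⟩ := h
  unfold tn
  split_ifs with he
  · obtain ⟨j, rfl⟩ := he
    rw [show (j + j) / 2 = j by omega, pow_mul]
    refine Dvd.dvd.trans ?_ (Nat.sub_one_dvd_pow_sub_one _ _)
    rw [pow_add]
    refine ⟨q ^ j - 1, ?_⟩
    have := Nat.mul_self_sub_mul_self_eq (q ^ j) 1
    rw [one_mul] at this
    exact this
  · rw [pow_mul]
    exact Nat.sub_one_dvd_pow_sub_one _ _

end orth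

/-- **Strong adjacency.** -/
theorem strong {t : Fam} (ht : Classical t) (hn : 3 ≤ rk t) {p f : ℕ} {X : Type u} [Group X] [Finite X] (hp : p.Prime)
    (h : Fam.Is p f X t) {i j M N : ℕ} (hi : 3 ≤ i) (hj : 3 ≤ j) (mi : mem t i) (mj : mem t j) (hna : ¬ na t i j)
    (hM : Odd M) (hN : Odd N) (hMN : Nat.Coprime M N) (hMr : ∀ r : ℕ, r.Prime → r ∣ M → 3 ≤ cls t (p ^ f) r)
    (hNr : ∀ r : ℕ, r.Prime → r ∣ N → 3 ≤ cls t (p ^ f) r) (hMd : M ∣ tnum t (p ^ f) i)
    (hNd : N ∣ tnum t (p ^ f) j) : ∃ x : X, orderOf x = M * N := by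
  have hMN' : ∀ r : ℕ, r.Prime → r ∣ M * N → 3 ≤ cls t (p ^ f) r := fun r hr hd =>
    (hr.dvd_mul.1 hd).elim (hMr r hr) (hNr r hr)
  cases t with
  | psl n =>
    have h' := h
    obtain ⟨-, -, F, _, _, hch, hF, E⟩ := h'
    exact strong_lin (e := true) (show IsL X true n (p ^ f) F from E) (by simpa using hF) hn hi hj mi mj hna hM.pos hN.pos
      hMN hMr hNr (by rwa [tnum_psl] at hMd) (by rwa [tnum_psl] at hNd)
  | psu n =>
    have h' := h
    obtain ⟨-, -, F, _, _, hch, hF, E⟩ := h'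
    exact strong_lin (e := false) (show IsL X false n (p ^ f) F from E) (by simpa using hF) hn hi hj mi mj hna hM.pos
      hN.pos hMN hMr hNr (by rwa [tnum_psu] at hMd) (by rwa [tnum_psu] at hNd)
  | psp n =>
    by_cases h1 : eta i + eta j ≤ n
    · obtain ⟨x, hx⟩ := Cfsg.Agent.R2.Spec.F1.two_tor (Or.inl ⟨n, rfl⟩) h (by omega) (by omega) h1 hM hN hMd hNd
      exact ⟨x, by rw [hx, hMN.lcm_eq_mul]⟩
    by_cases h2 : OddMul i j
    · exact (torFacts ht hp h).tor j _ hj mj (hM.mul hN) hMN' (hMN.mul_dvd_of_dvd_of_dvd (hMd.trans (tn_dvd_oddMul h2)) hNd)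
    by_cases h3 : OddMul j i
    · exact (torFacts ht hp h).tor i _ hi mi (hM.mul hN) hMN' (hMN.mul_dvd_of_dvd_of_dvd hMd (hNd.trans (tn_dvd_oddMul h3)))
    exact absurd ⟨by omega, h2, h3⟩ hna
  | oodd n =>
    by_cases h1 : eta i + eta j ≤ n
    · obtain ⟨x, hx⟩ := Cfsg.Agent.R2.Spec.F1.two_tor (Or.inr ⟨n, rfl⟩) h (by omega) (by omega) h1 hM hN hMd hNd
      exact ⟨x, by rw [hx, hMN.lcm_eq_mul]⟩
    by_cases h2 : OddMul i j
    · exact (torFacts ht hp h).tor j _ hj mj (hM.mul hN) hMN' (hMN.mul_dvd_of_dvd_of_dvd (hMd.trans (tn_dvd_oddMul h2)) hNd)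
    by_cases h3 : OddMul j i
    · exact (torFacts ht hp h).tor i _ hi mi (hM.mul hN) hMN' (hMN.mul_dvd_of_dvd_of_dvd hMd (hNd.trans (tn_dvd_oddMul h3)))
    exact absurd ⟨by omega, h2, h3⟩ hna
  | oplus m =>
    obtain ⟨hm, F, _, _, hch, hF, ⟨E⟩⟩ := h
    have hod := od_plus hm E
    rw [← Nat.card_eq_fintype_card] at hF
    change M ∣ tn (p ^ f) i at hMd
    change N ∣ tn (p ^ f) j at hNd
    rw [← hF] at hMd hNd
    have h1 := eta_eq_iff_plus.2 mi
    have h2 := eta_eq_iff_plus.2 mj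
    by_cases h3 : OddMul i j
    · exact od_mul hod hi hj hM hN hMN hMd hNd h3 h2
    by_cases h4 : OddMul j i
    · obtain ⟨x, hx⟩ := od_mul hod hj hi hN hM hMN.symm hNd hMd h4 h1
      exact ⟨x, by rw [hx, mul_comm]⟩
    by_cases h5 : eta i + eta j < m ∨ (m = eta i + eta j ∧ sgn i * sgn j = 1)
    · exact od_sum hod hi hj hM hN hMN hMd hNd h5
    by_cases h6 : i ∣ m ∧ j ∣ m
    · exact od_lin (i := i) (j := j) hod hM hN hMN (hMd.trans (tn_dvd_pow h6.1)) (hNd.trans (tn_dvd_pow h6.2))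
    exfalso
    refine hna ⟨?_, h3, h4, ?_, ?_⟩
    · rcases Nat.lt_or_ge m (eta i + eta j) with h7 | h7
      · exact Or.inl h7
      · right
        rcases Nat.eq_or_lt_of_le h7 with h8 | h8
        · refine ⟨h8.symm, ?_⟩
          by_contra h9
          exact h5 (Or.inr ⟨h8.symm, sgn_mul_eq_one.2 (by omega)⟩)
        · exact absurd (Or.inl h8) h5
    · rintro ⟨h7, h8, -⟩
      exact h6 ⟨by rw [h7], ⟨2, by omega⟩⟩
    · rintro ⟨h7, h8, -⟩
      exact h6 ⟨⟨2, by omega⟩, by rw [h7]⟩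
  | ominus m =>
    obtain ⟨hm, F, _, _, hch, a, b, hF, hab, ⟨E⟩⟩ := h
    have hod := od_minus hm hab E
    rw [← Nat.card_eq_fintype_card] at hF
    change M ∣ tn (p ^ f) i at hMd
    change N ∣ tn (p ^ f) j at hNd
    rw [← hF] at hMd hNd
    have h1 := eta_eq_iff_minus.2 mi
    have h2 := eta_eq_iff_minus.2 mj
    by_cases h3 : OddMul i j
    · exact od_mul hod hi hj hM hN hMN hMd hNd h3 h2
    by_cases h4 : OddMul j i
    · obtain ⟨x, hx⟩ := od_mul hod hj hi hN hM hMN.symm hNd hMd h4 h1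
      exact ⟨x, by rw [hx, mul_comm]⟩
    by_cases h5 : eta i + eta j < m ∨ (m = eta i + eta j ∧ sgn i * sgn j = -1)
    · exact od_sum hod hi hj hM hN hMN hMd hNd h5
    exfalso
    refine hna ⟨?_, h3, h4⟩
    rcases Nat.lt_or_ge m (eta i + eta j) with h7 | h7
    · exact Or.inl h7
    · right
      rcases Nat.eq_or_lt_of_le h7 with h8 | h8
      · refine ⟨h8.symm, ?_⟩
        by_contra h9
        exact h5 (Or.inr ⟨h8.symm, sgn_mul_eq_neg_one.2 (by omega)⟩)
      · exact absurd (Or.inl h8) h5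
  | _ => exact ht.elim

end Cfsg.Agent.R2.Spec.EE
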