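import Cfsg.Agent.R2.Spec.EE.SurvE8
import Cfsg.Agent.R2.Spec.EE.SmNum
import Cfsg.Agent.R2.Spec.EE.SmDef
import Cfsg.Agent.R2.Spec.EE.Strong

/-!
# The small ranks: the common part (helper8)

* `Gc` : all primes of the class `i` are primes of `S`, not in `K`, not `v`; `EX.gc_or` : one of two nonadjacent classes;
* `EX.dvd_fS` : the order of an element, prime to `|K|`, divides `f'` times the order of an element of `S`;
* `EX.bd1`, `EX.bd2` : the bounds.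
-/

set_option autoImplicit false
set_option linter.unusedSectionVars false
set_option linter.unusedVariables false

namespace Cfsg.Agent.R2.Spec.EE

open Subgroup Cfsg
open Cfsg.Agent.H426.LieFam Cfsg.Agent.R2.Spec Cfsg.Agent.R2.Spec.P1 Cfsg.Agent.R2.Spec.F1
open Cfsg.Agent.H365.Zsig

universe u w

/-- the class is outside of `K` and `v` -/
def Gc (t : Fam) (q c v i : ℕ) : Prop := ∀ y : ℕ, In t q i y → ¬ y ∣ c ∧ y ≠ v

section main

variable {t : Fam} {p f : ℕ} {L : Type w} [Group L] [Finite L] {G : Type u} [Group G] [Finite G]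
  {K : Subgroup G} [K.Normal] {S : Subgroup (G ⧸ K)} [S.Normal] {t' : Fam} {v f' : ℕ} {T : Tab} {k : ℕ → ℕ}

/-- **Two nonadjacent primes.** -/
theorem EX.good_or (h : EX t p f L G K S t' v f' T k) (hkv : T.kv = true) {i j y z : ℕ} (hy : In t (p ^ f) i y)
    (hz : In t (p ^ f) j z) (hij : i ≠ j) (hna : na t i j) :
    (¬ y ∣ Nat.card ↥K ∧ y ≠ v) ∨ (¬ z ∣ Nat.card ↥K ∧ z ≠ v) := by
  by_contra hcon
  have hne : y ≠ z := hy.ne hz hij
  have hno : ¬ ∃ g : G, orderOf g = y * z := fun hg => (h.ls.adj_iff hy hz hne).1 hg hna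
  have hno' : ¬ ∃ g : G, orderOf g = z * y := fun ⟨g, hg⟩ => hno ⟨g, by rw [hg, mul_comm]⟩
  by_cases hyK : y ∣ Nat.card ↥K
  · by_cases hzK : z ∣ Nat.card ↥K
    · exact hno (exists_mul_nil h.ef.nil hy.prime hz.prime hne hyK hzK)
    · have hzv : z = v := by
        by_contra h1
        exact hcon (Or.inr ⟨hzK, h1⟩)
      apply hno
      rw [hzv]
      exact h.ef.kv hkv y hy.prime hyK (fun h1 => hne (h1.trans hzv.symm))
  · have hyv : y = v := by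
      by_contra h1
      exact hcon (Or.inl ⟨hyK, h1⟩)
    by_cases hzK : z ∣ Nat.card ↥K
    · apply hno'
      rw [hyv]
      exact h.ef.kv hkv z hz.prime hzK (fun h1 => hne (hyv.trans h1.symm))
    · have hzv : z = v := by
        by_contra h1
        exact hcon (Or.inr ⟨hzK, h1⟩)
      exact hne (hyv.trans hzv.symm)

/-- **Two nonadjacent classes.** -/
theorem EX.gc_or (h : EX t p f L G K S t' v f' T k) (hkv : T.kv = true) {i j : ℕ} (hij : i ≠ j) (hna : na t i j) :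
    Gc t (p ^ f) (Nat.card ↥K) v i ∨ Gc t (p ^ f) (Nat.card ↥K) v j := by
  by_contra hcon
  rw [not_or] at hcon
  obtain ⟨h1, h2⟩ := hcon
  rw [Gc] at h1 h2
  push Not at h1 h2
  obtain ⟨y, hy, h3⟩ := h1
  obtain ⟨z, hz, h4⟩ := h2
  rcases h.good_or hkv hy hz hij hna with h5 | h5
  · exact h5.2 (h3 h5.1)
  · exact h5.2 (h4 h5.1)

/-- all the classes which are not adjacent to a class with an outside prime -/
theorem EX.gc_of (h : EX t p f L G K S t' v f' T k) (hkv : T.kv = true) {i j : ℕ}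
    (hi : ¬ Gc t (p ^ f) (Nat.card ↥K) v i) (hij : i ≠ j) (hna : na t i j) : Gc t (p ^ f) (Nat.card ↥K) v j :=
  (h.gc_or hkv hij hna).resolve_left hi

/-- **The order divides `f'` times the order of an element of `S`.** -/
theorem EX.dvd_fS (h : EX t p f L G K S t' v f' T k) {g : G} {M : ℕ} (hg : orderOf g = M)
    (hM : ∀ y : ℕ, y.Prime → y ∣ M → 5 ≤ y ∧ ¬ y ∣ Nat.card ↥K) : ∃ s : S, M ∣ f' * orderOf s := by
  set gb : G ⧸ K := QuotientGroup.mk' K g with hgb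
  have hmem : gb ^ S.index ∈ S := Subgroup.pow_index_mem S gb
  refine ⟨⟨gb ^ S.index, hmem⟩, ?_⟩
  have h1 : M ∣ orderOf gb * Nat.card ↥K := by
    rw [← hg]
    apply orderOf_dvd_of_pow_eq_one
    have h2 : g ^ orderOf gb ∈ K := by
      rw [← QuotientGroup.eq_one_iff]
      have h3 := pow_orderOf_eq_one gb
      rw [hgb, ← map_pow] at h3
      exact h3
    rw [pow_mul]
    have h4 : (⟨g ^ orderOf gb, h2⟩ : K) ^ Nat.card ↥K = 1 := pow_card_eq_one'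
    exact congrArg Subtype.val h4
  have h2 : M ∣ orderOf gb :=
    (Nat.coprime_of_dvd fun y hy h2 h3 => (hM y hy h2).2 h3).dvd_of_dvd_mul_right h1
  have h3 : orderOf gb ∣ orderOf (gb ^ S.index) * S.index := by
    apply orderOf_dvd_of_pow_eq_one
    rw [mul_comm, pow_mul, pow_orderOf_eq_one]
  have h4 : orderOf (⟨gb ^ S.index, hmem⟩ : S) = orderOf (gb ^ S.index) := by
    rw [← Subgroup.orderOf_coe]
  rw [h4, Nat.dvd_iff_prime_pow_dvd_dvd]
  intro y e hy hd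
  rcases Nat.eq_zero_or_pos e with he | he
  · rw [he, pow_zero]; exact one_dvd _
  have h5 := (hM y hy ((dvd_pow_self y (by omega)).trans hd)).1
  obtain ⟨b, w, hw, hbw⟩ := Nat.exists_eq_pow_mul_and_not_dvd (Subgroup.index_ne_zero_of_finite (H := S)) y hy.ne_one
  have h6 : y ^ e ∣ orderOf (gb ^ S.index) * y ^ b * w := by
    rw [mul_assoc, ← hbw]
    exact hd.trans (h2.trans h3)
  have h7 : y ^ e ∣ orderOf (gb ^ S.index) * y ^ b :=
    (Nat.Coprime.pow_left e ((Nat.Prime.coprime_iff_not_dvd hy).2 hw)).dvd_of_dvd_mul_right h6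
  rw [mul_comm f']
  exact h7.trans (Nat.mul_dvd_mul_left _ (h.ef.idx y b hy h5 ⟨w, hbw⟩))

/-- **The bound for one class.** -/
theorem EX.bd1 (h : EX t p f L G K S t' v f' T k) {B : ℕ}
    (hB : ∀ (s : S) (M : ℕ), M ∣ f' * orderOf s → ¬ v ∣ M → M ≤ B) {i l : ℕ} (hi : 3 ≤ i) (mi : mem t i)
    (hG : Gc t (p ^ f) (Nat.card ↥K) v i) (hl : ∀ r : ℕ, r.Prime → r ∣ idx t i → r ≤ l) (hl1 : 1 ≤ l) :
    Ph (idx t i) (p ^ f) ≤ l * B := by
  obtain ⟨hq, hq3⟩ := h.q_odd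
  obtain ⟨M, h1, h2, h3, h4⟩ := class_num6 h.ls.cla hq hq3 hi mi hl hl1
  obtain ⟨g, hg⟩ := exists_tor h.ls h.is hi mi h2 h1 h3
  obtain ⟨s, hs⟩ := h.dvd_fS hg (fun y hy hd => ⟨(h3 y hy hd).five, (hG y (h3 y hy hd)).1⟩)
  exact h4.trans (Nat.mul_le_mul_left l (hB s M hs fun hd => (hG v (h3 v h.ef.vp hd)).2 rfl))

/-- **The bound for two adjacent classes.** -/
theorem EX.bd2 (h : EX t p f L G K S t' v f' T k) {B : ℕ}
    (hB : ∀ (s : S) (M : ℕ), M ∣ f' * orderOf s → ¬ v ∣ M → M ≤ B) {i j l m : ℕ} (hi : 3 ≤ i) (mi : mem t i)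
    (hj : 3 ≤ j) (mj : mem t j) (hij : i ≠ j) (hna : ¬ na t i j)
    (hG : Gc t (p ^ f) (Nat.card ↥K) v i) (hG' : Gc t (p ^ f) (Nat.card ↥K) v j)
    (hl : ∀ r : ℕ, r.Prime → r ∣ idx t i → r ≤ l) (hl1 : 1 ≤ l)
    (hm : ∀ r : ℕ, r.Prime → r ∣ idx t j → r ≤ m) (hm1 : 1 ≤ m) :
    Ph (idx t i) (p ^ f) * Ph (idx t j) (p ^ f) ≤ l * m * B := by
  obtain ⟨hq, hq3⟩ := h.q_odd
  obtain ⟨M, h1, h2, h3, h4⟩ := class_num6 h.ls.cla hq hq3 hi mi hl hl1
  obtain ⟨N, e1, e2, e3, e4⟩ := class_num6 h.ls.cla hq hq3 hj mj hm hm1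
  have hcl : ∀ r : ℕ, r.Prime → r ∣ M → 3 ≤ cls t (p ^ f) r := fun r hr hd => by
    rw [(h3 r hr hd).cls_eq]; exact hi
  have hcl' : ∀ r : ℕ, r.Prime → r ∣ N → 3 ≤ cls t (p ^ f) r := fun r hr hd => by
    rw [(e3 r hr hd).cls_eq]; exact hj
  have hcop : Nat.Coprime M N := Nat.coprime_of_dvd fun y hy h5 h6 =>
    hij ((h3 y hy h5).cls_eq.symm.trans (e3 y hy h6).cls_eq)
  obtain ⟨g, hg⟩ : ∃ g : G, orderOf g = M * N := by
    rw [h.ls.ord]
    exact strong h.ls.cla h.rk3 h.ls.prime h.is hi hj mi mj hna h2 e2 hcop hcl hcl' h1 e1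
  obtain ⟨s, hs⟩ := h.dvd_fS hg (fun y hy hd => by
    rcases hy.dvd_mul.1 hd with h5 | h5
    · exact ⟨(h3 y hy h5).five, (hG y (h3 y hy h5)).1⟩
    · exact ⟨(e3 y hy h5).five, (hG' y (e3 y hy h5)).1⟩)
  have h6 := hB s (M * N) hs fun hd => by
    rcases h.ef.vp.dvd_mul.1 hd with h5 | h5
    · exact (hG v (h3 v h.ef.vp h5)).2 rfl
    · exact (hG' v (e3 v h.ef.vp h5)).2 rfl
  calc Ph (idx t i) (p ^ f) * Ph (idx t j) (p ^ f) ≤ (l * M) * (m * N) := Nat.mul_le_mul h4 e4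
    _ = l * m * (M * N) := by ring
    _ ≤ _ := Nat.mul_le_mul_left _ h6

end main

/-! ### values -/

theorem four_le' {n q : ℕ} (hn : n = 5 ∨ n = 8 ∨ n = 10 ∨ n = 12) (hq : 3 ≤ q) : 3 * q ^ 4 ≤ 5 * Ph n q := by
  have h1 : (3 : ℤ) * (q : ℤ) ^ 4 ≤ 5 * (Ph n q : ℤ) := by
    rw [← Ph_cast (by omega)]
    obtain ⟨x, rfl⟩ : ∃ x : ℕ, q = x + 3 := ⟨q - 3, by omega⟩
    push_cast
    obtain ⟨z, hz⟩ : ∃ z : ℤ, z = (x : ℤ) := ⟨_, rfl⟩
    have hz0 : 0 ≤ z := by omega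
    rw [← hz]
    apply sub_nonneg.1
    rcases hn with rfl | rfl | rfl | rfl
    · rw [NumA.eval_5]; ring_nf; positivity
    · rw [NumA.eval_8]; ring_nf; positivity
    · rw [NumA.eval_10]; ring_nf; positivity
    · rw [NumA.eval_12]; ring_nf; positivity
  exact_mod_cast h1

theorem six_le'' {n q : ℕ} (hn : n = 7 ∨ n = 14) (hq : 3 ≤ q) : 3 * q ^ 6 ≤ 4 * Ph n q := by
  have h1 := NumAr.six (q := (q : ℤ)) (by exact_mod_cast hq)
  have h2 := Ph_six_le hn (by omega : 1 ≤ q)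
  have h3 : (3 : ℤ) * (q : ℤ) ^ 6 ≤ 4 * (Ph n q : ℤ) := by linarith
  exact_mod_cast h3

theorem two_le' {n q : ℕ} (hn : n = 3 ∨ n = 6 ∨ n = 4) (hq : 3 ≤ q) : 7 * q ^ 2 ≤ 9 * Ph n q := by
  rcases hn with rfl | rfl | rfl
  · rw [Cfsg.Agent.R2.Spec.EE.Ph_three]
    nlinarith
  · rw [Cfsg.Agent.R2.Spec.EE.Ph_six (by omega)]
    obtain ⟨x, rfl⟩ : ∃ x : ℕ, q = x + 3 := ⟨q - 3, by omega⟩
    have h1 : (x + 3) ^ 2 = (x ^ 2 + 5 * x + 6) + (x + 3) := by ring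
    have h2 : (x + 3) ^ 2 - (x + 3) = x ^ 2 + 5 * x + 6 := by omega
    rw [h2]
    nlinarith
  · rw [Cfsg.Agent.R2.Spec.EE.Ph_four]
    omega

end Cfsg.Agent.R2.Spec.EE
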