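import Cfsg.Agent.R2.Spec.EE.GdTF4
import Cfsg.Agent.S1163

/-!
# Good primes, `psl 8`, `psu 8`, `S = ²F₄, ²G₂, ³D₄, G₂, Sz` (helper20)

* `EX.gd8_ne4` : all classes `≠ 4`, `S` arbitrary exceptional;
* `EX.dvd_f` : `M ∣ f'` for a class without `Gd` primes, `M` given;
* `sz_size`, `ree_size`, `g2_size`, `td4_size` : an element of order `≥ 2 ^ f' / 2`;
* `EX.gd8_tf4`, `EX.gd8_ree`, `EX.gd8_td4`, `EX.gd8_g2`, `EX.gd8_sz` : all classes.
-/

set_option autoImplicit false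
set_option linter.unusedSectionVars false
set_option linter.unusedVariables false

namespace Cfsg.Agent.R2.Spec.EE

open Subgroup Cfsg
open Cfsg.Agent.H426.LieFam Cfsg.Agent.R2.Spec Cfsg.Agent.R2.Spec.P1 Cfsg.Agent.R2.Spec.F1
open Cfsg.Agent.H420.QR

universe u w

section

variable {t : Fam} {p f : ℕ} {L : Type w} [Group L] [Finite L] {G : Type u} [Group G] [Finite G]
  {K : Subgroup G} [K.Normal] {S : Subgroup (G ⧸ K)} [S.Normal] {t' : Fam} {v f' : ℕ} {T : Tab} {k : ℕ → ℕ}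

theorem EX.gd8_ne4 (h : EX t p f L G K S t' v f' T k) (ht : t = .psl 8 ∨ t = .psu 8) : ∀ i ∈ cls3 t, i ≠ 4 →
    ∃ y, Gd t (p ^ f) (Nat.card ↥K) S.index i y := by
  intro i hi h4
  obtain ⟨h3, hm⟩ := of_cls3 hi
  have hi8 : i ≤ 8 := by
    rcases ht with rfl | rfl
    · exact hm
    · exact hm
  clear hi
  rcases ht with rfl | rfl <;> interval_cases i
  all_goals first
    | exact absurd rfl h4
    | exact h.gd_kill h3 hm [8] (fun l hl => ⟨7, by revert l; decide⟩) (kl8 (by norm_num) (by norm_num))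
    | exact h.gd_kill h3 hm [8] (fun l hl => ⟨5, by revert l; decide⟩) (kl8 (by norm_num) (by norm_num))
    | exact h.gd_kill h3 hm [5, 6] (fun l hl => ⟨11 - l, by revert l; decide⟩) kl56

/-- a class without `Gd` primes -/
theorem EX.dvd_f (h : EX t p f L G K S t' v f' T k) {i M : ℕ} (hno : ¬ ∃ y, Gd t (p ^ f) (Nat.card ↥K) S.index i y)
    (hMt : M ∣ tnum t (p ^ f) i) (hM : ∀ r : ℕ, r.Prime → r ∣ M → In t (p ^ f) i r) :
    M ∣ f' ∧ ∀ r : ℕ, r.Prime → r ∣ M → ¬ r ∣ Nat.card ↥K ∧ r ∣ S.index := by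
  have key : ∀ y, y.Prime → y ∣ M → ¬ y ∣ Nat.card ↥K ∧ ∀ a, y ^ a ∣ tnum t (p ^ f) i → y ^ a ∣ S.index := by
    intro y hy hyM
    by_contra hcon
    apply hno
    refine ⟨y, hM y hy hyM, fun hyK => ?_⟩
    by_contra h2
    push Not at h2
    exact hcon ⟨hyK, h2⟩
  constructor
  · rw [Nat.dvd_iff_prime_pow_dvd_dvd]
    intro y a hy hya
    rcases Nat.eq_zero_or_pos a with rfl | ha
    · rw [pow_zero]; exact one_dvd _
    · have hyM : y ∣ M := (dvd_pow_self y (by omega)).trans hya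
      exact h.ef.idx y a hy (hM y hy hyM).five ((key y hy hyM).2 a (hya.trans hMt))
  · intro y hy hyM
    refine ⟨(key y hy hyM).1, ?_⟩
    have h1 := (key y hy hyM).2 1 (by rw [pow_one]; exact hyM.trans hMt)
    rwa [pow_one] at h1

/-- the number of the class 4 -/
theorem num4 {q : ℕ} (hq : q % 2 = 1) : ∃ M : ℕ, q ^ 2 + 1 = 2 * M ∧ M % 2 = 1 := by
  obtain ⟨c, rfl⟩ : ∃ c, q = 2 * c + 1 := ⟨q / 2, by omega⟩
  refine ⟨2 * (c ^ 2 + c) + 1, by ring, by omega⟩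

/-- the size contradiction -/
theorem num17 {q F M N : ℕ} (hq : 13 ≤ q) (h1 : 2 ^ F ≤ 2 * N) (hN : N ≤ q ^ 17) (hM : M ≤ F)
    (h2 : q ^ 2 + 1 = 2 * M) (hodd : q % 2 = 1) : False := by
  rcases Nat.lt_or_ge q 17 with h | h
  · have h85 : 85 ≤ F := by interval_cases q <;> omega
    have h4 : 2 ^ 85 ≤ 2 ^ F := Nat.pow_le_pow_right (by norm_num) h85
    have h6 : q ^ 17 ≤ 16 ^ 17 := Nat.pow_le_pow_left (by omega) 17
    have h7 : 2 * (16 : ℕ) ^ 17 < 2 ^ 85 := by norm_num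
    omega
  · have h4 : q ^ 17 * q ^ 17 ≤ (2 ^ (q - 1)) ^ 17 := by
      have h5 : q ^ 2 ≤ 2 ^ (q - 1) := (Nat.pow_le_pow_left (by omega) 2).trans (sq_le_two' (by omega : 7 ≤ q))
      calc q ^ 17 * q ^ 17 = (q ^ 2) ^ 17 := by ring
        _ ≤ _ := Nat.pow_le_pow_left h5 17
    have h5 : 2 ^ (2 * F) ≤ 2 ^ ((q - 1) * 17 + 2) := by
      have h6 : 2 ^ (2 * F) = 2 ^ F * 2 ^ F := by rw [← pow_add]; congr 1; ring
      rw [h6, pow_add, pow_mul]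
      calc 2 ^ F * 2 ^ F ≤ (2 * q ^ 17) * (2 * q ^ 17) := Nat.mul_le_mul (by omega) (by omega)
        _ = (q ^ 17 * q ^ 17) * 2 ^ 2 := by ring
        _ ≤ _ := Nat.mul_le_mul_right _ h4
    have h6 : 2 * F ≤ (q - 1) * 17 + 2 := (Nat.pow_le_pow_iff_right (by norm_num)).1 h5
    obtain ⟨c, rfl⟩ : ∃ c, q = c + 1 := ⟨q - 1, by omega⟩
    rw [Nat.add_sub_cancel] at h6
    nlinarith

theorem EX.gd8_4 (h : EX t p f L G K S t' v f' T k) (ht : t = .psl 8 ∨ t = .psu 8) (hf : 1 ≤ f')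
    (hx : ∃ x : ↥S, 2 ^ f' ≤ 2 * orderOf x) : ∃ y, Gd t (p ^ f) (Nat.card ↥K) S.index 4 y := by
  by_contra hno
  obtain ⟨hq, hq3⟩ := h.oddq
  obtain ⟨M, hM, hMo⟩ := num4 hq
  have hm : mem t 4 := by rcases ht with rfl | rfl <;> exact mem_of_memB (by decide)
  have hs : sg t (p ^ f) = (p ^ f : ℕ) ∨ sg t (p ^ f) = -((p ^ f : ℕ) : ℤ) := by
    rcases ht with rfl | rfl
    · exact Or.inl rfl
    · exact Or.inr rfl
  have htn : tnum t (p ^ f) 4 = (p ^ f) ^ 4 - 1 := by rcases ht with rfl | rfl <;> rfl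
  have hrk : rk t = 8 := by rcases ht with rfl | rfl <;> rfl
  have hMt : M ∣ tnum t (p ^ f) 4 := by
    have h1 : ∀ Q : ℕ, 1 ≤ Q → Q ^ 4 - 1 = (Q ^ 2 + 1) * (Q ^ 2 - 1) := by
      intro Q hQ
      obtain ⟨c, hc⟩ : ∃ c, Q ^ 2 = c + 1 := ⟨Q ^ 2 - 1, by have := Nat.one_le_pow 2 Q hQ; omega⟩
      have h2 : Q ^ 4 = (c + 1 + 1) * c + 1 := by
        rw [show Q ^ 4 = (Q ^ 2) ^ 2 by ring, hc]
        ring
      rw [h2, hc, Nat.add_sub_cancel, Nat.add_sub_cancel]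
    rw [htn, h1 _ (by omega), hM]
    exact (Dvd.intro_left 2 rfl).mul_right _
  have hMi : ∀ r : ℕ, r.Prime → r ∣ M → In t (p ^ f) 4 r := by
    intro r hr hrM
    have := Fact.mk hr
    have hr2 : r ≠ 2 := by rintro rfl; omega
    have h2 := ne_zero_of hr Nat.prime_two hr2
    have h1 : ((p ^ f : ℕ) : ZMod r) ^ 2 = -1 := by
      have h3 : (((p ^ f) ^ 2 + 1 : ℕ) : ZMod r) = 0 := by
        rw [ZMod.natCast_eq_zero_iff, hM]
        exact hrM.mul_left 2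
      rw [Nat.cast_add, Nat.cast_pow, Nat.cast_one] at h3
      linear_combination h3
    have h3 : ((sg t (p ^ f) : ℤ) : ZMod r) ^ 2 = -1 := by
      rcases hs with hs | hs
      · rw [hs, Int.cast_natCast, h1]
      · rw [hs, Int.cast_neg, Int.cast_natCast, neg_sq, h1]
    refine ⟨hr, ?_, by norm_num, hm⟩
    have := Fact.mk Nat.prime_two
    show orderOf ((sg t (p ^ f) : ℤ) : ZMod r) = 2 ^ (1 + 1)
    refine orderOf_eq_prime_pow (n := 1) ?_ ?_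
    · rw [pow_one, h3]
      intro h4
      apply h2
      push_cast
      linear_combination -h4
    · rw [show 2 ^ (1 + 1) = 2 * 2 by norm_num, pow_mul, h3]
      ring
  obtain ⟨hMf, hMr⟩ := h.dvd_f hno hMt hMi
  obtain ⟨r, hr, hrM⟩ := Nat.exists_prime_and_dvd (n := M) (by
    rintro rfl
    nlinarith)
  obtain ⟨hrK, hrS⟩ := hMr r hr hrM
  have hrI := hMi r hr hrM
  have htri : triB t 4 7 6 = true := by rcases ht with rfl | rfl <;> decide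
  have h7 := ord4_7 hr hrI.cls_eq (h.hc hrI hrK hrS htri)
  have hq13 : 13 ≤ p ^ f := by
    have h8 : (p ^ f) % 7 = 1 ∨ (p ^ f) % 7 = 6 := by
      rcases hs with hs | hs
      · left
        rw [hs, Int.cast_natCast] at h7
        have := (ZMod.natCast_eq_natCast_iff' (p ^ f) 1 7).1 (by rw [h7, Nat.cast_one])
        simpa using this
      · right
        rw [hs, Int.cast_neg, Int.cast_natCast] at h7
        have h9 : ((p ^ f : ℕ) : ZMod 7) = ((6 : ℕ) : ZMod 7) := by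
          have h10 : ((p ^ f : ℕ) : ZMod 7) = -1 := by linear_combination -h7
          rw [h10]
          decide
        have := (ZMod.natCast_eq_natCast_iff' (p ^ f) 6 7).1 h9
        simpa using this
    omega
  obtain ⟨x, hx⟩ := hx
  have hN := h.ord_le x
  rw [hrk] at hN
  exact num17 hq13 hx hN (Nat.le_of_dvd (by omega) hMf) hM hq

theorem EX.gd8_of_size (h : EX t p f L G K S t' v f' T k) (ht : t = .psl 8 ∨ t = .psu 8) (hf : 1 ≤ f')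
    (hx : ∃ x : ↥S, 2 ^ f' ≤ 2 * orderOf x) : ∀ i ∈ cls3 t, ∃ y, Gd t (p ^ f) (Nat.card ↥K) S.index i y := by
  intro i hi
  by_cases h4 : i = 4
  · subst h4
    exact h.gd8_4 ht hf hx
  · exact h.gd8_ne4 ht i hi h4

/-! ### sizes -/

theorem tf4_size {X : Type u} [Group X] {v f : ℕ} (h : Fam.Is v f X .tf4) : 1 ≤ f ∧ ∃ x : X, 2 ^ f ≤ 2 * orderOf x := by
  obtain ⟨-, h1, x, hx⟩ := tf4_big h
  refine ⟨h1, x, ?_⟩
  have h2 : 2 ^ f ≤ (2 ^ f) ^ 2 := Nat.le_self_pow (by norm_num) _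
  omega

theorem ree_size {X : Type u} [Group X] {v f : ℕ} (h : Fam.Is v f X .ree) : 1 ≤ f ∧ ∃ x : X, 2 ^ f ≤ 2 * orderOf x := by
  obtain ⟨rfl, m, hm, rfl, F, _, _, hF, ⟨e⟩⟩ := h
  obtain ⟨x, hx⟩ := (S1159.result hm hF _).2 (Or.inr (Or.inr (Or.inr (Or.inr (Or.inr (dvd_refl _))))))
  refine ⟨by omega, e.symm x, ?_⟩
  rw [MulEquiv.orderOf_eq, hx]
  have h2 : 2 ^ (2 * m + 1) ≤ 3 ^ (2 * m + 1) := Nat.pow_le_pow_left (by norm_num) _
  have h4 : 0 < 3 ^ (m + 1) := Nat.pow_pos (by norm_num)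
  omega

theorem sz_size {X : Type u} [Group X] {v f : ℕ} (h : Fam.Is v f X .sz) : 1 ≤ f ∧ ∃ x : X, 2 ^ f ≤ 2 * orderOf x := by
  obtain ⟨rfl, m, hm, rfl, F, _, _, hF, ⟨e0⟩⟩ := h
  obtain ⟨e'⟩ := Cfsg.Agent.OddCyclic.ClaimC.SzIso.iso hm hF
  have hc := (S1163.result hm hF).1
  have h8 : 2 ^ 3 ≤ 2 ^ (2 * m + 1) := Nat.pow_le_pow_right (by norm_num) (by omega)
  have h2 : 2 ^ (2 * m + 1) % 2 = 0 := by rw [pow_succ]; omega
  obtain ⟨r, hr, hrd⟩ := Nat.exists_prime_and_dvd (n := 2 ^ (2 * m + 1) - 1) (by omega)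
  have hr2 : r ≠ 2 := by rintro rfl; omega
  have := Fact.mk hr
  have hfin : Finite ↥(Cfsg.Sz F m) := inferInstance
  have hrc : r ∣ Nat.card ↥(Cfsg.Sz F m) := by
    rw [Nat.card_congr e'.toEquiv, hc]
    exact (hrd.mul_left _).mul_right _
  obtain ⟨x, hx⟩ := exists_prime_orderOf_dvd_card' r hrc
  have hx1 : x ≠ 1 := by
    rintro rfl
    rw [orderOf_one] at hx
    exact hr.one_lt.ne hx
  obtain ⟨U, ⟨hU, hxU⟩, -⟩ := Cfsg.Agent.S2238.result hm hF x hx1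
  rcases hU with ⟨P, rfl⟩ | ⟨hcy, hN⟩
  · exfalso
    obtain ⟨j, hj⟩ := P.isPGroup' ⟨x, hxU⟩
    have h3 : x ^ 2 ^ j = 1 := congrArg Subtype.val hj
    have h4 : r ∣ 2 ^ j := hx ▸ orderOf_dvd_of_pow_eq_one h3
    exact hr2 ((Nat.prime_dvd_prime_iff_eq hr Nat.prime_two).1 (hr.dvd_of_dvd_pow h4))
  · obtain ⟨y, hy⟩ := hcy.exists_generator
    have h4 : 2 ^ (m + 1) * 2 ≤ 2 ^ (2 * m + 1) + 2 := by
      rcases Nat.eq_or_lt_of_le hm with h1 | h1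
      · rw [← h1]; norm_num
      · have : 2 ^ (m + 2) ≤ 2 ^ (2 * m + 1) := Nat.pow_le_pow_right (by norm_num) (by omega)
        have h5 : 2 ^ (m + 2) = 2 ^ (m + 1) * 2 := pow_succ _ _
        omega
    refine ⟨by omega, (e0.symm (e' (y : ↥(Cfsg.Sz F m)))), ?_⟩
    rw [MulEquiv.orderOf_eq, MulEquiv.orderOf_eq, Subgroup.orderOf_coe, orderOf_eq_card_of_forall_mem_zpowers hy]
    simp only [Set.mem_insert_iff, Set.mem_singleton_iff] at hN
    rcases hN with hN | hN | hN <;> rw [hN] <;> omega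

theorem td4_size {X : Type u} [Group X] {v f : ℕ} (hv : v.Prime) (h : Fam.Is v f X .td4) :
    1 ≤ f ∧ ∃ x : X, 2 ^ f ≤ 2 * orderOf x := by
  obtain ⟨F, _, _, _, hF, ⟨e⟩⟩ := h
  have hf : 1 ≤ f := by
    rcases Nat.eq_zero_or_pos f with h0 | h0
    · exfalso
      rw [h0, pow_zero, one_pow] at hF
      have := Fintype.one_lt_card (α := F)
      omega
    · exact h0
  have hu : 2 ^ f ≤ v ^ f := Nat.pow_le_pow_left hv.two_le f
  have hu2 : 2 ≤ v ^ f := (Nat.le_self_pow (by omega) 2).trans hu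
  obtain ⟨N, hN⟩ : ∃ N : ℕ, (N : ℤ) = 1 - ((v ^ f : ℕ) : ℤ) ^ 2 + ((v ^ f : ℕ) : ℤ) ^ 4 ∧ v ^ f ≤ N := by
    refine ⟨(v ^ f) ^ 2 * ((v ^ f) ^ 2 - 1) + 1, ?_, ?_⟩
    · have h1 : 1 ≤ (v ^ f) ^ 2 := Nat.one_le_pow _ _ (by omega)
      push_cast [Nat.cast_sub h1]
      ring
    · have h1 : 1 ≤ (v ^ f) ^ 2 - 1 := by
        have : 2 ^ 2 ≤ (v ^ f) ^ 2 := Nat.pow_le_pow_left hu2 2
        omega
      have h2 : v ^ f ≤ (v ^ f) ^ 2 := Nat.le_self_pow (by norm_num) _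
      nlinarith
  obtain ⟨hN, hN2⟩ := hN
  obtain ⟨r, hr, hrN⟩ := Nat.exists_prime_and_dvd (n := N) (by omega)
  obtain ⟨C, hC, h1, h2, -, -⟩ := Cfsg.Agent.H129.CycCard.card_tD4_12 (hv.isPrimePow.pow (by omega)) hF hN hr
    (by rw [← hN]; exact Int.natCast_dvd_natCast.2 hrN)
  have h3 : Nat.card C = N := Nat.dvd_antisymm h1 (by simpa using h2)
  obtain ⟨x, hx⟩ := hC.exists_generator
  refine ⟨hf, e.symm x, ?_⟩
  rw [MulEquiv.orderOf_eq, Subgroup.orderOf_coe, orderOf_eq_card_of_forall_mem_zpowers hx, h3]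
  omega

theorem g2_size {X : Type u} [Group X] {v f : ℕ} (hv : v.Prime) (h : Fam.Is v f X .g2) :
    1 ≤ f ∧ ∃ x : X, 2 ^ f ≤ 2 * orderOf x := by
  obtain ⟨h3', F, _, _, _, hF, ⟨e⟩⟩ := h
  have hf : 1 ≤ f := by
    rcases Nat.eq_zero_or_pos f with h0 | h0
    · exfalso
      rw [h0, pow_zero] at h3'
      omega
    · exact h0
  have hu : 2 ^ f ≤ v ^ f := Nat.pow_le_pow_left hv.two_le f
  obtain ⟨U, hU⟩ : ∃ U, U = v ^ f := ⟨_, rfl⟩
  rw [← hU] at h3' hF hu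
  have hN : ((1 + U + U ^ 2 : ℕ) : ℤ) = 1 + (U : ℤ) + (U : ℤ) ^ 2 := by push_cast; ring
  obtain ⟨r, hr, hrN, hr3⟩ : ∃ r : ℕ, r.Prime ∧ r ∣ 1 + U + U ^ 2 ∧ r ≠ 3 := by
    by_contra hcon
    push Not at hcon
    have h1 := Nat.eq_prime_pow_of_unique_prime_dvd (n := 1 + U + U ^ 2) (p := 3) (by omega)
      (fun {d} hd hdd => hcon d hd hdd)
    obtain ⟨j, hj⟩ : ∃ j, j = (1 + U + U ^ 2).primeFactorsList.length := ⟨_, rfl⟩
    rw [← hj] at h1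
    have h2 : 2 ≤ j := by
      by_contra h2
      have h4 : j = 0 ∨ j = 1 := by omega
      rcases h4 with h4 | h4 <;> rw [h4] at h1 <;> nlinarith
    have h4 : 9 ∣ 1 + U + U ^ 2 := by
      rw [h1]
      exact pow_dvd_pow 3 h2
    have h5 : U % 9 < 9 := Nat.mod_lt _ (by norm_num)
    have h6 : (1 + U + U ^ 2) % 9 = 0 := Nat.mod_eq_zero_of_dvd h4
    have h7 : (1 + U % 9 + (U % 9) ^ 2) % 9 = 0 := by
      rw [← h6]
      simp [Nat.add_mod, Nat.pow_mod]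
    interval_cases (U % 9) <;> omega
  obtain ⟨C, hC, h1, h2, -, -⟩ := Cfsg.Agent.H129.CycCard.card_G2_3 hF hN hr
    (by rw [← hN]; exact Int.natCast_dvd_natCast.2 hrN) hr3
  have h3 : Nat.card C = 1 + U + U ^ 2 := Nat.dvd_antisymm h1 (by simpa using h2)
  obtain ⟨x, hx⟩ := hC.exists_generator
  refine ⟨hf, e.symm x, ?_⟩
  rw [MulEquiv.orderOf_eq, Subgroup.orderOf_coe, orderOf_eq_card_of_forall_mem_zpowers hx, h3]
  omega

/-! ### the results -/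

theorem EX.gd8_tf4 (h : EX t p f L G K S .tf4 v f' T k) (ht : t = .psl 8 ∨ t = .psu 8) :
    ∀ i ∈ cls3 t, ∃ y, Gd t (p ^ f) (Nat.card ↥K) S.index i y :=
  h.gd8_of_size ht (tf4_size h.frm.is).1 (tf4_size h.frm.is).2

theorem EX.gd8_ree (h : EX t p f L G K S .ree v f' T k) (ht : t = .psl 8 ∨ t = .psu 8) :
    ∀ i ∈ cls3 t, ∃ y, Gd t (p ^ f) (Nat.card ↥K) S.index i y :=
  h.gd8_of_size ht (ree_size h.frm.is).1 (ree_size h.frm.is).2

theorem EX.gd8_sz (h : EX t p f L G K S .sz v f' T k) (ht : t = .psl 8 ∨ t = .psu 8) :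
    ∀ i ∈ cls3 t, ∃ y, Gd t (p ^ f) (Nat.card ↥K) S.index i y :=
  h.gd8_of_size ht (sz_size h.frm.is).1 (sz_size h.frm.is).2

theorem EX.gd8_td4 (h : EX t p f L G K S .td4 v f' T k) (ht : t = .psl 8 ∨ t = .psu 8) :
    ∀ i ∈ cls3 t, ∃ y, Gd t (p ^ f) (Nat.card ↥K) S.index i y :=
  h.gd8_of_size ht (td4_size h.frm.prime h.frm.is).1 (td4_size h.frm.prime h.frm.is).2

theorem EX.gd8_g2 (h : EX t p f L G K S .g2 v f' T k) (ht : t = .psl 8 ∨ t = .psu 8) :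
    ∀ i ∈ cls3 t, ∃ y, Gd t (p ^ f) (Nat.card ↥K) S.index i y :=
  h.gd8_of_size ht (g2_size h.frm.prime h.frm.is).1 (g2_size h.frm.prime h.frm.is).2

end

end Cfsg.Agent.R2.Spec.EE
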