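import Cfsg.Agent.R2.Spec.EE.Fr
import Cfsg.Agent.R2.Spec.EE.NumC
import Cfsg.Agent.R2.Spec.F1.Good
import Cfsg.Agent.R2.Spec.F1.ExcOut

/-!
# EE assembly, packet (P2) (helper5): the available classes

* `in_dvd_tnum` : a prime of the class `i` divides `tnum t q i`;
* `EX.big_index` : the primes of the big classes do not divide `S.index` (unless they divide `|K|`);
* `EX.gd_big` : they are available; `EX.gd_all` : every regular class contains an available prime, if `f'` is small.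
-/

set_option autoImplicit false
set_option linter.unusedSectionVars false
set_option maxHeartbeats 400000

namespace Cfsg.Agent.R2.Spec.EE

open Subgroup Cfsg
open Cfsg.Agent.H426.LieFam Cfsg.Agent.R2.Spec Cfsg.Agent.R2.Spec.P1 Cfsg.Agent.R2.Spec.F1

universe u w

theorem dvd_sub_of_pow {q i r : ℕ} (hq : 1 ≤ q) (h : ((q : ℕ) : ZMod r) ^ i = 1) : r ∣ q ^ i - 1 := by
  rw [← ZMod.natCast_eq_zero_iff, Nat.cast_sub (Nat.one_le_pow _ _ hq)]
  push_cast
  rw [h, sub_self]

theorem dvd_add_of_pow {q i r : ℕ} (h : ((q : ℕ) : ZMod r) ^ i = -1) : r ∣ q ^ i + 1 := by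
  rw [← ZMod.natCast_eq_zero_iff]
  push_cast
  rw [h, neg_add_cancel]

theorem dvd_tn_gen {q i r : ℕ} (hr : r.Prime) (hq : 1 ≤ q) (h3 : 3 ≤ i) (h : orderOf ((q : ℕ) : ZMod r) = i) :
    r ∣ (if Even i then q ^ (i / 2) + 1 else q ^ i - 1) := by
  have := Fact.mk hr
  have h1 : ((q : ℕ) : ZMod r) ^ i = 1 := by rw [← h]; exact pow_orderOf_eq_one _
  split_ifs with he
  · obtain ⟨m, rfl⟩ := he
    rw [show (m + m) / 2 = m by omega]
    apply dvd_add_of_pow
    rw [pow_add] at h1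
    rcases mul_self_eq_one_iff.1 h1 with h2 | h2
    · exfalso
      have h4 := orderOf_dvd_of_pow_eq_one h2
      rw [h] at h4
      have := Nat.le_of_dvd (by omega) h4
      omega
    · exact h2
  · exact dvd_sub_of_pow hq h1

/-- a prime of the class `i` divides `tnum t q i` -/
theorem in_dvd_tnum {t : Fam} (ht : Classical t) {q i r : ℕ} (hq : 1 ≤ q) (hr : In t q i r) : r ∣ tnum t q i := by
  have hp := Fact.mk hr.prime
  have hc : orderOf ((sg t q : ℤ) : ZMod r) = i := hr.cls_eq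
  have h1 : ((sg t q : ℤ) : ZMod r) ^ i = 1 := by rw [← hc]; exact pow_orderOf_eq_one _
  have h3 := hr.reg
  have ho : orderOf (((q : ℤ)) : ZMod r) = i → r ∣ (if Even i then q ^ (i / 2) + 1 else q ^ i - 1) := by
    intro h
    rw [Int.cast_natCast] at h
    exact dvd_tn_gen hr.prime hq h3 h
  cases t with
  | psl n =>
    change (((q : ℤ)) : ZMod r) ^ i = 1 at h1
    rw [Int.cast_natCast] at h1
    exact dvd_sub_of_pow hq h1
  | psu n =>
    change ((-(q : ℤ) : ℤ) : ZMod r) ^ i = 1 at h1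
    rw [Int.cast_neg, Int.cast_natCast] at h1
    show r ∣ (if Even i then q ^ i - 1 else q ^ i + 1)
    split_ifs with he
    · rw [he.neg_pow] at h1
      exact dvd_sub_of_pow hq h1
    · rw [(Nat.not_even_iff_odd.1 he).neg_pow] at h1
      exact dvd_add_of_pow (neg_eq_iff_eq_neg.1 h1)
  | psp n => exact ho hc
  | oodd n => exact ho hc
  | oplus n => exact ho hc
  | ominus n => exact ho hc
  | _ => exact ht.elim

section

variable {t : Fam} {p f : ℕ} {L : Type w} [Group L] [Finite L] {G : Type u} [Group G] [Finite G]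
  {K : Subgroup G} [K.Normal] {S : Subgroup (G ⧸ K)} [S.Normal] {t' : Fam} {v f' : ℕ} {T : Tab} {k : ℕ → ℕ}

theorem EX.q_odd (h : EX t p f L G K S t' v f' T k) : (p ^ f) % 2 = 1 ∧ 3 ≤ p ^ f := by
  have hp := h.ls.prime
  have h1 : p % 2 = 1 := (hp.eq_two_or_odd).resolve_left h.p2
  have h2 : (p ^ f) % 2 = 1 := by simp [Nat.pow_mod, h1]
  have h3 : p ^ 1 ≤ p ^ f := Nat.pow_le_pow_right hp.pos h.ls.fpos
  have := hp.two_le
  rw [pow_one] at h3
  exact ⟨h2, by omega⟩

/-- the big classes contain primes -/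
theorem EX.exists_in (h : EX t p f L G K S t' v f' T k) {i : ℕ} (h3 : 3 ≤ i) (hm : mem t i) :
    ∃ z, In t (p ^ f) i z := by
  have hq := h.q_odd
  obtain ⟨r, hr, hc⟩ := exists_cls (t := t) (q := p ^ f) (i := i) (by omega) h3 (fun h2 => by omega)
  exact ⟨r, hr, hc, h3, hm⟩

/-- **The primes of the big classes do not divide `S.index`.** -/
theorem EX.big_index (h : EX t p f L G K S t' v f' T k) (h5 : Five t) {i r : ℕ} (hr : In t (p ^ f) i r) (hb : Big t i)
    (hrK : ¬ r ∣ Nat.card ↥K) : ¬ r ∣ S.index := by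
  intro hd
  refine killer_false hr.prime hr.five (X := sg t (p ^ f)) hr.cls_eq hr.reg (I := Big t) ?_ (killer_big h5 hb)
  intro l hl hli
  obtain ⟨j, hj, hji, hjl⟩ := exists_third (I := BigF t) (by have := card_BigF h5; omega) i l
  rw [mem_BigF] at hj
  obtain ⟨z, hz⟩ := h.exists_in hj.1 hj.2.1
  exact h.ls.ehc h.red h.frm hr (hd.mul_left _) hrK hl.1 hl.2.1 (na_of_big h.ls.cla hb hl hli.symm)
    ⟨j, z, hz, na_of_big h.ls.cla hb hj hji.symm, na_of_big h.ls.cla hl hj hjl.symm⟩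

/-- **The primes of the big classes are available.** -/
theorem EX.gd_big (h : EX t p f L G K S t' v f' T k) (h5 : Five t) {i y : ℕ} (hy : In t (p ^ f) i y) (hb : Big t i) :
    Gd t (p ^ f) (Nat.card ↥K) S.index i y := by
  refine ⟨hy, fun hyK => ⟨1, ?_, ?_⟩⟩
  · rw [pow_one]
    exact in_dvd_tnum h.ls.cla (by have := h.q_odd; omega) hy
  · rw [pow_one]
    exact h.big_index h5 hy hb hyK

/-- **Every regular class contains an available prime**, if `f'` is small. -/
theorem EX.gd_all (h : EX t p f L G K S t' v f' T k)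
    (hlt : ∀ M, 5 ≤ M → (p ^ f) ^ 2 - p ^ f + 1 ≤ 3 * M → f' < M) :
    ∀ i ∈ cls3 t, ∃ y, Gd t (p ^ f) (Nat.card ↥K) S.index i y := by
  intro i hi
  obtain ⟨h3, hm⟩ := of_cls3 hi
  obtain ⟨hq, hq3⟩ := h.q_odd
  obtain ⟨M, hM, -, hin, hM5, hM3⟩ := class_num5 h.ls.cla hq hq3 h3 hm
  have hf := hlt M hM5 hM3
  have hf1 := h.frm.fpos
  have hnd : ¬ M ∣ f' := fun hd => by
    have := Nat.le_of_dvd (by omega) hd
    omega
  rw [Nat.dvd_iff_prime_pow_dvd_dvd] at hnd
  push Not at hnd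
  obtain ⟨y, a, hy, hya, hnf⟩ := hnd
  have ha : a ≠ 0 := by
    rintro rfl
    exact hnf (by rw [pow_zero]; exact one_dvd _)
  have hyM : y ∣ M := (dvd_pow_self y ha).trans hya
  have hyI := hin y hy hyM
  exact ⟨y, hyI, fun _ => ⟨a, hya.trans hM, fun hd => hnf (h.ef.idx y a hy hyI.five hd)⟩⟩

end

end Cfsg.Agent.R2.Spec.EE
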