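import Cfsg.Agent.R2.Spec.EE.NumAr
import Cfsg.Agent.R2.Spec.EE.NumSz
import Cfsg.Agent.R2.Spec.EE.TabDef
import Cfsg.Agent.H482.TwoCyc.Untw
import Cfsg.Agent.H378.RegE7

/-!
# EE-NUM, part (A) (helper12)

* `ordA8`, `ordA7` : an order of `E₈(q)` (`E₇(q)`) whose primes are `≥ 5`, not `p`, and of large classes, divides one `Φ_a(q)`;
* `numA8`, `numA7` : the same for numbers of `G` prime to `|K|` and to the index.
-/

set_option autoImplicit false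
set_option linter.unusedSectionVars false

namespace Cfsg.Agent.R2.Spec.EE

open Cfsg Cfsg.Lie Cfsg.Agent Cfsg.Agent.H426.LieFam
open Cfsg.Agent.H378.ExcAdj (od od_dvd)
open Cfsg.Agent.H378.RegFin (od_of_dvd)
open Cfsg.Agent.H378.ExcNear (mod_of_od)

universe u w

namespace NumA

/-- the index of the cyclotomic polynomial -/
theorem eq_cyc {r q n a : ℕ} (hr : r.Prime) (h5 : 5 ≤ r) (hn : 0 < n) (ha : 0 < a) (hφ : n.totient < 4 * a.totient)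
    (h : od q r = a) (hd : (r : ℤ) ∣ (Polynomial.cyclotomic n ℤ).eval ((q : ℕ) : ℤ)) : n = a := by
  have hF : Fact r.Prime := ⟨hr⟩
  have h1 : a ∣ n := by
    rw [← h]
    exact od_of_dvd (Int.natCast_dvd.1 hd)
  have h2 := mod_of_od hr h ha
  by_cases hrn : r ∣ n
  · exfalso
    have hcop : Nat.Coprime a r := by
      rw [Nat.coprime_comm]
      refine (Nat.Prime.coprime_iff_not_dvd hr).2 fun h4 => ?_
      have h5' := Nat.le_of_dvd ha h4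
      have h6 := Nat.le_of_dvd (by omega) h2
      omega
    have h6 : a * r ∣ n := hcop.mul_dvd_of_dvd_of_dvd h1 hrn
    have h7 := Nat.totient_dvd_of_dvd h6
    rw [Nat.totient_mul hcop, Nat.totient_prime hr] at h7
    have h8 := Nat.le_of_dvd (Nat.totient_pos.2 hn) h7
    have h12 : a.totient * 4 ≤ a.totient * (r - 1) := Nat.mul_le_mul_left _ (by omega)
    omega
  · have hn0 : NeZero ((n : ℕ) : ZMod r) := ⟨fun h3 => hrn ((ZMod.natCast_eq_zero_iff n r).1 h3)⟩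
    have h3 : Polynomial.IsRoot (Polynomial.cyclotomic n (ZMod r)) ((q : ℕ) : ZMod r) := by
      rw [Polynomial.IsRoot.def, ← Polynomial.map_cyclotomic n (Int.castRingHom (ZMod r)),
        show ((q : ℕ) : ZMod r) = Int.castRingHom (ZMod r) ((q : ℕ) : ℤ) by simp, Polynomial.eval_map,
        Polynomial.eval₂_at_apply]
      exact (ZMod.intCast_zmod_eq_zero_iff_dvd _ r).2 hd
    have h4 := Polynomial.isRoot_cyclotomic_iff.1 h3
    exact h4.eq_orderOf.trans h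

/-- **One cyclotomic factor.** -/
theorem ord_gen {X : Type*} [Group X] {x : X} {q l N J2 J3 : ℕ} (hO : H482.TwoCyc.Untw.Ords q l N J2 J3 x)
    {A : List ℕ} (hne : A ≠ []) (hA : ∀ a ∈ A, 0 < a ∧ l < 2 * a.totient)
    (hx : ∀ r : ℕ, r.Prime → r ∣ orderOf x → 5 ≤ r ∧ ¬ r ∣ q ∧ od q r ∈ A) :
    ∃ a ∈ A, ((orderOf x : ℕ) : ℤ) ∣ (Polynomial.cyclotomic a ℤ).eval ((q : ℕ) : ℤ) := by
  classical
  obtain ⟨p, e, m, j, hp, he, hq, ho, hm, hmp, -, -, ⟨S, hS, hSl, hmS⟩, -⟩ := hO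
  have hj : j = 0 := by
    by_contra hj
    have h1 := (hx p hp (by rw [ho]; exact (dvd_pow_self p hj).mul_left m)).2.1
    exact h1 (by rw [hq]; exact dvd_pow_self p he.ne')
  rw [hj, pow_zero, mul_one] at ho
  rw [ho] at hx ⊢
  by_cases hm1 : m = 1
  · obtain ⟨a, ha⟩ := List.exists_mem_of_ne_nil A hne
    exact ⟨a, ha, by rw [hm1, Nat.cast_one]; exact one_dvd _⟩
  -- the class of a prime
  have key : ∀ r : ℕ, r.Prime → r ∣ m → ∀ n ∈ S, (r : ℤ) ∣ (Polynomial.cyclotomic n ℤ).eval ((q : ℕ) : ℤ) →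
      n = od q r := by
    intro r hr hrm n hn hd
    obtain ⟨h5, -, hA'⟩ := hx r hr hrm
    obtain ⟨ha0, hal⟩ := hA _ hA'
    have h3 : n.totient ≤ ∑ n ∈ S, n.totient := Finset.single_le_sum (fun i _ => Nat.zero_le (Nat.totient i)) hn
    exact eq_cyc hr h5 (hS n hn) ha0 (by omega) rfl hd
  have key2 : ∀ r : ℕ, r.Prime → r ∣ m → od q r ∈ S := by
    intro r hr hrm
    have h1 := (Int.natCast_dvd_natCast.2 hrm).trans hmS
    rw [Polynomial.eval_prod] at h1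
    obtain ⟨n, hn, hd⟩ := (Nat.prime_iff_prime_int.1 hr).exists_mem_finset_dvd h1
    rw [← key r hr hrm n hn hd]
    exact hn
  obtain ⟨r₀, hr₀, hr₀m⟩ := Nat.exists_prime_and_dvd hm1
  obtain ⟨a, ha⟩ : ∃ a, a = od q r₀ := ⟨_, rfl⟩
  have haA : a ∈ A := by rw [ha]; exact (hx r₀ hr₀ hr₀m).2.2
  have haS : a ∈ S := by rw [ha]; exact key2 r₀ hr₀ hr₀m
  have hall : ∀ r : ℕ, r.Prime → r ∣ m → od q r = a := by
    intro r hr hrm
    by_contra hne'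
    have h1 := key2 r hr hrm
    have h3 : ∑ n ∈ ({od q r, a} : Finset ℕ), n.totient ≤ ∑ n ∈ S, n.totient := by
      refine Finset.sum_le_sum_of_subset fun x hx => ?_
      rw [Finset.mem_insert, Finset.mem_singleton] at hx
      rcases hx with rfl | rfl
      · exact h1
      · exact haS
    rw [Finset.sum_pair hne'] at h3
    have h4 := (hA _ (hx r hr hrm).2.2).2
    have h5 := (hA _ haA).2
    omega
  refine ⟨a, haA, ?_⟩
  rw [Polynomial.eval_prod, ← Finset.mul_prod_erase S _ haS] at hmS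
  refine IsCoprime.dvd_of_dvd_mul_right ?_ hmS
  rw [Int.isCoprime_iff_gcd_eq_one]
  by_contra hg
  obtain ⟨r, hr, hrg⟩ := Nat.exists_prime_and_dvd hg
  have h1 : (r : ℤ) ∣ (m : ℤ) := (Int.natCast_dvd_natCast.2 hrg).trans (Int.gcd_dvd_left _ _)
  have h2 : (r : ℤ) ∣ ∏ n ∈ S.erase a, (Polynomial.cyclotomic n ℤ).eval ((q : ℕ) : ℤ) :=
    (Int.natCast_dvd_natCast.2 hrg).trans (Int.gcd_dvd_right _ _)
  have hrm : r ∣ m := Int.natCast_dvd_natCast.1 h1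
  obtain ⟨n, hn, hd⟩ := (Nat.prime_iff_prime_int.1 hr).exists_mem_finset_dvd h2
  rw [Finset.mem_erase] at hn
  exact hn.1 ((key r hr hrm n hn.2 hd).trans (hall r hr hrm))

end NumA

open NumA

/-- the large classes of `E₈` -/
def A8 : List ℕ := [7, 9, 14, 15, 18, 20, 24, 30]

/-- the large classes of `E₇` -/
def A7 : List ℕ := [7, 9, 14, 18, 5, 8, 10, 12]

theorem A8_tot : ∀ a ∈ A8, 0 < a ∧ 8 < 2 * a.totient := by decide

theorem A7_tot : ∀ a ∈ A7, 0 < a ∧ 7 < 2 * a.totient := by decide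

theorem ordA8 {F : Type u} [Field F] [Finite F] {x : ↥(chevE8.group F)} {m : ℕ} (hx : orderOf x = m)
    (hm : ∀ r : ℕ, r.Prime → r ∣ m → 5 ≤ r ∧ ¬ r ∣ Nat.card F ∧ od (Nat.card F) r ∈ A8) :
    ∃ a ∈ A8, (m : ℤ) ∣ (Polynomial.cyclotomic a ℤ).eval ((Nat.card F : ℕ) : ℤ) := by
  have := Fintype.ofFinite F
  subst hx
  exact ord_gen (H482.TwoCyc.Untw.ords_E8 x) (by decide) A8_tot hm

theorem ordA7 {F : Type u} [Field F] [Finite F] {x : ↥(chevE7.group F)} {m : ℕ} (hx : orderOf x = m)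
    (hm : ∀ r : ℕ, r.Prime → r ∣ m → 5 ≤ r ∧ ¬ r ∣ Nat.card F ∧ od (Nat.card F) r ∈ A7) :
    ∃ a ∈ A7, (m : ℤ) ∣ (Polynomial.cyclotomic a ℤ).eval ((Nat.card F : ℕ) : ℤ) := by
  have := Fintype.ofFinite F
  subst hx
  exact ord_gen (H482.TwoCyc.Untw.ords_E7 x) (by decide) A7_tot hm

section Group

variable {G : Type w} [Group G] [Finite G] {K : Subgroup G} [K.Normal] {S : Subgroup (G ⧸ K)} [S.Normal]

/-- a number prime to `|K|` and to the index -/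
theorem exists_of_coprime {M : ℕ} {g : G} (hg : orderOf g = M) (hK : ∀ y : ℕ, y.Prime → y ∣ M → ¬ y ∣ Nat.card ↥K)
    (hi : ∀ y : ℕ, y.Prime → y ∣ M → ¬ y ∣ S.index) : ∃ s : S, orderOf s = M := by
  set gb : G ⧸ K := QuotientGroup.mk' K g with hgb
  have hmem : gb ^ S.index ∈ S := Subgroup.pow_index_mem S gb
  have hM0 : 0 < M := hg ▸ orderOf_pos g
  have cop : ∀ n : ℕ, (∀ y : ℕ, y.Prime → y ∣ M → ¬ y ∣ n) → Nat.Coprime M n := fun n hn =>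
    Nat.coprime_of_dvd fun y hy h1 h2 => hn y hy h1 h2
  have h1 : M ∣ orderOf gb * Nat.card ↥K := by
    rw [← hg]
    apply orderOf_dvd_of_pow_eq_one
    have h2 : g ^ orderOf gb ∈ K := by
      rw [← QuotientGroup.eq_one_iff]
      have h3 := pow_orderOf_eq_one gb
      rw [hgb, ← map_pow] at h3
      exact h3
    rw [pow_mul]
    have h4 : (⟨g ^ orderOf gb, h2⟩ : K) ^ Nat.card ↥K = 1 := pow_card_eq_one'
    exact congrArg Subtype.val h4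
  have h2 : M ∣ orderOf gb := (cop _ hK).dvd_of_dvd_mul_right h1
  have h3 : orderOf gb ∣ orderOf (gb ^ S.index) * S.index := by
    apply orderOf_dvd_of_pow_eq_one
    rw [mul_comm, pow_mul, pow_orderOf_eq_one]
  have h4 : orderOf (⟨gb ^ S.index, hmem⟩ : S) = orderOf (gb ^ S.index) := by
    rw [← Subgroup.orderOf_coe]
  have h5 : M ∣ orderOf (⟨gb ^ S.index, hmem⟩ : S) := by
    rw [h4]
    exact (cop _ hi).dvd_of_dvd_mul_right (h2.trans h3)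
  obtain ⟨k, hk⟩ := h5
  have hpos := orderOf_pos (⟨gb ^ S.index, hmem⟩ : S)
  have hk0 : k ≠ 0 := by
    rintro rfl
    rw [mul_zero] at hk
    omega
  refine ⟨(⟨gb ^ S.index, hmem⟩ : S) ^ k, ?_⟩
  rw [orderOf_pow_of_dvd hk0 (by rw [hk]; exact dvd_mul_left _ _), hk, Nat.mul_div_cancel _ (Nat.pos_of_ne_zero hk0)]

/-- **`E₈`** -/
theorem numA8 {v f : ℕ} (hv : v.Prime) (hS : Fam.Is v f S .e8) {M : ℕ} {g : G} (hg : orderOf g = M)
    (hK : ∀ y : ℕ, y.Prime → y ∣ M → ¬ y ∣ Nat.card ↥K) (hi : ∀ y : ℕ, y.Prime → y ∣ M → ¬ y ∣ S.index)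
    (h5 : ∀ y : ℕ, y.Prime → y ∣ M → 5 ≤ y ∧ y ≠ v)
    (hc : ∀ y : ℕ, y.Prime → y ∣ M → clE8.getD (kE8 (v ^ f) y) 0 ∈ A8 ∧ kE8 (v ^ f) y < 17) :
    ∃ a ∈ A8, (M : ℤ) ∣ (Polynomial.cyclotomic a ℤ).eval ((v ^ f : ℕ) : ℤ) := by
  obtain ⟨F, _, _, _, hcF, ⟨e⟩⟩ := hS
  have hq : Nat.card F = v ^ f := by rw [Nat.card_eq_fintype_card, hcF]
  obtain ⟨s, hs⟩ := exists_of_coprime hg hK hi
  rw [← hq]
  refine ordA8 (x := e s) (by rw [MulEquiv.orderOf_eq, hs]) fun y hy hyM => ⟨(h5 y hy hyM).1, ?_, ?_⟩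
  · intro h1
    rw [hq] at h1
    exact (h5 y hy hyM).2 ((Nat.prime_dvd_prime_iff_eq hy hv).1 (hy.dvd_of_dvd_pow h1))
  · obtain ⟨h1, h2⟩ := hc y hy hyM
    rw [← hq] at h1 h2
    rw [kE8] at h1 h2
    split_ifs at h1 h2 with h3
    · omega
    · rw [kcl] at h1 h2
      have h4 : clE8.idxOf (orderOf ((Nat.card F : ℕ) : ZMod y)) < clE8.length := h2
      rw [List.getD_eq_getElem _ _ h4, List.getElem_idxOf h4] at h1
      exact h1

/-- **`E₇`** -/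
theorem numA7 {v f : ℕ} (hv : v.Prime) (hS : Fam.Is v f S .e7) {M : ℕ} {g : G} (hg : orderOf g = M)
    (hK : ∀ y : ℕ, y.Prime → y ∣ M → ¬ y ∣ Nat.card ↥K) (hi : ∀ y : ℕ, y.Prime → y ∣ M → ¬ y ∣ S.index)
    (h5 : ∀ y : ℕ, y.Prime → y ∣ M → 5 ≤ y ∧ y ≠ v)
    (hc : ∀ y : ℕ, y.Prime → y ∣ M → clE7.getD (kcl clE7 (v ^ f) y) 0 ∈ A7) :
    ∃ a ∈ A7, (M : ℤ) ∣ (Polynomial.cyclotomic a ℤ).eval ((v ^ f : ℕ) : ℤ) := by
  obtain ⟨F, _, _, _, hcF, ⟨e⟩⟩ := hS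
  have hq : Nat.card F = v ^ f := by rw [Nat.card_eq_fintype_card, hcF]
  obtain ⟨s, hs⟩ := exists_of_coprime hg hK hi
  rw [← hq]
  refine ordA7 (x := e s) (by rw [MulEquiv.orderOf_eq, hs]) fun y hy hyM => ⟨(h5 y hy hyM).1, ?_, ?_⟩
  · intro h1
    rw [hq] at h1
    exact (h5 y hy hyM).2 ((Nat.prime_dvd_prime_iff_eq hy hv).1 (hy.dvd_of_dvd_pow h1))
  · have h1 := hc y hy hyM
    rw [← hq, kcl] at h1
    rcases Nat.lt_or_ge (clE7.idxOf (orderOf ((Nat.card F : ℕ) : ZMod y))) clE7.length with h4 | h4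
    · rw [List.getD_eq_getElem _ _ h4, List.getElem_idxOf h4] at h1
      exact h1
    · rw [List.getD_eq_default _ _ h4] at h1
      exact absurd h1 (by decide)

theorem field_two {v f : ℕ} {X : Type u} [Group X] {t : Fam} (ht : t = .e8 ∨ t = .e7) (hS : Fam.Is v f X t) :
    2 ≤ v ^ f := by
  rcases ht with rfl | rfl
  · obtain ⟨F, _, _, _, hcF, -⟩ := hS
    rw [← hcF]
    exact Fintype.one_lt_card
  · obtain ⟨F, _, _, _, hcF, -⟩ := hS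
    rw [← hcF]
    exact Fintype.one_lt_card

/-- **`E₈`, sizes** -/
theorem numA8_le {v f : ℕ} (hv : v.Prime) (hS : Fam.Is v f S .e8) {M : ℕ} {g : G} (hg : orderOf g = M)
    (hK : ∀ y : ℕ, y.Prime → y ∣ M → ¬ y ∣ Nat.card ↥K) (hi : ∀ y : ℕ, y.Prime → y ∣ M → ¬ y ∣ S.index)
    (h5 : ∀ y : ℕ, y.Prime → y ∣ M → 5 ≤ y ∧ y ≠ v)
    (hc : ∀ y : ℕ, y.Prime → y ∣ M → clE8.getD (kE8 (v ^ f) y) 0 ∈ A8 ∧ kE8 (v ^ f) y < 17) :
    M ≤ (v ^ f) ^ 8 + (v ^ f) ^ 7 := by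
  obtain ⟨a, ha, h⟩ := numA8 hv hS hg hK hi h5 hc
  exact size8 ha (field_two (Or.inl rfl) hS) h

/-- **`E₇`, sizes** -/
theorem numA7_le {v f : ℕ} (hv : v.Prime) (hS : Fam.Is v f S .e7) {M : ℕ} {g : G} (hg : orderOf g = M)
    (hK : ∀ y : ℕ, y.Prime → y ∣ M → ¬ y ∣ Nat.card ↥K) (hi : ∀ y : ℕ, y.Prime → y ∣ M → ¬ y ∣ S.index)
    (h5 : ∀ y : ℕ, y.Prime → y ∣ M → 5 ≤ y ∧ y ≠ v)
    (hc : ∀ y : ℕ, y.Prime → y ∣ M → clE7.getD (kcl clE7 (v ^ f) y) 0 ∈ A7) :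
    M ≤ 2 * (v ^ f) ^ 6 := by
  obtain ⟨a, ha, h⟩ := numA7 hv hS hg hK hi h5 hc
  exact size7 ha (field_two (Or.inr rfl) hS) h

end Group

end Cfsg.Agent.R2.Spec.EE
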