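import Cfsg.Agent.R2.Spec.EE.GdTF4
import Cfsg.Agent.R2.Spec.EE.Big
import Cfsg.Agent.R2.Spec.EE.NumEM
import Cfsg.Agent.R2.Spec.EE.NumM
import Cfsg.Agent.R2.Spec.EE.NumA
import Cfsg.Agent.R2.Spec.P1.TopMain

/-!
# EE, small ranks: two-sided tools (helper12)

* `EX.rowM`, `EX.rowM_val` : rows computed by the kernel with proven restrictions of the values;
* `EX.nix` : the primes of a class do not divide the index (killer);
* `EX.top_ub`, `EX.top_elt` : the exact tori of the isolated classes.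
-/

set_option autoImplicit false
set_option linter.unusedSectionVars false
set_option linter.unusedVariables false

namespace Cfsg.Agent.R2.Spec.EE

open Subgroup Cfsg
open Cfsg.Agent.H426.LieFam Cfsg.Agent.R2.Spec Cfsg.Agent.R2.Spec.P1 Cfsg.Agent.R2.Spec.F1
open Cfsg.Agent.H420.QR Cfsg.Agent.H365.Zsig

universe u w

/-- the domains restricted by masks -/
def Tab.domM (T : Tab) (l : List (ℕ × ℕ)) (i : ℕ) : ℕ := l.foldr (fun x d => bif i == x.1 then d &&& x.2 else d) (T.dom i)

/-- the domains restricted by masks, the values `m` of the class `i0` excluded -/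
def Tab.domMX (T : Tab) (l : List (ℕ × ℕ)) (i0 m i : ℕ) : ℕ :=
  bif i == i0 then T.domM l i ^^^ (T.domM l i &&& m) else T.domM l i

theorem domM_lt (T : Tab) (l : List (ℕ × ℕ)) (i : ℕ) : T.domM l i < 2 ^ (T.n + 4) := by
  induction l with
  | nil => exact dom_lt T i
  | cons x l ih =>
    show (bif i == x.1 then T.domM l i &&& x.2 else T.domM l i) < _
    cases i == x.1
    · exact ih
    · exact lt_of_le_of_lt Nat.and_le_left ih

theorem domMX_lt (T : Tab) (l : List (ℕ × ℕ)) (i0 m i : ℕ) : T.domMX l i0 m i < 2 ^ (T.n + 4) := by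
  rw [Tab.domMX]
  cases i == i0
  · exact domM_lt T l i
  · exact Nat.xor_lt_two_pow (domM_lt T l i) (lt_of_le_of_lt Nat.and_le_left (domM_lt T l i))

theorem domM_testBit (T : Tab) {l : List (ℕ × ℕ)} {i c : ℕ} (h : (T.dom i).testBit c = true)
    (hl : ∀ x ∈ l, i = x.1 → x.2.testBit c = true) : (T.domM l i).testBit c = true := by
  induction l with
  | nil => exact h
  | cons x l ih =>
    show (bif i == x.1 then T.domM l i &&& x.2 else T.domM l i).testBit c = true
    have h1 := ih fun y hy => hl y (List.mem_cons_of_mem _ hy)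
    by_cases h2 : i = x.1
    · rw [beq_iff_eq.2 h2, cond_true, Nat.testBit_and, h1, hl x List.mem_cons_self h2]
      rfl
    · rw [beq_eq_false_iff_ne.2 h2, cond_false]
      exact h1

section

variable {t : Fam} {p f : ℕ} {L : Type w} [Group L] [Finite L] {G : Type u} [Group G] [Finite G]
  {K : Subgroup G} [K.Normal] {S : Subgroup (G ⧸ K)} [S.Normal] {t' : Fam} {v f' : ℕ} {T : Tab} {k : ℕ → ℕ}

/-- **A row excluded by the kernel**, with restrictions. -/
theorem EX.rowM (h : EX t p f L G K S t' v f' T k)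
    (hgd : ∀ i ∈ cls3 t, ∃ y, Gd t (p ^ f) (Nat.card ↥K) S.index i y) (l : List (ℕ × ℕ))
    (hl : ∀ x ∈ l, ∀ z, Gd t (p ^ f) (Nat.card ↥K) S.index x.1 z → x.2.testBit (val T (Nat.card ↥K) v k z) = true)
    (hk : (dat T.tbl t (cls3 t)).go (cls3 t).length (st0 T.tbl (cls3 t) (T.domM l)) 0 = false) : False := by
  choose! y hy using hgd
  have h1 := go_of h.ls h.is h.rk3 h.ef (nodup_cls3 t) (fun i hi => of_cls3 hi) (D := T.domM l) hy
    (fun i _ => domM_lt T l i) (fun i hi h3 => domM_testBit T h3 fun x hx hix => hl x hx _ (hix ▸ hy i hi))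
  rw [hk] at h1
  exact Bool.noConfusion h1

/-- **The values of the class `i0` are in `m`**, with restrictions. -/
theorem EX.rowM_val (h : EX t p f L G K S t' v f' T k)
    (hgd : ∀ i ∈ cls3 t, ∃ y, Gd t (p ^ f) (Nat.card ↥K) S.index i y) (l : List (ℕ × ℕ))
    (hl : ∀ x ∈ l, ∀ z, Gd t (p ^ f) (Nat.card ↥K) S.index x.1 z → x.2.testBit (val T (Nat.card ↥K) v k z) = true)
    {i0 m : ℕ}
    (hk : (dat T.tbl t (cls3 t)).go (cls3 t).length (st0 T.tbl (cls3 t) (T.domMX l i0 m)) 0 = false)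
    {z : ℕ} (hz : Gd t (p ^ f) (Nat.card ↥K) S.index i0 z) : m.testBit (val T (Nat.card ↥K) v k z) = true := by
  by_contra hcon
  rw [Bool.not_eq_true] at hcon
  choose! y hy using hgd
  have hy' : ∀ i ∈ cls3 t, Gd t (p ^ f) (Nat.card ↥K) S.index i (if i = i0 then z else y i) := fun i hi => by
    by_cases h2 : i = i0
    · rw [if_pos h2, h2]
      exact hz
    · rw [if_neg h2]
      exact hy i hi
  have h1 := go_of h.ls h.is h.rk3 h.ef (nodup_cls3 t) (fun i hi => of_cls3 hi) (D := T.domMX l i0 m)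
    (y := fun i => if i = i0 then z else y i) hy'
    (fun i _ => domMX_lt T l i0 m i)
    (fun i hi h3 => by
      have h5 := domM_testBit T (l := l) h3 fun x hx hix => hl x hx _ (hix ▸ hy' i hi)
      rw [Tab.domMX]
      by_cases h2 : i = i0
      · rw [beq_iff_eq.2 h2, cond_true, Nat.testBit_xor, Nat.testBit_and, h5]
        show (true ^^ (true && m.testBit (val T (Nat.card ↥K) v k (if i = i0 then z else y i)))) = true
        rw [if_pos h2, hcon]
        rfl
      · rw [beq_eq_false_iff_ne.2 h2, cond_false]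
        exact h5)
  rw [hk] at h1
  exact Bool.noConfusion h1

/-- **The primes of the class do not divide the index.** -/
theorem EX.nix (h : EX t p f L G K S t' v f' T k) {i : ℕ} (I : List ℕ)
    (hI : ∀ l ∈ I, ∃ m, triB t i l m = true) (hk : Killer (fun l => l ∈ I) i) {r : ℕ} (hr : In t (p ^ f) i r)
    (hrK : ¬ r ∣ Nat.card ↥K) : ¬ r ∣ S.index := by
  intro hd
  refine killer_false hr.prime hr.five (X := sg t (p ^ f)) hr.cls_eq hr.reg (I := fun l => l ∈ I) ?_ hk
  intro l hl _
  obtain ⟨m, hm⟩ := hI l hl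
  exact h.hc hr hrK hd hm

theorem EX.gd_of (h : EX t p f L G K S t' v f' T k) {i r : ℕ} (hr : In t (p ^ f) i r)
    (hn : ¬ r ∣ Nat.card ↥K → ¬ r ∣ S.index) : Gd t (p ^ f) (Nat.card ↥K) S.index i r := by
  refine ⟨hr, fun hyK => ⟨1, ?_, ?_⟩⟩
  · rw [pow_one]
    exact in_dvd_tnum h.ls.cla (by have := h.q_odd; omega) hr
  · rw [pow_one]
    exact hn hyK

theorem EX.topF (h : EX t p f L G K S t' v f' T k) : TopFacts t p f L := top_facts h.ls.cla h.ls.prime h.p2 h.is

/-- **The orders divisible by a prime of an isolated class.** -/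
theorem EX.top_ub (h : EX t p f L G K S t' v f' T k) {i z m : ℕ} (hz : In t (p ^ f) i z) (ht : top t i)
    (hm : ∃ g : G, orderOf g = m) (hzm : z ∣ m) : m ∣ ttor t (p ^ f) i := by
  obtain ⟨x, hx⟩ := (h.ls.ord m).1 hm
  have h1 := h.topF.ub z hz.prime (hz.not_dvd h.ls.fpos) (by rw [hz.cls_eq]; exact ht) x (by rw [hx]; exact hzm)
  rwa [hx, hz.cls_eq] at h1

/-- the divisors of an order -/
theorem order_dvd {X : Type*} [Group X] [Finite X] {n m : ℕ} (hn : ∃ g : X, orderOf g = n) (hm : m ∣ n) :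
    ∃ g : X, orderOf g = m := by
  obtain ⟨g, rfl⟩ := hn
  obtain ⟨k, hk⟩ := hm
  have h0 := orderOf_pos g
  have hk0 : k ≠ 0 := by
    rintro rfl
    omega
  refine ⟨g ^ k, ?_⟩
  rw [orderOf_pow_of_dvd hk0 (by rw [hk]; exact dvd_mul_left _ _), hk, Nat.mul_div_cancel _ (Nat.pos_of_ne_zero hk0)]

theorem EX.top_elt (h : EX t p f L G K S t' v f' T k) {i m : ℕ} (ht : top t i) (hm : m ∣ ttor t (p ^ f) i) :
    ∃ g : G, orderOf g = m :=
  (h.ls.ord m).2 (order_dvd (h.topF.elt i ht) hm)

end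

end Cfsg.Agent.R2.Spec.EE
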