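import Cfsg.Agent.R2.Spec.EE.SmTFB
import Cfsg.Agent.R2.Spec.EE.SmTool
import Cfsg.Agent.R2.Spec.EE.SmCom
import Cfsg.Agent.R2.Spec.EE.SmGd8
import Cfsg.Agent.R2.Spec.EE.SmN7
import Cfsg.Agent.R2.Spec.EE.RowTF8
import Cfsg.Agent.R2.Spec.F1.ExcTF4

/-!
# Small rank, `S = ²F₄(u)` : `psl 8`, `psu 8`, `oplus 5`, `ominus 5` (helper1)
-/

set_option autoImplicit false
set_option linter.unusedSectionVars false
set_option linter.unusedVariables false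

namespace Cfsg.Agent.R2.Spec.EE

open Subgroup Cfsg
open Cfsg.Agent.H426.LieFam Cfsg.Agent.R2.Spec Cfsg.Agent.R2.Spec.P1 Cfsg.Agent.R2.Spec.F1
open Cfsg.Agent.H365.Zsig

universe u w

/-! ### the tori -/

theorem TFv_le {b n : ℕ} (hb : 1 ≤ b) (h : TFv (b : ℤ) (n : ℤ)) : n ≤ (2 * b ^ 2 + 2 * b + 1) ^ 2 := by
  obtain ⟨c, rfl⟩ : ∃ c, b = c + 1 := ⟨b - 1, by omega⟩
  have h1 : ((n : ℕ) : ℤ) ≤ (2 * ((c : ℤ) + 1) ^ 2 + 2 * ((c : ℤ) + 1) + 1) ^ 2 := by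
    rw [TFv] at h
    push_cast at h
    have hz0 : (0 : ℤ) ≤ (c : ℤ) := Int.natCast_nonneg c
    generalize (c : ℤ) = z at *
    have key : ∀ P : ℤ, (n : ℤ) ∣ P → 0 < P → P ≤ (2 * (z + 1) ^ 2 + 2 * (z + 1) + 1) ^ 2 →
        (n : ℤ) ≤ (2 * (z + 1) ^ 2 + 2 * (z + 1) + 1) ^ 2 := fun P h1 h2 h3 => (Int.le_of_dvd h2 h1).trans h3
    rcases h with h | h | h | h | h | h | h | h | h | h | h
    all_goals
      refine key _ h ?_ (sub_nonneg.1 ?_)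
      · ring_nf; positivity
      · ring_nf; positivity
  exact_mod_cast h1

/-! ### numbers -/

theorem TFv_le' {b n : ℕ} (hb : 1 ≤ b) (h : TFv (b : ℤ) (n : ℤ))
    (hp : ∀ y : ℕ, y.Prime → y ∣ n → ¬ (y : ℤ) ∣ 2 * (b : ℤ) ^ 2 - 1 ∧ ¬ (y : ℤ) ∣ 2 * (b : ℤ) ^ 2 + 1 ∧
      ¬ (y : ℤ) ∣ 4 * (b : ℤ) ^ 4 + 1) : n ≤ 4 * b ^ 4 + 4 * b ^ 3 + 2 * b ^ 2 + 2 * b + 1 := by
  by_contra hcon
  have hn1 : n ≠ 1 := by
    rintro rfl
    apply hcon
    omega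
  obtain ⟨y, hy, hyn⟩ := Nat.exists_prime_and_dvd hn1
  obtain ⟨h1, h2, h3⟩ := hp y hy hyn
  have hyp : Prime (y : ℤ) := Nat.prime_iff_prime_int.1 hy
  have hyn' : (y : ℤ) ∣ (n : ℤ) := Int.natCast_dvd_natCast.2 hyn
  have h4 : ¬ (y : ℤ) ∣ 2 * (b : ℤ) ^ 2 - 2 * b + 1 := fun h4 => h3 (h4.trans ⟨2 * (b : ℤ) ^ 2 + 2 * b + 1, by ring⟩)
  have h5 : ¬ (y : ℤ) ∣ 2 * (b : ℤ) ^ 2 + 2 * b + 1 := fun h4 => h3 (h4.trans ⟨2 * (b : ℤ) ^ 2 - 2 * b + 1, by ring⟩)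
  have hmul : ∀ {A B : ℤ}, ¬ (y : ℤ) ∣ A → ¬ (y : ℤ) ∣ B → ¬ (n : ℤ) ∣ A * B := fun hA hB hd =>
    (hyp.dvd_or_dvd (hyn'.trans hd)).elim hA hB
  have hsq : ∀ {A : ℤ}, ¬ (y : ℤ) ∣ A → ¬ (n : ℤ) ∣ A ^ 2 := fun hA hd => hA (hyp.dvd_of_dvd_pow (hyn'.trans hd))
  have hle : ∀ P : ℤ, (n : ℤ) ∣ P → 0 < P → P ≤ 4 * (b : ℤ) ^ 4 + 4 * b ^ 3 + 2 * b ^ 2 + 2 * b + 1 → False := by
    intro P e1 e2 e3
    have e4 : ((n : ℕ) : ℤ) ≤ 4 * (b : ℤ) ^ 4 + 4 * b ^ 3 + 2 * b ^ 2 + 2 * b + 1 := (Int.le_of_dvd e2 e1).trans e3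
    exact hcon (by exact_mod_cast e4)
  obtain ⟨c, rfl⟩ : ∃ c, b = c + 1 := ⟨b - 1, by omega⟩
  push_cast at *
  have hz0 : (0 : ℤ) ≤ (c : ℤ) := Int.natCast_nonneg c
  generalize (c : ℤ) = z at *
  rcases h with h | h | h | h | h | h | h | h | h | h | h
  · exact hmul h1 h2 h
  · exact hmul h1 h4 h
  · exact hmul h1 h5 h
  · refine hle _ h ?_ (sub_nonneg.1 ?_)
    · ring_nf; positivity
    · ring_nf; positivity
  · refine hle _ h ?_ (sub_nonneg.1 ?_)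
    · ring_nf; positivity
    · ring_nf; positivity
  · exact hsq h1 h
  · exact hmul h5 h4 h
  · exact hsq h2 h
  · exact hsq h4 h
  · exact hsq h5 h
  · refine hle _ h ?_ (sub_nonneg.1 ?_)
    · ring_nf; positivity
    · ring_nf; positivity

/-- the lower bound -/
theorem tf_low {u : ℕ} (hu : 64 ≤ u) : 31 * u ^ 10 ≤ 32 * ((u ^ 2 - 1) * ((u ^ 6 + 1) * (u ^ 2 + 1 - u))) := by
  have h1 : 63 * u ^ 2 ≤ 64 * (u ^ 2 - 1) := by
    have : 64 * 64 ≤ u ^ 2 := by nlinarith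
    omega
  have h2 : 63 * u ^ 2 ≤ 64 * (u ^ 2 + 1 - u) := by
    have : 64 * u ≤ u ^ 2 := by nlinarith
    omega
  have h3 : u ^ 6 ≤ u ^ 6 + 1 := Nat.le_succ _
  have h4 : (63 * u ^ 2) * (u ^ 6 * (63 * u ^ 2)) ≤ (64 * (u ^ 2 - 1)) * ((u ^ 6 + 1) * (64 * (u ^ 2 + 1 - u))) :=
    Nat.mul_le_mul h1 (Nat.mul_le_mul h3 h2)
  generalize u ^ 2 - 1 = A at *
  generalize u ^ 2 + 1 - u = B at *
  have h5 : 3969 * u ^ 10 ≤ 4096 * (A * ((u ^ 6 + 1) * B)) := by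
    calc 3969 * u ^ 10 = (63 * u ^ 2) * (u ^ 6 * (63 * u ^ 2)) := by ring
      _ ≤ _ := h4
      _ = _ := by ring
  omega

theorem two_le_pow' {m : ℕ} (hm : 1 ≤ m) : 2 ^ m = 2 ∨ 2 ^ m = 4 ∨ 8 ≤ 2 ^ m := by
  rcases (by omega : m = 1 ∨ m = 2 ∨ 3 ≤ m) with rfl | rfl | h
  · left; norm_num
  · right; left; norm_num
  · right; right
    calc 8 = 2 ^ 3 := by norm_num
      _ ≤ 2 ^ m := Nat.pow_le_pow_right (by norm_num) h

/-- the left side of (B) -/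
def LB (b : ℕ) : ℕ := 32 * (((2 * b ^ 2) ^ 2 - 1) * (((2 * b ^ 2) ^ 6 + 1) * ((2 * b ^ 2) ^ 2 + 1 - 2 * b ^ 2)))

theorem LB_low {b : ℕ} (hb : 8 ≤ b) : 31744 * (b ^ 4) ^ 5 ≤ LB b := by
  have h1 : 64 ≤ 2 * b ^ 2 := by nlinarith
  calc 31744 * (b ^ 4) ^ 5 = 31 * (2 * b ^ 2) ^ 10 := by ring
    _ ≤ _ := tf_low h1

theorem d5_num {q m M P : ℕ} (hq3 : 3 ≤ q) (hqo : q % 2 = 1) (hm : 1 ≤ m) (hP : P ≤ q ^ 4 + q ^ 3 + q ^ 2 + q + 1)
    (hM : M ∣ q ^ 4 + 1) (hMo : Odd M) (h1 : q ^ 4 + 1 ≤ 2 * M) (hT : TFv ((2 ^ m : ℕ) : ℤ) (M : ℤ))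
    (hB : LB (2 ^ m) ≤ 3 * (max 169 q * (5 * ((q ^ 8 - 1) * ((q ^ 4 + q ^ 2 + 1) * P))))) : False := by
  have h2 := TFv_le Nat.one_le_two_pow hT
  have h3 : q ^ 4 + 1 ≤ 2 * (2 * (2 ^ m) ^ 2 + 2 * 2 ^ m + 1) ^ 2 := h1.trans (Nat.mul_le_mul_left 2 h2)
  have hR : 3 * (max 169 q * (5 * ((q ^ 8 - 1) * ((q ^ 4 + q ^ 2 + 1) * P)))) ≤ 30 * max 169 q * (q ^ 4) ^ 4 := by
    have e1 : 5 * ((q ^ 4 + q ^ 2 + 1) * P) ≤ 10 * q ^ 8 := by
      refine (Nat.mul_le_mul_left 5 (Nat.mul_le_mul_left _ hP)).trans ?_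
      obtain ⟨x, rfl⟩ : ∃ x, q = x + 3 := ⟨q - 3, by omega⟩
      have hx : (5 * (((x : ℤ) + 3) ^ 4 + (x + 3) ^ 2 + 1) * ((x + 3) ^ 4 + (x + 3) ^ 3 + (x + 3) ^ 2 + (x + 3) + 1) : ℤ) ≤
          10 * (x + 3) ^ 8 := by
        have hz0 : (0 : ℤ) ≤ (x : ℤ) := Int.natCast_nonneg x
        generalize (x : ℤ) = z at *
        apply sub_nonneg.1
        ring_nf
        positivity
      have hx' : 5 * ((x + 3) ^ 4 + (x + 3) ^ 2 + 1) * ((x + 3) ^ 4 + (x + 3) ^ 3 + (x + 3) ^ 2 + (x + 3) + 1) ≤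
          10 * (x + 3) ^ 8 := by exact_mod_cast hx
      linarith
    have e2 : q ^ 8 - 1 ≤ q ^ 8 := Nat.sub_le _ _
    calc 3 * (max 169 q * (5 * ((q ^ 8 - 1) * ((q ^ 4 + q ^ 2 + 1) * P)))) =
        3 * max 169 q * ((q ^ 8 - 1) * (5 * ((q ^ 4 + q ^ 2 + 1) * P))) := by ring
      _ ≤ 3 * max 169 q * (q ^ 8 * (10 * q ^ 8)) := Nat.mul_le_mul_left _ (Nat.mul_le_mul e2 e1)
      _ = _ := by ring
  rcases two_le_pow' hm with hb | hb | hb
  · -- `b = 2`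
    rw [hb] at h3 hT
    have hq : q ≤ 4 := by
      by_contra hc
      have : 5 ^ 4 ≤ q ^ 4 := Nat.pow_le_pow_left (by omega) 4
      omega
    have : q = 3 := by omega
    subst this
    obtain ⟨k, hk⟩ := hM
    have hk2 : k ≤ 2 := by
      by_contra hc
      have : M * 3 ≤ M * k := Nat.mul_le_mul_left M (by omega)
      omega
    obtain ⟨j, hj⟩ := hMo
    interval_cases k
    · omega
    · omega
    · have : M = 41 := by omega
      rw [this, TFv] at hT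
      norm_num at hT
  · -- `b = 4`
    rw [hb] at h3 hT
    have hq : q ≤ 8 := by
      by_contra hc
      have : 9 ^ 4 ≤ q ^ 4 := Nat.pow_le_pow_left (by omega) 4
      omega
    have hB' := hB.trans hR
    rw [hb] at hB'
    rcases (by omega : q = 3 ∨ q = 5 ∨ q = 7) with rfl | rfl | rfl
    · exact absurd hB' (by rw [LB]; norm_num)
    · exact absurd hB' (by rw [LB]; norm_num)
    · obtain ⟨k, hk⟩ := hM
      have hk2 : k ≤ 2 := by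
        by_contra hc
        have : M * 3 ≤ M * k := Nat.mul_le_mul_left M (by omega)
        omega
      obtain ⟨j, hj⟩ := hMo
      interval_cases k
      · omega
      · omega
      · have : M = 1201 := by omega
        rw [this, TFv] at hT
        norm_num at hT
  · -- `8 ≤ b`
    generalize 2 ^ m = b at *
    have hB' := (LB_low hb).trans (hB.trans hR)
    have h4 : 64 * (2 * b ^ 2 + 2 * b + 1) ≤ 145 * b ^ 2 := by nlinarith
    have h5 : 10 * q ^ 4 ≤ 103 * b ^ 4 := by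
      have e1 := Nat.pow_le_pow_left h4 2
      have e2 : (145 * b ^ 2) ^ 2 = 21025 * b ^ 4 := by ring
      have e3 : (64 * (2 * b ^ 2 + 2 * b + 1)) ^ 2 = 4096 * (2 * b ^ 2 + 2 * b + 1) ^ 2 := by ring
      rw [e2, e3] at e1
      omega
    have h6 : 8 ^ 4 ≤ b ^ 4 := Nat.pow_le_pow_left hb 4
    generalize b ^ 4 = X at *
    have e5 : 317440000 * X ≤ 3376526430 * max 169 q := by
      have e1 := Nat.pow_le_pow_left h5 4
      have e2 : X ^ 4 * (317440000 * X) ≤ X ^ 4 * (3376526430 * max 169 q) := by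
        calc X ^ 4 * (317440000 * X) = 10000 * (31744 * X ^ 5) := by ring
          _ ≤ 10000 * (30 * max 169 q * (q ^ 4) ^ 4) := Nat.mul_le_mul_left _ hB'
          _ = 30 * max 169 q * (10 * q ^ 4) ^ 4 := by ring
          _ ≤ 30 * max 169 q * (103 * X) ^ 4 := Nat.mul_le_mul_left _ e1
          _ = _ := by ring
      exact Nat.le_of_mul_le_mul_left e2 (Nat.pow_pos (by omega))
    rcases Nat.lt_or_ge q 169 with hq | hq
    · rw [max_eq_left hq.le] at e5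
      omega
    · rw [max_eq_right hq] at e5
      have e6 : 169 ^ 3 * q ≤ q ^ 4 := by
        calc 169 ^ 3 * q ≤ q ^ 3 * q := Nat.mul_le_mul_right _ (Nat.pow_le_pow_left hq 3)
          _ = q ^ 4 := by ring
      omega

theorem l8_num {q m M Φ R tn : ℕ} (hq3 : 3 ≤ q) (hqo : q % 2 = 1) (hm : 1 ≤ m) (hMd : M ∣ tn) (hMo : Odd M)
    (htn : q = 3 → tn = 2186 ∨ tn = 2188) (hΦ : 3 * q ^ 6 ≤ 4 * Φ) (h1 : Φ ≤ 7 * M)
    (h2 : M ≤ 4 * (2 ^ m) ^ 4 + 4 * (2 ^ m) ^ 3 + 2 * (2 ^ m) ^ 2 + 2 * 2 ^ m + 1) (hR : R ≤ 3 * q ^ 22)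
    (hB : LB (2 ^ m) ≤ 3 * (max 169 q * R)) : False := by
  have h3 : 3 * q ^ 6 ≤ 28 * (4 * (2 ^ m) ^ 4 + 4 * (2 ^ m) ^ 3 + 2 * (2 ^ m) ^ 2 + 2 * 2 ^ m + 1) := by omega
  have hB' : LB (2 ^ m) ≤ 9 * max 169 q * q ^ 22 := by
    refine hB.trans ?_
    calc 3 * (max 169 q * R) ≤ 3 * (max 169 q * (3 * q ^ 22)) := Nat.mul_le_mul_left _ (Nat.mul_le_mul_left _ hR)
      _ = _ := by ring
  rcases two_le_pow' hm with hb | hb | hb
  · -- `b = 2`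
    rw [hb] at h3 h2
    have hq : q ≤ 4 := by
      by_contra hc
      have : 5 ^ 6 ≤ q ^ 6 := Nat.pow_le_pow_left (by omega) 6
      omega
    have : q = 3 := by omega
    subst this
    have e1 : ∀ M : ℕ, M < 110 → 78 < M → M % 2 = 1 → ¬ M ∣ 2186 ∧ ¬ M ∣ 2188 := by decide +kernel
    have e2 := e1 M (by omega) (by omega) (Nat.odd_iff.1 hMo)
    rcases htn rfl with rfl | rfl
    · exact e2.1 hMd
    · exact e2.2 hMd
  · -- `b = 4`
    rw [hb] at h3 hB'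
    have hq : q ≤ 4 := by
      by_contra hc
      have : 5 ^ 6 ≤ q ^ 6 := Nat.pow_le_pow_left (by omega) 6
      omega
    have : q = 3 := by omega
    subst this
    exact absurd hB' (by rw [LB]; norm_num)
  · -- `8 ≤ b`
    generalize 2 ^ m = b at *
    have hB2 := (LB_low hb).trans hB'
    have h4 : 28 * (4 * b ^ 4 + 4 * b ^ 3 + 2 * b ^ 2 + 2 * b + 1) ≤ 129 * b ^ 4 := by
      have e1 : 8 * b ^ 3 ≤ b ^ 4 := by
        calc 8 * b ^ 3 ≤ b * b ^ 3 := Nat.mul_le_mul_right _ hb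
          _ = b ^ 4 := by ring
      have e2 : 8 * b ^ 2 ≤ b ^ 3 := by
        calc 8 * b ^ 2 ≤ b * b ^ 2 := Nat.mul_le_mul_right _ hb
          _ = b ^ 3 := by ring
      have e3 : 8 * b ≤ b ^ 2 := by nlinarith
      omega
    have h5 : q ^ 6 ≤ 43 * b ^ 4 := by omega
    have h6 : 8 ^ 4 ≤ b ^ 4 := Nat.pow_le_pow_left hb 4
    generalize b ^ 4 = X at *
    have e5 : 31744 ^ 3 * X ^ 4 ≤ 729 * 43 ^ 11 * (max 169 q) ^ 3 := by
      have e1 := Nat.pow_le_pow_left hB2 3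
      have e3 := Nat.pow_le_pow_left h5 11
      have e2 : X ^ 11 * (31744 ^ 3 * X ^ 4) ≤ X ^ 11 * (729 * 43 ^ 11 * (max 169 q) ^ 3) := by
        calc X ^ 11 * (31744 ^ 3 * X ^ 4) = (31744 * X ^ 5) ^ 3 := by ring
          _ ≤ (9 * max 169 q * q ^ 22) ^ 3 := e1
          _ = 729 * (max 169 q) ^ 3 * (q ^ 6) ^ 11 := by ring
          _ ≤ 729 * (max 169 q) ^ 3 * (43 * X) ^ 11 := Nat.mul_le_mul_left _ e3
          _ = _ := by ring
      exact Nat.le_of_mul_le_mul_left e2 (Nat.pow_pos (by omega))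
    have e7 : 4096 ^ 4 ≤ X ^ 4 := Nat.pow_le_pow_left (by omega) 4
    rcases Nat.lt_or_ge q 169 with hq | hq
    · rw [max_eq_left hq.le] at e5
      norm_num at e5 e7
      omega
    · rw [max_eq_right hq] at e5
      have e6 := Nat.pow_le_pow_left h5 4
      have e8 : 169 ^ 21 * q ^ 3 ≤ (q ^ 6) ^ 4 := by
        calc 169 ^ 21 * q ^ 3 ≤ q ^ 21 * q ^ 3 := Nat.mul_le_mul_right _ (Nat.pow_le_pow_left hq 21)
          _ = (q ^ 6) ^ 4 := by ring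
      have e9 : (43 * X) ^ 4 = 43 ^ 4 * X ^ 4 := by ring
      rw [e9] at e6
      have e10 : 1 ≤ q ^ 3 := Nat.one_le_pow _ _ (by omega)
      generalize (q ^ 6) ^ 4 = A at *
      generalize X ^ 4 = B at *
      generalize q ^ 3 = C at *
      norm_num at e5 e6 e8
      omega

/-- the elements of odd order of `²F₄` -/
theorem tf4_odd {X : Type u} [Group X] {v f' : ℕ} (hS : Fam.Is v f' X .tf4) :
    v = 2 ∧ ∃ m, 1 ≤ m ∧ f' = 2 * m + 1 ∧ (∀ x : X, (orderOf x).Coprime 2 → TFv ((2 ^ m : ℕ) : ℤ) (orderOf x : ℕ)) ∧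
      ∃ x : X, orderOf x = 3 * 2 := by
  obtain ⟨rfl, m, hm, rfl, F, _, _, hF, ⟨e⟩⟩ := id hS
  refine ⟨rfl, m, hm, rfl, fun x hx => ?_, ?_⟩
  · have h1 := odd_ord hF (e x) (by rwa [MulEquiv.orderOf_eq])
    rw [MulEquiv.orderOf_eq] at h1
    push_cast
    exact h1
  · obtain ⟨x, hx⟩ := tf4_two hF Nat.prime_three (by norm_num) (i := 1) (by norm_num) (by
      show ((3 : ℕ) : ℤ) ∣ 2 * ((2 : ℤ) ^ m) ^ 2 + 1
      have h1 := b2_mod3 m
      have h2 : 3 ∣ 2 * (2 ^ m) ^ 2 + 1 := by omega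
      exact_mod_cast h2)
    exact ⟨e.symm x, by rw [MulEquiv.orderOf_eq, hx]⟩

section main

variable {t : Fam} {p f : ℕ} {L : Type w} [Group L] [Finite L] {G : Type u} [Group G] [Finite G]
  {K : Subgroup G} [K.Normal] {S : Subgroup (G ⧸ K)} [S.Normal] {v f' : ℕ}

/-- the class 8 is not in `K` -/
theorem d5_not_K (h : EX t p f L G K S .tf4 v f' tabTF4 (kTF4 f')) {i k : ℕ} (hki : na t i k)
    (hni : nap t i) (hnk : nap t k) (hk3 : 3 ≤ k) (hmk : mem t k) (m3 : mem t 3) (m6 : mem t 6) (h3 : na t i 3)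
    (h6 : na t i 6) (h36 : na t 3 6) (n3 : ¬ nap t 3) (n6 : ¬ nap t 6) {y : ℕ} (hy : In t (p ^ f) i y) :
    ¬ y ∣ Nat.card ↥K := by
  intro hyK
  obtain ⟨hv2, m, hm, hf', -, hx6⟩ := tf4_odd h.frm.is
  have hyp := hy.prime
  have hy5 := hy.five
  obtain ⟨a, ha⟩ := h.exists_in (i := 3) (by norm_num) m3
  obtain ⟨b, hb⟩ := h.exists_in (i := 6) (by norm_num) m6
  obtain ⟨c, hc⟩ := h.exists_in hk3 hmk
  have hbad : y ∣ Nat.card ↥K * S.index := hyK.mul_right _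
  have hyp' : y ≠ p := fun h1 => hy.not_dvd h.ls.fpos (by rw [h1])
  have hap' : a ≠ p := fun h1 => ha.not_dvd h.ls.fpos (by rw [h1])
  have hbp' : b ≠ p := fun h1 => hb.not_dvd h.ls.fpos (by rw [h1])
  have hcp' : c ≠ p := fun h1 => hc.not_dvd h.ls.fpos (by rw [h1])
  have hyc := hy.ne hc (na_ne hki)
  have hya := hy.ne ha (na_ne h3)
  have hyb := hy.ne hb (na_ne h6)
  have hab := ha.ne hb (na_ne h36)
  have hpG : p ∣ Nat.card G := (h.ls.dvd_iff h.ls.prime).2 h.ls.pdvd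
  have hyv : y ≠ v := by rw [hv2]; exact hy.ne_two
  -- good primes
  have hnp : ¬ ∃ g : G, orderOf g = y * p := fun hg => (h.ls.adjp_iff hy).1 hg hni
  obtain ⟨hpg, hpS⟩ := Red.two_bad h.red hyp h.ls.prime hc.prime (hy.dvd h.ls) hpG (hc.dvd h.ls) hyp' hyc hcp'.symm
    hnp (fun hg => (h.ls.adj_iff hy hc hyc).1 hg hki)
    (fun hg => (h.ls.adjp_iff hc).1 (by rwa [mul_comm] at hg) hnk) hbad
  obtain ⟨hag, haS⟩ := h.ls.good_of_bad h.red hy ha hb h3 h6 h36 hbad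
  obtain ⟨hbg, hbS⟩ := h.ls.good_of_bad h.red hy hb ha h6 h3 (na_symm h36) hbad
  -- not adjacent to 2 in `S`
  have no2 : ∀ x : ℕ, x.Prime → x ≠ 2 → x ≠ y → (¬ ∃ g : G, orderOf g = y * x) → ¬ ∃ g : S, orderOf g = x * v :=
    fun x hx hx2 hxy hno hg => hno (h.frm.kadj_tf4 hyp hyK hyv hx hx2 hxy hg)
  have hp2 := no2 p h.ls.prime h.p2 hyp'.symm hnp
  have ha2 := no2 a ha.prime ha.ne_two hya.symm (fun hg => (h.ls.adj_iff hy ha hya).1 hg h3)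
  have hb2 := no2 b hb.prime hb.ne_two hyb.symm (fun hg => (h.ls.adj_iff hy hb hyb).1 hg h6)
  have hp3 : p ≠ 3 := by
    intro h1
    rw [h1, hv2] at hp2
    exact hp2 hx6
  have hp5 : 5 ≤ p := by
    have h1 := h.ls.prime.two_le
    have h2 := h.p2
    have h4 : p ≠ 4 := fun h4 => by
      have h5 := h.ls.prime
      rw [h4] at h5
      norm_num at h5
    omega
  have key : ∀ x : ℕ, x.Prime → 5 ≤ x → x ∣ Nat.card ↥S → (¬ ∃ g : S, orderOf g = x * v) → x ≠ v ∧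
      (kTF4 f' x = 3 ∨ kTF4 f' x = 4 ∨ kTF4 f' x = 5) := by
    intro x hx hx5 hxS hno
    have hxv : x ≠ v := by omega
    refine ⟨hxv, ?_⟩
    have h1 := h.ef.sok.lt x hx hx5 hxv hxS
    have h2 : ¬ tabTF4.nt.testBit (kTF4 f' x) = true := fun h2 => hno (h.ef.sok.nt x hx hx5 hxv hxS h2)
    generalize kTF4 f' x = i at *
    change i < 6 at h1
    interval_cases i
    · exact absurd rfl h2
    · exact absurd rfl h2
    · exact absurd rfl h2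
    · exact Or.inl rfl
    · exact Or.inr (Or.inl rfl)
    · exact Or.inr (Or.inr rfl)
  obtain ⟨hpv, kp⟩ := key p h.ls.prime hp5 hpS hp2
  obtain ⟨hav, ka⟩ := key a ha.prime ha.five haS ha2
  obtain ⟨hbv, kb⟩ := key b hb.prime hb.five hbS hb2
  have e1 : kTF4 f' a = kTF4 f' p := by
    have h1 : ¬ (tabTF4.na.getD (kTF4 f' a) 0).testBit (kTF4 f' p) = true := fun h1 =>
      h.ef.sok.na a p ha.prime h.ls.prime ha.five hp5 hav hpv hap' haS hpS h1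
        (adj_S_of_good ha.prime h.ls.prime hag hpg ((h.ls.adjp_iff ha).2 n3))
    rcases ka with e | e | e <;> rcases kp with e' | e' | e' <;> rw [e, e'] at h1 ⊢ <;> exact absurd (by decide) h1
  have e2 : kTF4 f' b = kTF4 f' p := by
    have h1 : ¬ (tabTF4.na.getD (kTF4 f' b) 0).testBit (kTF4 f' p) = true := fun h1 =>
      h.ef.sok.na b p hb.prime h.ls.prime hb.five hp5 hbv hpv hbp' hbS hpS h1
        (adj_S_of_good hb.prime h.ls.prime hbg hpg ((h.ls.adjp_iff hb).2 n6))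
    rcases kb with e | e | e <;> rcases kp with e' | e' | e' <;> rw [e, e'] at h1 ⊢ <;> exact absurd (by decide) h1
  have h1 := h.ef.sok.adj a b ha.prime hb.prime ha.five hb.five hav hbv hab haS hbS (by
    rw [e2, e1]
    rcases kp with e | e | e <;> rw [e] <;> decide)
  exact (h.ls.adj_iff ha hb hab).1 (exists_of_S h1) h36

/-- **The number of the class `i`.** -/
theorem cl_tf4 (h : EX t p f L G K S .tf4 v f' tabTF4 (kTF4 f')) {i l : ℕ} (hi : 3 ≤ i) (hm : mem t i)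
    (hK : ∀ y, In t (p ^ f) i y → ¬ y ∣ Nat.card ↥K) (hx : ∀ y, In t (p ^ f) i y → ¬ y ∣ Nat.card ↥K → ¬ y ∣ S.index)
    (hl : ∀ r : ℕ, r.Prime → r ∣ idx t i → r ≤ l) (hl1 : 1 ≤ l) :
    v = 2 ∧ ∃ m, 1 ≤ m ∧ f' = 2 * m + 1 ∧ ∃ M : ℕ, M ∣ tnum t (p ^ f) i ∧ Odd M ∧
      TFv ((2 ^ m : ℕ) : ℤ) (M : ℤ) ∧ (∀ r, r.Prime → r ∣ M → In t (p ^ f) i r) ∧
      Ph (idx t i) (p ^ f) ≤ l * M := by
  obtain ⟨hq, hq3⟩ := h.q_odd
  obtain ⟨hv2, m, hm1, hf', ho, -⟩ := tf4_odd h.frm.is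
  obtain ⟨M, h1, h2, h3, h4⟩ := class_num6 h.ls.cla hq hq3 hi hm hl hl1
  refine ⟨hv2, m, hm1, hf', M, h1, h2, ?_, h3, h4⟩
  obtain ⟨g, hg⟩ := exists_tor h.ls h.is hi hm h2 h1 h3
  obtain ⟨s, hs⟩ := exists_of_coprime (S := S) hg (fun y hy hd => hK y (h3 y hy hd))
    (fun y hy hd => hx y (h3 y hy hd) (hK y (h3 y hy hd)))
  have h5 := ho s (by rw [hs]; exact Nat.coprime_two_right.2 h2)
  rw [hs] at h5
  exact h5

/-- **`S = ²F₄(u)`, `psl 8`, `psu 8`** -/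
theorem sm_tf_l8 (h : EX t p f L G K S .tf4 v f' tabTF4 (kTF4 f')) (ht : t = .psl 8 ∨ t = .psu 8) : False := by
  have hgd := h.gd8_tf4 ht
  obtain ⟨hq, hq3⟩ := h.q_odd
  have m7 : mem t 7 := by rcases ht with rfl | rfl <;> exact mem_of_memB (by decide)
  have hidx : idx t 7 = 7 ∨ idx t 7 = 14 := by
    rcases ht with rfl | rfl
    · exact Or.inl (by decide)
    · exact Or.inr (by decide)
  have hk : (dat tabTF4.tbl t (cls3 t)).go (cls3 t).length (st0 tabTF4.tbl (cls3 t) (tabTF4.domX 7 56)) 0 = false := by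
    rcases ht with rfl | rfl
    · exact qtf8_psl
    · exact qtf8_psu
  have htri : triB t 7 8 5 = true := by rcases ht with rfl | rfl <;> decide
  have hx : ∀ y, In t (p ^ f) 7 y → ¬ y ∣ Nat.card ↥K → ¬ y ∣ S.index := fun y hy hK =>
    h.nix [8] (fun l hl => ⟨5, by rw [List.mem_singleton.1 hl]; exact htri⟩) (kl8 (by norm_num) (by norm_num)) hy hK
  have hv : ∀ y, In t (p ^ f) 7 y → ¬ y ∣ Nat.card ↥K ∧ (56 : ℕ).testBit (kTF4 f' y) = true := fun y hy =>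
    (val_mask (T := tabTF4) (by decide) (h.row_val hgd hk (h.gd_of hy (hx y hy)))).2
  obtain ⟨hv2, m, hm1, hf', M, h1, h2, h3, h4, h5⟩ := cl_tf4 h (i := 7) (l := 7) (by norm_num) m7
    (fun y hy => (hv y hy).1) hx (by rcases hidx with e | e <;> rw [e] <;> exact prime_le (by norm_num) (by decide))
    (by norm_num)
  have h6 := TFv_le' Nat.one_le_two_pow h3 (by
    intro y hy hyM
    obtain ⟨-, h7⟩ := hv y (h4 y hy hyM)
    have e0 : ∀ j, ¬ (56 : ℕ).testBit j = true → kTF4 f' y ≠ j := by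
      rintro j hj rfl
      exact hj h7
    have h8 := e0 0 (by decide)
    have h9 := e0 1 (by decide)
    have h10 := e0 2 (by decide)
    rw [kTF4] at h8 h9 h10
    have c0 : ¬ y ∣ 2 ^ f' - 1 := fun hd => h8 (by rw [if_pos hd])
    have c1 : ¬ y ∣ 2 ^ f' + 1 := fun hd => h9 (by rw [if_neg c0, if_pos hd])
    have c2 : ¬ y ∣ (2 ^ f') ^ 2 + 1 := fun hd => h10 (by rw [if_neg c0, if_neg c1, if_pos hd])
    have hf2 : 2 ^ f' = 2 * (2 ^ m) ^ 2 := by rw [hf', ← pow_mul]; ring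
    rw [hf2] at c0 c1 c2
    have hb : 1 ≤ (2 ^ m) ^ 2 := Nat.one_le_pow _ _ (Nat.two_pow_pos m)
    refine ⟨fun hd => c0 ?_, fun hd => c1 ?_, fun hd => c2 ?_⟩
    · rw [← Int.natCast_dvd_natCast, Nat.cast_sub (by omega)]
      push_cast
      push_cast at hd
      exact hd
    · exact_mod_cast hd
    · have : (y : ℤ) ∣ (((2 * (2 ^ m) ^ 2) ^ 2 + 1 : ℕ) : ℤ) := by
        push_cast
        push_cast at hd
        exact hd.trans (dvd_of_eq (by ring))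
      exact_mod_cast this)
  have hB := tf4_big10R h.ls h.is h.p2 (by rcases ht with rfl | rfl <;> exact le_rfl)
    (by rcases ht with rfl | rfl <;> exact le_rfl) h.frm.is
  have hu : v ^ f' = 2 * (2 ^ m) ^ 2 := by rw [hv2, hf', ← pow_mul]; ring
  rw [hu] at hB
  have hR : RR t (p ^ f) ≤ 3 * (p ^ f) ^ 22 := by
    rcases ht with rfl | rfl
    · exact RR_psl8 hq3
    · exact (RR_psu8 hq3).trans (Nat.mul_le_mul_right _ (by norm_num))
  refine l8_num (Φ := Ph (idx t 7) (p ^ f)) hq3 hq hm1 h1 h2 ?_ (six_le'' hidx hq3) h5 h6 hR hB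
  intro hq
  rw [hq]
  rcases ht with rfl | rfl
  · left; decide
  · right; decide

/-! ### `oplus 5`, `ominus 5` -/

theorem nm5 {x : ℤ} {y e : ℕ} (hy : y.Prime) (hd : (y : ℤ) ^ e ∣ x ^ 5 - 1)
    (h5 : orderOf (x : ZMod y) ≠ 5) : (y : ℤ) ^ e ∣ 5 * (x - 1) := by
  rcases Nat.eq_zero_or_pos e with he | he
  · rw [he, pow_zero]; exact one_dvd _
  have hyp : Prime (y : ℤ) := Nat.prime_iff_prime_int.1 hy
  have hfac : x ^ 5 - 1 = (x - 1) * (x ^ 4 + x ^ 3 + x ^ 2 + x + 1) := by ring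
  have h1 : (y : ℤ) ∣ x - 1 := by
    have h2 : ((x : ZMod y)) ^ 5 = 1 := by
      have h3 : ((x ^ 5 - 1 : ℤ) : ZMod y) = 0 :=
        (ZMod.intCast_zmod_eq_zero_iff_dvd _ _).2 ((dvd_pow_self _ (by omega)).trans hd)
      push_cast at h3
      linear_combination h3
    have h4 := orderOf_dvd_of_pow_eq_one h2
    have h6 := (Nat.dvd_prime Nat.prime_five).1 h4
    have h7 : orderOf (x : ZMod y) = 1 := h6.resolve_right h5
    rw [orderOf_eq_one_iff] at h7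
    rw [← ZMod.intCast_zmod_eq_zero_iff_dvd]
    push_cast
    rw [h7, sub_self]
  rw [hfac] at hd
  by_cases hy5 : y = 5
  · subst hy5
    obtain ⟨z, hz⟩ := h1
    have hx : x = 1 + 5 * z := by push_cast at hz; linarith
    have h2 : x ^ 4 + x ^ 3 + x ^ 2 + x + 1 = 5 * (1 + 5 * (2 * z + 10 * z ^ 2 + 25 * z ^ 3 + 25 * z ^ 4)) := by
      rw [hx]
      ring
    have h3 : IsCoprime (((5 : ℕ) : ℤ) ^ e) (1 + 5 * (2 * z + 10 * z ^ 2 + 25 * z ^ 3 + 25 * z ^ 4)) := by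
      apply IsCoprime.pow_left
      exact ⟨-(2 * z + 10 * z ^ 2 + 25 * z ^ 3 + 25 * z ^ 4), 1, by push_cast; ring⟩
    rw [h2, ← mul_assoc] at hd
    rw [mul_comm 5]
    exact h3.dvd_of_dvd_mul_right hd
  · have h2 : IsCoprime ((y : ℤ) ^ e) (x ^ 4 + x ^ 3 + x ^ 2 + x + 1) := by
      refine IsCoprime.pow_left ((Prime.coprime_iff_not_dvd hyp).2 fun h3 => hy5 ?_)
      have h4 : (y : ℤ) ∣ 5 := by
        have h6 : (5 : ℤ) = (x ^ 4 + x ^ 3 + x ^ 2 + x + 1) - (x - 1) * (x ^ 3 + 2 * x ^ 2 + 3 * x + 4) := by ring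
        rw [h6]
        exact dvd_sub h3 (h1.mul_right _)
      have h6 : y ∣ 5 := by exact_mod_cast h4
      exact (Nat.prime_dvd_prime_iff_eq hy Nat.prime_five).1 h6
    exact (h2.dvd_of_dvd_mul_right hd).mul_left _

/-- the number -/
def RD (q P : ℕ) : ℕ := 5 * ((q ^ 8 - 1) * ((q ^ 4 + q ^ 2 + 1) * P))

theorem RD_cast {q P : ℕ} (hq : 1 ≤ q) : ((RD q P : ℕ) : ℤ) =
    5 * (((q : ℤ) ^ 8 - 1) * (((q : ℤ) ^ 4 + q ^ 2 + 1) * P)) := by
  rw [RD]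
  push_cast [Nat.cast_sub (Nat.one_le_pow 8 q hq)]
  ring

/-- the order of `-x` -/
theorem ord_neg5 {y : ℕ} (hy : y.Prime) (hy3 : 3 ≤ y) {x : ℤ} (h : orderOf ((-x : ℤ) : ZMod y) = 5) :
    orderOf (x : ZMod y) = 10 := by
  have := Fact.mk hy
  have h1 : (x : ZMod y) = (-1) * ((-x : ℤ) : ZMod y) := by push_cast; ring
  have h2 : orderOf (-1 : ZMod y) = 2 := by
    refine orderOf_eq_prime (by norm_num) ?_
    intro h3
    have h4 : ((2 : ℕ) : ZMod y) = 0 := by push_cast; linear_combination -h3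
    rw [ZMod.natCast_eq_zero_iff] at h4
    have := Nat.le_of_dvd (by norm_num) h4
    omega
  rw [h1, (Commute.all _ _).orderOf_mul_eq_mul_orderOf_of_coprime (by rw [h2, h]; norm_num), h2, h]

theorem d5_hR (h : LS t p f L G) (hI : Fam.Is p f L t) (hp2 : p ≠ 2) {P : ℕ}
    (ht : (t = .oplus 5 ∧ (P : ℤ) = ((p ^ f : ℕ) : ℤ) ^ 4 + ((p ^ f : ℕ) : ℤ) ^ 3 + ((p ^ f : ℕ) : ℤ) ^ 2 + ((p ^ f : ℕ) : ℤ) + 1) ∨
      (t = .ominus 5 ∧ (P : ℤ) = ((p ^ f : ℕ) : ℤ) ^ 4 - ((p ^ f : ℕ) : ℤ) ^ 3 + ((p ^ f : ℕ) : ℤ) ^ 2 - ((p ^ f : ℕ) : ℤ) + 1))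
    {y e : ℕ} (hy : y.Prime) (hy3 : 3 ≤ y) (hyp : y ≠ p) (he : 1 ≤ e) (hx : ∃ x : L, orderOf x = y ^ e) :
    y ^ e ∣ RD (p ^ f) P := by
  have hq2 := h.q_pos
  have hypf : ¬ y ∣ p := fun hd => hyp ((Nat.prime_dvd_prime_iff_eq hy h.prime).1 hd)
  obtain ⟨i, hi1, hi2, hd⟩ := lexp h.cla h.prime hp2 hI hy (by omega) hyp hx
  have hyL : y ∣ Nat.card L := by
    obtain ⟨x, hx⟩ := hx
    exact ((dvd_pow_self y (by omega)).trans (dvd_of_eq hx.symm)).trans (orderOf_dvd_natCard x)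
  have hmem : 3 ≤ cls t (p ^ f) y → mem t (cls t (p ^ f) y) := fun h3 =>
    (h.adj.dvd y hy (by omega) hypf h3).1 hyL
  rw [← Int.natCast_dvd_natCast, RD_cast (by omega)]
  have he5 : wt t i = eta i := by rcases ht with ⟨rfl, -⟩ | ⟨rfl, -⟩ <;> rfl
  have hr5 : rk t = 5 := by rcases ht with ⟨rfl, -⟩ | ⟨rfl, -⟩ <;> rfl
  have htn : tnum t (p ^ f) i = if Even i then (p ^ f) ^ (i / 2) + 1 else (p ^ f) ^ i - 1 := by
    rcases ht with ⟨rfl, -⟩ | ⟨rfl, -⟩ <;> rfl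
  have hcls : cls t (p ^ f) y = orderOf ((((p ^ f : ℕ) : ℤ)) : ZMod y) := by
    rcases ht with ⟨rfl, -⟩ | ⟨rfl, -⟩ <;> rfl
  rw [hcls] at hmem
  rw [he5, hr5] at hi2
  rw [htn] at hd
  have hi10 : i ≤ 10 := by
    rw [eta] at hi2
    split_ifs at hi2 <;> omega
  have hdz : ∀ {z : ℤ}, ((if Even i then (p ^ f) ^ (i / 2) + 1 else (p ^ f) ^ i - 1 : ℕ) : ℤ) = z → ((y : ℤ)) ^ e ∣ z := by
    intro z hz
    rw [← hz]
    have := Int.natCast_dvd_natCast.2 hd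
    rwa [Nat.cast_pow] at this
  generalize hQ : p ^ f = q at *
  have hcast : ∀ n : ℕ, ((q ^ n - 1 : ℕ) : ℤ) = (q : ℤ) ^ n - 1 := fun n => by
    rw [Nat.cast_sub (Nat.one_le_pow _ _ (by omega))]
    push_cast
    rfl
  push_cast
  interval_cases i
  · have h1 := hdz (z := (q : ℤ) - 1) (by rw [if_neg (by decide), hcast]; ring)
    exact h1.trans ⟨5 * ((q : ℤ) + 1) * (q ^ 2 + 1) * (q ^ 4 + 1) * (q ^ 4 + q ^ 2 + 1) * P, by ring⟩
  · have h1 := hdz (z := (q : ℤ) + 1) (by rw [if_pos (by decide)]; push_cast; ring)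
    exact h1.trans ⟨5 * ((q : ℤ) - 1) * (q ^ 2 + 1) * (q ^ 4 + 1) * (q ^ 4 + q ^ 2 + 1) * P, by ring⟩
  · have h1 := hdz (z := (q : ℤ) ^ 3 - 1) (by rw [if_neg (by decide), hcast])
    exact h1.trans ⟨5 * ((q : ℤ) + 1) * (q ^ 2 + 1) * (q ^ 4 + 1) * (q ^ 2 - q + 1) * P, by ring⟩
  · have h1 := hdz (z := (q : ℤ) ^ 2 + 1) (by rw [if_pos (by decide)]; push_cast; ring)
    exact h1.trans ⟨5 * ((q : ℤ) - 1) * (q + 1) * (q ^ 4 + 1) * (q ^ 4 + q ^ 2 + 1) * P, by ring⟩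
  · have h1 := hdz (z := (q : ℤ) ^ 5 - 1) (by rw [if_neg (by decide), hcast])
    rcases ht with ⟨rfl, hP⟩ | ⟨rfl, hP⟩
    · refine h1.trans ⟨5 * ((q : ℤ) + 1) * (q ^ 2 + 1) * (q ^ 4 + 1) * (q ^ 4 + q ^ 2 + 1), ?_⟩
      rw [hP]
      ring
    · have h2 := nm5 hy h1 (fun h5 => by
        have h3 := hmem (by rw [h5]; norm_num)
        rw [h5] at h3
        rcases h3 with h3 | h3
        · exact absurd h3 (by decide)
        · exact absurd h3 (by decide))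
      exact h2.trans ⟨((q : ℤ) + 1) * (q ^ 2 + 1) * (q ^ 4 + 1) * (q ^ 4 + q ^ 2 + 1) * P, by ring⟩
  · have h1 := hdz (z := (q : ℤ) ^ 3 + 1) (by rw [if_pos (by decide)]; push_cast; ring)
    exact h1.trans ⟨5 * ((q : ℤ) - 1) * (q ^ 2 + 1) * (q ^ 4 + 1) * (q ^ 2 + q + 1) * P, by ring⟩
  · exact absurd hi2 (by decide)
  · have h1 := hdz (z := (q : ℤ) ^ 4 + 1) (by rw [if_pos (by decide)]; push_cast; ring)
    exact h1.trans ⟨5 * ((q : ℤ) ^ 4 - 1) * (q ^ 4 + q ^ 2 + 1) * P, by ring⟩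
  · exact absurd hi2 (by decide)
  · have h1 := hdz (z := (q : ℤ) ^ 5 + 1) (by rw [if_pos (by decide)]; push_cast; ring)
    rcases ht with ⟨rfl, hP⟩ | ⟨rfl, hP⟩
    · have h2 := nm5 (x := -(q : ℤ)) (e := e) hy (by
        have e1 : (-(q : ℤ)) ^ 5 - 1 = -((q : ℤ) ^ 5 + 1) := by ring
        rw [e1, dvd_neg]
        exact h1) (fun h5 => by
        have h6 := ord_neg5 hy hy3 h5
        have h3 := hmem (by rw [h6]; norm_num)
        rw [h6] at h3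
        rcases h3 with h3 | h3
        · exact absurd h3 (by decide)
        · exact absurd h3.1 (by decide))
      exact h2.trans ⟨-((q : ℤ) - 1) * (q ^ 2 + 1) * (q ^ 4 + 1) * (q ^ 4 + q ^ 2 + 1) * P, by ring⟩
    · refine h1.trans ⟨5 * ((q : ℤ) - 1) * (q ^ 2 + 1) * (q ^ 4 + 1) * (q ^ 4 + q ^ 2 + 1), ?_⟩
      rw [hP]
      ring

/-- **`S = ²F₄(u)`, `oplus 5`, `ominus 5`** -/
theorem sm_tf_d5 (h : EX t p f L G K S .tf4 v f' tabTF4 (kTF4 f')) (ht : t = .oplus 5 ∨ t = .ominus 5) : False := by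
  obtain ⟨hq, hq3⟩ := h.q_odd
  have hK : ∀ y, In t (p ^ f) 8 y → ¬ y ∣ Nat.card ↥K := by
    intro y hy
    rcases ht with rfl | rfl
    · exact d5_not_K h (k := 5) (na_of_naB (by norm_num) (by norm_num) (by decide)) (nap_iff_napB.2 (by decide))
        (nap_iff_napB.2 (by decide)) (by norm_num) (mem_of_memB (by decide)) (mem_of_memB (by decide))
        (mem_of_memB (by decide)) (na_of_naB (by norm_num) (by norm_num) (by decide))
        (na_of_naB (by norm_num) (by norm_num) (by decide)) (na_of_naB (by norm_num) (by norm_num) (by decide))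
        (fun h1 => absurd (nap_iff_napB.1 h1) (by decide)) (fun h1 => absurd (nap_iff_napB.1 h1) (by decide)) hy
    · exact d5_not_K h (k := 10) (na_of_naB (by norm_num) (by norm_num) (by decide)) (nap_iff_napB.2 (by decide))
        (nap_iff_napB.2 (by decide)) (by norm_num) (mem_of_memB (by decide)) (mem_of_memB (by decide))
        (mem_of_memB (by decide)) (na_of_naB (by norm_num) (by norm_num) (by decide))
        (na_of_naB (by norm_num) (by norm_num) (by decide)) (na_of_naB (by norm_num) (by norm_num) (by decide))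
        (fun h1 => absurd (nap_iff_napB.1 h1) (by decide)) (fun h1 => absurd (nap_iff_napB.1 h1) (by decide)) hy
  have m8 : mem t 8 := by rcases ht with rfl | rfl <;> exact mem_of_memB (by decide)
  have tri1 : triB t 8 3 6 = true := by rcases ht with rfl | rfl <;> decide
  have tri2 : triB t 8 6 3 = true := by rcases ht with rfl | rfl <;> decide
  have hx : ∀ y, In t (p ^ f) 8 y → ¬ y ∣ Nat.card ↥K → ¬ y ∣ S.index := fun y hy hK =>
    h.nix [3, 6] (fun l hl => by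
      simp only [List.mem_cons, List.not_mem_nil, or_false] at hl
      rcases hl with rfl | rfl
      · exact ⟨6, tri1⟩
      · exact ⟨3, tri2⟩) (Or.inr (Or.inr (Or.inr (Or.inr (Or.inl
        ⟨by simp, by simp, by norm_num, by norm_num, by norm_num⟩))))) hy hK
  have hidx : idx t 8 = 8 := by rcases ht with rfl | rfl <;> rfl
  obtain ⟨hv2, m, hm1, hf', M, h1, h2, h3, h4, h5⟩ := cl_tf4 h (i := 8) (l := 2) (by norm_num) m8 hK hx
    (by rw [hidx]; exact prime_le (by norm_num) (by decide)) (by norm_num)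
  have htn : tnum t (p ^ f) 8 = (p ^ f) ^ 4 + 1 := by rcases ht with rfl | rfl <;> rfl
  have hΦ : Ph 8 (p ^ f) = (p ^ f) ^ 4 + 1 := by
    have e1 := Ph_cast (n := 8) (q := p ^ f) (by omega)
    rw [NumA.eval_8] at e1
    exact_mod_cast e1.symm
  rw [htn] at h1
  rw [hidx, hΦ] at h5
  have hu : v ^ f' = 2 * (2 ^ m) ^ 2 := by rw [hv2, hf', ← pow_mul]; ring
  obtain ⟨P, hP, hPle⟩ : ∃ P : ℕ, ((t = .oplus 5 ∧ (P : ℤ) = ((p ^ f : ℕ) : ℤ) ^ 4 + ((p ^ f : ℕ) : ℤ) ^ 3 + ((p ^ f : ℕ) : ℤ) ^ 2 + ((p ^ f : ℕ) : ℤ) + 1) ∨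
      (t = .ominus 5 ∧ (P : ℤ) = ((p ^ f : ℕ) : ℤ) ^ 4 - ((p ^ f : ℕ) : ℤ) ^ 3 + ((p ^ f : ℕ) : ℤ) ^ 2 - ((p ^ f : ℕ) : ℤ) + 1)) ∧
      P ≤ (p ^ f) ^ 4 + (p ^ f) ^ 3 + (p ^ f) ^ 2 + (p ^ f) + 1 ∧ P ≠ 0 := by
    generalize p ^ f = q at *
    rcases ht with rfl | rfl
    · exact ⟨q ^ 4 + q ^ 3 + q ^ 2 + q + 1, Or.inl ⟨rfl, by push_cast; ring⟩, le_rfl, by omega⟩
    · obtain ⟨r, rfl⟩ : ∃ r, q = r + 1 := ⟨q - 1, by omega⟩
      refine ⟨r * ((r + 1) ^ 3 + (r + 1)) + 1, Or.inr ⟨rfl, by push_cast; ring⟩, ?_, by omega⟩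
      nlinarith [Nat.zero_le (r ^ 4), Nat.zero_le (r ^ 3), Nat.zero_le (r ^ 2)]
  have hB := tf4_big10 h.ls h.is h.p2 (by rcases ht with rfl | rfl <;> (show (5 : ℕ) ≤ 8; norm_num))
    (R := RD (p ^ f) P) ?_ (fun y e hy hy3 hyp he hx => d5_hR h.ls h.is h.p2 hP hy hy3 hyp he hx)
    ((odd_pow8 hq).trans ⟨5 * (((p ^ f) ^ 4 + (p ^ f) ^ 2 + 1) * P), by rw [RD]; ring⟩) h.frm.is
  · rw [hu] at hB
    exact d5_num hq3 hq hm1 hPle.1 h1 h2 h5 h3 hB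
  · rw [RD]
    have e1 : 3 ^ 8 ≤ (p ^ f) ^ 8 := Nat.pow_le_pow_left hq3 8
    have e2 : (p ^ f) ^ 8 - 1 ≠ 0 := by omega
    have e3 : (p ^ f) ^ 4 + (p ^ f) ^ 2 + 1 ≠ 0 := by omega
    exact mul_ne_zero (by norm_num) (mul_ne_zero e2 (mul_ne_zero e3 hPle.2))

end main

end Cfsg.Agent.R2.Spec.EE
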