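import Cfsg.Agent.R2.Spec.EE.Mask
import Cfsg.Agent.R2.Spec.EE.Strong

/-!
# The assignment of the classes of `L` to the classes of `S` (helper13)

* `Tab` : combinatorial data of `S`; `SOk` : their meaning;
* `EF` : the frame;
* `rel_of` : the relations of the values.
-/

set_option autoImplicit false
set_option linter.unusedSectionVars false
set_option linter.unusedVariables false

namespace Cfsg.Agent.R2.Spec.EE

open Subgroup Cfsg
open Cfsg.Agent.H426.LieFam Cfsg.Agent.R2.Spec Cfsg.Agent.R2.Spec.P1 Cfsg.Agent.R2.Spec.F1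

universe u w

/-- the classes of `S` -/
structure Tab where
  n : ℕ
  adj : List ℕ
  na : List ℕ
  tt : ℕ
  nt : ℕ
  mv : ℕ
  vin : Bool
  kv : Bool
  sp : ℕ

/-- the meaning of the data -/
structure SOk (T : Tab) (S : Type u) [Group S] (v : ℕ) (k : ℕ → ℕ) : Prop where
  lt : ∀ r : ℕ, r.Prime → 5 ≤ r → r ≠ v → r ∣ Nat.card S → k r < T.n
  adj : ∀ r s : ℕ, r.Prime → s.Prime → 5 ≤ r → 5 ≤ s → r ≠ v → s ≠ v → r ≠ s → r ∣ Nat.card S → s ∣ Nat.card S →
    (T.adj.getD (k r) 0).testBit (k s) = true → ∃ g : S, orderOf g = r * s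
  na : ∀ r s : ℕ, r.Prime → s.Prime → 5 ≤ r → 5 ≤ s → r ≠ v → s ≠ v → r ≠ s → r ∣ Nat.card S → s ∣ Nat.card S →
    (T.na.getD (k r) 0).testBit (k s) = true → ¬ ∃ g : S, orderOf g = r * s
  tt : ∀ r : ℕ, r.Prime → 5 ≤ r → r ≠ v → r ∣ Nat.card S → T.tt.testBit (k r) = true → ¬ ∃ g : S, orderOf g = r * v
  nt : ∀ r : ℕ, r.Prime → 5 ≤ r → r ≠ v → r ∣ Nat.card S → T.nt.testBit (k r) = true → ∃ g : S, orderOf g = r * v

/-- allowed for adjacent classes of `L` -/
def al0 (T : Tab) (a b : ℕ) : Bool :=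
  bif Nat.blt a T.n then
    (bif Nat.blt b T.n then !((T.na.getD a 0).testBit b) else (bif b == T.n then !(T.tt.testBit a) else true))
  else bif a == T.n then
    (bif Nat.blt b T.n then !(T.tt.testBit b) else b == T.n + 2)
  else bif a == T.n + 1 then (Nat.blt b T.n || b == T.n + 2)
  else true

/-- allowed for nonadjacent classes of `L` -/
def al1 (T : Tab) (a b : ℕ) : Bool :=
  bif Nat.blt a T.n then
    (bif Nat.blt b T.n then !((T.adj.getD a 0).testBit b) else (bif b == T.n + 2 then !(T.mv.testBit a)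
      else !(T.nt.testBit a)))
  else bif a == T.n then
    (bif Nat.blt b T.n then !(T.nt.testBit b) else (b == T.n + 2 && !T.kv))
  else bif a == T.n + 1 then (Nat.blt b T.n && !(T.nt.testBit b))
  else (bif Nat.blt b T.n then !(T.mv.testBit b) else (b == T.n && !T.kv))

/-- the table of masks -/
def Tab.tbl (T : Tab) : Tbl where
  n := T.n + 3
  m0 := (List.range (T.n + 3)).map fun a => msk (List.range (T.n + 3)) (al0 T a)
  m1 := (List.range (T.n + 3)).map fun a => msk (List.range (T.n + 3)) (al1 T a)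
  m2 := []

/-- the domain of the variable `i` -/
def Tab.dom (T : Tab) (i : ℕ) : ℕ :=
  msk (List.range (T.n + 3)) fun b => (Nat.blt b T.n || b == T.n + 2 || T.vin) && (i == 4 || !(T.sp.testBit b))

theorem tbl_m0 (T : Tab) {a b : ℕ} (ha : a < T.n + 3) (hb : b < T.n + 3) :
    (T.tbl.m0.getD a 0).testBit b = al0 T a b := by
  have h1 : T.tbl.m0.getD a 0 = msk (List.range (T.n + 3)) (al0 T a) := by
    simp [Tab.tbl, List.getD, ha]
  rw [h1, testBit_msk_of_mem (List.mem_range.2 hb)]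

theorem tbl_m1 (T : Tab) {a b : ℕ} (ha : a < T.n + 3) (hb : b < T.n + 3) :
    (T.tbl.m1.getD a 0).testBit b = al1 T a b := by
  have h1 : T.tbl.m1.getD a 0 = msk (List.range (T.n + 3)) (al1 T a) := by
    simp [Tab.tbl, List.getD, ha]
  rw [h1, testBit_msk_of_mem (List.mem_range.2 hb)]

/-- the frame -/
structure EF (G : Type u) [Group G] (K : Subgroup G) [K.Normal] (S : Subgroup (G ⧸ K)) [S.Normal] (v f' : ℕ) (T : Tab)
    (k : ℕ → ℕ) : Prop where
  nil : Group.IsNilpotent ↥K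
  vp : v.Prime
  idx : ∀ r a : ℕ, r.Prime → 5 ≤ r → r ^ a ∣ S.index → r ^ a ∣ f'
  spe : ∀ r : ℕ, r.Prime → 5 ≤ r → r ≠ v → r ∣ Nat.card ↥S → T.sp.testBit (k r) = true → r = 5
  spn : T.sp < 2 ^ T.n
  sok : SOk T ↥S v k
  kad : ∀ r x : ℕ, r.Prime → r ∣ Nat.card ↥K → r ≠ v → x.Prime → 5 ≤ x → x ≠ v → x ≠ r → x ∣ Nat.card ↥S →
    T.mv.testBit (k x) = true → ∃ g : G, orderOf g = r * x
  kv : T.kv = true → ∀ r : ℕ, r.Prime → r ∣ Nat.card ↥K → r ≠ v → ∃ g : G, orderOf g = r * v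
  vv : T.vin = false → v ≤ 3

section

variable {G : Type u} [Group G] [Finite G] {K : Subgroup G} [K.Normal] {S : Subgroup (G ⧸ K)} [S.Normal]

theorem exists_mul_of_dvd {H : Type*} [Group H] [Finite H] {x : H} {r s : ℕ} (hr : r.Prime) (hs : s.Prime)
    (hrs : r ≠ s) (h1 : r ∣ orderOf x) (h2 : s ∣ orderOf x) : ∃ y : H, orderOf y = r * s := by
  have h3 : r * s ∣ orderOf x := ((Nat.coprime_primes hr hs).2 hrs).mul_dvd_of_dvd_of_dvd h1 h2
  obtain ⟨k, hk⟩ := h3
  refine ⟨x ^ k, ?_⟩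
  have h4 : 0 < orderOf x := orderOf_pos x
  have h5 : k ≠ 0 := by rintro rfl; omega
  rw [orderOf_pow_of_dvd h5 ⟨r * s, by rw [hk]; ring⟩, hk]
  exact Nat.mul_div_cancel _ (Nat.pos_of_ne_zero h5)

/-- the power in `S` -/
theorem exists_pow_S (g : G) : ∃ s : S, ∀ y a : ℕ, y.Prime → y ^ a ∣ orderOf g → ¬ y ∣ Nat.card ↥K →
    ¬ y ^ a ∣ S.index → y ∣ orderOf s := by
  set gb : G ⧸ K := QuotientGroup.mk' K g with hgb
  have hmem : gb ^ S.index ∈ S := Subgroup.pow_index_mem S gb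
  refine ⟨⟨gb ^ S.index, hmem⟩, fun y a hy hya hyK hyS => ?_⟩
  have h1 : y ^ a ∣ orderOf gb * Nat.card ↥K := by
    refine hya.trans ?_
    apply orderOf_dvd_of_pow_eq_one
    have h2 : g ^ orderOf gb ∈ K := by
      rw [← QuotientGroup.eq_one_iff]
      have h3 := pow_orderOf_eq_one gb
      rw [hgb, ← map_pow] at h3
      exact h3
    rw [pow_mul]
    have h4 : (⟨g ^ orderOf gb, h2⟩ : K) ^ Nat.card ↥K = 1 := pow_card_eq_one'
    exact congrArg Subtype.val h4
  have h2 : y ^ a ∣ orderOf gb :=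
    (Nat.Coprime.pow_left a ((Nat.Prime.coprime_iff_not_dvd hy).2 hyK)).dvd_of_dvd_mul_right h1
  have h3 : orderOf gb ∣ orderOf (gb ^ S.index) * S.index := by
    apply orderOf_dvd_of_pow_eq_one
    rw [mul_comm, pow_mul, pow_orderOf_eq_one]
  have h4 : orderOf (⟨gb ^ S.index, hmem⟩ : S) = orderOf (gb ^ S.index) := by
    rw [← Subgroup.orderOf_coe]
  rw [h4]
  by_contra hcon
  exact hyS ((Nat.Coprime.pow_left a ((Nat.Prime.coprime_iff_not_dvd hy).2 hcon)).dvd_of_dvd_mul_left (h2.trans h3))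

/-- two primes of a nilpotent normal subgroup -/
theorem exists_mul_nil (hK : Group.IsNilpotent ↥K) {r s : ℕ} (hr : r.Prime) (hs : s.Prime) (hrs : r ≠ s)
    (h1 : r ∣ Nat.card ↥K) (h2 : s ∣ Nat.card ↥K) : ∃ g : G, orderOf g = r * s := by
  have := Fact.mk hr
  have := Fact.mk hs
  obtain ⟨a, ha⟩ := exists_prime_orderOf_dvd_card' r h1
  obtain ⟨b, hb⟩ := exists_prime_orderOf_dvd_card' s h2
  have hc := comm_of_nilpotent' hK hr hs hrs (a := a) (b := b) ⟨1, by rw [pow_one, ← ha, pow_orderOf_eq_one]⟩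
    ⟨1, by rw [pow_one, ← hb, pow_orderOf_eq_one]⟩
  have h3 : orderOf (a * b) = r * s := by
    rw [Commute.orderOf_mul_eq_mul_orderOf_of_coprime hc (by rw [ha, hb]; exact (Nat.coprime_primes hr hs).2 hrs), ha, hb]
  exact ⟨(a * b : K), by rw [Subgroup.orderOf_coe, h3]⟩

end

/-- a prime of the class `i` which divides `c`, or some power of which is in the torus and does not divide `m` -/
def Gd (t : Fam) (q c m i y : ℕ) : Prop := In t q i y ∧ (¬ y ∣ c → ∃ a, y ^ a ∣ tnum t q i ∧ ¬ y ^ a ∣ m)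

theorem in_four {t : Fam} {q i : ℕ} (h : In t q i 5) : i = 4 := by
  have := Fact.mk Nat.prime_five
  have h1 : orderOf ((sg t q : ℤ) : ZMod 5) ∣ 4 := by
    have h3 : 3 ≤ orderOf ((sg t q : ℤ) : ZMod 5) := by
      have h8 : cls t q 5 = i := h.cls_eq
      rw [cls] at h8
      rw [h8]
      exact h.reg
    have h4 : ((sg t q : ℤ) : ZMod 5) ≠ 0 := by
      intro h0
      rw [h0, orderOf_zero] at h3
      omega
    exact orderOf_dvd_of_pow_eq_one (ZMod.pow_card_sub_one_eq_one h4)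
  have h2 : cls t q 5 = i := h.cls_eq
  have h3 := h.reg
  rw [cls] at h2
  rw [h2] at h1
  have h5 : i ≤ 4 := Nat.le_of_dvd (by norm_num) h1
  interval_cases i
  · revert h1; decide
  · rfl

section main

variable {t : Fam} {p f : ℕ} {L : Type w} [Group L] [Finite L] {G : Type u} [Group G] [Finite G]
  {K : Subgroup G} [K.Normal] {S : Subgroup (G ⧸ K)} [S.Normal] {v f' : ℕ} {T : Tab} {k : ℕ → ℕ}

open Classical in
/-- the value of a prime -/
noncomputable def val (T : Tab) (cK : ℕ) (v : ℕ) (k : ℕ → ℕ) (y : ℕ) : ℕ :=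
  if y = v then (if y ∣ cK then T.n + 1 else T.n) else if y ∣ cK then T.n + 2 else k y

/-- **The relations of the values.** -/
theorem rel_of (h : LS t p f L G) (hI : Fam.Is p f L t) (hn : 3 ≤ rk t) (hE : EF G K S v f' T k) {V : List ℕ}
    (hVn : V.Nodup) (hV : ∀ i ∈ V, 3 ≤ i ∧ mem t i) {y : ℕ → ℕ} (hyg : ∀ i ∈ V, Gd t (p ^ f) (Nat.card ↥K) S.index i (y i)) :
    (∀ i ∈ V, (T.dom i).testBit (val T (Nat.card ↥K) v k (y i)) = true ∧ val T (Nat.card ↥K) v k (y i) < T.n + 3) ∧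
    (∀ i ∈ V, ∀ j ∈ V, i ≠ j → naB t i j = true →
      (T.tbl.m1.getD (val T (Nat.card ↥K) v k (y i)) 0).testBit (val T (Nat.card ↥K) v k (y j)) = true) ∧
    (∀ i ∈ V, ∀ j ∈ V, i ≠ j → naB t i j = false →
      (T.tbl.m0.getD (val T (Nat.card ↥K) v k (y i)) 0).testBit (val T (Nat.card ↥K) v k (y j)) = true) := by
  classical
  have hy : ∀ i ∈ V, In t (p ^ f) i (y i) := fun i hi => (hyg i hi).1
  have hex : ∀ i ∈ V, ∃ a, y i ^ a ∣ tnum t (p ^ f) i ∧ (¬ y i ∣ Nat.card ↥K → ¬ y i ^ a ∣ S.index) := by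
    intro i hi
    by_cases h1 : y i ∣ Nat.card ↥K
    · exact ⟨0, by rw [pow_zero]; exact one_dvd _, fun h2 => (h2 h1).elim⟩
    · obtain ⟨a, h2, h3⟩ := (hyg i hi).2 h1
      exact ⟨a, h2, fun _ => h3⟩
  choose! a ha hind using hex
  have hyp : ∀ i ∈ V, (y i).Prime := fun i hi => (hy i hi).prime
  have hy5 : ∀ i ∈ V, 5 ≤ y i := fun i hi => (hy i hi).five
  have hodd : ∀ i ∈ V, Odd (y i ^ a i) := fun i hi => ((hyp i hi).odd_of_ne_two (hy i hi).ne_two).pow
  have hcl : ∀ i ∈ V, ∀ r : ℕ, r.Prime → r ∣ y i ^ a i → 3 ≤ cls t (p ^ f) r := by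
    intro i hi r hr hd
    have h1 : r = y i := (Nat.prime_dvd_prime_iff_eq hr (hyp i hi)).1 (hr.dvd_of_dvd_pow hd)
    rw [h1, (hy i hi).cls_eq]
    exact (hy i hi).reg
  -- elements
  have el1 : ∀ i ∈ V, ∃ g : G, orderOf g = y i ^ a i := by
    intro i hi
    rw [h.ord]
    exact (torFacts h.cla h.prime hI).tor i _ (hV i hi).1 (hV i hi).2 (hodd i hi) (hcl i hi) (ha i hi)
  have el2 : ∀ i ∈ V, ∀ j ∈ V, i ≠ j → ¬ na t i j → ∃ g : G, orderOf g = y i ^ a i * y j ^ a j := by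
    intro i hi j hj hij hna
    rw [h.ord]
    refine strong h.cla hn h.prime hI (hV i hi).1 (hV j hj).1 (hV i hi).2 (hV j hj).2 hna (hodd i hi) (hodd j hj) ?_
      (hcl i hi) (hcl j hj) (ha i hi) (ha j hj)
    exact Nat.Coprime.pow _ _ ((Nat.coprime_primes (hyp i hi) (hyp j hj)).2 ((hy i hi).ne (hy j hj) hij))
  -- divisibility
  have hyS : ∀ i ∈ V, ¬ y i ∣ Nat.card ↥K → y i ∣ Nat.card ↥S := by
    intro i hi hK
    obtain ⟨g, hg⟩ := el1 i hi
    obtain ⟨s, hs⟩ := exists_pow_S (S := S) g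
    exact (hs (y i) (a i) (hyp i hi) (by rw [hg]) hK (hind i hi hK)).trans (orderOf_dvd_natCard s)
  have hadjS : ∀ i ∈ V, ∀ j ∈ V, i ≠ j → ¬ na t i j → ¬ y i ∣ Nat.card ↥K → ¬ y j ∣ Nat.card ↥K →
      ∃ s : S, orderOf s = y i * y j := by
    intro i hi j hj hij hna hKi hKj
    obtain ⟨g, hg⟩ := el2 i hi j hj hij hna
    obtain ⟨s, hs⟩ := exists_pow_S (S := S) g
    exact exists_mul_of_dvd (hyp i hi) (hyp j hj) ((hy i hi).ne (hy j hj) hij)
      (hs _ _ (hyp i hi) (by rw [hg]; exact dvd_mul_right _ _) hKi (hind i hi hKi))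
      (hs _ _ (hyp j hj) (by rw [hg]; exact dvd_mul_left _ _) hKj (hind j hj hKj))
  have hnaG : ∀ i ∈ V, ∀ j ∈ V, i ≠ j → na t i j → ¬ ∃ g : G, orderOf g = y i * y j := fun i hi j hj hij hna hg =>
    (h.adj_iff (hy i hi) (hy j hj) ((hy i hi).ne (hy j hj) hij)).1 hg hna
  -- the values
  let F : ℕ → ℕ := fun i => val T (Nat.card ↥K) v k (y i)
  have hval : ∀ i ∈ V, (y i = v ∧ y i ∣ Nat.card ↥K ∧ F i = T.n + 1) ∨ (y i = v ∧ ¬ y i ∣ Nat.card ↥K ∧ F i = T.n) ∨
      (y i ≠ v ∧ y i ∣ Nat.card ↥K ∧ F i = T.n + 2) ∨ (y i ≠ v ∧ ¬ y i ∣ Nat.card ↥K ∧ F i = k (y i) ∧ F i < T.n) := by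
    intro i hi
    by_cases h1 : y i = v
    · by_cases h2 : y i ∣ Nat.card ↥K
      · left
        refine ⟨h1, h2, ?_⟩
        show val _ _ _ _ _ = _
        rw [val, if_pos h1, if_pos h2]
      · right; left
        refine ⟨h1, h2, ?_⟩
        show val _ _ _ _ _ = _
        rw [val, if_pos h1, if_neg h2]
    · by_cases h2 : y i ∣ Nat.card ↥K
      · right; right; left
        refine ⟨h1, h2, ?_⟩
        show val _ _ _ _ _ = _
        rw [val, if_neg h1, if_pos h2]
      · right; right; right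
        have h3 : F i = k (y i) := by
          show val _ _ _ _ _ = _
          rw [val, if_neg h1, if_neg h2]
        refine ⟨h1, h2, h3, ?_⟩
        rw [h3]
        exact hE.sok.lt _ (hyp i hi) (hy5 i hi) h1 (hyS i hi h2)
  refine ⟨?_, ?_, ?_⟩
  · intro i hi
    have h3 : F i < T.n + 3 := by
      rcases hval i hi with h1 | h1 | h1 | h1
      · omega
      · omega
      · omega
      · have := h1.2.2.2; omega
    refine ⟨?_, h3⟩
    show (T.dom i).testBit (F i) = true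
    rw [Tab.dom, testBit_msk_of_mem (List.mem_range.2 h3)]
    have hvin : y i = v → T.vin = true := fun h1 => by
      cases h2 : T.vin
      · have := hE.vv h2
        have := hy5 i hi
        omega
      · rfl
    have hsp : ∀ c, T.n ≤ c → T.sp.testBit c = false := fun c hc =>
      Nat.testBit_lt_two_pow (hE.spn.trans_le (Nat.pow_le_pow_right (by norm_num) hc))
    rcases hval i hi with h1 | h1 | h1 | h1
    · rw [hvin h1.1, Bool.or_true, h1.2.2, hsp _ (by omega)]
      simp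
    · rw [hvin h1.1, Bool.or_true, h1.2.2, hsp _ (by omega)]
      simp
    · rw [h1.2.2, hsp _ (by omega)]
      simp
    · have h4 : Nat.blt (F i) T.n = true := by rw [Nat.blt_eq]; exact h1.2.2.2
      rw [h4]
      cases h5 : T.sp.testBit (F i)
      · simp
      · have h6 : y i = 5 := hE.spe _ (hyp i hi) (hy5 i hi) h1.1 (hyS i hi h1.2.1) (by rw [← h1.2.2.1]; exact h5)
        have h7 := hy i hi
        rw [h6] at h7
        rw [in_four h7]
        rfl
  · -- nonadjacent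
    intro i hi j hj hij hnb
    have hna : na t i j := na_of_naB (by have := (hV i hi).1; omega) (by have := (hV j hj).1; omega) hnb
    have hne : y i ≠ y j := (hy i hi).ne (hy j hj) hij
    have hno := hnaG i hi j hj hij hna
    have hno' : ¬ ∃ g : G, orderOf g = y j * y i := fun ⟨g, hg⟩ => hno ⟨g, by rw [hg, mul_comm]⟩
    show (T.tbl.m1.getD (F i) 0).testBit (F j) = true
    rw [tbl_m1]
    rotate_left
    · rcases hval i hi with h1 | h1 | h1 | h1 <;> omega
    · rcases hval j hj with h1 | h1 | h1 | h1 <;> omega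
    have b0 : ∀ c, c < T.n → Nat.blt c T.n = true := fun c hc => by rw [Nat.blt_eq]; exact hc
    have b1 : Nat.blt T.n T.n = false := by rw [← Bool.not_eq_true, Nat.blt_eq]; omega
    have b2 : Nat.blt (T.n + 1) T.n = false := by rw [← Bool.not_eq_true, Nat.blt_eq]; omega
    have b3 : Nat.blt (T.n + 2) T.n = false := by rw [← Bool.not_eq_true, Nat.blt_eq]; omega
    have e1 : (T.n == T.n + 2) = false := by rw [beq_eq_false_iff_ne]; omega
    have e2 : (T.n + 1 == T.n + 2) = false := by rw [beq_eq_false_iff_ne]; omega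
    have e3 : (T.n + 2 == T.n) = false := by rw [beq_eq_false_iff_ne]; omega
    have e4 : (T.n + 2 == T.n + 1) = false := by rw [beq_eq_false_iff_ne]; omega
    have e5 : (T.n + 1 == T.n) = false := by rw [beq_eq_false_iff_ne]; omega
    have fb : ∀ {b : Bool}, ¬ b = true → (!b) = true := fun hb => by
      rw [Bool.not_eq_true] at hb; rw [hb]; rfl
    -- facts
    have kad : ∀ {i j : ℕ}, i ∈ V → j ∈ V → y i ≠ y j → (¬ ∃ g : G, orderOf g = y i * y j) → y i ≠ v → y i ∣ Nat.card ↥K →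
        y j ≠ v → ¬ y j ∣ Nat.card ↥K → ¬ T.mv.testBit (k (y j)) = true := by
      intro i j hi hj hne hno h1 h2 h3 h4 h5
      exact hno (hE.kad _ _ (hyp i hi) h2 h1 (hyp j hj) (hy5 j hj) h3 hne.symm (hyS j hj h4) h5)
    have nt : ∀ {i j : ℕ}, i ∈ V → j ∈ V → (¬ ∃ g : G, orderOf g = y j * y i) → y i = v → y j ≠ v →
        ¬ y j ∣ Nat.card ↥K → ¬ T.nt.testBit (k (y j)) = true := by
      intro i j hi hj hno h1 h3 h4 h5
      refine hno ?_
      rw [h1]
      exact exists_of_S (hE.sok.nt _ (hyp j hj) (hy5 j hj) h3 (hyS j hj h4) h5)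
    have kv : ∀ {i j : ℕ}, i ∈ V → j ∈ V → (¬ ∃ g : G, orderOf g = y j * y i) → y i = v → y j ≠ v →
        y j ∣ Nat.card ↥K → ¬ T.kv = true := by
      intro i j hi hj hno h1 h3 h4 h5
      refine hno ?_
      rw [h1]
      exact hE.kv h5 _ (hyp j hj) h4 h3
    have kk : y i ∣ Nat.card ↥K → y j ∣ Nat.card ↥K → False := fun h1 h2 =>
      hno (exists_mul_nil hE.nil (hyp i hi) (hyp j hj) hne h1 h2)
    rcases hval i hi with h1 | h1 | h1 | h1 <;> rcases hval j hj with h2 | h2 | h2 | h2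
    · exact (hne (h1.1.trans h2.1.symm)).elim
    · exact (hne (h1.1.trans h2.1.symm)).elim
    · exact (kk h1.2.1 h2.2.1).elim
    · rw [h1.2.2, al1, b2, cond_false, e5, cond_false, beq_self_eq_true, cond_true, b0 _ h2.2.2.2, Bool.true_and,
        h2.2.2.1]
      exact fb (nt hi hj hno' h1.1 h2.1 h2.2.1)
    · exact (hne (h1.1.trans h2.1.symm)).elim
    · exact (hne (h1.1.trans h2.1.symm)).elim
    · rw [h1.2.2, h2.2.2, al1, b1, cond_false, beq_self_eq_true, cond_true, b3, cond_false, beq_self_eq_true,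
        Bool.true_and]
      exact fb (kv hi hj hno' h1.1 h2.1 h2.2.1)
    · rw [h1.2.2, al1, b1, cond_false, beq_self_eq_true, cond_true, b0 _ h2.2.2.2, cond_true, h2.2.2.1]
      exact fb (nt hi hj hno' h1.1 h2.1 h2.2.1)
    · exact (kk h1.2.1 h2.2.1).elim
    · rw [h1.2.2, h2.2.2, al1, b3, cond_false, e3, cond_false, e4, cond_false, b1, cond_false, beq_self_eq_true,
        Bool.true_and]
      exact fb (kv hj hi hno h2.1 h1.1 h1.2.1)
    · exact (kk h1.2.1 h2.2.1).elim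
    · rw [h1.2.2, al1, b3, cond_false, e3, cond_false, e4, cond_false, b0 _ h2.2.2.2, cond_true, h2.2.2.1]
      exact fb (kad hi hj hne hno h1.1 h1.2.1 h2.1 h2.2.1)
    · rw [h2.2.2, al1, b0 _ h1.2.2.2, cond_true, b2, cond_false, e2, cond_false, h1.2.2.1]
      exact fb (nt hj hi hno h2.1 h1.1 h1.2.1)
    · rw [h2.2.2, al1, b0 _ h1.2.2.2, cond_true, b1, cond_false, e1, cond_false, h1.2.2.1]
      exact fb (nt hj hi hno h2.1 h1.1 h1.2.1)
    · rw [h2.2.2, al1, b0 _ h1.2.2.2, cond_true, b3, cond_false, beq_self_eq_true, cond_true, h1.2.2.1]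
      exact fb (kad hj hi hne.symm hno' h2.1 h2.2.1 h1.1 h1.2.1)
    · rw [al1, b0 _ h1.2.2.2, cond_true, b0 _ h2.2.2.2, cond_true, h1.2.2.1, h2.2.2.1]
      refine fb fun h5 => hno ?_
      exact exists_of_S (hE.sok.adj _ _ (hyp i hi) (hyp j hj) (hy5 i hi) (hy5 j hj) h1.1 h2.1 hne (hyS i hi h1.2.1)
        (hyS j hj h2.2.1) h5)
  · -- adjacent
    intro i hi j hj hij hnb
    have hna : ¬ na t i j := fun h1 => by
      rw [naB_of_na h1] at hnb
      exact Bool.noConfusion hnb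
    have hna' : ¬ na t j i := fun h1 => hna (na_symm h1)
    have hne : y i ≠ y j := (hy i hi).ne (hy j hj) hij
    show (T.tbl.m0.getD (F i) 0).testBit (F j) = true
    rw [tbl_m0]
    rotate_left
    · rcases hval i hi with h1 | h1 | h1 | h1 <;> omega
    · rcases hval j hj with h1 | h1 | h1 | h1 <;> omega
    have b0 : ∀ c, c < T.n → Nat.blt c T.n = true := fun c hc => by rw [Nat.blt_eq]; exact hc
    have b1 : Nat.blt T.n T.n = false := by rw [← Bool.not_eq_true, Nat.blt_eq]; omega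
    have b2 : Nat.blt (T.n + 1) T.n = false := by rw [← Bool.not_eq_true, Nat.blt_eq]; omega
    have b3 : Nat.blt (T.n + 2) T.n = false := by rw [← Bool.not_eq_true, Nat.blt_eq]; omega
    have e1 : (T.n + 1 == T.n) = false := by rw [beq_eq_false_iff_ne]; omega
    have e2 : (T.n + 2 == T.n) = false := by rw [beq_eq_false_iff_ne]; omega
    have e3 : (T.n + 2 == T.n + 1) = false := by rw [beq_eq_false_iff_ne]; omega
    have fb : ∀ {b : Bool}, ¬ b = true → (!b) = true := fun hb => by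
      rw [Bool.not_eq_true] at hb; rw [hb]; rfl
    have tt : ∀ {i j : ℕ}, i ∈ V → j ∈ V → i ≠ j → ¬ na t j i → y i = v → ¬ y i ∣ Nat.card ↥K → y j ≠ v →
        ¬ y j ∣ Nat.card ↥K → ¬ T.tt.testBit (k (y j)) = true := by
      intro i j hi hj hij hna h1 h2 h3 h4 h5
      refine hE.sok.tt _ (hyp j hj) (hy5 j hj) h3 (hyS j hj h4) h5 ?_
      rw [← h1]
      exact hadjS j hj i hi hij.symm hna h4 h2
    rcases hval i hi with h1 | h1 | h1 | h1 <;> rcases hval j hj with h2 | h2 | h2 | h2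
    · exact (hne (h1.1.trans h2.1.symm)).elim
    · exact (hne (h1.1.trans h2.1.symm)).elim
    · rw [h1.2.2, h2.2.2, al0, b2, cond_false, e1, cond_false, beq_self_eq_true, cond_true, beq_self_eq_true,
        Bool.or_true]
    · rw [h1.2.2, al0, b2, cond_false, e1, cond_false, beq_self_eq_true, cond_true, b0 _ h2.2.2.2, Bool.true_or]
    · exact (hne (h1.1.trans h2.1.symm)).elim
    · exact (hne (h1.1.trans h2.1.symm)).elim
    · rw [h1.2.2, h2.2.2, al0, b1, cond_false, beq_self_eq_true, cond_true, b3, cond_false, beq_self_eq_true]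
    · rw [h1.2.2, al0, b1, cond_false, beq_self_eq_true, cond_true, b0 _ h2.2.2.2, cond_true, h2.2.2.1]
      exact fb (tt hi hj hij hna' h1.1 h1.2.1 h2.1 h2.2.1)
    · rw [h1.2.2, al0, b3, cond_false, e2, cond_false, e3, cond_false]
    · rw [h1.2.2, al0, b3, cond_false, e2, cond_false, e3, cond_false]
    · rw [h1.2.2, al0, b3, cond_false, e2, cond_false, e3, cond_false]
    · rw [h1.2.2, al0, b3, cond_false, e2, cond_false, e3, cond_false]
    · rw [h2.2.2, al0, b0 _ h1.2.2.2, cond_true, b2, cond_false, e1, cond_false]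
    · rw [h2.2.2, al0, b0 _ h1.2.2.2, cond_true, b1, cond_false, beq_self_eq_true, cond_true, h1.2.2.1]
      exact fb (tt hj hi hij.symm hna h2.1 h2.2.1 h1.1 h1.2.1)
    · rw [h2.2.2, al0, b0 _ h1.2.2.2, cond_true, b3, cond_false, e2, cond_false]
    · rw [al0, b0 _ h1.2.2.2, cond_true, b0 _ h2.2.2.2, cond_true, h1.2.2.1, h2.2.2.1]
      refine fb fun h5 => ?_
      exact hE.sok.na _ _ (hyp i hi) (hyp j hj) (hy5 i hi) (hy5 j hj) h1.1 h2.1 hne (hyS i hi h1.2.1) (hyS j hj h2.2.1) h5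
        (hadjS i hi j hj hij hna h1.2.1 h2.2.1)

end main

end Cfsg.Agent.R2.Spec.EE
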