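import Cfsg.Agent.H168.ExcE6
import Cfsg.Agent.R2.Spec.EE.CertBase

/-!
# Adjacency with the characteristic, type E6 (helper2)
-/

set_option autoImplicit false

namespace Cfsg.Agent.R2.Spec.EE.CertE6

open Cfsg.Agent.H129.WData Cfsg.Agent.ChevalleyStructure.CoxeterGeomTypes Cfsg.Agent.Nodes.RGDChev
open Cfsg.Lie Cfsg.Lie.ChevalleyDatum
open Cfsg.Agent Cfsg.Agent.H493 Cfsg.Agent.H493.PGTorus Cfsg.Agent.H493.PGCyc Cfsg.Agent.H493.PGE6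
open Cfsg.Agent.H168.ExcAdj Cfsg.Agent.R2.Spec.EE.CertBase

universe u

/-- the highest root -/
def r0 : ℕ := 71

theorem r0_lt : r0 < chevE6.nroots := by decide +kernel

theorem r0_ok : vec chevE6 6 r0 = ![1, 2, 2, 3, 2, 1] := by decide +kernel

/-- cubic roots in characteristic three -/
theorem cb_surj {F : Type u} [Field F] [Finite F] {s : ℕ} (hs : s.Prime) (h2 : s ∣ Nat.card F) :
    s ∣ 3 → ∀ a : F, ∃ b : F, b ^ 3 = a := by
  intro h a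
  have : Fintype F := Fintype.ofFinite F
  have hs2 : s = 3 := (Nat.prime_dvd_prime_iff_eq hs Nat.prime_three).1 h
  subst hs2
  have hc : CharP F 3 := by
    obtain ⟨p, hp'⟩ := CharP.exists F
    have : Fact p.Prime := ⟨CharP.char_is_prime F p⟩
    obtain ⟨n, -, h3⟩ := FiniteField.card F p
    rw [Nat.card_eq_fintype_card, h3] at h2
    have h4 := (Nat.prime_dvd_prime_iff_eq Nat.prime_three (Fact.out : p.Prime)).1 (Nat.prime_three.dvd_of_dvd_pow h2)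
    rw [h4]; exact hp'
  have : Fact (Nat.Prime 3) := ⟨Nat.prime_three⟩
  exact (Finite.injective_iff_surjective.1 (frobenius_inj F 3)) a

/-- partial products, characteristic polynomial Φ1^6 -/
def q1 : List (Fin 6 × Mat 6) := []

theorem q1_ok : ChainOK Am q1 := by decide +kernel

/-- coefficients of the functional, order 1 -/
def w1 : Fin 1 → Fin 6 → ℤ := ![![-1, 0, 0, 0, 0, 1]]

theorem g1 : EigOK (fun i j => hd q1 j i) c1 w1 ![-1, 0, 0, 0, 0, 0] := by decide +kernel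

theorem f1 : ∀ m, ∑ j, vec chevE6 6 r0 j * hd q1 j m = vec chevE6 6 r0 m := by decide +kernel

theorem z1 : ∀ i, ∑ m, vec chevE6 6 r0 m * w1 i m = 0 := by decide +kernel

theorem rel_1_p {F : Type u} [Field F] [Finite F] {r s : ℕ} (hr : r.Prime) (hs : s.Prime)
    (h1 : phiC c1 (Nat.card F) 3 r) (h2 : s ∣ Nat.card F) : PG.Rel ↥(chevE6.group F) r s := by
  have := finW
  exact rel_p_of_eig hp CoxeterMatrix.E₆.toCoxeterSystem H129.TorusChar.invC_E6 (by norm_num)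
    (chain_rep hp CoxeterMatrix.E₆.toCoxeterSystem hA q1_ok) g1 (Or.inr (by decide +kernel)) r0_lt f1 z1 hr hs h1.1
    (cb_surj hs h2) h1.2 h2

/-- partial products, characteristic polynomial Φ1^5 Φ2 -/
def q2 : List (Fin 6 × Mat 6) := [
    (0, ![![-1, 0, 0, 0, 0, 0], ![0, 1, 0, 0, 0, 0], ![1, 0, 1, 0, 0, 0], ![0, 0, 0, 1, 0, 0], ![0, 0, 0, 0, 1, 0],
      ![0, 0, 0, 0, 0, 1]])]

theorem q2_ok : ChainOK Am q2 := by decide +kernel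

/-- coefficients of the functional, order 2 -/
def w2 : Fin 1 → Fin 6 → ℤ := ![![-2, 0, 1, 0, 0, 0]]

theorem g2 : EigOK (fun i j => hd q2 j i) c2 w2 ![0, 0, 1, 0, 0, 0] := by decide +kernel

theorem f2 : ∀ m, ∑ j, vec chevE6 6 r0 j * hd q2 j m = vec chevE6 6 r0 m := by decide +kernel

theorem z2 : ∀ i, ∑ m, vec chevE6 6 r0 m * w2 i m = 0 := by decide +kernel

theorem rel_2_p {F : Type u} [Field F] [Finite F] {r s : ℕ} (hr : r.Prime) (hs : s.Prime)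
    (h1 : phiC c2 (Nat.card F) 3 r) (h2 : s ∣ Nat.card F) : PG.Rel ↥(chevE6.group F) r s := by
  have := finW
  exact rel_p_of_eig hp CoxeterMatrix.E₆.toCoxeterSystem H129.TorusChar.invC_E6 (by norm_num)
    (chain_rep hp CoxeterMatrix.E₆.toCoxeterSystem hA q2_ok) g2 (Or.inl (by decide +kernel)) r0_lt f2 z2 hr hs h1.1
    (cb_surj hs h2) h1.2 h2

/-- partial products, characteristic polynomial Φ1^4 Φ3 -/
def q3 : List (Fin 6 × Mat 6) := [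
    (2, ![![-1, 0, -1, 0, 0, 0], ![0, 1, 0, 0, 0, 0], ![1, 0, 0, 0, 0, 0], ![0, 0, 1, 1, 0, 0], ![0, 0, 0, 0, 1, 0],
      ![0, 0, 0, 0, 0, 1]]),
    (0, ![![-1, 0, 0, 0, 0, 0], ![0, 1, 0, 0, 0, 0], ![1, 0, 1, 0, 0, 0], ![0, 0, 0, 1, 0, 0], ![0, 0, 0, 0, 1, 0],
      ![0, 0, 0, 0, 0, 1]])]

theorem q3_ok : ChainOK Am q3 := by decide +kernel

/-- coefficients of the functional, order 3 -/
def w3 : Fin 2 → Fin 6 → ℤ := ![![-1, 0, -1, 1, 0, 0], ![-2, 0, 1, 0, 0, 0]]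

theorem g3 : EigOK (fun i j => hd q3 j i) c3 w3 ![0, 0, 0, 1, 0, 0] := by decide +kernel

theorem f3 : ∀ m, ∑ j, vec chevE6 6 r0 j * hd q3 j m = vec chevE6 6 r0 m := by decide +kernel

theorem z3 : ∀ i, ∑ m, vec chevE6 6 r0 m * w3 i m = 0 := by decide +kernel

theorem rel_3_p {F : Type u} [Field F] [Finite F] {r s : ℕ} (hr : r.Prime) (hs : s.Prime)
    (h1 : phiC c3 (Nat.card F) 3 r) (h2 : s ∣ Nat.card F) : PG.Rel ↥(chevE6.group F) r s := by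
  have := finW
  exact rel_p_of_eig hp CoxeterMatrix.E₆.toCoxeterSystem H129.TorusChar.invC_E6 (by norm_num)
    (chain_rep hp CoxeterMatrix.E₆.toCoxeterSystem hA q3_ok) g3 (Or.inl (by decide +kernel)) r0_lt f3 z3 hr hs h1.1
    (cb_surj hs h2) h1.2 h2

/-- partial products, characteristic polynomial Φ1^3 Φ2 Φ4 -/
def q4 : List (Fin 6 × Mat 6) := [
    (3, ![![-1, 0, -1, -1, 0, 0], ![0, 1, 0, 1, 0, 0], ![1, 0, 0, 0, 0, 0], ![0, 0, 1, 0, 0, 0],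
      ![0, 0, 0, 1, 1, 0], ![0, 0, 0, 0, 0, 1]]),
    (2, ![![-1, 0, -1, 0, 0, 0], ![0, 1, 0, 0, 0, 0], ![1, 0, 0, 0, 0, 0], ![0, 0, 1, 1, 0, 0], ![0, 0, 0, 0, 1, 0],
      ![0, 0, 0, 0, 0, 1]]),
    (0, ![![-1, 0, 0, 0, 0, 0], ![0, 1, 0, 0, 0, 0], ![1, 0, 1, 0, 0, 0], ![0, 0, 0, 1, 0, 0], ![0, 0, 0, 0, 1, 0],
      ![0, 0, 0, 0, 0, 1]])]

theorem q4_ok : ChainOK Am q4 := by decide +kernel

/-- coefficients of the functional, order 4 -/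
def w4 : Fin 2 → Fin 6 → ℤ := ![![1, 1, -1, -1, 1, 0], ![-1, 0, -1, 1, 0, 0]]

theorem g4 : EigOK (fun i j => hd q4 j i) c4 w4 ![0, 1, 0, 0, 0, 0] := by decide +kernel

theorem f4 : ∀ m, ∑ j, vec chevE6 6 r0 j * hd q4 j m = vec chevE6 6 r0 m := by decide +kernel

theorem z4 : ∀ i, ∑ m, vec chevE6 6 r0 m * w4 i m = 0 := by decide +kernel

theorem rel_4_p {F : Type u} [Field F] [Finite F] {r s : ℕ} (hr : r.Prime) (hs : s.Prime)
    (h1 : phiC c4 (Nat.card F) 3 r) (h2 : s ∣ Nat.card F) : PG.Rel ↥(chevE6.group F) r s := by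
  have := finW
  exact rel_p_of_eig hp CoxeterMatrix.E₆.toCoxeterSystem H129.TorusChar.invC_E6 (by norm_num)
    (chain_rep hp CoxeterMatrix.E₆.toCoxeterSystem hA q4_ok) g4 (Or.inl (by decide +kernel)) r0_lt f4 z4 hr hs h1.1
    (cb_surj hs h2) h1.2 h2

/-- partial products, characteristic polynomial Φ1^2 Φ5 -/
def q5 : List (Fin 6 × Mat 6) := [
    (4, ![![-1, 0, -1, -1, -1, 0], ![0, 1, 0, 1, 1, 0], ![1, 0, 0, 0, 0, 0], ![0, 0, 1, 0, 0, 0],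
      ![0, 0, 0, 1, 0, 0], ![0, 0, 0, 0, 1, 1]]),
    (3, ![![-1, 0, -1, -1, 0, 0], ![0, 1, 0, 1, 0, 0], ![1, 0, 0, 0, 0, 0], ![0, 0, 1, 0, 0, 0],
      ![0, 0, 0, 1, 1, 0], ![0, 0, 0, 0, 0, 1]]),
    (2, ![![-1, 0, -1, 0, 0, 0], ![0, 1, 0, 0, 0, 0], ![1, 0, 0, 0, 0, 0], ![0, 0, 1, 1, 0, 0], ![0, 0, 0, 0, 1, 0],
      ![0, 0, 0, 0, 0, 1]]),
    (0, ![![-1, 0, 0, 0, 0, 0], ![0, 1, 0, 0, 0, 0], ![1, 0, 1, 0, 0, 0], ![0, 0, 0, 1, 0, 0], ![0, 0, 0, 0, 1, 0],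
      ![0, 0, 0, 0, 0, 1]])]

theorem q5_ok : ChainOK Am q5 := by decide +kernel

/-- coefficients of the functional, order 5 -/
def w5 : Fin 4 → Fin 6 → ℤ := ![![-1, 1, 0, 0, -1, 1], ![-1, 1, 0, -1, 1, 0],
    ![-1, 0, -1, 1, 0, 0], ![-2, 0, 1, 0, 0, 0]]

theorem g5 : EigOK (fun i j => hd q5 j i) c5 w5 ![0, 0, 0, 0, 0, 1] := by decide +kernel

theorem f5 : ∀ m, ∑ j, vec chevE6 6 r0 j * hd q5 j m = vec chevE6 6 r0 m := by decide +kernel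

theorem z5 : ∀ i, ∑ m, vec chevE6 6 r0 m * w5 i m = 0 := by decide +kernel

theorem rel_5_p {F : Type u} [Field F] [Finite F] {r s : ℕ} (hr : r.Prime) (hs : s.Prime)
    (h1 : phiC c5 (Nat.card F) 3 r) (h2 : s ∣ Nat.card F) : PG.Rel ↥(chevE6.group F) r s := by
  have := finW
  exact rel_p_of_eig hp CoxeterMatrix.E₆.toCoxeterSystem H129.TorusChar.invC_E6 (by norm_num)
    (chain_rep hp CoxeterMatrix.E₆.toCoxeterSystem hA q5_ok) g5 (Or.inl (by decide +kernel)) r0_lt f5 z5 hr hs h1.1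
    (cb_surj hs h2) h1.2 h2

/-- partial products, characteristic polynomial Φ1 Φ2 Φ3 Φ6 -/
def q6 : List (Fin 6 × Mat 6) := [
    (5, ![![-1, 0, -1, -1, -1, -1], ![0, 1, 0, 1, 1, 1], ![1, 0, 0, 0, 0, 0], ![0, 0, 1, 0, 0, 0],
      ![0, 0, 0, 1, 0, 0], ![0, 0, 0, 0, 1, 0]]),
    (4, ![![-1, 0, -1, -1, -1, 0], ![0, 1, 0, 1, 1, 0], ![1, 0, 0, 0, 0, 0], ![0, 0, 1, 0, 0, 0],
      ![0, 0, 0, 1, 0, 0], ![0, 0, 0, 0, 1, 1]]),
    (3, ![![-1, 0, -1, -1, 0, 0], ![0, 1, 0, 1, 0, 0], ![1, 0, 0, 0, 0, 0], ![0, 0, 1, 0, 0, 0],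
      ![0, 0, 0, 1, 1, 0], ![0, 0, 0, 0, 0, 1]]),
    (2, ![![-1, 0, -1, 0, 0, 0], ![0, 1, 0, 0, 0, 0], ![1, 0, 0, 0, 0, 0], ![0, 0, 1, 1, 0, 0], ![0, 0, 0, 0, 1, 0],
      ![0, 0, 0, 0, 0, 1]]),
    (0, ![![-1, 0, 0, 0, 0, 0], ![0, 1, 0, 0, 0, 0], ![1, 0, 1, 0, 0, 0], ![0, 0, 0, 1, 0, 0], ![0, 0, 0, 0, 1, 0],
      ![0, 0, 0, 0, 0, 1]])]

theorem q6_ok : ChainOK Am q6 := by decide +kernel

/-- coefficients of the functional, order 6 -/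
def w6 : Fin 2 → Fin 6 → ℤ := ![![1, 0, 1, 0, -1, -1], ![0, 2, -1, -1, 0, 1]]

theorem g6 : EigOK (fun i j => hd q6 j i) c6 w6 ![1, 0, 0, 0, 0, 0] := by decide +kernel

theorem f6 : ∀ m, ∑ j, vec chevE6 6 r0 j * hd q6 j m = vec chevE6 6 r0 m := by decide +kernel

theorem z6 : ∀ i, ∑ m, vec chevE6 6 r0 m * w6 i m = 0 := by decide +kernel

theorem rel_6_p {F : Type u} [Field F] [Finite F] {r s : ℕ} (hr : r.Prime) (hs : s.Prime)
    (h1 : phiC c6 (Nat.card F) 3 r) (h2 : s ∣ Nat.card F) : PG.Rel ↥(chevE6.group F) r s := by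
  have := finW
  exact rel_p_of_eig hp CoxeterMatrix.E₆.toCoxeterSystem H129.TorusChar.invC_E6 (by norm_num)
    (chain_rep hp CoxeterMatrix.E₆.toCoxeterSystem hA q6_ok) g6 (Or.inl (by decide +kernel)) r0_lt f6 z6 hr hs h1.1
    (cb_surj hs h2) h1.2 h2

end Cfsg.Agent.R2.Spec.EE.CertE6
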