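import Cfsg.Agent.H168.ExcE7

/-!
# Adjacency of the prime divisors of two cyclotomic values through one torus, type E7, part 1 (helper2)

Chains, eigenvectors and functionals as in `H168/ExcPairE7.lean`.
-/

set_option autoImplicit false

namespace Cfsg.Agent.R2.Spec.EE.CertE7

open Cfsg.Agent.H129.WData Cfsg.Agent.ChevalleyStructure.CoxeterGeomTypes Cfsg.Agent.Nodes.RGDChev
open Cfsg.Lie Cfsg.Lie.ChevalleyDatum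
open Cfsg.Agent Cfsg.Agent.H493 Cfsg.Agent.H493.PGTorus Cfsg.Agent.H493.PGCyc Cfsg.Agent.H493.PGE7
open Cfsg.Agent.H168.ExcAdj

universe u

/-- partial products of an element with characteristic polynomial Φ1^2 Φ2 Φ3 Φ6 -/
def ch1_2_3_6 : List (Fin 7 × Mat 7) := [
    (0, ![![0, 0, 1, 1, 1, 1, 0], ![0, 1, 0, 1, 1, 1, 0], ![-1, 0, -1, -1, -1, -1, 0], ![1, 0, 1, 0, 0, 0, 0],
      ![0, 0, 0, 1, 0, 0, 0], ![0, 0, 0, 0, 1, 0, 0], ![0, 0, 0, 0, 0, 1, 1]]),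
    (5, ![![1, 0, 1, 1, 1, 1, 0], ![0, 1, 0, 1, 1, 1, 0], ![0, 0, -1, -1, -1, -1, 0], ![0, 0, 1, 0, 0, 0, 0],
      ![0, 0, 0, 1, 0, 0, 0], ![0, 0, 0, 0, 1, 0, 0], ![0, 0, 0, 0, 0, 1, 1]]),
    (4, ![![1, 0, 1, 1, 1, 0, 0], ![0, 1, 0, 1, 1, 0, 0], ![0, 0, -1, -1, -1, 0, 0], ![0, 0, 1, 0, 0, 0, 0],
      ![0, 0, 0, 1, 0, 0, 0], ![0, 0, 0, 0, 1, 1, 0], ![0, 0, 0, 0, 0, 0, 1]]),
    (3, ![![1, 0, 1, 1, 0, 0, 0], ![0, 1, 0, 1, 0, 0, 0], ![0, 0, -1, -1, 0, 0, 0], ![0, 0, 1, 0, 0, 0, 0],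
      ![0, 0, 0, 1, 1, 0, 0], ![0, 0, 0, 0, 0, 1, 0], ![0, 0, 0, 0, 0, 0, 1]]),
    (2, ![![1, 0, 1, 0, 0, 0, 0], ![0, 1, 0, 0, 0, 0, 0], ![0, 0, -1, 0, 0, 0, 0], ![0, 0, 1, 1, 0, 0, 0],
      ![0, 0, 0, 0, 1, 0, 0], ![0, 0, 0, 0, 0, 1, 0], ![0, 0, 0, 0, 0, 0, 1]])]

theorem ch1_2_3_6_ok : ChainOK Am ch1_2_3_6 := by decide +kernel

/-- coefficients of the eigenvector, order 1 -/
def v1_2_3_6_at1 : Fin 1 → Fin 7 → ℤ := ![![0, -1, 0, 0, 1, 2, 3]]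

theorem e1_2_3_6_at1 : EigOK (hd ch1_2_3_6) c1 v1_2_3_6_at1 ![0, -1, 0, 0, 0, 0, 0] := by decide +kernel

/-- coefficients of the eigenvector, order 2 -/
def v1_2_3_6_at2 : Fin 1 → Fin 7 → ℤ := ![![-1, 0, 0, 1, 0, 1, 0]]

theorem e1_2_3_6_at2 : EigOK (hd ch1_2_3_6) c2 v1_2_3_6_at2 ![-1, 0, 0, 0, 0, 0, 0] := by decide +kernel

/-- coefficients of the eigenvector, order 3 -/
def v1_2_3_6_at3 : Fin 2 → Fin 7 → ℤ := ![![-1, 0, -1, 0, 0, -1, 0], ![-1, 0, 0, 0, 1, 0, 0]]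

theorem e1_2_3_6_at3 : EigOK (hd ch1_2_3_6) c3 v1_2_3_6_at3 ![0, 0, -1, 0, 0, 0, 0] := by decide +kernel

/-- coefficients of the eigenvector, order 6 -/
def v1_2_3_6_at6 : Fin 2 → Fin 7 → ℤ := ![![-1, 0, -2, -2, -1, 0, 0], ![0, 0, 1, 0, -1, -1, 0]]

theorem e1_2_3_6_at6 : EigOK (hd ch1_2_3_6) c6 v1_2_3_6_at6 ![-1, 0, 0, 0, 0, 0, 0] := by decide +kernel

theorem rel_2_1 {F : Type u} [Field F] [Finite F] {r s : ℕ} (hr : r.Prime) (hs : s.Prime) (hrs : r ≠ s)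
    (h1 : phiC c2 (Nat.card F) 2 r) (h2 : phiC c1 (Nat.card F) 2 s) :
    PG.Rel ↥(chevE7.group F) r s := by
  have := finW
  exact rel_of_eig hp CoxeterMatrix.E₇.toCoxeterSystem H129.TorusChar.invC_E7 (by norm_num)
    (chain_rep hp CoxeterMatrix.E₇.toCoxeterSystem hA ch1_2_3_6_ok) e1_2_3_6_at2 e1_2_3_6_at1 hr hs hrs h1.1 h2.1 h1.2 h2.2

theorem rel_3_1 {F : Type u} [Field F] [Finite F] {r s : ℕ} (hr : r.Prime) (hs : s.Prime) (hrs : r ≠ s)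
    (h1 : phiC c3 (Nat.card F) 2 r) (h2 : phiC c1 (Nat.card F) 2 s) :
    PG.Rel ↥(chevE7.group F) r s := by
  have := finW
  exact rel_of_eig hp CoxeterMatrix.E₇.toCoxeterSystem H129.TorusChar.invC_E7 (by norm_num)
    (chain_rep hp CoxeterMatrix.E₇.toCoxeterSystem hA ch1_2_3_6_ok) e1_2_3_6_at3 e1_2_3_6_at1 hr hs hrs h1.1 h2.1 h1.2 h2.2

theorem rel_6_1 {F : Type u} [Field F] [Finite F] {r s : ℕ} (hr : r.Prime) (hs : s.Prime) (hrs : r ≠ s)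
    (h1 : phiC c6 (Nat.card F) 2 r) (h2 : phiC c1 (Nat.card F) 2 s) :
    PG.Rel ↥(chevE7.group F) r s := by
  have := finW
  exact rel_of_eig hp CoxeterMatrix.E₇.toCoxeterSystem H129.TorusChar.invC_E7 (by norm_num)
    (chain_rep hp CoxeterMatrix.E₇.toCoxeterSystem hA ch1_2_3_6_ok) e1_2_3_6_at6 e1_2_3_6_at1 hr hs hrs h1.1 h2.1 h1.2 h2.2

theorem rel_3_2 {F : Type u} [Field F] [Finite F] {r s : ℕ} (hr : r.Prime) (hs : s.Prime) (hrs : r ≠ s)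
    (h1 : phiC c3 (Nat.card F) 2 r) (h2 : phiC c2 (Nat.card F) 2 s) :
    PG.Rel ↥(chevE7.group F) r s := by
  have := finW
  exact rel_of_eig hp CoxeterMatrix.E₇.toCoxeterSystem H129.TorusChar.invC_E7 (by norm_num)
    (chain_rep hp CoxeterMatrix.E₇.toCoxeterSystem hA ch1_2_3_6_ok) e1_2_3_6_at3 e1_2_3_6_at2 hr hs hrs h1.1 h2.1 h1.2 h2.2

theorem rel_6_2 {F : Type u} [Field F] [Finite F] {r s : ℕ} (hr : r.Prime) (hs : s.Prime) (hrs : r ≠ s)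
    (h1 : phiC c6 (Nat.card F) 2 r) (h2 : phiC c2 (Nat.card F) 2 s) :
    PG.Rel ↥(chevE7.group F) r s := by
  have := finW
  exact rel_of_eig hp CoxeterMatrix.E₇.toCoxeterSystem H129.TorusChar.invC_E7 (by norm_num)
    (chain_rep hp CoxeterMatrix.E₇.toCoxeterSystem hA ch1_2_3_6_ok) e1_2_3_6_at6 e1_2_3_6_at2 hr hs hrs h1.1 h2.1 h1.2 h2.2

theorem rel_6_3 {F : Type u} [Field F] [Finite F] {r s : ℕ} (hr : r.Prime) (hs : s.Prime) (hrs : r ≠ s)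
    (h1 : phiC c6 (Nat.card F) 2 r) (h2 : phiC c3 (Nat.card F) 2 s) :
    PG.Rel ↥(chevE7.group F) r s := by
  have := finW
  exact rel_of_eig hp CoxeterMatrix.E₇.toCoxeterSystem H129.TorusChar.invC_E7 (by norm_num)
    (chain_rep hp CoxeterMatrix.E₇.toCoxeterSystem hA ch1_2_3_6_ok) e1_2_3_6_at6 e1_2_3_6_at3 hr hs hrs h1.1 h2.1 h1.2 h2.2

/-- partial products of an element with characteristic polynomial Φ1^2 Φ2 Φ3 Φ4 -/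
def ch1_2_3_4 : List (Fin 7 × Mat 7) := [
    (1, ![![1, 0, 1, 0, 0, 0, 0], ![0, 0, 1, 1, 0, 0, 0], ![0, 1, 0, 1, 0, 0, 0], ![0, -1, -1, -1, 0, 0, 0],
      ![0, 1, 1, 1, 1, 1, 0], ![0, 0, 0, 0, 0, 0, 1], ![0, 0, 0, 0, 0, -1, -1]]),
    (2, ![![1, 0, 1, 0, 0, 0, 0], ![0, 1, 1, 1, 0, 0, 0], ![0, 0, 0, 1, 0, 0, 0], ![0, 0, -1, -1, 0, 0, 0],
      ![0, 0, 1, 1, 1, 1, 0], ![0, 0, 0, 0, 0, 0, 1], ![0, 0, 0, 0, 0, -1, -1]]),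
    (3, ![![1, 0, 0, 0, 0, 0, 0], ![0, 1, 0, 1, 0, 0, 0], ![0, 0, 1, 1, 0, 0, 0], ![0, 0, 0, -1, 0, 0, 0],
      ![0, 0, 0, 1, 1, 1, 0], ![0, 0, 0, 0, 0, 0, 1], ![0, 0, 0, 0, 0, -1, -1]]),
    (5, ![![1, 0, 0, 0, 0, 0, 0], ![0, 1, 0, 0, 0, 0, 0], ![0, 0, 1, 0, 0, 0, 0], ![0, 0, 0, 1, 0, 0, 0],
      ![0, 0, 0, 0, 1, 1, 0], ![0, 0, 0, 0, 0, 0, 1], ![0, 0, 0, 0, 0, -1, -1]]),
    (6, ![![1, 0, 0, 0, 0, 0, 0], ![0, 1, 0, 0, 0, 0, 0], ![0, 0, 1, 0, 0, 0, 0], ![0, 0, 0, 1, 0, 0, 0],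
      ![0, 0, 0, 0, 1, 0, 0], ![0, 0, 0, 0, 0, 1, 1], ![0, 0, 0, 0, 0, 0, -1]])]

theorem ch1_2_3_4_ok : ChainOK Am ch1_2_3_4 := by decide +kernel

/-- coefficients of the eigenvector, order 1 -/
def v1_2_3_4_at1 : Fin 1 → Fin 7 → ℤ := ![![-4, -1, -3, -2, 0, 0, 0]]

theorem e1_2_3_4_at1 : EigOK (hd ch1_2_3_4) c1 v1_2_3_4_at1 ![0, -1, 0, 0, 0, 0, 0] := by decide +kernel

/-- coefficients of the eigenvector, order 2 -/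
def v1_2_3_4_at2 : Fin 1 → Fin 7 → ℤ := ![![0, -1, 1, 0, 0, 0, 0]]

theorem e1_2_3_4_at2 : EigOK (hd ch1_2_3_4) c2 v1_2_3_4_at2 ![0, -1, 0, 0, 0, 0, 0] := by decide +kernel

/-- coefficients of the eigenvector, order 3 -/
def v1_2_3_4_at3 : Fin 2 → Fin 7 → ℤ := ![![0, 0, 0, 0, 0, -1, 0], ![0, 0, 0, 0, 0, 0, 1]]

theorem e1_2_3_4_at3 : EigOK (hd ch1_2_3_4) c3 v1_2_3_4_at3 ![0, 0, 0, 0, 0, -1, 0] := by decide +kernel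

/-- coefficients of the eigenvector, order 4 -/
def v1_2_3_4_at4 : Fin 2 → Fin 7 → ℤ := ![![0, -1, -1, -1, 0, 0, 0], ![0, 0, 0, 1, 0, 0, 0]]

theorem e1_2_3_4_at4 : EigOK (hd ch1_2_3_4) c4 v1_2_3_4_at4 ![0, -1, 0, 0, 0, 0, 0] := by decide +kernel

theorem rel_4_1 {F : Type u} [Field F] [Finite F] {r s : ℕ} (hr : r.Prime) (hs : s.Prime) (hrs : r ≠ s)
    (h1 : phiC c4 (Nat.card F) 2 r) (h2 : phiC c1 (Nat.card F) 2 s) :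
    PG.Rel ↥(chevE7.group F) r s := by
  have := finW
  exact rel_of_eig hp CoxeterMatrix.E₇.toCoxeterSystem H129.TorusChar.invC_E7 (by norm_num)
    (chain_rep hp CoxeterMatrix.E₇.toCoxeterSystem hA ch1_2_3_4_ok) e1_2_3_4_at4 e1_2_3_4_at1 hr hs hrs h1.1 h2.1 h1.2 h2.2

theorem rel_4_2 {F : Type u} [Field F] [Finite F] {r s : ℕ} (hr : r.Prime) (hs : s.Prime) (hrs : r ≠ s)
    (h1 : phiC c4 (Nat.card F) 2 r) (h2 : phiC c2 (Nat.card F) 2 s) :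
    PG.Rel ↥(chevE7.group F) r s := by
  have := finW
  exact rel_of_eig hp CoxeterMatrix.E₇.toCoxeterSystem H129.TorusChar.invC_E7 (by norm_num)
    (chain_rep hp CoxeterMatrix.E₇.toCoxeterSystem hA ch1_2_3_4_ok) e1_2_3_4_at4 e1_2_3_4_at2 hr hs hrs h1.1 h2.1 h1.2 h2.2

theorem rel_4_3 {F : Type u} [Field F] [Finite F] {r s : ℕ} (hr : r.Prime) (hs : s.Prime) (hrs : r ≠ s)
    (h1 : phiC c4 (Nat.card F) 2 r) (h2 : phiC c3 (Nat.card F) 2 s) :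
    PG.Rel ↥(chevE7.group F) r s := by
  have := finW
  exact rel_of_eig hp CoxeterMatrix.E₇.toCoxeterSystem H129.TorusChar.invC_E7 (by norm_num)
    (chain_rep hp CoxeterMatrix.E₇.toCoxeterSystem hA ch1_2_3_4_ok) e1_2_3_4_at4 e1_2_3_4_at3 hr hs hrs h1.1 h2.1 h1.2 h2.2

/-- partial products of an element with characteristic polynomial Φ1^2 Φ2 Φ8 -/
def ch1_2_8 : List (Fin 7 × Mat 7) := [
    (2, ![![-1, 0, -1, 0, 0, 0, 0], ![0, -1, -1, -1, 0, 0, 0], ![1, 0, 1, 1, 0, 0, 0], ![0, 1, 1, 1, 1, 0, 0],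
      ![0, 0, -1, -1, -1, 0, 0], ![0, 0, 1, 1, 1, 1, 0], ![0, 0, 0, 0, 0, 0, 1]]),
    (0, ![![-1, 0, 0, 0, 0, 0, 0], ![0, -1, 0, -1, 0, 0, 0], ![1, 0, 1, 1, 0, 0, 0], ![0, 1, 0, 1, 1, 0, 0],
      ![0, 0, 0, -1, -1, 0, 0], ![0, 0, 0, 1, 1, 1, 0], ![0, 0, 0, 0, 0, 0, 1]]),
    (3, ![![1, 0, 0, 0, 0, 0, 0], ![0, -1, 0, -1, 0, 0, 0], ![0, 0, 1, 1, 0, 0, 0], ![0, 1, 0, 1, 1, 0, 0],
      ![0, 0, 0, -1, -1, 0, 0], ![0, 0, 0, 1, 1, 1, 0], ![0, 0, 0, 0, 0, 0, 1]]),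
    (1, ![![1, 0, 0, 0, 0, 0, 0], ![0, -1, 0, 0, 0, 0, 0], ![0, 0, 1, 0, 0, 0, 0], ![0, 1, 0, 1, 1, 0, 0],
      ![0, 0, 0, 0, -1, 0, 0], ![0, 0, 0, 0, 1, 1, 0], ![0, 0, 0, 0, 0, 0, 1]]),
    (4, ![![1, 0, 0, 0, 0, 0, 0], ![0, 1, 0, 0, 0, 0, 0], ![0, 0, 1, 0, 0, 0, 0], ![0, 0, 0, 1, 1, 0, 0],
      ![0, 0, 0, 0, -1, 0, 0], ![0, 0, 0, 0, 1, 1, 0], ![0, 0, 0, 0, 0, 0, 1]])]

theorem ch1_2_8_ok : ChainOK Am ch1_2_8 := by decide +kernel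

/-- coefficients of the eigenvector, order 1 -/
def v1_2_8_at1 : Fin 1 → Fin 7 → ℤ := ![![0, 0, 0, 0, 0, 0, 1]]

theorem e1_2_8_at1 : EigOK (hd ch1_2_8) c1 v1_2_8_at1 ![0, 0, 0, 0, 0, 0, 1] := by decide +kernel

/-- coefficients of the eigenvector, order 2 -/
def v1_2_8_at2 : Fin 1 → Fin 7 → ℤ := ![![0, -1, 0, 0, 1, 0, 0]]

theorem e1_2_8_at2 : EigOK (hd ch1_2_8) c2 v1_2_8_at2 ![0, -1, 0, 0, 0, 0, 0] := by decide +kernel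

/-- coefficients of the eigenvector, order 8 -/
def v1_2_8_at8 : Fin 4 → Fin 7 → ℤ := ![![-1, 0, -1, 0, 0, 0, 0], ![1, 0, 0, 0, 0, 0, 0],
    ![0, 1, 1, 1, 1, 0, 0], ![0, 0, 0, 1, 0, 0, 0]]

theorem e1_2_8_at8 : EigOK (hd ch1_2_8) c8 v1_2_8_at8 ![0, 1, -1, 0, 0, 0, 0] := by decide +kernel

theorem rel_8_1 {F : Type u} [Field F] [Finite F] {r s : ℕ} (hr : r.Prime) (hs : s.Prime) (hrs : r ≠ s)
    (h1 : phiC c8 (Nat.card F) 2 r) (h2 : phiC c1 (Nat.card F) 2 s) :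
    PG.Rel ↥(chevE7.group F) r s := by
  have := finW
  exact rel_of_eig hp CoxeterMatrix.E₇.toCoxeterSystem H129.TorusChar.invC_E7 (by norm_num)
    (chain_rep hp CoxeterMatrix.E₇.toCoxeterSystem hA ch1_2_8_ok) e1_2_8_at8 e1_2_8_at1 hr hs hrs h1.1 h2.1 h1.2 h2.2

theorem rel_8_2 {F : Type u} [Field F] [Finite F] {r s : ℕ} (hr : r.Prime) (hs : s.Prime) (hrs : r ≠ s)
    (h1 : phiC c8 (Nat.card F) 2 r) (h2 : phiC c2 (Nat.card F) 2 s) :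
    PG.Rel ↥(chevE7.group F) r s := by
  have := finW
  exact rel_of_eig hp CoxeterMatrix.E₇.toCoxeterSystem H129.TorusChar.invC_E7 (by norm_num)
    (chain_rep hp CoxeterMatrix.E₇.toCoxeterSystem hA ch1_2_8_ok) e1_2_8_at8 e1_2_8_at2 hr hs hrs h1.1 h2.1 h1.2 h2.2

/-- partial products of an element with characteristic polynomial Φ1^2 Φ2 Φ5 -/
def ch1_2_5 : List (Fin 7 × Mat 7) := [
    (0, ![![-1, 0, 0, 0, 0, 0, 0], ![0, 1, 0, 1, 1, 0, 0], ![1, 0, 1, 1, 1, 0, 0], ![0, 0, 0, -1, -1, 0, 0],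
      ![0, 0, 0, 1, 1, 1, 1], ![0, 0, 0, 0, -1, -1, -1], ![0, 0, 0, 0, 1, 1, 0]]),
    (4, ![![1, 0, 0, 0, 0, 0, 0], ![0, 1, 0, 1, 1, 0, 0], ![0, 0, 1, 1, 1, 0, 0], ![0, 0, 0, -1, -1, 0, 0],
      ![0, 0, 0, 1, 1, 1, 1], ![0, 0, 0, 0, -1, -1, -1], ![0, 0, 0, 0, 1, 1, 0]]),
    (3, ![![1, 0, 0, 0, 0, 0, 0], ![0, 1, 0, 1, 0, 0, 0], ![0, 0, 1, 1, 0, 0, 0], ![0, 0, 0, -1, 0, 0, 0],
      ![0, 0, 0, 1, 1, 1, 1], ![0, 0, 0, 0, 0, -1, -1], ![0, 0, 0, 0, 0, 1, 0]]),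
    (6, ![![1, 0, 0, 0, 0, 0, 0], ![0, 1, 0, 0, 0, 0, 0], ![0, 0, 1, 0, 0, 0, 0], ![0, 0, 0, 1, 0, 0, 0],
      ![0, 0, 0, 0, 1, 1, 1], ![0, 0, 0, 0, 0, -1, -1], ![0, 0, 0, 0, 0, 1, 0]]),
    (5, ![![1, 0, 0, 0, 0, 0, 0], ![0, 1, 0, 0, 0, 0, 0], ![0, 0, 1, 0, 0, 0, 0], ![0, 0, 0, 1, 0, 0, 0],
      ![0, 0, 0, 0, 1, 1, 0], ![0, 0, 0, 0, 0, -1, 0], ![0, 0, 0, 0, 0, 1, 1]])]

theorem ch1_2_5_ok : ChainOK Am ch1_2_5 := by decide +kernel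

/-- coefficients of the eigenvector, order 1 -/
def v1_2_5_at1 : Fin 1 → Fin 7 → ℤ := ![![1, -2, 2, 0, 0, 0, 0]]

theorem e1_2_5_at1 : EigOK (hd ch1_2_5) c1 v1_2_5_at1 ![1, 0, 0, 0, 0, 0, 0] := by decide +kernel

/-- coefficients of the eigenvector, order 2 -/
def v1_2_5_at2 : Fin 1 → Fin 7 → ℤ := ![![1, 0, 0, 0, 0, 0, 0]]

theorem e1_2_5_at2 : EigOK (hd ch1_2_5) c2 v1_2_5_at2 ![1, 0, 0, 0, 0, 0, 0] := by decide +kernel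

/-- coefficients of the eigenvector, order 5 -/
def v1_2_5_at5 : Fin 4 → Fin 7 → ℤ := ![![0, 0, 0, 1, 1, 0, 0], ![0, 0, 0, 0, 1, 0, 0],
    ![0, 0, 0, 0, 0, -1, 0], ![0, 0, 0, 0, 0, -1, -1]]

theorem e1_2_5_at5 : EigOK (hd ch1_2_5) c5 v1_2_5_at5 ![0, 0, 0, 1, 0, 0, 0] := by decide +kernel

theorem rel_5_1 {F : Type u} [Field F] [Finite F] {r s : ℕ} (hr : r.Prime) (hs : s.Prime) (hrs : r ≠ s)
    (h1 : phiC c5 (Nat.card F) 2 r) (h2 : phiC c1 (Nat.card F) 2 s) :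
    PG.Rel ↥(chevE7.group F) r s := by
  have := finW
  exact rel_of_eig hp CoxeterMatrix.E₇.toCoxeterSystem H129.TorusChar.invC_E7 (by norm_num)
    (chain_rep hp CoxeterMatrix.E₇.toCoxeterSystem hA ch1_2_5_ok) e1_2_5_at5 e1_2_5_at1 hr hs hrs h1.1 h2.1 h1.2 h2.2

theorem rel_5_2 {F : Type u} [Field F] [Finite F] {r s : ℕ} (hr : r.Prime) (hs : s.Prime) (hrs : r ≠ s)
    (h1 : phiC c5 (Nat.card F) 2 r) (h2 : phiC c2 (Nat.card F) 2 s) :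
    PG.Rel ↥(chevE7.group F) r s := by
  have := finW
  exact rel_of_eig hp CoxeterMatrix.E₇.toCoxeterSystem H129.TorusChar.invC_E7 (by norm_num)
    (chain_rep hp CoxeterMatrix.E₇.toCoxeterSystem hA ch1_2_5_ok) e1_2_5_at5 e1_2_5_at2 hr hs hrs h1.1 h2.1 h1.2 h2.2

/-- partial products of an element with characteristic polynomial Φ1 Φ2^2 Φ10 -/
def ch1_2_10 : List (Fin 7 × Mat 7) := [
    (6, ![![1, 0, 1, 1, 1, 1, 1], ![0, -1, 0, -1, -1, -1, -1], ![0, 0, -1, -1, -1, -1, -1], ![0, 1, 1, 1, 1, 1, 1],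
      ![0, 0, 0, 1, 0, 0, 0], ![0, 0, 0, 0, 1, 0, 0], ![0, 0, 0, 0, 0, 1, 0]]),
    (5, ![![1, 0, 1, 1, 1, 1, 0], ![0, -1, 0, -1, -1, -1, 0], ![0, 0, -1, -1, -1, -1, 0], ![0, 1, 1, 1, 1, 1, 0],
      ![0, 0, 0, 1, 0, 0, 0], ![0, 0, 0, 0, 1, 0, 0], ![0, 0, 0, 0, 0, 1, 1]]),
    (4, ![![1, 0, 1, 1, 1, 0, 0], ![0, -1, 0, -1, -1, 0, 0], ![0, 0, -1, -1, -1, 0, 0], ![0, 1, 1, 1, 1, 0, 0],
      ![0, 0, 0, 1, 0, 0, 0], ![0, 0, 0, 0, 1, 1, 0], ![0, 0, 0, 0, 0, 0, 1]]),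
    (3, ![![1, 0, 1, 1, 0, 0, 0], ![0, -1, 0, -1, 0, 0, 0], ![0, 0, -1, -1, 0, 0, 0], ![0, 1, 1, 1, 0, 0, 0],
      ![0, 0, 0, 1, 1, 0, 0], ![0, 0, 0, 0, 0, 1, 0], ![0, 0, 0, 0, 0, 0, 1]]),
    (1, ![![1, 0, 1, 0, 0, 0, 0], ![0, -1, 0, 0, 0, 0, 0], ![0, 0, -1, 0, 0, 0, 0], ![0, 1, 1, 1, 0, 0, 0],
      ![0, 0, 0, 0, 1, 0, 0], ![0, 0, 0, 0, 0, 1, 0], ![0, 0, 0, 0, 0, 0, 1]]),
    (2, ![![1, 0, 1, 0, 0, 0, 0], ![0, 1, 0, 0, 0, 0, 0], ![0, 0, -1, 0, 0, 0, 0], ![0, 0, 1, 1, 0, 0, 0],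
      ![0, 0, 0, 0, 1, 0, 0], ![0, 0, 0, 0, 0, 1, 0], ![0, 0, 0, 0, 0, 0, 1]])]

theorem ch1_2_10_ok : ChainOK Am ch1_2_10 := by decide +kernel

/-- coefficients of the eigenvector, order 1 -/
def v1_2_10_at1 : Fin 1 → Fin 7 → ℤ := ![![-2, -2, -3, -4, -3, -2, -1]]

theorem e1_2_10_at1 : EigOK (hd ch1_2_10) c1 v1_2_10_at1 ![0, 0, 0, 0, 0, 0, -1] := by decide +kernel

/-- coefficients of the eigenvector, order 2 -/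
def v1_2_10_at2 : Fin 1 → Fin 7 → ℤ := ![![0, 1, -1, 0, 0, 0, 0]]

theorem e1_2_10_at2 : EigOK (hd ch1_2_10) c2 v1_2_10_at2 ![0, 1, 0, 0, 0, 0, 0] := by decide +kernel

/-- coefficients of the eigenvector, order 10 -/
def v1_2_10_at10 : Fin 4 → Fin 7 → ℤ := ![![0, 0, 0, 0, -1, -1, 0], ![0, 0, 0, 0, 1, 0, -1],
    ![0, 1, 1, 1, 0, 1, 1], ![0, 0, 0, 1, 1, 0, 0]]

theorem e1_2_10_at10 : EigOK (hd ch1_2_10) c10 v1_2_10_at10 ![0, 0, 1, 0, 0, -1, 0] := by decide +kernel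

theorem rel_10_1 {F : Type u} [Field F] [Finite F] {r s : ℕ} (hr : r.Prime) (hs : s.Prime) (hrs : r ≠ s)
    (h1 : phiC c10 (Nat.card F) 2 r) (h2 : phiC c1 (Nat.card F) 2 s) :
    PG.Rel ↥(chevE7.group F) r s := by
  have := finW
  exact rel_of_eig hp CoxeterMatrix.E₇.toCoxeterSystem H129.TorusChar.invC_E7 (by norm_num)
    (chain_rep hp CoxeterMatrix.E₇.toCoxeterSystem hA ch1_2_10_ok) e1_2_10_at10 e1_2_10_at1 hr hs hrs h1.1 h2.1 h1.2 h2.2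

theorem rel_10_2 {F : Type u} [Field F] [Finite F] {r s : ℕ} (hr : r.Prime) (hs : s.Prime) (hrs : r ≠ s)
    (h1 : phiC c10 (Nat.card F) 2 r) (h2 : phiC c2 (Nat.card F) 2 s) :
    PG.Rel ↥(chevE7.group F) r s := by
  have := finW
  exact rel_of_eig hp CoxeterMatrix.E₇.toCoxeterSystem H129.TorusChar.invC_E7 (by norm_num)
    (chain_rep hp CoxeterMatrix.E₇.toCoxeterSystem hA ch1_2_10_ok) e1_2_10_at10 e1_2_10_at2 hr hs hrs h1.1 h2.1 h1.2 h2.2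

end Cfsg.Agent.R2.Spec.EE.CertE7
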