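import Cfsg.Agent.H168.ExcE7

/-!
# Adjacency of the prime divisors of two cyclotomic values through one torus, type E7, part 2 (helper2)

Chains, eigenvectors and functionals as in `H168/ExcPairE7.lean`.
-/

set_option autoImplicit false

namespace Cfsg.Agent.R2.Spec.EE.CertE7

open Cfsg.Agent.H129.WData Cfsg.Agent.ChevalleyStructure.CoxeterGeomTypes Cfsg.Agent.Nodes.RGDChev
open Cfsg.Lie Cfsg.Lie.ChevalleyDatum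
open Cfsg.Agent Cfsg.Agent.H493 Cfsg.Agent.H493.PGTorus Cfsg.Agent.H493.PGCyc Cfsg.Agent.H493.PGE7
open Cfsg.Agent.H168.ExcAdj

universe u

/-- partial products of an element with characteristic polynomial Φ1 Φ3 Φ12 -/
def ch1_3_12 : List (Fin 7 × Mat 7) := [
    (0, ![![0, 0, 1, 1, 1, 0, 0], ![0, -1, 0, -1, -1, 0, 0], ![-1, 0, -1, -1, -1, 0, 0], ![1, 1, 1, 1, 1, 0, 0],
      ![0, 0, 0, 1, 1, 1, 0], ![0, 0, 0, 0, -1, -1, 0], ![0, 0, 0, 0, 1, 1, 1]]),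
    (4, ![![1, 0, 1, 1, 1, 0, 0], ![0, -1, 0, -1, -1, 0, 0], ![0, 0, -1, -1, -1, 0, 0], ![0, 1, 1, 1, 1, 0, 0],
      ![0, 0, 0, 1, 1, 1, 0], ![0, 0, 0, 0, -1, -1, 0], ![0, 0, 0, 0, 1, 1, 1]]),
    (3, ![![1, 0, 1, 1, 0, 0, 0], ![0, -1, 0, -1, 0, 0, 0], ![0, 0, -1, -1, 0, 0, 0], ![0, 1, 1, 1, 0, 0, 0],
      ![0, 0, 0, 1, 1, 1, 0], ![0, 0, 0, 0, 0, -1, 0], ![0, 0, 0, 0, 0, 1, 1]]),
    (1, ![![1, 0, 1, 0, 0, 0, 0], ![0, -1, 0, 0, 0, 0, 0], ![0, 0, -1, 0, 0, 0, 0], ![0, 1, 1, 1, 0, 0, 0],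
      ![0, 0, 0, 0, 1, 1, 0], ![0, 0, 0, 0, 0, -1, 0], ![0, 0, 0, 0, 0, 1, 1]]),
    (2, ![![1, 0, 1, 0, 0, 0, 0], ![0, 1, 0, 0, 0, 0, 0], ![0, 0, -1, 0, 0, 0, 0], ![0, 0, 1, 1, 0, 0, 0],
      ![0, 0, 0, 0, 1, 1, 0], ![0, 0, 0, 0, 0, -1, 0], ![0, 0, 0, 0, 0, 1, 1]]),
    (5, ![![1, 0, 0, 0, 0, 0, 0], ![0, 1, 0, 0, 0, 0, 0], ![0, 0, 1, 0, 0, 0, 0], ![0, 0, 0, 1, 0, 0, 0],
      ![0, 0, 0, 0, 1, 1, 0], ![0, 0, 0, 0, 0, -1, 0], ![0, 0, 0, 0, 0, 1, 1]])]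

theorem ch1_3_12_ok : ChainOK Am ch1_3_12 := by decide +kernel

/-- coefficients of the eigenvector, order 1 -/
def v1_3_12_at1 : Fin 1 → Fin 7 → ℤ := ![![2, 3, 4, 6, 5, 4, 3]]

theorem e1_3_12_at1 : EigOK (hd ch1_3_12) c1 v1_3_12_at1 ![-1, 1, 0, 0, 0, 0, 0] := by decide +kernel

/-- coefficients of the eigenvector, order 3 -/
def v1_3_12_at3 : Fin 2 → Fin 7 → ℤ := ![![0, 0, -1, 0, -1, 0, 0], ![-1, 0, -1, 0, 0, 1, 0]]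

theorem e1_3_12_at3 : EigOK (hd ch1_3_12) c3 v1_3_12_at3 ![0, 0, 0, 0, -1, 0, 0] := by decide +kernel

/-- coefficients of the eigenvector, order 12 -/
def v1_3_12_at12 : Fin 4 → Fin 7 → ℤ := ![![0, -1, 0, 0, 0, 0, 0], ![0, 0, -1, -1, 0, 0, 0],
    ![-1, 0, -1, -1, -1, -1, 0], ![0, -1, 0, -1, -1, 0, 0]]

theorem e1_3_12_at12 : EigOK (hd ch1_3_12) c12 v1_3_12_at12 ![0, -1, -1, 1, 0, 0, 0] := by decide +kernel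

theorem rel_12_1 {F : Type u} [Field F] [Finite F] {r s : ℕ} (hr : r.Prime) (hs : s.Prime) (hrs : r ≠ s)
    (h1 : phiC c12 (Nat.card F) 2 r) (h2 : phiC c1 (Nat.card F) 2 s) :
    PG.Rel ↥(chevE7.group F) r s := by
  have := finW
  exact rel_of_eig hp CoxeterMatrix.E₇.toCoxeterSystem H129.TorusChar.invC_E7 (by norm_num)
    (chain_rep hp CoxeterMatrix.E₇.toCoxeterSystem hA ch1_3_12_ok) e1_3_12_at12 e1_3_12_at1 hr hs hrs h1.1 h2.1 h1.2 h2.2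

theorem rel_12_3 {F : Type u} [Field F] [Finite F] {r s : ℕ} (hr : r.Prime) (hs : s.Prime) (hrs : r ≠ s)
    (h1 : phiC c12 (Nat.card F) 2 r) (h2 : phiC c3 (Nat.card F) 2 s) :
    PG.Rel ↥(chevE7.group F) r s := by
  have := finW
  exact rel_of_eig hp CoxeterMatrix.E₇.toCoxeterSystem H129.TorusChar.invC_E7 (by norm_num)
    (chain_rep hp CoxeterMatrix.E₇.toCoxeterSystem hA ch1_3_12_ok) e1_3_12_at12 e1_3_12_at3 hr hs hrs h1.1 h2.1 h1.2 h2.2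

/-- partial products of an element with characteristic polynomial Φ1 Φ7 -/
def ch1_7 : List (Fin 7 × Mat 7) := [
    (0, ![![0, 0, 1, 1, 1, 1, 1], ![0, 1, 0, 1, 1, 1, 1], ![-1, 0, -1, -1, -1, -1, -1], ![1, 0, 1, 0, 0, 0, 0],
      ![0, 0, 0, 1, 0, 0, 0], ![0, 0, 0, 0, 1, 0, 0], ![0, 0, 0, 0, 0, 1, 0]]),
    (6, ![![1, 0, 1, 1, 1, 1, 1], ![0, 1, 0, 1, 1, 1, 1], ![0, 0, -1, -1, -1, -1, -1], ![0, 0, 1, 0, 0, 0, 0],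
      ![0, 0, 0, 1, 0, 0, 0], ![0, 0, 0, 0, 1, 0, 0], ![0, 0, 0, 0, 0, 1, 0]]),
    (5, ![![1, 0, 1, 1, 1, 1, 0], ![0, 1, 0, 1, 1, 1, 0], ![0, 0, -1, -1, -1, -1, 0], ![0, 0, 1, 0, 0, 0, 0],
      ![0, 0, 0, 1, 0, 0, 0], ![0, 0, 0, 0, 1, 0, 0], ![0, 0, 0, 0, 0, 1, 1]]),
    (4, ![![1, 0, 1, 1, 1, 0, 0], ![0, 1, 0, 1, 1, 0, 0], ![0, 0, -1, -1, -1, 0, 0], ![0, 0, 1, 0, 0, 0, 0],
      ![0, 0, 0, 1, 0, 0, 0], ![0, 0, 0, 0, 1, 1, 0], ![0, 0, 0, 0, 0, 0, 1]]),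
    (3, ![![1, 0, 1, 1, 0, 0, 0], ![0, 1, 0, 1, 0, 0, 0], ![0, 0, -1, -1, 0, 0, 0], ![0, 0, 1, 0, 0, 0, 0],
      ![0, 0, 0, 1, 1, 0, 0], ![0, 0, 0, 0, 0, 1, 0], ![0, 0, 0, 0, 0, 0, 1]]),
    (2, ![![1, 0, 1, 0, 0, 0, 0], ![0, 1, 0, 0, 0, 0, 0], ![0, 0, -1, 0, 0, 0, 0], ![0, 0, 1, 1, 0, 0, 0],
      ![0, 0, 0, 0, 1, 0, 0], ![0, 0, 0, 0, 0, 1, 0], ![0, 0, 0, 0, 0, 0, 1]])]

theorem ch1_7_ok : ChainOK Am ch1_7 := by decide +kernel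

/-- coefficients of the eigenvector, order 1 -/
def v1_7_at1 : Fin 1 → Fin 7 → ℤ := ![![4, 7, 8, 12, 9, 6, 3]]

theorem e1_7_at1 : EigOK (hd ch1_7) c1 v1_7_at1 ![1, 0, 0, 0, 0, 0, -1] := by decide +kernel

/-- coefficients of the eigenvector, order 7 -/
def v1_7_at7 : Fin 6 → Fin 7 → ℤ := ![![0, 0, 0, 0, -1, 0, 0], ![0, 0, 0, 0, -1, -1, 0],
    ![0, 0, 0, 0, -1, -1, -1], ![0, 0, 1, 1, 0, 0, 0], ![1, 0, 1, 1, 0, 0, 0], ![0, 0, 0, 1, 0, 0, 0]]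

theorem e1_7_at7 : EigOK (hd ch1_7) c7 v1_7_at7 ![0, 0, 0, 0, -1, 1, 0] := by decide +kernel

theorem rel_7_1 {F : Type u} [Field F] [Finite F] {r s : ℕ} (hr : r.Prime) (hs : s.Prime) (hrs : r ≠ s)
    (h1 : phiC c7 (Nat.card F) 2 r) (h2 : phiC c1 (Nat.card F) 2 s) :
    PG.Rel ↥(chevE7.group F) r s := by
  have := finW
  exact rel_of_eig hp CoxeterMatrix.E₇.toCoxeterSystem H129.TorusChar.invC_E7 (by norm_num)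
    (chain_rep hp CoxeterMatrix.E₇.toCoxeterSystem hA ch1_7_ok) e1_7_at7 e1_7_at1 hr hs hrs h1.1 h2.1 h1.2 h2.2

/-- partial products of an element with characteristic polynomial Φ1 Φ3 Φ5 -/
def ch1_3_5 : List (Fin 7 × Mat 7) := [
    (1, ![![-1, 0, -1, 0, 0, 0, 0], ![0, 0, 1, 1, 0, 0, 0], ![1, 1, 1, 1, 0, 0, 0], ![0, -1, -1, -1, 0, 0, 0],
      ![0, 1, 1, 1, 1, 1, 0], ![0, 0, 0, 0, 0, 0, 1], ![0, 0, 0, 0, 0, -1, -1]]),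
    (2, ![![-1, 0, -1, 0, 0, 0, 0], ![0, 1, 1, 1, 0, 0, 0], ![1, 0, 1, 1, 0, 0, 0], ![0, 0, -1, -1, 0, 0, 0],
      ![0, 0, 1, 1, 1, 1, 0], ![0, 0, 0, 0, 0, 0, 1], ![0, 0, 0, 0, 0, -1, -1]]),
    (0, ![![-1, 0, 0, 0, 0, 0, 0], ![0, 1, 0, 1, 0, 0, 0], ![1, 0, 1, 1, 0, 0, 0], ![0, 0, 0, -1, 0, 0, 0],
      ![0, 0, 0, 1, 1, 1, 0], ![0, 0, 0, 0, 0, 0, 1], ![0, 0, 0, 0, 0, -1, -1]]),
    (3, ![![1, 0, 0, 0, 0, 0, 0], ![0, 1, 0, 1, 0, 0, 0], ![0, 0, 1, 1, 0, 0, 0], ![0, 0, 0, -1, 0, 0, 0],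
      ![0, 0, 0, 1, 1, 1, 0], ![0, 0, 0, 0, 0, 0, 1], ![0, 0, 0, 0, 0, -1, -1]]),
    (5, ![![1, 0, 0, 0, 0, 0, 0], ![0, 1, 0, 0, 0, 0, 0], ![0, 0, 1, 0, 0, 0, 0], ![0, 0, 0, 1, 0, 0, 0],
      ![0, 0, 0, 0, 1, 1, 0], ![0, 0, 0, 0, 0, 0, 1], ![0, 0, 0, 0, 0, -1, -1]]),
    (6, ![![1, 0, 0, 0, 0, 0, 0], ![0, 1, 0, 0, 0, 0, 0], ![0, 0, 1, 0, 0, 0, 0], ![0, 0, 0, 1, 0, 0, 0],
      ![0, 0, 0, 0, 1, 0, 0], ![0, 0, 0, 0, 0, 1, 1], ![0, 0, 0, 0, 0, 0, -1]])]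

theorem ch1_3_5_ok : ChainOK Am ch1_3_5 := by decide +kernel

/-- coefficients of the eigenvector, order 3 -/
def v1_3_5_at3 : Fin 2 → Fin 7 → ℤ := ![![0, 0, 0, 0, 0, -1, 0], ![0, 0, 0, 0, 0, 0, 1]]

theorem e1_3_5_at3 : EigOK (hd ch1_3_5) c3 v1_3_5_at3 ![0, 0, 0, 0, 0, -1, 0] := by decide +kernel

/-- coefficients of the eigenvector, order 5 -/
def v1_3_5_at5 : Fin 4 → Fin 7 → ℤ := ![![1, 0, 1, 0, 0, 0, 0], ![0, 0, 1, 0, 0, 0, 0],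
    ![0, 0, 0, -1, 0, 0, 0], ![0, -1, 0, -1, 0, 0, 0]]

theorem e1_3_5_at5 : EigOK (hd ch1_3_5) c5 v1_3_5_at5 ![1, 0, 0, 0, 0, 0, 0] := by decide +kernel

theorem rel_5_3 {F : Type u} [Field F] [Finite F] {r s : ℕ} (hr : r.Prime) (hs : s.Prime) (hrs : r ≠ s)
    (h1 : phiC c5 (Nat.card F) 2 r) (h2 : phiC c3 (Nat.card F) 2 s) :
    PG.Rel ↥(chevE7.group F) r s := by
  have := finW
  exact rel_of_eig hp CoxeterMatrix.E₇.toCoxeterSystem H129.TorusChar.invC_E7 (by norm_num)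
    (chain_rep hp CoxeterMatrix.E₇.toCoxeterSystem hA ch1_3_5_ok) e1_3_5_at5 e1_3_5_at3 hr hs hrs h1.1 h2.1 h1.2 h2.2

/-- partial products of an element with characteristic polynomial Φ1^2 Φ2 Φ4 Φ6 -/
def ch1_2_4_6 : List (Fin 7 × Mat 7) := [
    (2, ![![1, 0, 1, 0, 0, 0, 0], ![0, 0, 0, 0, 0, 1, 0], ![0, 1, 1, 2, 2, 1, 0], ![0, -1, -1, -1, -1, -1, 0],
      ![0, 1, 0, 0, 0, 0, 0], ![0, 0, 1, 1, 0, 0, 0], ![0, 0, 0, 0, 1, 1, 1]]),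
    (4, ![![1, 0, 0, 0, 0, 0, 0], ![0, 0, 0, 0, 0, 1, 0], ![0, 1, 1, 2, 2, 1, 0], ![0, -1, 0, -1, -1, -1, 0],
      ![0, 1, 0, 0, 0, 0, 0], ![0, 0, 0, 1, 0, 0, 0], ![0, 0, 0, 0, 1, 1, 1]]),
    (3, ![![1, 0, 0, 0, 0, 0, 0], ![0, 0, 0, 0, 1, 1, 0], ![0, 1, 1, 2, 1, 1, 0], ![0, -1, 0, -1, -1, -1, 0],
      ![0, 1, 0, 0, 0, 0, 0], ![0, 0, 0, 1, 1, 0, 0], ![0, 0, 0, 0, 0, 1, 1]]),
    (1, ![![1, 0, 0, 0, 0, 0, 0], ![0, 0, 0, 1, 1, 1, 0], ![0, 1, 1, 1, 1, 1, 0], ![0, -1, 0, -1, -1, -1, 0],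
      ![0, 1, 0, 1, 0, 0, 0], ![0, 0, 0, 0, 1, 0, 0], ![0, 0, 0, 0, 0, 1, 1]]),
    (5, ![![1, 0, 0, 0, 0, 0, 0], ![0, 1, 0, 1, 1, 1, 0], ![0, 0, 1, 1, 1, 1, 0], ![0, 0, 0, -1, -1, -1, 0],
      ![0, 0, 0, 1, 0, 0, 0], ![0, 0, 0, 0, 1, 0, 0], ![0, 0, 0, 0, 0, 1, 1]]),
    (4, ![![1, 0, 0, 0, 0, 0, 0], ![0, 1, 0, 1, 1, 0, 0], ![0, 0, 1, 1, 1, 0, 0], ![0, 0, 0, -1, -1, 0, 0],
      ![0, 0, 0, 1, 0, 0, 0], ![0, 0, 0, 0, 1, 1, 0], ![0, 0, 0, 0, 0, 0, 1]]),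
    (3, ![![1, 0, 0, 0, 0, 0, 0], ![0, 1, 0, 1, 0, 0, 0], ![0, 0, 1, 1, 0, 0, 0], ![0, 0, 0, -1, 0, 0, 0],
      ![0, 0, 0, 1, 1, 0, 0], ![0, 0, 0, 0, 0, 1, 0], ![0, 0, 0, 0, 0, 0, 1]])]

theorem ch1_2_4_6_ok : ChainOK Am ch1_2_4_6 := by decide +kernel

/-- coefficients of the eigenvector, order 4 -/
def v1_2_4_6_at4 : Fin 2 → Fin 7 → ℤ := ![![0, 0, -1, -1, -1, 0, 0], ![0, 1, 0, 1, 1, 0, 0]]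

theorem e1_2_4_6_at4 : EigOK (hd ch1_2_4_6) c4 v1_2_4_6_at4 ![0, 0, -1, 0, 0, 0, 0] := by decide +kernel

/-- coefficients of the eigenvector, order 6 -/
def v1_2_4_6_at6 : Fin 2 → Fin 7 → ℤ := ![![0, 0, 0, -1, 0, 0, 0], ![0, -1, -1, -1, -1, -1, 0]]

theorem e1_2_4_6_at6 : EigOK (hd ch1_2_4_6) c6 v1_2_4_6_at6 ![0, 1, 0, -1, 0, 0, 0] := by decide +kernel

theorem rel_6_4 {F : Type u} [Field F] [Finite F] {r s : ℕ} (hr : r.Prime) (hs : s.Prime) (hrs : r ≠ s)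
    (h1 : phiC c6 (Nat.card F) 2 r) (h2 : phiC c4 (Nat.card F) 2 s) :
    PG.Rel ↥(chevE7.group F) r s := by
  have := finW
  exact rel_of_eig hp CoxeterMatrix.E₇.toCoxeterSystem H129.TorusChar.invC_E7 (by norm_num)
    (chain_rep hp CoxeterMatrix.E₇.toCoxeterSystem hA ch1_2_4_6_ok) e1_2_4_6_at6 e1_2_4_6_at4 hr hs hrs h1.1 h2.1 h1.2 h2.2

/-- partial products of an element with characteristic polynomial Φ2 Φ18 -/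
def ch2_18 : List (Fin 7 × Mat 7) := [
    (0, ![![0, 0, 1, 1, 1, 0, 0], ![0, -1, 0, -1, -1, 0, 0], ![-1, 0, -1, -1, -1, 0, 0], ![1, 1, 1, 1, 1, 0, 0],
      ![0, 0, 0, 1, 1, 1, 0], ![0, 0, 0, 0, 0, 0, 1], ![0, 0, 0, 0, -1, -1, -1]]),
    (4, ![![1, 0, 1, 1, 1, 0, 0], ![0, -1, 0, -1, -1, 0, 0], ![0, 0, -1, -1, -1, 0, 0], ![0, 1, 1, 1, 1, 0, 0],
      ![0, 0, 0, 1, 1, 1, 0], ![0, 0, 0, 0, 0, 0, 1], ![0, 0, 0, 0, -1, -1, -1]]),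
    (3, ![![1, 0, 1, 1, 0, 0, 0], ![0, -1, 0, -1, 0, 0, 0], ![0, 0, -1, -1, 0, 0, 0], ![0, 1, 1, 1, 0, 0, 0],
      ![0, 0, 0, 1, 1, 1, 0], ![0, 0, 0, 0, 0, 0, 1], ![0, 0, 0, 0, 0, -1, -1]]),
    (1, ![![1, 0, 1, 0, 0, 0, 0], ![0, -1, 0, 0, 0, 0, 0], ![0, 0, -1, 0, 0, 0, 0], ![0, 1, 1, 1, 0, 0, 0],
      ![0, 0, 0, 0, 1, 1, 0], ![0, 0, 0, 0, 0, 0, 1], ![0, 0, 0, 0, 0, -1, -1]]),
    (2, ![![1, 0, 1, 0, 0, 0, 0], ![0, 1, 0, 0, 0, 0, 0], ![0, 0, -1, 0, 0, 0, 0], ![0, 0, 1, 1, 0, 0, 0],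
      ![0, 0, 0, 0, 1, 1, 0], ![0, 0, 0, 0, 0, 0, 1], ![0, 0, 0, 0, 0, -1, -1]]),
    (5, ![![1, 0, 0, 0, 0, 0, 0], ![0, 1, 0, 0, 0, 0, 0], ![0, 0, 1, 0, 0, 0, 0], ![0, 0, 0, 1, 0, 0, 0],
      ![0, 0, 0, 0, 1, 1, 0], ![0, 0, 0, 0, 0, 0, 1], ![0, 0, 0, 0, 0, -1, -1]]),
    (6, ![![1, 0, 0, 0, 0, 0, 0], ![0, 1, 0, 0, 0, 0, 0], ![0, 0, 1, 0, 0, 0, 0], ![0, 0, 0, 1, 0, 0, 0],
      ![0, 0, 0, 0, 1, 0, 0], ![0, 0, 0, 0, 0, 1, 1], ![0, 0, 0, 0, 0, 0, -1]])]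

theorem ch2_18_ok : ChainOK Am ch2_18 := by decide +kernel

/-- coefficients of the eigenvector, order 2 -/
def v2_18_at2 : Fin 1 → Fin 7 → ℤ := ![![0, 1, 0, 0, 1, 0, 1]]

theorem e2_18_at2 : EigOK (hd ch2_18) c2 v2_18_at2 ![0, 1, 0, 0, 0, 0, 0] := by decide +kernel

/-- coefficients of the eigenvector, order 18 -/
def v2_18_at18 : Fin 6 → Fin 7 → ℤ := ![![1, 0, 1, 0, 0, 0, 0], ![0, 1, 0, 1, 0, 0, 0],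
    ![0, 0, 1, 1, 1, 1, 1], ![0, 1, 0, 1, 1, 1, 0], ![0, 0, 1, 1, 1, 0, 0], ![1, 0, 0, 0, 0, 0, 0]]

theorem e2_18_at18 : EigOK (hd ch2_18) c18 v2_18_at18 ![0, 1, 1, -1, 0, 0, 0] := by decide +kernel

theorem rel_18_2 {F : Type u} [Field F] [Finite F] {r s : ℕ} (hr : r.Prime) (hs : s.Prime) (hrs : r ≠ s)
    (h1 : phiC c18 (Nat.card F) 2 r) (h2 : phiC c2 (Nat.card F) 2 s) :
    PG.Rel ↥(chevE7.group F) r s := by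
  have := finW
  exact rel_of_eig hp CoxeterMatrix.E₇.toCoxeterSystem H129.TorusChar.invC_E7 (by norm_num)
    (chain_rep hp CoxeterMatrix.E₇.toCoxeterSystem hA ch2_18_ok) e2_18_at18 e2_18_at2 hr hs hrs h1.1 h2.1 h1.2 h2.2

/-- partial products of an element with characteristic polynomial Φ1 Φ9 -/
def ch1_9 : List (Fin 7 × Mat 7) := [
    (1, ![![-1, 0, -1, 0, 0, 0, 0], ![0, 0, 0, 0, 1, 0, 0], ![1, 1, 2, 2, 1, 0, 0], ![0, 0, -1, -1, -1, 0, 0],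
      ![0, 0, 1, 1, 1, 1, 0], ![0, -1, -1, -1, -1, -1, 0], ![0, 1, 1, 1, 1, 1, 1]]),
    (2, ![![-1, 0, -1, 0, 0, 0, 0], ![0, 0, 0, 0, 1, 0, 0], ![1, 1, 2, 2, 1, 0, 0], ![0, -1, -1, -1, -1, 0, 0],
      ![0, 1, 1, 1, 1, 1, 0], ![0, 0, -1, -1, -1, -1, 0], ![0, 0, 1, 1, 1, 1, 1]]),
    (0, ![![-1, 0, 0, 0, 0, 0, 0], ![0, 0, 0, 0, 1, 0, 0], ![1, 1, 1, 2, 1, 0, 0], ![0, -1, 0, -1, -1, 0, 0],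
      ![0, 1, 0, 1, 1, 1, 0], ![0, 0, 0, -1, -1, -1, 0], ![0, 0, 0, 1, 1, 1, 1]]),
    (3, ![![1, 0, 0, 0, 0, 0, 0], ![0, 0, 0, 0, 1, 0, 0], ![0, 1, 1, 2, 1, 0, 0], ![0, -1, 0, -1, -1, 0, 0],
      ![0, 1, 0, 1, 1, 1, 0], ![0, 0, 0, -1, -1, -1, 0], ![0, 0, 0, 1, 1, 1, 1]]),
    (1, ![![1, 0, 0, 0, 0, 0, 0], ![0, 0, 0, 1, 1, 0, 0], ![0, 1, 1, 1, 1, 0, 0], ![0, -1, 0, -1, -1, 0, 0],
      ![0, 1, 0, 1, 1, 1, 0], ![0, 0, 0, 0, -1, -1, 0], ![0, 0, 0, 0, 1, 1, 1]]),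
    (4, ![![1, 0, 0, 0, 0, 0, 0], ![0, 1, 0, 1, 1, 0, 0], ![0, 0, 1, 1, 1, 0, 0], ![0, 0, 0, -1, -1, 0, 0],
      ![0, 0, 0, 1, 1, 1, 0], ![0, 0, 0, 0, -1, -1, 0], ![0, 0, 0, 0, 1, 1, 1]]),
    (3, ![![1, 0, 0, 0, 0, 0, 0], ![0, 1, 0, 1, 0, 0, 0], ![0, 0, 1, 1, 0, 0, 0], ![0, 0, 0, -1, 0, 0, 0],
      ![0, 0, 0, 1, 1, 1, 0], ![0, 0, 0, 0, 0, -1, 0], ![0, 0, 0, 0, 0, 1, 1]]),
    (5, ![![1, 0, 0, 0, 0, 0, 0], ![0, 1, 0, 0, 0, 0, 0], ![0, 0, 1, 0, 0, 0, 0], ![0, 0, 0, 1, 0, 0, 0],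
      ![0, 0, 0, 0, 1, 1, 0], ![0, 0, 0, 0, 0, -1, 0], ![0, 0, 0, 0, 0, 1, 1]])]

theorem ch1_9_ok : ChainOK Am ch1_9 := by decide +kernel

/-- coefficients of the eigenvector, order 1 -/
def v1_9_at1 : Fin 1 → Fin 7 → ℤ := ![![2, 3, 4, 6, 5, 4, 3]]

theorem e1_9_at1 : EigOK (hd ch1_9) c1 v1_9_at1 ![-1, 1, 0, 0, 0, 0, 0] := by decide +kernel

/-- coefficients of the eigenvector, order 9 -/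
def v1_9_at9 : Fin 6 → Fin 7 → ℤ := ![![0, 1, 0, 1, 1, 0, 0], ![1, 1, 1, 1, 0, 0, 0],
    ![0, 0, 1, 1, 0, 0, 0], ![0, 0, 0, 0, 1, 0, 0], ![0, 1, 0, 0, 0, 0, 0], ![0, 0, 0, 0, -1, -1, 0]]

theorem e1_9_at9 : EigOK (hd ch1_9) c9 v1_9_at9 ![0, 0, -1, 1, 0, 0, 0] := by decide +kernel

theorem rel_9_1 {F : Type u} [Field F] [Finite F] {r s : ℕ} (hr : r.Prime) (hs : s.Prime) (hrs : r ≠ s)
    (h1 : phiC c9 (Nat.card F) 2 r) (h2 : phiC c1 (Nat.card F) 2 s) :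
    PG.Rel ↥(chevE7.group F) r s := by
  have := finW
  exact rel_of_eig hp CoxeterMatrix.E₇.toCoxeterSystem H129.TorusChar.invC_E7 (by norm_num)
    (chain_rep hp CoxeterMatrix.E₇.toCoxeterSystem hA ch1_9_ok) e1_9_at9 e1_9_at1 hr hs hrs h1.1 h2.1 h1.2 h2.2

end Cfsg.Agent.R2.Spec.EE.CertE7
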