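import Cfsg.Agent.H168.ExcE7

/-!
# Adjacency of the prime divisors of two cyclotomic values through one torus, type E7, part 3 (helper2)

Chains, eigenvectors and functionals as in `H168/ExcPairE7.lean`.
-/

set_option autoImplicit false

namespace Cfsg.Agent.R2.Spec.EE.CertE7

open Cfsg.Agent.H129.WData Cfsg.Agent.ChevalleyStructure.CoxeterGeomTypes Cfsg.Agent.Nodes.RGDChev
open Cfsg.Lie Cfsg.Lie.ChevalleyDatum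
open Cfsg.Agent Cfsg.Agent.H493 Cfsg.Agent.H493.PGTorus Cfsg.Agent.H493.PGCyc Cfsg.Agent.H493.PGE7
open Cfsg.Agent.H168.ExcAdj

universe u

/-- partial products of an element with characteristic polynomial Φ1 Φ4 Φ8 -/
def ch1_4_8 : List (Fin 7 × Mat 7) := [
    (1, ![![1, 0, 1, 0, 0, 0, 0], ![0, 0, 0, 0, 1, 0, 0], ![0, 1, 1, 2, 1, 0, 0], ![0, 0, -1, -1, -1, 0, 0],
      ![0, 0, 1, 1, 1, 1, 0], ![0, 0, 0, 0, 0, 0, 1], ![0, -1, -1, -1, -1, -1, -1]]),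
    (2, ![![1, 0, 1, 0, 0, 0, 0], ![0, 0, 0, 0, 1, 0, 0], ![0, 1, 1, 2, 1, 0, 0], ![0, -1, -1, -1, -1, 0, 0],
      ![0, 1, 1, 1, 1, 1, 0], ![0, 0, 0, 0, 0, 0, 1], ![0, 0, -1, -1, -1, -1, -1]]),
    (3, ![![1, 0, 0, 0, 0, 0, 0], ![0, 0, 0, 0, 1, 0, 0], ![0, 1, 1, 2, 1, 0, 0], ![0, -1, 0, -1, -1, 0, 0],
      ![0, 1, 0, 1, 1, 1, 0], ![0, 0, 0, 0, 0, 0, 1], ![0, 0, 0, -1, -1, -1, -1]]),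
    (1, ![![1, 0, 0, 0, 0, 0, 0], ![0, 0, 0, 1, 1, 0, 0], ![0, 1, 1, 1, 1, 0, 0], ![0, -1, 0, -1, -1, 0, 0],
      ![0, 1, 0, 1, 1, 1, 0], ![0, 0, 0, 0, 0, 0, 1], ![0, 0, 0, 0, -1, -1, -1]]),
    (4, ![![1, 0, 0, 0, 0, 0, 0], ![0, 1, 0, 1, 1, 0, 0], ![0, 0, 1, 1, 1, 0, 0], ![0, 0, 0, -1, -1, 0, 0],
      ![0, 0, 0, 1, 1, 1, 0], ![0, 0, 0, 0, 0, 0, 1], ![0, 0, 0, 0, -1, -1, -1]]),
    (3, ![![1, 0, 0, 0, 0, 0, 0], ![0, 1, 0, 1, 0, 0, 0], ![0, 0, 1, 1, 0, 0, 0], ![0, 0, 0, -1, 0, 0, 0],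
      ![0, 0, 0, 1, 1, 1, 0], ![0, 0, 0, 0, 0, 0, 1], ![0, 0, 0, 0, 0, -1, -1]]),
    (5, ![![1, 0, 0, 0, 0, 0, 0], ![0, 1, 0, 0, 0, 0, 0], ![0, 0, 1, 0, 0, 0, 0], ![0, 0, 0, 1, 0, 0, 0],
      ![0, 0, 0, 0, 1, 1, 0], ![0, 0, 0, 0, 0, 0, 1], ![0, 0, 0, 0, 0, -1, -1]]),
    (6, ![![1, 0, 0, 0, 0, 0, 0], ![0, 1, 0, 0, 0, 0, 0], ![0, 0, 1, 0, 0, 0, 0], ![0, 0, 0, 1, 0, 0, 0],
      ![0, 0, 0, 0, 1, 0, 0], ![0, 0, 0, 0, 0, 1, 1], ![0, 0, 0, 0, 0, 0, -1]])]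

theorem ch1_4_8_ok : ChainOK Am ch1_4_8 := by decide +kernel

/-- coefficients of the eigenvector, order 4 -/
def v1_4_8_at4 : Fin 2 → Fin 7 → ℤ := ![![0, 0, -1, -1, 0, 0, 0], ![0, 1, 0, 1, 0, 0, 0]]

theorem e1_4_8_at4 : EigOK (hd ch1_4_8) c4 v1_4_8_at4 ![0, 0, -1, 0, 0, 0, 0] := by decide +kernel

/-- coefficients of the eigenvector, order 8 -/
def v1_4_8_at8 : Fin 4 → Fin 7 → ℤ := ![![0, -1, -1, -1, -1, -1, -1], ![0, 0, 0, 0, 0, 0, 1],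
    ![0, 0, 0, 0, 0, 1, 0], ![0, 0, 0, 1, 1, 0, 0]]

theorem e1_4_8_at8 : EigOK (hd ch1_4_8) c8 v1_4_8_at8 ![0, -1, 0, 0, 0, 0, 0] := by decide +kernel

theorem rel_8_4 {F : Type u} [Field F] [Finite F] {r s : ℕ} (hr : r.Prime) (hs : s.Prime) (hrs : r ≠ s)
    (h1 : phiC c8 (Nat.card F) 2 r) (h2 : phiC c4 (Nat.card F) 2 s) :
    PG.Rel ↥(chevE7.group F) r s := by
  have := finW
  exact rel_of_eig hp CoxeterMatrix.E₇.toCoxeterSystem H129.TorusChar.invC_E7 (by norm_num)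
    (chain_rep hp CoxeterMatrix.E₇.toCoxeterSystem hA ch1_4_8_ok) e1_4_8_at8 e1_4_8_at4 hr hs hrs h1.1 h2.1 h1.2 h2.2

/-- partial products of an element with characteristic polynomial Φ2 Φ14 -/
def ch2_14 : List (Fin 7 × Mat 7) := [
    (0, ![![0, 0, 1, 1, 1, 0, 0], ![-1, -1, -1, -2, -2, -1, 0], ![0, 0, 0, 0, 0, 1, 0], ![0, 1, 0, 1, 1, 0, 0],
      ![1, 0, 1, 0, 0, 0, 0], ![0, 0, 0, 1, 1, 1, 1], ![0, 0, 0, 0, -1, -1, -1]]),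
    (4, ![![1, 0, 1, 1, 1, 0, 0], ![0, -1, -1, -2, -2, -1, 0], ![0, 0, 0, 0, 0, 1, 0], ![0, 1, 0, 1, 1, 0, 0],
      ![0, 0, 1, 0, 0, 0, 0], ![0, 0, 0, 1, 1, 1, 1], ![0, 0, 0, 0, -1, -1, -1]]),
    (3, ![![1, 0, 1, 1, 0, 0, 0], ![0, -1, -1, -2, -1, -1, 0], ![0, 0, 0, 0, 1, 1, 0], ![0, 1, 0, 1, 0, 0, 0],
      ![0, 0, 1, 0, 0, 0, 0], ![0, 0, 0, 1, 1, 1, 1], ![0, 0, 0, 0, 0, -1, -1]]),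
    (2, ![![1, 0, 1, 0, 0, 0, 0], ![0, -1, -1, -1, -1, -1, 0], ![0, 0, 0, 1, 1, 1, 0], ![0, 1, 0, 0, 0, 0, 0],
      ![0, 0, 1, 1, 0, 0, 0], ![0, 0, 0, 0, 1, 1, 1], ![0, 0, 0, 0, 0, -1, -1]]),
    (5, ![![1, 0, 0, 0, 0, 0, 0], ![0, -1, 0, -1, -1, -1, 0], ![0, 0, 1, 1, 1, 1, 0], ![0, 1, 0, 0, 0, 0, 0],
      ![0, 0, 0, 1, 0, 0, 0], ![0, 0, 0, 0, 1, 1, 1], ![0, 0, 0, 0, 0, -1, -1]]),
    (4, ![![1, 0, 0, 0, 0, 0, 0], ![0, -1, 0, -1, -1, 0, 0], ![0, 0, 1, 1, 1, 0, 0], ![0, 1, 0, 0, 0, 0, 0],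
      ![0, 0, 0, 1, 0, 0, 0], ![0, 0, 0, 0, 1, 1, 1], ![0, 0, 0, 0, 0, 0, -1]]),
    (3, ![![1, 0, 0, 0, 0, 0, 0], ![0, -1, 0, -1, 0, 0, 0], ![0, 0, 1, 1, 0, 0, 0], ![0, 1, 0, 0, 0, 0, 0],
      ![0, 0, 0, 1, 1, 0, 0], ![0, 0, 0, 0, 0, 1, 1], ![0, 0, 0, 0, 0, 0, -1]]),
    (1, ![![1, 0, 0, 0, 0, 0, 0], ![0, -1, 0, 0, 0, 0, 0], ![0, 0, 1, 0, 0, 0, 0], ![0, 1, 0, 1, 0, 0, 0],
      ![0, 0, 0, 0, 1, 0, 0], ![0, 0, 0, 0, 0, 1, 1], ![0, 0, 0, 0, 0, 0, -1]]),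
    (6, ![![1, 0, 0, 0, 0, 0, 0], ![0, 1, 0, 0, 0, 0, 0], ![0, 0, 1, 0, 0, 0, 0], ![0, 0, 0, 1, 0, 0, 0],
      ![0, 0, 0, 0, 1, 0, 0], ![0, 0, 0, 0, 0, 1, 1], ![0, 0, 0, 0, 0, 0, -1]])]

theorem ch2_14_ok : ChainOK Am ch2_14 := by decide +kernel

/-- coefficients of the eigenvector, order 2 -/
def v2_14_at2 : Fin 1 → Fin 7 → ℤ := ![![-2, -1, 0, 0, 1, 0, 1]]

theorem e2_14_at2 : EigOK (hd ch2_14) c2 v2_14_at2 ![0, -1, 0, 0, 0, 0, 0] := by decide +kernel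

/-- coefficients of the eigenvector, order 14 -/
def v2_14_at14 : Fin 6 → Fin 7 → ℤ := ![![0, 0, 0, 0, 0, -1, -1], ![0, -1, -1, -1, -1, 0, 1],
    ![-1, 0, -1, -1, 0, 0, -1], ![0, -1, 0, -1, -2, -1, 0], ![0, 1, 0, 0, 1, 0, 0], ![0, 0, 0, 1, 0, 0, 0]]

theorem e2_14_at14 : EigOK (hd ch2_14) c14 v2_14_at14 ![0, -1, 0, 0, 1, -1, 0] := by decide +kernel

theorem rel_14_2 {F : Type u} [Field F] [Finite F] {r s : ℕ} (hr : r.Prime) (hs : s.Prime) (hrs : r ≠ s)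
    (h1 : phiC c14 (Nat.card F) 2 r) (h2 : phiC c2 (Nat.card F) 2 s) :
    PG.Rel ↥(chevE7.group F) r s := by
  have := finW
  exact rel_of_eig hp CoxeterMatrix.E₇.toCoxeterSystem H129.TorusChar.invC_E7 (by norm_num)
    (chain_rep hp CoxeterMatrix.E₇.toCoxeterSystem hA ch2_14_ok) e2_14_at14 e2_14_at2 hr hs hrs h1.1 h2.1 h1.2 h2.2

/-- partial products of an element with characteristic polynomial Φ2 Φ6 Φ12 -/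
def ch2_6_12 : List (Fin 7 × Mat 7) := [
    (1, ![![-1, 0, -1, 0, 0, 0, 0], ![0, 0, 0, 0, 1, 0, 0], ![1, 1, 2, 2, 1, 0, 0], ![0, 0, 0, 0, 0, 1, 0],
      ![0, 0, 0, 0, 0, 0, 1], ![0, 0, -1, -1, -1, -1, -1], ![0, -1, 0, 0, 0, 0, 0]]),
    (2, ![![-1, 0, -1, 0, 0, 0, 0], ![0, 0, 0, 0, 1, 0, 0], ![1, 1, 2, 2, 1, 0, 0], ![0, 0, 0, 0, 0, 1, 0],
      ![0, 0, 0, 0, 0, 0, 1], ![0, -1, -1, -1, -1, -1, -1], ![0, 1, 0, 0, 0, 0, 0]]),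
    (0, ![![-1, 0, 0, 0, 0, 0, 0], ![0, 0, 0, 0, 1, 0, 0], ![1, 1, 1, 2, 1, 0, 0], ![0, 0, 0, 0, 0, 1, 0],
      ![0, 0, 0, 0, 0, 0, 1], ![0, -1, 0, -1, -1, -1, -1], ![0, 1, 0, 0, 0, 0, 0]]),
    (3, ![![1, 0, 0, 0, 0, 0, 0], ![0, 0, 0, 0, 1, 0, 0], ![0, 1, 1, 2, 1, 0, 0], ![0, 0, 0, 0, 0, 1, 0],
      ![0, 0, 0, 0, 0, 0, 1], ![0, -1, 0, -1, -1, -1, -1], ![0, 1, 0, 0, 0, 0, 0]]),
    (1, ![![1, 0, 0, 0, 0, 0, 0], ![0, 0, 0, 1, 1, 0, 0], ![0, 1, 1, 1, 1, 0, 0], ![0, 0, 0, 0, 0, 1, 0],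
      ![0, 0, 0, 0, 0, 0, 1], ![0, -1, 0, -1, -1, -1, -1], ![0, 1, 0, 1, 0, 0, 0]]),
    (4, ![![1, 0, 0, 0, 0, 0, 0], ![0, 1, 0, 1, 1, 0, 0], ![0, 0, 1, 1, 1, 0, 0], ![0, 0, 0, 0, 0, 1, 0],
      ![0, 0, 0, 0, 0, 0, 1], ![0, 0, 0, -1, -1, -1, -1], ![0, 0, 0, 1, 0, 0, 0]]),
    (3, ![![1, 0, 0, 0, 0, 0, 0], ![0, 1, 0, 1, 0, 0, 0], ![0, 0, 1, 1, 0, 0, 0], ![0, 0, 0, 0, 1, 1, 0],
      ![0, 0, 0, 0, 0, 0, 1], ![0, 0, 0, -1, -1, -1, -1], ![0, 0, 0, 1, 1, 0, 0]]),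
    (5, ![![1, 0, 0, 0, 0, 0, 0], ![0, 1, 0, 0, 0, 0, 0], ![0, 0, 1, 0, 0, 0, 0], ![0, 0, 0, 1, 1, 1, 0],
      ![0, 0, 0, 0, 0, 0, 1], ![0, 0, 0, 0, -1, -1, -1], ![0, 0, 0, 0, 1, 0, 0]]),
    (4, ![![1, 0, 0, 0, 0, 0, 0], ![0, 1, 0, 0, 0, 0, 0], ![0, 0, 1, 0, 0, 0, 0], ![0, 0, 0, 1, 1, 0, 0],
      ![0, 0, 0, 0, 0, 1, 1], ![0, 0, 0, 0, -1, -1, -1], ![0, 0, 0, 0, 1, 1, 0]]),
    (6, ![![1, 0, 0, 0, 0, 0, 0], ![0, 1, 0, 0, 0, 0, 0], ![0, 0, 1, 0, 0, 0, 0], ![0, 0, 0, 1, 0, 0, 0],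
      ![0, 0, 0, 0, 1, 1, 1], ![0, 0, 0, 0, 0, -1, -1], ![0, 0, 0, 0, 0, 1, 0]]),
    (5, ![![1, 0, 0, 0, 0, 0, 0], ![0, 1, 0, 0, 0, 0, 0], ![0, 0, 1, 0, 0, 0, 0], ![0, 0, 0, 1, 0, 0, 0],
      ![0, 0, 0, 0, 1, 1, 0], ![0, 0, 0, 0, 0, -1, 0], ![0, 0, 0, 0, 0, 1, 1]])]

theorem ch2_6_12_ok : ChainOK Am ch2_6_12 := by decide +kernel

/-- coefficients of the eigenvector, order 2 -/
def v2_6_12_at2 : Fin 1 → Fin 7 → ℤ := ![![0, 1, 0, 0, -1, 0, 1]]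

theorem e2_6_12_at2 : EigOK (hd ch2_6_12) c2 v2_6_12_at2 ![0, 1, 0, 0, 0, 0, 0] := by decide +kernel

/-- coefficients of the eigenvector, order 6 -/
def v2_6_12_at6 : Fin 2 → Fin 7 → ℤ := ![![0, -1, 0, 0, 0, 0, 1], ![0, 1, 0, 0, 1, 0, 0]]

theorem e2_6_12_at6 : EigOK (hd ch2_6_12) c6 v2_6_12_at6 ![0, 0, 0, 0, 0, 0, 1] := by decide +kernel

/-- coefficients of the eigenvector, order 12 -/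
def v2_6_12_at12 : Fin 4 → Fin 7 → ℤ := ![![-1, 0, 0, 0, 0, 0, 0], ![0, -1, -1, -2, -2, -2, -1],
    ![0, -1, -1, -2, -1, 0, 0], ![-1, 0, -1, 0, 0, 0, 0]]

theorem e2_6_12_at12 : EigOK (hd ch2_6_12) c12 v2_6_12_at12 ![-1, -1, 1, 0, 0, 0, 0] := by decide +kernel

theorem rel_12_2 {F : Type u} [Field F] [Finite F] {r s : ℕ} (hr : r.Prime) (hs : s.Prime) (hrs : r ≠ s)
    (h1 : phiC c12 (Nat.card F) 2 r) (h2 : phiC c2 (Nat.card F) 2 s) :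
    PG.Rel ↥(chevE7.group F) r s := by
  have := finW
  exact rel_of_eig hp CoxeterMatrix.E₇.toCoxeterSystem H129.TorusChar.invC_E7 (by norm_num)
    (chain_rep hp CoxeterMatrix.E₇.toCoxeterSystem hA ch2_6_12_ok) e2_6_12_at12 e2_6_12_at2 hr hs hrs h1.1 h2.1 h1.2 h2.2

theorem rel_12_6 {F : Type u} [Field F] [Finite F] {r s : ℕ} (hr : r.Prime) (hs : s.Prime) (hrs : r ≠ s)
    (h1 : phiC c12 (Nat.card F) 2 r) (h2 : phiC c6 (Nat.card F) 2 s) :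
    PG.Rel ↥(chevE7.group F) r s := by
  have := finW
  exact rel_of_eig hp CoxeterMatrix.E₇.toCoxeterSystem H129.TorusChar.invC_E7 (by norm_num)
    (chain_rep hp CoxeterMatrix.E₇.toCoxeterSystem hA ch2_6_12_ok) e2_6_12_at12 e2_6_12_at6 hr hs hrs h1.1 h2.1 h1.2 h2.2

/-- partial products of an element with characteristic polynomial Φ2 Φ6 Φ10 -/
def ch2_6_10 : List (Fin 7 × Mat 7) := [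
    (0, ![![0, 1, 0, 1, 1, 1, 0], ![-1, 0, -1, -1, -1, -1, 0], ![0, -1, -1, -2, -2, -1, 0], ![0, 0, 1, 1, 1, 1, 0],
      ![1, 1, 1, 2, 1, 0, 0], ![0, 0, 0, 0, 1, 1, 1], ![0, 0, 0, -1, -1, -1, -1]]),
    (3, ![![0, 1, 0, 1, 1, 1, 0], ![0, 0, -1, -1, -1, -1, 0], ![-1, -1, -1, -2, -2, -1, 0], ![1, 0, 1, 1, 1, 1, 0],
      ![0, 1, 1, 2, 1, 0, 0], ![0, 0, 0, 0, 1, 1, 1], ![0, 0, 0, -1, -1, -1, -1]]),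
    (4, ![![0, 1, 0, 1, 1, 1, 0], ![0, 0, -1, -1, -1, -1, 0], ![-1, -1, -1, -2, -2, -1, 0], ![1, 0, 1, 1, 1, 1, 0],
      ![0, 1, 1, 1, 1, 0, 0], ![0, 0, 0, 1, 1, 1, 1], ![0, 0, 0, 0, -1, -1, -1]]),
    (3, ![![0, 1, 0, 1, 1, 1, 0], ![0, 0, -1, -1, -1, -1, 0], ![-1, -1, -1, -2, -1, -1, 0], ![1, 0, 1, 1, 1, 1, 0],
      ![0, 1, 1, 1, 0, 0, 0], ![0, 0, 0, 1, 1, 1, 1], ![0, 0, 0, 0, 0, -1, -1]]),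
    (1, ![![0, 1, 0, 1, 1, 1, 0], ![0, 0, -1, -1, -1, -1, 0], ![-1, -1, -1, -1, -1, -1, 0], ![1, 0, 1, 1, 1, 1, 0],
      ![0, 1, 1, 1, 0, 0, 0], ![0, 0, 0, 0, 1, 1, 1], ![0, 0, 0, 0, 0, -1, -1]]),
    (2, ![![0, 0, 0, 1, 1, 1, 0], ![0, -1, -1, -1, -1, -1, 0], ![-1, 0, -1, -1, -1, -1, 0], ![1, 1, 1, 1, 1, 1, 0],
      ![0, 0, 1, 1, 0, 0, 0], ![0, 0, 0, 0, 1, 1, 1], ![0, 0, 0, 0, 0, -1, -1]]),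
    (0, ![![0, 0, 1, 1, 1, 1, 0], ![0, -1, 0, -1, -1, -1, 0], ![-1, 0, -1, -1, -1, -1, 0], ![1, 1, 1, 1, 1, 1, 0],
      ![0, 0, 0, 1, 0, 0, 0], ![0, 0, 0, 0, 1, 1, 1], ![0, 0, 0, 0, 0, -1, -1]]),
    (5, ![![1, 0, 1, 1, 1, 1, 0], ![0, -1, 0, -1, -1, -1, 0], ![0, 0, -1, -1, -1, -1, 0], ![0, 1, 1, 1, 1, 1, 0],
      ![0, 0, 0, 1, 0, 0, 0], ![0, 0, 0, 0, 1, 1, 1], ![0, 0, 0, 0, 0, -1, -1]]),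
    (4, ![![1, 0, 1, 1, 1, 0, 0], ![0, -1, 0, -1, -1, 0, 0], ![0, 0, -1, -1, -1, 0, 0], ![0, 1, 1, 1, 1, 0, 0],
      ![0, 0, 0, 1, 0, 0, 0], ![0, 0, 0, 0, 1, 1, 1], ![0, 0, 0, 0, 0, 0, -1]]),
    (3, ![![1, 0, 1, 1, 0, 0, 0], ![0, -1, 0, -1, 0, 0, 0], ![0, 0, -1, -1, 0, 0, 0], ![0, 1, 1, 1, 0, 0, 0],
      ![0, 0, 0, 1, 1, 0, 0], ![0, 0, 0, 0, 0, 1, 1], ![0, 0, 0, 0, 0, 0, -1]]),
    (1, ![![1, 0, 1, 0, 0, 0, 0], ![0, -1, 0, 0, 0, 0, 0], ![0, 0, -1, 0, 0, 0, 0], ![0, 1, 1, 1, 0, 0, 0],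
      ![0, 0, 0, 0, 1, 0, 0], ![0, 0, 0, 0, 0, 1, 1], ![0, 0, 0, 0, 0, 0, -1]]),
    (2, ![![1, 0, 1, 0, 0, 0, 0], ![0, 1, 0, 0, 0, 0, 0], ![0, 0, -1, 0, 0, 0, 0], ![0, 0, 1, 1, 0, 0, 0],
      ![0, 0, 0, 0, 1, 0, 0], ![0, 0, 0, 0, 0, 1, 1], ![0, 0, 0, 0, 0, 0, -1]]),
    (6, ![![1, 0, 0, 0, 0, 0, 0], ![0, 1, 0, 0, 0, 0, 0], ![0, 0, 1, 0, 0, 0, 0], ![0, 0, 0, 1, 0, 0, 0],
      ![0, 0, 0, 0, 1, 0, 0], ![0, 0, 0, 0, 0, 1, 1], ![0, 0, 0, 0, 0, 0, -1]])]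

theorem ch2_6_10_ok : ChainOK Am ch2_6_10 := by decide +kernel

/-- coefficients of the eigenvector, order 6 -/
def v2_6_10_at6 : Fin 2 → Fin 7 → ℤ := ![![0, 0, -1, -1, 0, 0, 0], ![0, -1, 0, -1, -1, 0, 0]]

theorem e2_6_10_at6 : EigOK (hd ch2_6_10) c6 v2_6_10_at6 ![0, 0, -1, 0, 0, 0, 0] := by decide +kernel

/-- coefficients of the eigenvector, order 10 -/
def v2_6_10_at10 : Fin 4 → Fin 7 → ℤ := ![![-1, -1, -1, -1, 0, 0, 0],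
    ![0, 0, -1, -1, -2, -1, -1], ![0, -1, 0, -1, 0, -1, 0], ![-1, 0, -1, -1, -1, 0, 0]]

theorem e2_6_10_at10 : EigOK (hd ch2_6_10) c10 v2_6_10_at10 ![0, -1, -1, 1, 0, 0, 0] := by decide +kernel

theorem rel_10_6 {F : Type u} [Field F] [Finite F] {r s : ℕ} (hr : r.Prime) (hs : s.Prime) (hrs : r ≠ s)
    (h1 : phiC c10 (Nat.card F) 2 r) (h2 : phiC c6 (Nat.card F) 2 s) :
    PG.Rel ↥(chevE7.group F) r s := by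
  have := finW
  exact rel_of_eig hp CoxeterMatrix.E₇.toCoxeterSystem H129.TorusChar.invC_E7 (by norm_num)
    (chain_rep hp CoxeterMatrix.E₇.toCoxeterSystem hA ch2_6_10_ok) e2_6_10_at10 e2_6_10_at6 hr hs hrs h1.1 h2.1 h1.2 h2.2

end Cfsg.Agent.R2.Spec.EE.CertE7
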