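import Cfsg.Agent.H168.ExcE7
import Cfsg.Agent.R2.Spec.EE.CertBase

/-!
# Adjacency with the characteristic, type E7 (helper2)
-/

set_option autoImplicit false

namespace Cfsg.Agent.R2.Spec.EE.CertE7

open Cfsg.Agent.H129.WData Cfsg.Agent.ChevalleyStructure.CoxeterGeomTypes Cfsg.Agent.Nodes.RGDChev
open Cfsg.Lie Cfsg.Lie.ChevalleyDatum
open Cfsg.Agent Cfsg.Agent.H493 Cfsg.Agent.H493.PGTorus Cfsg.Agent.H493.PGCyc Cfsg.Agent.H493.PGE7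
open Cfsg.Agent.H168.ExcAdj Cfsg.Agent.R2.Spec.EE.CertBase

universe u

/-- the highest root -/
def r0 : ℕ := 125

theorem r0_lt : r0 < chevE7.nroots := by decide +kernel

theorem r0_ok : vec chevE7 7 r0 = ![2, 2, 3, 4, 3, 2, 1] := by decide +kernel

/-- square roots in characteristic two -/
theorem sq_surj {F : Type u} [Field F] [Finite F] {s : ℕ} (hs : s.Prime) (h2 : s ∣ Nat.card F) :
    s ∣ 2 → ∀ a : F, ∃ b : F, b ^ 2 = a := by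
  intro h a
  have : Fintype F := Fintype.ofFinite F
  have hs2 : s = 2 := (Nat.prime_dvd_prime_iff_eq hs Nat.prime_two).1 h
  subst hs2
  have hc : CharP F 2 := by
    obtain ⟨p, hp'⟩ := CharP.exists F
    have : Fact p.Prime := ⟨CharP.char_is_prime F p⟩
    obtain ⟨n, -, h3⟩ := FiniteField.card F p
    rw [Nat.card_eq_fintype_card, h3] at h2
    have h4 := (Nat.prime_dvd_prime_iff_eq Nat.prime_two (Fact.out : p.Prime)).1 (Nat.prime_two.dvd_of_dvd_pow h2)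
    rw [h4]; exact hp'
  exact (Finite.injective_iff_surjective.1 (frobenius_inj F 2)) a

/-- partial products of an element with characteristic polynomial Φ1^7 -/
def q1 : List (Fin 7 × Mat 7) := []

theorem q1_ok : ChainOK Am q1 := by decide +kernel

/-- coefficients of the functional, order 1 -/
def v1 : Fin 1 → Fin 7 → ℤ := ![![-1, 0, 0, 0, 0, 1, 0]]

theorem e1 : EigOK (fun i j => hd q1 j i) c1 v1 ![-1, 0, 0, 0, 0, 0, 0] := by decide +kernel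

theorem f1 : ∀ m, ∑ j, vec chevE7 7 r0 j * hd q1 j m = vec chevE7 7 r0 m := by decide +kernel

theorem z1 : ∀ i, ∑ m, vec chevE7 7 r0 m * v1 i m = 0 := by decide +kernel

theorem rel_1_p {F : Type u} [Field F] [Finite F] {r s : ℕ} (hr : r.Prime) (hs : s.Prime)
    (h1 : phiC c1 (Nat.card F) 2 r) (h2 : s ∣ Nat.card F) : PG.Rel ↥(chevE7.group F) r s := by
  have := finW
  exact rel_p_of_eig hp CoxeterMatrix.E₇.toCoxeterSystem H129.TorusChar.invC_E7 (by norm_num)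
    (chain_rep hp CoxeterMatrix.E₇.toCoxeterSystem hA q1_ok) e1 (Or.inr (by decide +kernel)) r0_lt f1 z1 hr hs h1.1
    (sq_surj hs h2) h1.2 h2

/-- partial products of an element with characteristic polynomial Φ1^6 Φ2 -/
def q2 : List (Fin 7 × Mat 7) := [
    (1, ![![1, 0, 0, 0, 0, 0, 0], ![0, -1, 0, 0, 0, 0, 0], ![0, 0, 1, 0, 0, 0, 0], ![0, 1, 0, 1, 0, 0, 0],
      ![0, 0, 0, 0, 1, 0, 0], ![0, 0, 0, 0, 0, 1, 0], ![0, 0, 0, 0, 0, 0, 1]])]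

theorem q2_ok : ChainOK Am q2 := by decide +kernel

/-- coefficients of the functional, order 2 -/
def v2 : Fin 1 → Fin 7 → ℤ := ![![0, -2, 0, 1, 0, 0, 0]]

theorem e2 : EigOK (fun i j => hd q2 j i) c2 v2 ![0, 0, 0, 1, 0, 0, 0] := by decide +kernel

theorem f2 : ∀ m, ∑ j, vec chevE7 7 r0 j * hd q2 j m = vec chevE7 7 r0 m := by decide +kernel

theorem z2 : ∀ i, ∑ m, vec chevE7 7 r0 m * v2 i m = 0 := by decide +kernel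

theorem rel_2_p {F : Type u} [Field F] [Finite F] {r s : ℕ} (hr : r.Prime) (hs : s.Prime)
    (h1 : phiC c2 (Nat.card F) 2 r) (h2 : s ∣ Nat.card F) : PG.Rel ↥(chevE7.group F) r s := by
  have := finW
  exact rel_p_of_eig hp CoxeterMatrix.E₇.toCoxeterSystem H129.TorusChar.invC_E7 (by norm_num)
    (chain_rep hp CoxeterMatrix.E₇.toCoxeterSystem hA q2_ok) e2 (Or.inl (by decide +kernel)) r0_lt f2 z2 hr hs h1.1
    (sq_surj hs h2) h1.2 h2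

/-- partial products of an element with characteristic polynomial Φ1^5 Φ3 -/
def q3 : List (Fin 7 × Mat 7) := [
    (1, ![![1, 0, 0, 0, 0, 0, 0], ![0, 0, 0, 1, 0, 0, 0], ![0, 1, 1, 1, 0, 0, 0], ![0, -1, 0, -1, 0, 0, 0],
      ![0, 1, 0, 1, 1, 0, 0], ![0, 0, 0, 0, 0, 1, 0], ![0, 0, 0, 0, 0, 0, 1]]),
    (3, ![![1, 0, 0, 0, 0, 0, 0], ![0, 1, 0, 1, 0, 0, 0], ![0, 0, 1, 1, 0, 0, 0], ![0, 0, 0, -1, 0, 0, 0],
      ![0, 0, 0, 1, 1, 0, 0], ![0, 0, 0, 0, 0, 1, 0], ![0, 0, 0, 0, 0, 0, 1]])]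

theorem q3_ok : ChainOK Am q3 := by decide +kernel

/-- coefficients of the functional, order 3 -/
def v3 : Fin 2 → Fin 7 → ℤ := ![![0, 2, 0, -1, 0, 0, 0], ![0, 1, -1, 1, -1, 0, 0]]

theorem e3 : EigOK (fun i j => hd q3 j i) c3 v3 ![0, 0, -1, -1, 0, 0, 0] := by decide +kernel

theorem f3 : ∀ m, ∑ j, vec chevE7 7 r0 j * hd q3 j m = vec chevE7 7 r0 m := by decide +kernel

theorem z3 : ∀ i, ∑ m, vec chevE7 7 r0 m * v3 i m = 0 := by decide +kernel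

theorem rel_3_p {F : Type u} [Field F] [Finite F] {r s : ℕ} (hr : r.Prime) (hs : s.Prime)
    (h1 : phiC c3 (Nat.card F) 2 r) (h2 : s ∣ Nat.card F) : PG.Rel ↥(chevE7.group F) r s := by
  have := finW
  exact rel_p_of_eig hp CoxeterMatrix.E₇.toCoxeterSystem H129.TorusChar.invC_E7 (by norm_num)
    (chain_rep hp CoxeterMatrix.E₇.toCoxeterSystem hA q3_ok) e3 (Or.inl (by decide +kernel)) r0_lt f3 z3 hr hs h1.1
    (sq_surj hs h2) h1.2 h2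

/-- partial products of an element with characteristic polynomial Φ1^4 Φ2 Φ4 -/
def q4 : List (Fin 7 × Mat 7) := [
    (1, ![![1, 0, 0, 0, 0, 0, 0], ![0, 0, 0, 1, 0, 0, 0], ![0, 1, 1, 1, 0, 0, 0], ![0, 0, 0, 0, 1, 0, 0],
      ![0, -1, 0, -1, -1, 0, 0], ![0, 1, 0, 1, 1, 1, 0], ![0, 0, 0, 0, 0, 0, 1]]),
    (3, ![![1, 0, 0, 0, 0, 0, 0], ![0, 1, 0, 1, 0, 0, 0], ![0, 0, 1, 1, 0, 0, 0], ![0, 0, 0, 0, 1, 0, 0],
      ![0, 0, 0, -1, -1, 0, 0], ![0, 0, 0, 1, 1, 1, 0], ![0, 0, 0, 0, 0, 0, 1]]),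
    (4, ![![1, 0, 0, 0, 0, 0, 0], ![0, 1, 0, 0, 0, 0, 0], ![0, 0, 1, 0, 0, 0, 0], ![0, 0, 0, 1, 1, 0, 0],
      ![0, 0, 0, 0, -1, 0, 0], ![0, 0, 0, 0, 1, 1, 0], ![0, 0, 0, 0, 0, 0, 1]])]

theorem q4_ok : ChainOK Am q4 := by decide +kernel

/-- coefficients of the functional, order 4 -/
def v4 : Fin 2 → Fin 7 → ℤ := ![![0, -1, -1, 1, 1, -1, 0], ![0, -1, 1, -1, 1, 0, 0]]

theorem e4 : EigOK (fun i j => hd q4 j i) c4 v4 ![0, 0, 0, 0, 0, -1, 0] := by decide +kernel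

theorem f4 : ∀ m, ∑ j, vec chevE7 7 r0 j * hd q4 j m = vec chevE7 7 r0 m := by decide +kernel

theorem z4 : ∀ i, ∑ m, vec chevE7 7 r0 m * v4 i m = 0 := by decide +kernel

theorem rel_4_p {F : Type u} [Field F] [Finite F] {r s : ℕ} (hr : r.Prime) (hs : s.Prime)
    (h1 : phiC c4 (Nat.card F) 2 r) (h2 : s ∣ Nat.card F) : PG.Rel ↥(chevE7.group F) r s := by
  have := finW
  exact rel_p_of_eig hp CoxeterMatrix.E₇.toCoxeterSystem H129.TorusChar.invC_E7 (by norm_num)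
    (chain_rep hp CoxeterMatrix.E₇.toCoxeterSystem hA q4_ok) e4 (Or.inl (by decide +kernel)) r0_lt f4 z4 hr hs h1.1
    (sq_surj hs h2) h1.2 h2

/-- partial products of an element with characteristic polynomial Φ1^3 Φ5 -/
def q5 : List (Fin 7 × Mat 7) := [
    (1, ![![1, 0, 0, 0, 0, 0, 0], ![0, 0, 0, 1, 0, 0, 0], ![0, 1, 1, 1, 0, 0, 0], ![0, 0, 0, 0, 1, 0, 0],
      ![0, 0, 0, 0, 0, 1, 0], ![0, -1, 0, -1, -1, -1, 0], ![0, 1, 0, 1, 1, 1, 1]]),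
    (3, ![![1, 0, 0, 0, 0, 0, 0], ![0, 1, 0, 1, 0, 0, 0], ![0, 0, 1, 1, 0, 0, 0], ![0, 0, 0, 0, 1, 0, 0],
      ![0, 0, 0, 0, 0, 1, 0], ![0, 0, 0, -1, -1, -1, 0], ![0, 0, 0, 1, 1, 1, 1]]),
    (4, ![![1, 0, 0, 0, 0, 0, 0], ![0, 1, 0, 0, 0, 0, 0], ![0, 0, 1, 0, 0, 0, 0], ![0, 0, 0, 1, 1, 0, 0],
      ![0, 0, 0, 0, 0, 1, 0], ![0, 0, 0, 0, -1, -1, 0], ![0, 0, 0, 0, 1, 1, 1]]),
    (5, ![![1, 0, 0, 0, 0, 0, 0], ![0, 1, 0, 0, 0, 0, 0], ![0, 0, 1, 0, 0, 0, 0], ![0, 0, 0, 1, 0, 0, 0],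
      ![0, 0, 0, 0, 1, 1, 0], ![0, 0, 0, 0, 0, -1, 0], ![0, 0, 0, 0, 0, 1, 1]])]

theorem q5_ok : ChainOK Am q5 := by decide +kernel

/-- coefficients of the functional, order 5 -/
def v5 : Fin 4 → Fin 7 → ℤ := ![![0, -2, 0, 1, 0, 0, 0], ![0, -1, 1, -1, 1, 0, 0],
    ![0, -1, 1, 0, -1, 1, 0], ![0, -1, 1, 0, 0, -1, 1]]

theorem e5 : EigOK (fun i j => hd q5 j i) c5 v5 ![0, 0, 0, 1, 1, 1, 1] := by decide +kernel

theorem f5 : ∀ m, ∑ j, vec chevE7 7 r0 j * hd q5 j m = vec chevE7 7 r0 m := by decide +kernel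

theorem z5 : ∀ i, ∑ m, vec chevE7 7 r0 m * v5 i m = 0 := by decide +kernel

theorem rel_5_p {F : Type u} [Field F] [Finite F] {r s : ℕ} (hr : r.Prime) (hs : s.Prime)
    (h1 : phiC c5 (Nat.card F) 2 r) (h2 : s ∣ Nat.card F) : PG.Rel ↥(chevE7.group F) r s := by
  have := finW
  exact rel_p_of_eig hp CoxeterMatrix.E₇.toCoxeterSystem H129.TorusChar.invC_E7 (by norm_num)
    (chain_rep hp CoxeterMatrix.E₇.toCoxeterSystem hA q5_ok) e5 (Or.inl (by decide +kernel)) r0_lt f5 z5 hr hs h1.1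
    (sq_surj hs h2) h1.2 h2

/-- partial products of an element with characteristic polynomial Φ1^3 Φ2^2 Φ6 -/
def q6 : List (Fin 7 × Mat 7) := [
    (1, ![![1, 0, 1, 0, 0, 0, 0], ![0, 0, 1, 1, 0, 0, 0], ![0, 1, 0, 1, 0, 0, 0], ![0, 0, 0, 0, 1, 0, 0],
      ![0, -1, -1, -1, -1, 0, 0], ![0, 1, 1, 1, 1, 1, 0], ![0, 0, 0, 0, 0, 0, 1]]),
    (2, ![![1, 0, 1, 0, 0, 0, 0], ![0, 1, 1, 1, 0, 0, 0], ![0, 0, 0, 1, 0, 0, 0], ![0, 0, 0, 0, 1, 0, 0],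
      ![0, 0, -1, -1, -1, 0, 0], ![0, 0, 1, 1, 1, 1, 0], ![0, 0, 0, 0, 0, 0, 1]]),
    (3, ![![1, 0, 0, 0, 0, 0, 0], ![0, 1, 0, 1, 0, 0, 0], ![0, 0, 1, 1, 0, 0, 0], ![0, 0, 0, 0, 1, 0, 0],
      ![0, 0, 0, -1, -1, 0, 0], ![0, 0, 0, 1, 1, 1, 0], ![0, 0, 0, 0, 0, 0, 1]]),
    (4, ![![1, 0, 0, 0, 0, 0, 0], ![0, 1, 0, 0, 0, 0, 0], ![0, 0, 1, 0, 0, 0, 0], ![0, 0, 0, 1, 1, 0, 0],
      ![0, 0, 0, 0, -1, 0, 0], ![0, 0, 0, 0, 1, 1, 0], ![0, 0, 0, 0, 0, 0, 1]])]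

theorem q6_ok : ChainOK Am q6 := by decide +kernel

/-- coefficients of the functional, order 6 -/
def v6 : Fin 2 → Fin 7 → ℤ := ![![-1, 0, 0, 1, 0, -1, 0], ![1, -1, -1, 0, 1, 0, 0]]

theorem e6 : EigOK (fun i j => hd q6 j i) c6 v6 ![0, 0, 0, 1, 0, 0, 0] := by decide +kernel

theorem f6 : ∀ m, ∑ j, vec chevE7 7 r0 j * hd q6 j m = vec chevE7 7 r0 m := by decide +kernel

theorem z6 : ∀ i, ∑ m, vec chevE7 7 r0 m * v6 i m = 0 := by decide +kernel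

theorem rel_6_p {F : Type u} [Field F] [Finite F] {r s : ℕ} (hr : r.Prime) (hs : s.Prime)
    (h1 : phiC c6 (Nat.card F) 2 r) (h2 : s ∣ Nat.card F) : PG.Rel ↥(chevE7.group F) r s := by
  have := finW
  exact rel_p_of_eig hp CoxeterMatrix.E₇.toCoxeterSystem H129.TorusChar.invC_E7 (by norm_num)
    (chain_rep hp CoxeterMatrix.E₇.toCoxeterSystem hA q6_ok) e6 (Or.inl (by decide +kernel)) r0_lt f6 z6 hr hs h1.1
    (sq_surj hs h2) h1.2 h2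

/-- partial products of an element with characteristic polynomial Φ1^2 Φ2 Φ8 -/
def q8 : List (Fin 7 × Mat 7) := [
    (1, ![![1, 0, 1, 0, 0, 0, 0], ![0, 0, 1, 1, 0, 0, 0], ![0, 1, 0, 1, 0, 0, 0], ![0, 0, 0, 0, 1, 0, 0],
      ![0, 0, 0, 0, 0, 1, 0], ![0, -1, -1, -1, -1, -1, 0], ![0, 1, 1, 1, 1, 1, 1]]),
    (2, ![![1, 0, 1, 0, 0, 0, 0], ![0, 1, 1, 1, 0, 0, 0], ![0, 0, 0, 1, 0, 0, 0], ![0, 0, 0, 0, 1, 0, 0],
      ![0, 0, 0, 0, 0, 1, 0], ![0, 0, -1, -1, -1, -1, 0], ![0, 0, 1, 1, 1, 1, 1]]),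
    (3, ![![1, 0, 0, 0, 0, 0, 0], ![0, 1, 0, 1, 0, 0, 0], ![0, 0, 1, 1, 0, 0, 0], ![0, 0, 0, 0, 1, 0, 0],
      ![0, 0, 0, 0, 0, 1, 0], ![0, 0, 0, -1, -1, -1, 0], ![0, 0, 0, 1, 1, 1, 1]]),
    (4, ![![1, 0, 0, 0, 0, 0, 0], ![0, 1, 0, 0, 0, 0, 0], ![0, 0, 1, 0, 0, 0, 0], ![0, 0, 0, 1, 1, 0, 0],
      ![0, 0, 0, 0, 0, 1, 0], ![0, 0, 0, 0, -1, -1, 0], ![0, 0, 0, 0, 1, 1, 1]]),
    (5, ![![1, 0, 0, 0, 0, 0, 0], ![0, 1, 0, 0, 0, 0, 0], ![0, 0, 1, 0, 0, 0, 0], ![0, 0, 0, 1, 0, 0, 0],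
      ![0, 0, 0, 0, 1, 1, 0], ![0, 0, 0, 0, 0, -1, 0], ![0, 0, 0, 0, 0, 1, 1]])]

theorem q8_ok : ChainOK Am q8 := by decide +kernel

/-- coefficients of the functional, order 8 -/
def v8 : Fin 4 → Fin 7 → ℤ := ![![1, 0, 0, 0, -1, 0, 1], ![0, 1, 1, -1, 0, -1, 1],
    ![-1, 1, 1, 0, -1, 0, 0], ![-1, 0, 0, 1, 0, -1, 0]]

theorem e8 : EigOK (fun i j => hd q8 j i) c8 v8 ![1, 1, 0, 1, 0, 0, 0] := by decide +kernel

theorem f8 : ∀ m, ∑ j, vec chevE7 7 r0 j * hd q8 j m = vec chevE7 7 r0 m := by decide +kernel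

theorem z8 : ∀ i, ∑ m, vec chevE7 7 r0 m * v8 i m = 0 := by decide +kernel

theorem rel_8_p {F : Type u} [Field F] [Finite F] {r s : ℕ} (hr : r.Prime) (hs : s.Prime)
    (h1 : phiC c8 (Nat.card F) 2 r) (h2 : s ∣ Nat.card F) : PG.Rel ↥(chevE7.group F) r s := by
  have := finW
  exact rel_p_of_eig hp CoxeterMatrix.E₇.toCoxeterSystem H129.TorusChar.invC_E7 (by norm_num)
    (chain_rep hp CoxeterMatrix.E₇.toCoxeterSystem hA q8_ok) e8 (Or.inl (by decide +kernel)) r0_lt f8 z8 hr hs h1.1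
    (sq_surj hs h2) h1.2 h2

/-- partial products of an element with characteristic polynomial Φ1 Φ2^2 Φ10 -/
def q10 : List (Fin 7 × Mat 7) := [
    (1, ![![1, 0, 1, 0, 0, 0, 0], ![0, 0, 1, 1, 0, 0, 0], ![0, 1, 0, 1, 0, 0, 0], ![0, 0, 0, 0, 1, 0, 0],
      ![0, 0, 0, 0, 0, 1, 0], ![0, 0, 0, 0, 0, 0, 1], ![0, -1, -1, -1, -1, -1, -1]]),
    (2, ![![1, 0, 1, 0, 0, 0, 0], ![0, 1, 1, 1, 0, 0, 0], ![0, 0, 0, 1, 0, 0, 0], ![0, 0, 0, 0, 1, 0, 0],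
      ![0, 0, 0, 0, 0, 1, 0], ![0, 0, 0, 0, 0, 0, 1], ![0, 0, -1, -1, -1, -1, -1]]),
    (3, ![![1, 0, 0, 0, 0, 0, 0], ![0, 1, 0, 1, 0, 0, 0], ![0, 0, 1, 1, 0, 0, 0], ![0, 0, 0, 0, 1, 0, 0],
      ![0, 0, 0, 0, 0, 1, 0], ![0, 0, 0, 0, 0, 0, 1], ![0, 0, 0, -1, -1, -1, -1]]),
    (4, ![![1, 0, 0, 0, 0, 0, 0], ![0, 1, 0, 0, 0, 0, 0], ![0, 0, 1, 0, 0, 0, 0], ![0, 0, 0, 1, 1, 0, 0],
      ![0, 0, 0, 0, 0, 1, 0], ![0, 0, 0, 0, 0, 0, 1], ![0, 0, 0, 0, -1, -1, -1]]),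
    (5, ![![1, 0, 0, 0, 0, 0, 0], ![0, 1, 0, 0, 0, 0, 0], ![0, 0, 1, 0, 0, 0, 0], ![0, 0, 0, 1, 0, 0, 0],
      ![0, 0, 0, 0, 1, 1, 0], ![0, 0, 0, 0, 0, 0, 1], ![0, 0, 0, 0, 0, -1, -1]]),
    (6, ![![1, 0, 0, 0, 0, 0, 0], ![0, 1, 0, 0, 0, 0, 0], ![0, 0, 1, 0, 0, 0, 0], ![0, 0, 0, 1, 0, 0, 0],
      ![0, 0, 0, 0, 1, 0, 0], ![0, 0, 0, 0, 0, 1, 1], ![0, 0, 0, 0, 0, 0, -1]])]

theorem q10_ok : ChainOK Am q10 := by decide +kernel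

/-- coefficients of the functional, order 10 -/
def v10 : Fin 4 → Fin 7 → ℤ := ![![0, 1, 1, -1, 0, 0, -1], ![-1, 0, 0, 1, -1, 0, 1],
    ![0, 0, 0, 0, 1, -1, -1], ![-1, 0, 0, 0, 0, 1, 0]]

theorem e10 : EigOK (fun i j => hd q10 j i) c10 v10 ![0, 1, 0, 0, 0, 0, 0] := by decide +kernel

theorem f10 : ∀ m, ∑ j, vec chevE7 7 r0 j * hd q10 j m = vec chevE7 7 r0 m := by decide +kernel

theorem z10 : ∀ i, ∑ m, vec chevE7 7 r0 m * v10 i m = 0 := by decide +kernel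

theorem rel_10_p {F : Type u} [Field F] [Finite F] {r s : ℕ} (hr : r.Prime) (hs : s.Prime)
    (h1 : phiC c10 (Nat.card F) 2 r) (h2 : s ∣ Nat.card F) : PG.Rel ↥(chevE7.group F) r s := by
  have := finW
  exact rel_p_of_eig hp CoxeterMatrix.E₇.toCoxeterSystem H129.TorusChar.invC_E7 (by norm_num)
    (chain_rep hp CoxeterMatrix.E₇.toCoxeterSystem hA q10_ok) e10 (Or.inl (by decide +kernel)) r0_lt f10 z10 hr hs h1.1
    (sq_surj hs h2) h1.2 h2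

/-- partial products of an element with characteristic polynomial Φ1 Φ3 Φ12 -/
def q12 : List (Fin 7 × Mat 7) := [
    (0, ![![0, 0, 1, 1, 1, 0, 0], ![0, -1, 0, -1, -1, 0, 0], ![-1, 0, -1, -1, -1, 0, 0], ![1, 1, 1, 1, 1, 0, 0],
      ![0, 0, 0, 1, 1, 1, 0], ![0, 0, 0, 0, -1, -1, 0], ![0, 0, 0, 0, 1, 1, 1]]),
    (4, ![![1, 0, 1, 1, 1, 0, 0], ![0, -1, 0, -1, -1, 0, 0], ![0, 0, -1, -1, -1, 0, 0], ![0, 1, 1, 1, 1, 0, 0],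
      ![0, 0, 0, 1, 1, 1, 0], ![0, 0, 0, 0, -1, -1, 0], ![0, 0, 0, 0, 1, 1, 1]]),
    (3, ![![1, 0, 1, 1, 0, 0, 0], ![0, -1, 0, -1, 0, 0, 0], ![0, 0, -1, -1, 0, 0, 0], ![0, 1, 1, 1, 0, 0, 0],
      ![0, 0, 0, 1, 1, 1, 0], ![0, 0, 0, 0, 0, -1, 0], ![0, 0, 0, 0, 0, 1, 1]]),
    (1, ![![1, 0, 1, 0, 0, 0, 0], ![0, -1, 0, 0, 0, 0, 0], ![0, 0, -1, 0, 0, 0, 0], ![0, 1, 1, 1, 0, 0, 0],
      ![0, 0, 0, 0, 1, 1, 0], ![0, 0, 0, 0, 0, -1, 0], ![0, 0, 0, 0, 0, 1, 1]]),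
    (2, ![![1, 0, 1, 0, 0, 0, 0], ![0, 1, 0, 0, 0, 0, 0], ![0, 0, -1, 0, 0, 0, 0], ![0, 0, 1, 1, 0, 0, 0],
      ![0, 0, 0, 0, 1, 1, 0], ![0, 0, 0, 0, 0, -1, 0], ![0, 0, 0, 0, 0, 1, 1]]),
    (5, ![![1, 0, 0, 0, 0, 0, 0], ![0, 1, 0, 0, 0, 0, 0], ![0, 0, 1, 0, 0, 0, 0], ![0, 0, 0, 1, 0, 0, 0],
      ![0, 0, 0, 0, 1, 1, 0], ![0, 0, 0, 0, 0, -1, 0], ![0, 0, 0, 0, 0, 1, 1]])]

theorem q12_ok : ChainOK Am q12 := by decide +kernel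

/-- coefficients of the functional, order 12 -/
def v12 : Fin 4 → Fin 7 → ℤ := ![![0, 0, 1, 0, -1, 1, -1], ![-1, 1, 1, 0, -1, 0, 0],
    ![0, 1, 0, -1, 0, 0, 1], ![0, -1, 0, 0, 0, 0, 1]]

theorem e12 : EigOK (fun i j => hd q12 j i) c12 v12 ![0, 0, 0, 0, 0, 1, 0] := by decide +kernel

theorem f12 : ∀ m, ∑ j, vec chevE7 7 92 j * hd q12 j m = vec chevE7 7 105 m := by decide +kernel

theorem g12 : ∀ m, ∑ j, vec chevE7 7 105 j * hd q12 j m = vec chevE7 7 113 m := by decide +kernel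

theorem h12 : ∀ m, ∑ j, vec chevE7 7 113 j * hd q12 j m = vec chevE7 7 92 m := by decide +kernel

theorem z12 : ∀ i, ∑ m, vec chevE7 7 92 m * v12 i m = 0 := by decide +kernel

theorem y12 : ∀ i, ∑ m, vec chevE7 7 105 m * v12 i m = 0 := by decide +kernel

theorem x12 : ∀ i, ∑ m, vec chevE7 7 113 m * v12 i m = 0 := by decide +kernel

theorem k12_0 : 105 ≠ 92 ∧ 105 ≠ chevE7.neg 92 ∧ chevE7.commTerms 92 105 = [] := by decide +kernel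

theorem k12_1 : 113 ≠ 92 ∧ 113 ≠ chevE7.neg 92 ∧ chevE7.commTerms 92 113 = [] := by decide +kernel

theorem k12_2 : 113 ≠ 105 ∧ 113 ≠ chevE7.neg 105 ∧ chevE7.commTerms 105 113 = [] := by decide +kernel

theorem rel_12_p {F : Type u} [Field F] [Finite F] {r s : ℕ} (hr : r.Prime) (hs : s.Prime)
    (h1 : phiC c12 (Nat.card F) 2 r) (h2 : s ∣ Nat.card F) : PG.Rel ↥(chevE7.group F) r s := by
  have := finW
  exact rel_p_of_orb hp CoxeterMatrix.E₇.toCoxeterSystem H129.TorusChar.invC_E7 (by norm_num)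
    (chain_rep hp CoxeterMatrix.E₇.toCoxeterSystem hA q12_ok) e12 (Or.inl (by decide +kernel))
    (r₀ := 92) (r₁ := 105) (r₂ := 113) (by decide +kernel) (by decide +kernel) (by decide +kernel)
    f12 g12 h12 k12_0 k12_1 k12_2 (L := ![-1, 1, 0, 0, 0, 0, 0]) (by decide +kernel) (by decide +kernel) (by decide +kernel)
    z12 y12 x12 hr hs h1.1 (sq_surj hs h2) h1.2 h2

end Cfsg.Agent.R2.Spec.EE.CertE7
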