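import Cfsg.Agent.H168.ExcE8

/-!
# Adjacency of the prime divisors of two cyclotomic values through one torus, type E8, part 1 (helper2)

Chains, eigenvectors and functionals as in `H168/ExcPairE8.lean`.
-/

set_option autoImplicit false

namespace Cfsg.Agent.R2.Spec.EE.CertE8

open Cfsg.Agent.H129.WData Cfsg.Agent.ChevalleyStructure.CoxeterGeomTypes Cfsg.Agent.Nodes.RGDChev
open Cfsg.Lie Cfsg.Lie.ChevalleyDatum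
open Cfsg.Agent Cfsg.Agent.H493 Cfsg.Agent.H493.PGTorus Cfsg.Agent.H493.PGCyc Cfsg.Agent.H493.PGE8
open Cfsg.Agent.H168.ExcAdj

universe u

/-- partial products of an element with characteristic polynomial Φ1^2 Φ3 Φ12 -/
def ch1_3_12 : List (Fin 8 × Mat 8) := [
    (0, ![![0, 0, 1, 0, 0, 0, 0, 0], ![1, 0, 1, 1, 1, 1, 0, 0], ![0, 1, 0, 1, 1, 1, 0, 0],
      ![-1, -1, -1, -1, -1, -1, 0, 0], ![1, 1, 1, 1, 0, 0, 0, 0], ![0, 0, 0, 0, 1, 0, 0, 0],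
      ![0, 0, 0, 0, 0, 1, 1, 0], ![0, 0, 0, 0, 0, 0, 0, 1]]),
    (1, ![![1, 0, 1, 0, 0, 0, 0, 0], ![0, 0, 1, 1, 1, 1, 0, 0], ![0, 1, 0, 1, 1, 1, 0, 0],
      ![0, -1, -1, -1, -1, -1, 0, 0], ![0, 1, 1, 1, 0, 0, 0, 0], ![0, 0, 0, 0, 1, 0, 0, 0],
      ![0, 0, 0, 0, 0, 1, 1, 0], ![0, 0, 0, 0, 0, 0, 0, 1]]),
    (2, ![![1, 0, 1, 0, 0, 0, 0, 0], ![0, 1, 1, 1, 1, 1, 0, 0], ![0, 0, 0, 1, 1, 1, 0, 0],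
      ![0, 0, -1, -1, -1, -1, 0, 0], ![0, 0, 1, 1, 0, 0, 0, 0], ![0, 0, 0, 0, 1, 0, 0, 0], ![0, 0, 0, 0, 0, 1, 1, 0],
      ![0, 0, 0, 0, 0, 0, 0, 1]]),
    (5, ![![1, 0, 0, 0, 0, 0, 0, 0], ![0, 1, 0, 1, 1, 1, 0, 0], ![0, 0, 1, 1, 1, 1, 0, 0],
      ![0, 0, 0, -1, -1, -1, 0, 0], ![0, 0, 0, 1, 0, 0, 0, 0], ![0, 0, 0, 0, 1, 0, 0, 0], ![0, 0, 0, 0, 0, 1, 1, 0],
      ![0, 0, 0, 0, 0, 0, 0, 1]]),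
    (4, ![![1, 0, 0, 0, 0, 0, 0, 0], ![0, 1, 0, 1, 1, 0, 0, 0], ![0, 0, 1, 1, 1, 0, 0, 0],
      ![0, 0, 0, -1, -1, 0, 0, 0], ![0, 0, 0, 1, 0, 0, 0, 0], ![0, 0, 0, 0, 1, 1, 0, 0], ![0, 0, 0, 0, 0, 0, 1, 0],
      ![0, 0, 0, 0, 0, 0, 0, 1]]),
    (3, ![![1, 0, 0, 0, 0, 0, 0, 0], ![0, 1, 0, 1, 0, 0, 0, 0], ![0, 0, 1, 1, 0, 0, 0, 0],
      ![0, 0, 0, -1, 0, 0, 0, 0], ![0, 0, 0, 1, 1, 0, 0, 0], ![0, 0, 0, 0, 0, 1, 0, 0], ![0, 0, 0, 0, 0, 0, 1, 0],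
      ![0, 0, 0, 0, 0, 0, 0, 1]])]

theorem ch1_3_12_ok : ChainOK Am ch1_3_12 := by decide +kernel

/-- coefficients of the eigenvector, order 3 -/
def v1_3_12_at3 : Fin 2 → Fin 8 → ℤ := ![![1, 0, 0, 0, 0, -1, 0, 0], ![0, 0, -1, 0, 1, 0, 0, 0]]

theorem e1_3_12_at3 : EigOK (hd ch1_3_12) c3 v1_3_12_at3 ![1, 0, 0, 0, 0, 0, 0, 0] := by decide +kernel

/-- coefficients of the eigenvector, order 12 -/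
def v1_3_12_at12 : Fin 4 → Fin 8 → ℤ := ![![0, 1, 0, 1, 0, 0, 0, 0], ![0, 0, 1, 1, 1, 0, 0, 0],
    ![1, 0, 1, 1, 1, 1, 0, 0], ![0, 1, 0, 0, 0, 0, 0, 0]]

theorem e1_3_12_at12 : EigOK (hd ch1_3_12) c12 v1_3_12_at12 ![0, 0, -1, 1, 0, 0, 0, 0] := by decide +kernel

theorem rel_12_3 {F : Type u} [Field F] [Finite F] {r s : ℕ} (hr : r.Prime) (hs : s.Prime) (hrs : r ≠ s)
    (h1 : phiC c12 (Nat.card F) 1 r) (h2 : phiC c3 (Nat.card F) 1 s) :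
    PG.Rel ↥(chevE8.group F) r s := by
  have := finW
  exact rel_of_eig hp CoxeterMatrix.E₈.toCoxeterSystem H129.TorusChar.invC_E8 one_ne_zero
    (chain_rep hp CoxeterMatrix.E₈.toCoxeterSystem hA ch1_3_12_ok) e1_3_12_at12 e1_3_12_at3 hr hs hrs h1.1 h2.1 h1.2 h2.2

/-- partial products of an element with characteristic polynomial Φ1 Φ2 Φ4 Φ12 -/
def ch1_2_4_12 : List (Fin 8 × Mat 8) := [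
    (2, ![![1, 0, 1, 0, 0, 0, 0, 0], ![0, -1, -1, -1, -1, -1, 0, 0], ![0, 0, 0, 1, 1, 1, 0, 0],
      ![0, 1, 0, 0, 0, 0, 0, 0], ![0, 0, 1, 1, 0, 0, 0, 0], ![0, 0, 0, 0, 1, 1, 1, 1], ![0, 0, 0, 0, 0, -1, -1, -1],
      ![0, 0, 0, 0, 0, 1, 1, 0]]),
    (5, ![![1, 0, 0, 0, 0, 0, 0, 0], ![0, -1, 0, -1, -1, -1, 0, 0], ![0, 0, 1, 1, 1, 1, 0, 0],
      ![0, 1, 0, 0, 0, 0, 0, 0], ![0, 0, 0, 1, 0, 0, 0, 0], ![0, 0, 0, 0, 1, 1, 1, 1], ![0, 0, 0, 0, 0, -1, -1, -1],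
      ![0, 0, 0, 0, 0, 1, 1, 0]]),
    (4, ![![1, 0, 0, 0, 0, 0, 0, 0], ![0, -1, 0, -1, -1, 0, 0, 0], ![0, 0, 1, 1, 1, 0, 0, 0],
      ![0, 1, 0, 0, 0, 0, 0, 0], ![0, 0, 0, 1, 0, 0, 0, 0], ![0, 0, 0, 0, 1, 1, 1, 1], ![0, 0, 0, 0, 0, 0, -1, -1],
      ![0, 0, 0, 0, 0, 0, 1, 0]]),
    (3, ![![1, 0, 0, 0, 0, 0, 0, 0], ![0, -1, 0, -1, 0, 0, 0, 0], ![0, 0, 1, 1, 0, 0, 0, 0],
      ![0, 1, 0, 0, 0, 0, 0, 0], ![0, 0, 0, 1, 1, 0, 0, 0], ![0, 0, 0, 0, 0, 1, 1, 1], ![0, 0, 0, 0, 0, 0, -1, -1],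
      ![0, 0, 0, 0, 0, 0, 1, 0]]),
    (1, ![![1, 0, 0, 0, 0, 0, 0, 0], ![0, -1, 0, 0, 0, 0, 0, 0], ![0, 0, 1, 0, 0, 0, 0, 0],
      ![0, 1, 0, 1, 0, 0, 0, 0], ![0, 0, 0, 0, 1, 0, 0, 0], ![0, 0, 0, 0, 0, 1, 1, 1], ![0, 0, 0, 0, 0, 0, -1, -1],
      ![0, 0, 0, 0, 0, 0, 1, 0]]),
    (7, ![![1, 0, 0, 0, 0, 0, 0, 0], ![0, 1, 0, 0, 0, 0, 0, 0], ![0, 0, 1, 0, 0, 0, 0, 0],
      ![0, 0, 0, 1, 0, 0, 0, 0], ![0, 0, 0, 0, 1, 0, 0, 0], ![0, 0, 0, 0, 0, 1, 1, 1], ![0, 0, 0, 0, 0, 0, -1, -1],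
      ![0, 0, 0, 0, 0, 0, 1, 0]]),
    (6, ![![1, 0, 0, 0, 0, 0, 0, 0], ![0, 1, 0, 0, 0, 0, 0, 0], ![0, 0, 1, 0, 0, 0, 0, 0],
      ![0, 0, 0, 1, 0, 0, 0, 0], ![0, 0, 0, 0, 1, 0, 0, 0], ![0, 0, 0, 0, 0, 1, 1, 0], ![0, 0, 0, 0, 0, 0, -1, 0],
      ![0, 0, 0, 0, 0, 0, 1, 1]])]

theorem ch1_2_4_12_ok : ChainOK Am ch1_2_4_12 := by decide +kernel

/-- coefficients of the eigenvector, order 1 -/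
def v1_2_4_12_at1 : Fin 1 → Fin 8 → ℤ := ![![-4, -5, -7, -10, -8, -6, -4, -2]]

theorem e1_2_4_12_at1 : EigOK (hd ch1_2_4_12) c1 v1_2_4_12_at1 ![1, -1, 0, 0, 0, 0, 0, 0] := by decide +kernel

/-- coefficients of the eigenvector, order 2 -/
def v1_2_4_12_at2 : Fin 1 → Fin 8 → ℤ := ![![0, 1, 1, 0, 0, 0, 0, 0]]

theorem e1_2_4_12_at2 : EigOK (hd ch1_2_4_12) c2 v1_2_4_12_at2 ![0, 1, 0, 0, 0, 0, 0, 0] := by decide +kernel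

/-- coefficients of the eigenvector, order 4 -/
def v1_2_4_12_at4 : Fin 2 → Fin 8 → ℤ := ![![0, 0, -1, -1, 0, 1, 2, 1], ![0, 1, 0, 1, 0, 1, 0, 1]]

theorem e1_2_4_12_at4 : EigOK (hd ch1_2_4_12) c4 v1_2_4_12_at4 ![0, 0, -1, 0, 0, 0, 0, 0] := by decide +kernel

/-- coefficients of the eigenvector, order 12 -/
def v1_2_4_12_at12 : Fin 4 → Fin 8 → ℤ := ![![0, 1, 0, 1, 1, 1, 0, -1], ![0, 0, 1, 1, 0, 0, 1, 1],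
    ![0, 0, 0, 0, 1, 0, 0, 1], ![0, 0, 0, 0, 0, 1, 0, -1]]

theorem e1_2_4_12_at12 : EigOK (hd ch1_2_4_12) c12 v1_2_4_12_at12 ![0, 1, 0, 0, 0, 0, 0, 0] := by decide +kernel

theorem rel_12_1 {F : Type u} [Field F] [Finite F] {r s : ℕ} (hr : r.Prime) (hs : s.Prime) (hrs : r ≠ s)
    (h1 : phiC c12 (Nat.card F) 1 r) (h2 : phiC c1 (Nat.card F) 1 s) :
    PG.Rel ↥(chevE8.group F) r s := by
  have := finW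
  exact rel_of_eig hp CoxeterMatrix.E₈.toCoxeterSystem H129.TorusChar.invC_E8 one_ne_zero
    (chain_rep hp CoxeterMatrix.E₈.toCoxeterSystem hA ch1_2_4_12_ok) e1_2_4_12_at12 e1_2_4_12_at1 hr hs hrs h1.1 h2.1 h1.2 h2.2

theorem rel_12_2 {F : Type u} [Field F] [Finite F] {r s : ℕ} (hr : r.Prime) (hs : s.Prime) (hrs : r ≠ s)
    (h1 : phiC c12 (Nat.card F) 1 r) (h2 : phiC c2 (Nat.card F) 1 s) :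
    PG.Rel ↥(chevE8.group F) r s := by
  have := finW
  exact rel_of_eig hp CoxeterMatrix.E₈.toCoxeterSystem H129.TorusChar.invC_E8 one_ne_zero
    (chain_rep hp CoxeterMatrix.E₈.toCoxeterSystem hA ch1_2_4_12_ok) e1_2_4_12_at12 e1_2_4_12_at2 hr hs hrs h1.1 h2.1 h1.2 h2.2

theorem rel_12_4 {F : Type u} [Field F] [Finite F] {r s : ℕ} (hr : r.Prime) (hs : s.Prime) (hrs : r ≠ s)
    (h1 : phiC c12 (Nat.card F) 1 r) (h2 : phiC c4 (Nat.card F) 1 s) :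
    PG.Rel ↥(chevE8.group F) r s := by
  have := finW
  exact rel_of_eig hp CoxeterMatrix.E₈.toCoxeterSystem H129.TorusChar.invC_E8 one_ne_zero
    (chain_rep hp CoxeterMatrix.E₈.toCoxeterSystem hA ch1_2_4_12_ok) e1_2_4_12_at12 e1_2_4_12_at4 hr hs hrs h1.1 h2.1 h1.2 h2.2

/-- partial products of an element with characteristic polynomial Φ1 Φ2 Φ4 Φ8 -/
def ch1_2_4_8 : List (Fin 8 × Mat 8) := [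
    (3, ![![-1, 0, -1, -1, 0, 0, 0, 0], ![0, 1, 0, 1, 0, 0, 0, 0], ![1, 0, 0, 0, 0, 0, 0, 0],
      ![0, 0, 1, 1, 1, 0, 0, 0], ![0, 0, 0, 0, 0, 1, 1, 0], ![0, 0, 0, -1, -1, -1, -1, 0], ![0, 0, 0, 1, 1, 1, 1, 1],
      ![0, 0, 0, 0, 0, 0, -1, -1]]),
    (2, ![![-1, 0, -1, 0, 0, 0, 0, 0], ![0, 1, 0, 0, 0, 0, 0, 0], ![1, 0, 0, 0, 0, 0, 0, 0],
      ![0, 0, 1, 1, 1, 0, 0, 0], ![0, 0, 0, 0, 0, 1, 1, 0], ![0, 0, 0, 0, -1, -1, -1, 0], ![0, 0, 0, 0, 1, 1, 1, 1],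
      ![0, 0, 0, 0, 0, 0, -1, -1]]),
    (0, ![![-1, 0, 0, 0, 0, 0, 0, 0], ![0, 1, 0, 0, 0, 0, 0, 0], ![1, 0, 1, 0, 0, 0, 0, 0],
      ![0, 0, 0, 1, 1, 0, 0, 0], ![0, 0, 0, 0, 0, 1, 1, 0], ![0, 0, 0, 0, -1, -1, -1, 0], ![0, 0, 0, 0, 1, 1, 1, 1],
      ![0, 0, 0, 0, 0, 0, -1, -1]]),
    (4, ![![1, 0, 0, 0, 0, 0, 0, 0], ![0, 1, 0, 0, 0, 0, 0, 0], ![0, 0, 1, 0, 0, 0, 0, 0],
      ![0, 0, 0, 1, 1, 0, 0, 0], ![0, 0, 0, 0, 0, 1, 1, 0], ![0, 0, 0, 0, -1, -1, -1, 0], ![0, 0, 0, 0, 1, 1, 1, 1],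
      ![0, 0, 0, 0, 0, 0, -1, -1]]),
    (6, ![![1, 0, 0, 0, 0, 0, 0, 0], ![0, 1, 0, 0, 0, 0, 0, 0], ![0, 0, 1, 0, 0, 0, 0, 0],
      ![0, 0, 0, 1, 0, 0, 0, 0], ![0, 0, 0, 0, 1, 1, 1, 0], ![0, 0, 0, 0, 0, -1, -1, 0], ![0, 0, 0, 0, 0, 1, 1, 1],
      ![0, 0, 0, 0, 0, 0, -1, -1]]),
    (5, ![![1, 0, 0, 0, 0, 0, 0, 0], ![0, 1, 0, 0, 0, 0, 0, 0], ![0, 0, 1, 0, 0, 0, 0, 0],
      ![0, 0, 0, 1, 0, 0, 0, 0], ![0, 0, 0, 0, 1, 1, 0, 0], ![0, 0, 0, 0, 0, -1, 0, 0], ![0, 0, 0, 0, 0, 1, 1, 1],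
      ![0, 0, 0, 0, 0, 0, 0, -1]]),
    (7, ![![1, 0, 0, 0, 0, 0, 0, 0], ![0, 1, 0, 0, 0, 0, 0, 0], ![0, 0, 1, 0, 0, 0, 0, 0],
      ![0, 0, 0, 1, 0, 0, 0, 0], ![0, 0, 0, 0, 1, 0, 0, 0], ![0, 0, 0, 0, 0, 1, 0, 0], ![0, 0, 0, 0, 0, 0, 1, 1],
      ![0, 0, 0, 0, 0, 0, 0, -1]])]

theorem ch1_2_4_8_ok : ChainOK Am ch1_2_4_8 := by decide +kernel

/-- coefficients of the eigenvector, order 1 -/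
def v1_2_4_8_at1 : Fin 1 → Fin 8 → ℤ := ![![-5, -8, -10, -15, -12, -9, -6, -3]]

theorem e1_2_4_8_at1 : EigOK (hd ch1_2_4_8) c1 v1_2_4_8_at1 ![0, -1, 1, 0, 0, 0, 0, -1] := by decide +kernel

/-- coefficients of the eigenvector, order 2 -/
def v1_2_4_8_at2 : Fin 1 → Fin 8 → ℤ := ![![-1, 0, 0, -1, 0, -1, 0, 1]]

theorem e1_2_4_8_at2 : EigOK (hd ch1_2_4_8) c2 v1_2_4_8_at2 ![-1, 0, 0, 0, 0, 0, 0, 0] := by decide +kernel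

/-- coefficients of the eigenvector, order 4 -/
def v1_2_4_8_at4 : Fin 2 → Fin 8 → ℤ := ![![-1, 0, -1, 0, 0, 1, 1, 1],
    ![0, 0, -1, -1, 0, 0, 1, 0]]

theorem e1_2_4_8_at4 : EigOK (hd ch1_2_4_8) c4 v1_2_4_8_at4 ![-1, 0, 0, 0, 0, 0, 0, 0] := by decide +kernel

/-- coefficients of the eigenvector, order 8 -/
def v1_2_4_8_at8 : Fin 4 → Fin 8 → ℤ := ![![0, 0, 0, 0, 1, 1, 0, 0], ![1, 0, 1, 1, 1, 1, 1, 1],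
    ![0, 0, 1, 1, 1, 1, 1, 0], ![0, 0, 0, 1, 1, 0, 0, 0]]

theorem e1_2_4_8_at8 : EigOK (hd ch1_2_4_8) c8 v1_2_4_8_at8 ![0, 0, 0, -1, 1, 0, 0, 0] := by decide +kernel

theorem rel_8_1 {F : Type u} [Field F] [Finite F] {r s : ℕ} (hr : r.Prime) (hs : s.Prime) (hrs : r ≠ s)
    (h1 : phiC c8 (Nat.card F) 1 r) (h2 : phiC c1 (Nat.card F) 1 s) :
    PG.Rel ↥(chevE8.group F) r s := by
  have := finW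
  exact rel_of_eig hp CoxeterMatrix.E₈.toCoxeterSystem H129.TorusChar.invC_E8 one_ne_zero
    (chain_rep hp CoxeterMatrix.E₈.toCoxeterSystem hA ch1_2_4_8_ok) e1_2_4_8_at8 e1_2_4_8_at1 hr hs hrs h1.1 h2.1 h1.2 h2.2

theorem rel_8_2 {F : Type u} [Field F] [Finite F] {r s : ℕ} (hr : r.Prime) (hs : s.Prime) (hrs : r ≠ s)
    (h1 : phiC c8 (Nat.card F) 1 r) (h2 : phiC c2 (Nat.card F) 1 s) :
    PG.Rel ↥(chevE8.group F) r s := by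
  have := finW
  exact rel_of_eig hp CoxeterMatrix.E₈.toCoxeterSystem H129.TorusChar.invC_E8 one_ne_zero
    (chain_rep hp CoxeterMatrix.E₈.toCoxeterSystem hA ch1_2_4_8_ok) e1_2_4_8_at8 e1_2_4_8_at2 hr hs hrs h1.1 h2.1 h1.2 h2.2

theorem rel_8_4 {F : Type u} [Field F] [Finite F] {r s : ℕ} (hr : r.Prime) (hs : s.Prime) (hrs : r ≠ s)
    (h1 : phiC c8 (Nat.card F) 1 r) (h2 : phiC c4 (Nat.card F) 1 s) :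
    PG.Rel ↥(chevE8.group F) r s := by
  have := finW
  exact rel_of_eig hp CoxeterMatrix.E₈.toCoxeterSystem H129.TorusChar.invC_E8 one_ne_zero
    (chain_rep hp CoxeterMatrix.E₈.toCoxeterSystem hA ch1_2_4_8_ok) e1_2_4_8_at8 e1_2_4_8_at4 hr hs hrs h1.1 h2.1 h1.2 h2.2

/-- partial products of an element with characteristic polynomial Φ1 Φ2 Φ3 Φ5 -/
def ch1_2_3_5 : List (Fin 8 × Mat 8) := [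
    (0, ![![0, 0, 1, 0, 0, 0, 0, 0], ![0, -1, 0, 0, 0, 0, 0, 0], ![-1, 0, -1, 0, 0, 0, 0, 0],
      ![1, 1, 1, 1, 1, 1, 0, 0], ![0, 0, 0, 0, -1, -1, 0, 0], ![0, 0, 0, 0, 1, 1, 1, 1],
      ![0, 0, 0, 0, 0, -1, -1, -1], ![0, 0, 0, 0, 0, 1, 1, 0]]),
    (1, ![![1, 0, 1, 0, 0, 0, 0, 0], ![0, -1, 0, 0, 0, 0, 0, 0], ![0, 0, -1, 0, 0, 0, 0, 0],
      ![0, 1, 1, 1, 1, 1, 0, 0], ![0, 0, 0, 0, -1, -1, 0, 0], ![0, 0, 0, 0, 1, 1, 1, 1],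
      ![0, 0, 0, 0, 0, -1, -1, -1], ![0, 0, 0, 0, 0, 1, 1, 0]]),
    (2, ![![1, 0, 1, 0, 0, 0, 0, 0], ![0, 1, 0, 0, 0, 0, 0, 0], ![0, 0, -1, 0, 0, 0, 0, 0],
      ![0, 0, 1, 1, 1, 1, 0, 0], ![0, 0, 0, 0, -1, -1, 0, 0], ![0, 0, 0, 0, 1, 1, 1, 1],
      ![0, 0, 0, 0, 0, -1, -1, -1], ![0, 0, 0, 0, 0, 1, 1, 0]]),
    (5, ![![1, 0, 0, 0, 0, 0, 0, 0], ![0, 1, 0, 0, 0, 0, 0, 0], ![0, 0, 1, 0, 0, 0, 0, 0],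
      ![0, 0, 0, 1, 1, 1, 0, 0], ![0, 0, 0, 0, -1, -1, 0, 0], ![0, 0, 0, 0, 1, 1, 1, 1],
      ![0, 0, 0, 0, 0, -1, -1, -1], ![0, 0, 0, 0, 0, 1, 1, 0]]),
    (4, ![![1, 0, 0, 0, 0, 0, 0, 0], ![0, 1, 0, 0, 0, 0, 0, 0], ![0, 0, 1, 0, 0, 0, 0, 0],
      ![0, 0, 0, 1, 1, 0, 0, 0], ![0, 0, 0, 0, -1, 0, 0, 0], ![0, 0, 0, 0, 1, 1, 1, 1], ![0, 0, 0, 0, 0, 0, -1, -1],
      ![0, 0, 0, 0, 0, 0, 1, 0]]),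
    (7, ![![1, 0, 0, 0, 0, 0, 0, 0], ![0, 1, 0, 0, 0, 0, 0, 0], ![0, 0, 1, 0, 0, 0, 0, 0],
      ![0, 0, 0, 1, 0, 0, 0, 0], ![0, 0, 0, 0, 1, 0, 0, 0], ![0, 0, 0, 0, 0, 1, 1, 1], ![0, 0, 0, 0, 0, 0, -1, -1],
      ![0, 0, 0, 0, 0, 0, 1, 0]]),
    (6, ![![1, 0, 0, 0, 0, 0, 0, 0], ![0, 1, 0, 0, 0, 0, 0, 0], ![0, 0, 1, 0, 0, 0, 0, 0],
      ![0, 0, 0, 1, 0, 0, 0, 0], ![0, 0, 0, 0, 1, 0, 0, 0], ![0, 0, 0, 0, 0, 1, 1, 0], ![0, 0, 0, 0, 0, 0, -1, 0],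
      ![0, 0, 0, 0, 0, 0, 1, 1]])]

theorem ch1_2_3_5_ok : ChainOK Am ch1_2_3_5 := by decide +kernel

/-- coefficients of the eigenvector, order 1 -/
def v1_2_3_5_at1 : Fin 1 → Fin 8 → ℤ := ![![10, 15, 20, 30, 24, 18, 12, 6]]

theorem e1_2_3_5_at1 : EigOK (hd ch1_2_3_5) c1 v1_2_3_5_at1 ![0, 1, -1, 0, 0, 0, 0, 1] := by decide +kernel

/-- coefficients of the eigenvector, order 2 -/
def v1_2_3_5_at2 : Fin 1 → Fin 8 → ℤ := ![![0, 1, 0, 0, 0, 0, 0, 0]]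

theorem e1_2_3_5_at2 : EigOK (hd ch1_2_3_5) c2 v1_2_3_5_at2 ![0, 1, 0, 0, 0, 0, 0, 0] := by decide +kernel

/-- coefficients of the eigenvector, order 3 -/
def v1_2_3_5_at3 : Fin 2 → Fin 8 → ℤ := ![![-1, 0, 0, 0, 0, 0, 0, 0], ![0, 0, 1, 0, 0, 0, 0, 0]]

theorem e1_2_3_5_at3 : EigOK (hd ch1_2_3_5) c3 v1_2_3_5_at3 ![-1, 0, 0, 0, 0, 0, 0, 0] := by decide +kernel

/-- coefficients of the eigenvector, order 5 -/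
def v1_2_3_5_at5 : Fin 4 → Fin 8 → ℤ := ![![0, 0, 0, 0, 1, 1, 0, 0], ![0, 0, 0, 0, 0, 1, 0, 0],
    ![0, 0, 0, 0, 0, 0, -1, 0], ![0, 0, 0, 0, 0, 0, -1, -1]]

theorem e1_2_3_5_at5 : EigOK (hd ch1_2_3_5) c5 v1_2_3_5_at5 ![0, 0, 0, 0, 1, 0, 0, 0] := by decide +kernel

theorem rel_5_1 {F : Type u} [Field F] [Finite F] {r s : ℕ} (hr : r.Prime) (hs : s.Prime) (hrs : r ≠ s)
    (h1 : phiC c5 (Nat.card F) 1 r) (h2 : phiC c1 (Nat.card F) 1 s) :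
    PG.Rel ↥(chevE8.group F) r s := by
  have := finW
  exact rel_of_eig hp CoxeterMatrix.E₈.toCoxeterSystem H129.TorusChar.invC_E8 one_ne_zero
    (chain_rep hp CoxeterMatrix.E₈.toCoxeterSystem hA ch1_2_3_5_ok) e1_2_3_5_at5 e1_2_3_5_at1 hr hs hrs h1.1 h2.1 h1.2 h2.2

theorem rel_5_2 {F : Type u} [Field F] [Finite F] {r s : ℕ} (hr : r.Prime) (hs : s.Prime) (hrs : r ≠ s)
    (h1 : phiC c5 (Nat.card F) 1 r) (h2 : phiC c2 (Nat.card F) 1 s) :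
    PG.Rel ↥(chevE8.group F) r s := by
  have := finW
  exact rel_of_eig hp CoxeterMatrix.E₈.toCoxeterSystem H129.TorusChar.invC_E8 one_ne_zero
    (chain_rep hp CoxeterMatrix.E₈.toCoxeterSystem hA ch1_2_3_5_ok) e1_2_3_5_at5 e1_2_3_5_at2 hr hs hrs h1.1 h2.1 h1.2 h2.2

theorem rel_5_3 {F : Type u} [Field F] [Finite F] {r s : ℕ} (hr : r.Prime) (hs : s.Prime) (hrs : r ≠ s)
    (h1 : phiC c5 (Nat.card F) 1 r) (h2 : phiC c3 (Nat.card F) 1 s) :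
    PG.Rel ↥(chevE8.group F) r s := by
  have := finW
  exact rel_of_eig hp CoxeterMatrix.E₈.toCoxeterSystem H129.TorusChar.invC_E8 one_ne_zero
    (chain_rep hp CoxeterMatrix.E₈.toCoxeterSystem hA ch1_2_3_5_ok) e1_2_3_5_at5 e1_2_3_5_at3 hr hs hrs h1.1 h2.1 h1.2 h2.2

/-- partial products of an element with characteristic polynomial Φ1 Φ2 Φ18 -/
def ch1_2_18 : List (Fin 8 × Mat 8) := [
    (2, ![![-1, 0, -1, 0, 0, 0, 0, 0], ![0, -1, -1, -1, -1, 0, 0, 0], ![1, 0, 1, 1, 1, 0, 0, 0],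
      ![0, 1, 0, 0, 0, 0, 0, 0], ![0, 0, 1, 1, 1, 1, 0, 0], ![0, 0, 0, 0, 0, 0, 1, 0], ![0, 0, 0, 0, -1, -1, -1, 0],
      ![0, 0, 0, 0, 1, 1, 1, 1]]),
    (0, ![![-1, 0, 0, 0, 0, 0, 0, 0], ![0, -1, 0, -1, -1, 0, 0, 0], ![1, 0, 1, 1, 1, 0, 0, 0],
      ![0, 1, 0, 0, 0, 0, 0, 0], ![0, 0, 0, 1, 1, 1, 0, 0], ![0, 0, 0, 0, 0, 0, 1, 0], ![0, 0, 0, 0, -1, -1, -1, 0],
      ![0, 0, 0, 0, 1, 1, 1, 1]]),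
    (4, ![![1, 0, 0, 0, 0, 0, 0, 0], ![0, -1, 0, -1, -1, 0, 0, 0], ![0, 0, 1, 1, 1, 0, 0, 0],
      ![0, 1, 0, 0, 0, 0, 0, 0], ![0, 0, 0, 1, 1, 1, 0, 0], ![0, 0, 0, 0, 0, 0, 1, 0], ![0, 0, 0, 0, -1, -1, -1, 0],
      ![0, 0, 0, 0, 1, 1, 1, 1]]),
    (3, ![![1, 0, 0, 0, 0, 0, 0, 0], ![0, -1, 0, -1, 0, 0, 0, 0], ![0, 0, 1, 1, 0, 0, 0, 0],
      ![0, 1, 0, 0, 0, 0, 0, 0], ![0, 0, 0, 1, 1, 1, 0, 0], ![0, 0, 0, 0, 0, 0, 1, 0], ![0, 0, 0, 0, 0, -1, -1, 0],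
      ![0, 0, 0, 0, 0, 1, 1, 1]]),
    (1, ![![1, 0, 0, 0, 0, 0, 0, 0], ![0, -1, 0, 0, 0, 0, 0, 0], ![0, 0, 1, 0, 0, 0, 0, 0],
      ![0, 1, 0, 1, 0, 0, 0, 0], ![0, 0, 0, 0, 1, 1, 0, 0], ![0, 0, 0, 0, 0, 0, 1, 0], ![0, 0, 0, 0, 0, -1, -1, 0],
      ![0, 0, 0, 0, 0, 1, 1, 1]]),
    (5, ![![1, 0, 0, 0, 0, 0, 0, 0], ![0, 1, 0, 0, 0, 0, 0, 0], ![0, 0, 1, 0, 0, 0, 0, 0],
      ![0, 0, 0, 1, 0, 0, 0, 0], ![0, 0, 0, 0, 1, 1, 0, 0], ![0, 0, 0, 0, 0, 0, 1, 0], ![0, 0, 0, 0, 0, -1, -1, 0],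
      ![0, 0, 0, 0, 0, 1, 1, 1]]),
    (6, ![![1, 0, 0, 0, 0, 0, 0, 0], ![0, 1, 0, 0, 0, 0, 0, 0], ![0, 0, 1, 0, 0, 0, 0, 0],
      ![0, 0, 0, 1, 0, 0, 0, 0], ![0, 0, 0, 0, 1, 0, 0, 0], ![0, 0, 0, 0, 0, 1, 1, 0], ![0, 0, 0, 0, 0, 0, -1, 0],
      ![0, 0, 0, 0, 0, 0, 1, 1]])]

theorem ch1_2_18_ok : ChainOK Am ch1_2_18 := by decide +kernel

/-- coefficients of the eigenvector, order 1 -/
def v1_2_18_at1 : Fin 1 → Fin 8 → ℤ := ![![-2, -3, -4, -6, -5, -4, -3, -2]]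

theorem e1_2_18_at1 : EigOK (hd ch1_2_18) c1 v1_2_18_at1 ![1, -1, 0, 0, 0, 0, 0, 0] := by decide +kernel

/-- coefficients of the eigenvector, order 2 -/
def v1_2_18_at2 : Fin 1 → Fin 8 → ℤ := ![![0, 1, 0, 0, 1, 0, 1, 0]]

theorem e1_2_18_at2 : EigOK (hd ch1_2_18) c2 v1_2_18_at2 ![0, 1, 0, 0, 0, 0, 0, 0] := by decide +kernel

/-- coefficients of the eigenvector, order 18 -/
def v1_2_18_at18 : Fin 6 → Fin 8 → ℤ := ![![-1, 0, 0, 0, 0, 0, 0, 0],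
    ![0, -1, -1, -1, 0, 0, 0, 0], ![0, 0, 0, -1, -1, -1, -1, 0], ![0, -1, -1, -1, -1, -1, 0, 0],
    ![0, 0, 0, -1, -1, 0, 0, 0], ![-1, 0, -1, 0, 0, 0, 0, 0]]

theorem e1_2_18_at18 : EigOK (hd ch1_2_18) c18 v1_2_18_at18 ![-1, -1, 1, 0, 0, 0, 0, 0] := by decide +kernel

theorem rel_18_1 {F : Type u} [Field F] [Finite F] {r s : ℕ} (hr : r.Prime) (hs : s.Prime) (hrs : r ≠ s)
    (h1 : phiC c18 (Nat.card F) 1 r) (h2 : phiC c1 (Nat.card F) 1 s) :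
    PG.Rel ↥(chevE8.group F) r s := by
  have := finW
  exact rel_of_eig hp CoxeterMatrix.E₈.toCoxeterSystem H129.TorusChar.invC_E8 one_ne_zero
    (chain_rep hp CoxeterMatrix.E₈.toCoxeterSystem hA ch1_2_18_ok) e1_2_18_at18 e1_2_18_at1 hr hs hrs h1.1 h2.1 h1.2 h2.2

theorem rel_18_2 {F : Type u} [Field F] [Finite F] {r s : ℕ} (hr : r.Prime) (hs : s.Prime) (hrs : r ≠ s)
    (h1 : phiC c18 (Nat.card F) 1 r) (h2 : phiC c2 (Nat.card F) 1 s) :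
    PG.Rel ↥(chevE8.group F) r s := by
  have := finW
  exact rel_of_eig hp CoxeterMatrix.E₈.toCoxeterSystem H129.TorusChar.invC_E8 one_ne_zero
    (chain_rep hp CoxeterMatrix.E₈.toCoxeterSystem hA ch1_2_18_ok) e1_2_18_at18 e1_2_18_at2 hr hs hrs h1.1 h2.1 h1.2 h2.2

end Cfsg.Agent.R2.Spec.EE.CertE8
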