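import Cfsg.Agent.H168.ExcE8

/-!
# Adjacency of the prime divisors of two cyclotomic values through one torus, type E8, part 3 (helper2)

Chains, eigenvectors and functionals as in `H168/ExcPairE8.lean`.
-/

set_option autoImplicit false

namespace Cfsg.Agent.R2.Spec.EE.CertE8

open Cfsg.Agent.H129.WData Cfsg.Agent.ChevalleyStructure.CoxeterGeomTypes Cfsg.Agent.Nodes.RGDChev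
open Cfsg.Lie Cfsg.Lie.ChevalleyDatum
open Cfsg.Agent Cfsg.Agent.H493 Cfsg.Agent.H493.PGTorus Cfsg.Agent.H493.PGCyc Cfsg.Agent.H493.PGE8
open Cfsg.Agent.H168.ExcAdj

universe u

/-- partial products of an element with characteristic polynomial Φ1 Φ2 Φ14 -/
def ch1_2_14 : List (Fin 8 × Mat 8) := [
    (1, ![![-1, -1, -1, -1, -1, 0, 0, 0], ![0, 1, 1, 2, 1, 0, 0, 0], ![1, 1, 1, 1, 0, 0, 0, 0],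
      ![0, -1, -1, -1, 0, 0, 0, 0], ![0, 1, 1, 1, 1, 1, 0, 0], ![0, 0, 0, 0, 0, 0, 1, 0],
      ![0, -1, 0, -1, -1, -1, -1, 0], ![0, 1, 0, 1, 1, 1, 1, 1]]),
    (3, ![![-1, 0, -1, -1, -1, 0, 0, 0], ![0, 1, 1, 2, 1, 0, 0, 0], ![1, 0, 1, 1, 0, 0, 0, 0],
      ![0, 0, -1, -1, 0, 0, 0, 0], ![0, 0, 1, 1, 1, 1, 0, 0], ![0, 0, 0, 0, 0, 0, 1, 0],
      ![0, 0, 0, -1, -1, -1, -1, 0], ![0, 0, 0, 1, 1, 1, 1, 1]]),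
    (2, ![![-1, 0, -1, -1, -1, 0, 0, 0], ![0, 1, 1, 1, 1, 0, 0, 0], ![1, 0, 1, 0, 0, 0, 0, 0],
      ![0, 0, -1, 0, 0, 0, 0, 0], ![0, 0, 1, 1, 1, 1, 0, 0], ![0, 0, 0, 0, 0, 0, 1, 0], ![0, 0, 0, 0, -1, -1, -1, 0],
      ![0, 0, 0, 0, 1, 1, 1, 1]]),
    (4, ![![-1, 0, -1, -1, -1, 0, 0, 0], ![0, 1, 0, 1, 1, 0, 0, 0], ![1, 0, 0, 0, 0, 0, 0, 0],
      ![0, 0, 1, 0, 0, 0, 0, 0], ![0, 0, 0, 1, 1, 1, 0, 0], ![0, 0, 0, 0, 0, 0, 1, 0], ![0, 0, 0, 0, -1, -1, -1, 0],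
      ![0, 0, 0, 0, 1, 1, 1, 1]]),
    (3, ![![-1, 0, -1, -1, 0, 0, 0, 0], ![0, 1, 0, 1, 0, 0, 0, 0], ![1, 0, 0, 0, 0, 0, 0, 0],
      ![0, 0, 1, 0, 0, 0, 0, 0], ![0, 0, 0, 1, 1, 1, 0, 0], ![0, 0, 0, 0, 0, 0, 1, 0], ![0, 0, 0, 0, 0, -1, -1, 0],
      ![0, 0, 0, 0, 0, 1, 1, 1]]),
    (2, ![![-1, 0, -1, 0, 0, 0, 0, 0], ![0, 1, 0, 0, 0, 0, 0, 0], ![1, 0, 0, 0, 0, 0, 0, 0],
      ![0, 0, 1, 1, 0, 0, 0, 0], ![0, 0, 0, 0, 1, 1, 0, 0], ![0, 0, 0, 0, 0, 0, 1, 0], ![0, 0, 0, 0, 0, -1, -1, 0],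
      ![0, 0, 0, 0, 0, 1, 1, 1]]),
    (0, ![![-1, 0, 0, 0, 0, 0, 0, 0], ![0, 1, 0, 0, 0, 0, 0, 0], ![1, 0, 1, 0, 0, 0, 0, 0],
      ![0, 0, 0, 1, 0, 0, 0, 0], ![0, 0, 0, 0, 1, 1, 0, 0], ![0, 0, 0, 0, 0, 0, 1, 0], ![0, 0, 0, 0, 0, -1, -1, 0],
      ![0, 0, 0, 0, 0, 1, 1, 1]]),
    (5, ![![1, 0, 0, 0, 0, 0, 0, 0], ![0, 1, 0, 0, 0, 0, 0, 0], ![0, 0, 1, 0, 0, 0, 0, 0],
      ![0, 0, 0, 1, 0, 0, 0, 0], ![0, 0, 0, 0, 1, 1, 0, 0], ![0, 0, 0, 0, 0, 0, 1, 0], ![0, 0, 0, 0, 0, -1, -1, 0],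
      ![0, 0, 0, 0, 0, 1, 1, 1]]),
    (6, ![![1, 0, 0, 0, 0, 0, 0, 0], ![0, 1, 0, 0, 0, 0, 0, 0], ![0, 0, 1, 0, 0, 0, 0, 0],
      ![0, 0, 0, 1, 0, 0, 0, 0], ![0, 0, 0, 0, 1, 0, 0, 0], ![0, 0, 0, 0, 0, 1, 1, 0], ![0, 0, 0, 0, 0, 0, -1, 0],
      ![0, 0, 0, 0, 0, 0, 1, 1]])]

theorem ch1_2_14_ok : ChainOK Am ch1_2_14 := by decide +kernel

/-- coefficients of the eigenvector, order 1 -/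
def v1_2_14_at1 : Fin 1 → Fin 8 → ℤ := ![![-2, -3, -4, -6, -5, -4, -3, -2]]

theorem e1_2_14_at1 : EigOK (hd ch1_2_14) c1 v1_2_14_at1 ![1, -1, 0, 0, 0, 0, 0, 0] := by decide +kernel

/-- coefficients of the eigenvector, order 2 -/
def v1_2_14_at2 : Fin 1 → Fin 8 → ℤ := ![![2, 1, 0, 0, 1, 0, 1, 0]]

theorem e1_2_14_at2 : EigOK (hd ch1_2_14) c2 v1_2_14_at2 ![0, 1, 0, 0, 0, 0, 0, 0] := by decide +kernel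

/-- coefficients of the eigenvector, order 14 -/
def v1_2_14_at14 : Fin 6 → Fin 8 → ℤ := ![![0, 0, 0, 1, 1, 1, 1, 0], ![1, 1, 1, 1, 0, 0, -1, 0],
    ![0, 0, 1, 1, 1, 0, 1, 0], ![0, 1, 0, 0, 0, 1, 0, 0], ![0, -1, 0, 0, 1, 0, 0, 0], ![0, 1, 0, 1, 0, 0, 0, 0]]

theorem e1_2_14_at14 : EigOK (hd ch1_2_14) c14 v1_2_14_at14 ![0, -1, 0, 1, -1, 1, 0, 0] := by decide +kernel

theorem rel_14_1 {F : Type u} [Field F] [Finite F] {r s : ℕ} (hr : r.Prime) (hs : s.Prime) (hrs : r ≠ s)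
    (h1 : phiC c14 (Nat.card F) 1 r) (h2 : phiC c1 (Nat.card F) 1 s) :
    PG.Rel ↥(chevE8.group F) r s := by
  have := finW
  exact rel_of_eig hp CoxeterMatrix.E₈.toCoxeterSystem H129.TorusChar.invC_E8 one_ne_zero
    (chain_rep hp CoxeterMatrix.E₈.toCoxeterSystem hA ch1_2_14_ok) e1_2_14_at14 e1_2_14_at1 hr hs hrs h1.1 h2.1 h1.2 h2.2

theorem rel_14_2 {F : Type u} [Field F] [Finite F] {r s : ℕ} (hr : r.Prime) (hs : s.Prime) (hrs : r ≠ s)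
    (h1 : phiC c14 (Nat.card F) 1 r) (h2 : phiC c2 (Nat.card F) 1 s) :
    PG.Rel ↥(chevE8.group F) r s := by
  have := finW
  exact rel_of_eig hp CoxeterMatrix.E₈.toCoxeterSystem H129.TorusChar.invC_E8 one_ne_zero
    (chain_rep hp CoxeterMatrix.E₈.toCoxeterSystem hA ch1_2_14_ok) e1_2_14_at14 e1_2_14_at2 hr hs hrs h1.1 h2.1 h1.2 h2.2

/-- partial products of an element with characteristic polynomial Φ1 Φ2 Φ9 -/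
def ch1_2_9 : List (Fin 8 × Mat 8) := [
    (3, ![![-1, 0, -1, -1, -1, -1, 0, 0], ![0, -1, -1, -2, -1, -1, 0, 0], ![1, 0, 1, 1, 0, 0, 0, 0],
      ![0, 1, 0, 1, 1, 1, 0, 0], ![0, 0, 1, 0, 0, 0, 0, 0], ![0, 0, 0, 1, 1, 0, 0, 0], ![0, 0, 0, 0, 0, 1, 1, 1],
      ![0, 0, 0, 0, 0, 0, 0, -1]]),
    (2, ![![-1, 0, -1, -1, -1, -1, 0, 0], ![0, -1, -1, -1, -1, -1, 0, 0], ![1, 0, 1, 0, 0, 0, 0, 0],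
      ![0, 1, 0, 1, 1, 1, 0, 0], ![0, 0, 1, 1, 0, 0, 0, 0], ![0, 0, 0, 0, 1, 0, 0, 0], ![0, 0, 0, 0, 0, 1, 1, 1],
      ![0, 0, 0, 0, 0, 0, 0, -1]]),
    (5, ![![-1, 0, -1, -1, -1, -1, 0, 0], ![0, -1, 0, -1, -1, -1, 0, 0], ![1, 0, 0, 0, 0, 0, 0, 0],
      ![0, 1, 1, 1, 1, 1, 0, 0], ![0, 0, 0, 1, 0, 0, 0, 0], ![0, 0, 0, 0, 1, 0, 0, 0], ![0, 0, 0, 0, 0, 1, 1, 1],
      ![0, 0, 0, 0, 0, 0, 0, -1]]),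
    (4, ![![-1, 0, -1, -1, -1, 0, 0, 0], ![0, -1, 0, -1, -1, 0, 0, 0], ![1, 0, 0, 0, 0, 0, 0, 0],
      ![0, 1, 1, 1, 1, 0, 0, 0], ![0, 0, 0, 1, 0, 0, 0, 0], ![0, 0, 0, 0, 1, 1, 0, 0], ![0, 0, 0, 0, 0, 0, 1, 1],
      ![0, 0, 0, 0, 0, 0, 0, -1]]),
    (3, ![![-1, 0, -1, -1, 0, 0, 0, 0], ![0, -1, 0, -1, 0, 0, 0, 0], ![1, 0, 0, 0, 0, 0, 0, 0],
      ![0, 1, 1, 1, 0, 0, 0, 0], ![0, 0, 0, 1, 1, 0, 0, 0], ![0, 0, 0, 0, 0, 1, 0, 0], ![0, 0, 0, 0, 0, 0, 1, 1],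
      ![0, 0, 0, 0, 0, 0, 0, -1]]),
    (1, ![![-1, 0, -1, 0, 0, 0, 0, 0], ![0, -1, 0, 0, 0, 0, 0, 0], ![1, 0, 0, 0, 0, 0, 0, 0],
      ![0, 1, 1, 1, 0, 0, 0, 0], ![0, 0, 0, 0, 1, 0, 0, 0], ![0, 0, 0, 0, 0, 1, 0, 0], ![0, 0, 0, 0, 0, 0, 1, 1],
      ![0, 0, 0, 0, 0, 0, 0, -1]]),
    (2, ![![-1, 0, -1, 0, 0, 0, 0, 0], ![0, 1, 0, 0, 0, 0, 0, 0], ![1, 0, 0, 0, 0, 0, 0, 0],
      ![0, 0, 1, 1, 0, 0, 0, 0], ![0, 0, 0, 0, 1, 0, 0, 0], ![0, 0, 0, 0, 0, 1, 0, 0], ![0, 0, 0, 0, 0, 0, 1, 1],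
      ![0, 0, 0, 0, 0, 0, 0, -1]]),
    (0, ![![-1, 0, 0, 0, 0, 0, 0, 0], ![0, 1, 0, 0, 0, 0, 0, 0], ![1, 0, 1, 0, 0, 0, 0, 0],
      ![0, 0, 0, 1, 0, 0, 0, 0], ![0, 0, 0, 0, 1, 0, 0, 0], ![0, 0, 0, 0, 0, 1, 0, 0], ![0, 0, 0, 0, 0, 0, 1, 1],
      ![0, 0, 0, 0, 0, 0, 0, -1]]),
    (7, ![![1, 0, 0, 0, 0, 0, 0, 0], ![0, 1, 0, 0, 0, 0, 0, 0], ![0, 0, 1, 0, 0, 0, 0, 0],
      ![0, 0, 0, 1, 0, 0, 0, 0], ![0, 0, 0, 0, 1, 0, 0, 0], ![0, 0, 0, 0, 0, 1, 0, 0], ![0, 0, 0, 0, 0, 0, 1, 1],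
      ![0, 0, 0, 0, 0, 0, 0, -1]])]

theorem ch1_2_9_ok : ChainOK Am ch1_2_9 := by decide +kernel

/-- coefficients of the eigenvector, order 1 -/
def v1_2_9_at1 : Fin 1 → Fin 8 → ℤ := ![![-4, -6, -8, -12, -10, -8, -6, -3]]

theorem e1_2_9_at1 : EigOK (hd ch1_2_9) c1 v1_2_9_at1 ![-1, 0, 0, 0, 0, 0, 0, 1] := by decide +kernel

/-- coefficients of the eigenvector, order 2 -/
def v1_2_9_at2 : Fin 1 → Fin 8 → ℤ := ![![0, 0, 0, 0, 0, 0, 0, 1]]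

theorem e1_2_9_at2 : EigOK (hd ch1_2_9) c2 v1_2_9_at2 ![0, 0, 0, 0, 0, 0, 0, 1] := by decide +kernel

/-- coefficients of the eigenvector, order 9 -/
def v1_2_9_at9 : Fin 6 → Fin 8 → ℤ := ![![0, 0, 0, 0, -1, 0, 0, 0],
    ![0, -1, 0, -1, -1, -1, 0, 0], ![0, 0, 0, -1, 0, 0, 0, 0], ![0, 1, 0, 1, 0, 0, 0, 0], ![1, 0, 1, 1, 0, 0, 0, 0],
    ![0, 0, 1, 0, 0, 0, 0, 0]]

theorem e1_2_9_at9 : EigOK (hd ch1_2_9) c9 v1_2_9_at9 ![0, 0, 0, 0, -1, 1, 0, 0] := by decide +kernel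

theorem rel_9_1 {F : Type u} [Field F] [Finite F] {r s : ℕ} (hr : r.Prime) (hs : s.Prime) (hrs : r ≠ s)
    (h1 : phiC c9 (Nat.card F) 1 r) (h2 : phiC c1 (Nat.card F) 1 s) :
    PG.Rel ↥(chevE8.group F) r s := by
  have := finW
  exact rel_of_eig hp CoxeterMatrix.E₈.toCoxeterSystem H129.TorusChar.invC_E8 one_ne_zero
    (chain_rep hp CoxeterMatrix.E₈.toCoxeterSystem hA ch1_2_9_ok) e1_2_9_at9 e1_2_9_at1 hr hs hrs h1.1 h2.1 h1.2 h2.2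

theorem rel_9_2 {F : Type u} [Field F] [Finite F] {r s : ℕ} (hr : r.Prime) (hs : s.Prime) (hrs : r ≠ s)
    (h1 : phiC c9 (Nat.card F) 1 r) (h2 : phiC c2 (Nat.card F) 1 s) :
    PG.Rel ↥(chevE8.group F) r s := by
  have := finW
  exact rel_of_eig hp CoxeterMatrix.E₈.toCoxeterSystem H129.TorusChar.invC_E8 one_ne_zero
    (chain_rep hp CoxeterMatrix.E₈.toCoxeterSystem hA ch1_2_9_ok) e1_2_9_at9 e1_2_9_at2 hr hs hrs h1.1 h2.1 h1.2 h2.2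

/-- partial products of an element with characteristic polynomial Φ1 Φ2 Φ6 Φ12 -/
def ch1_2_6_12 : List (Fin 8 × Mat 8) := [
    (1, ![![-1, -1, -1, -1, -1, -1, -1, 0], ![0, 1, 1, 1, 1, 0, 0, 0], ![1, 1, 1, 2, 2, 1, 1, 0],
      ![0, -1, -1, -2, -2, -1, -1, 0], ![0, 0, 1, 1, 1, 1, 1, 0], ![0, 1, 0, 1, 0, 0, 0, 0],
      ![0, 0, 0, 0, 1, 1, 0, 0], ![0, 0, 0, 0, 0, 0, 1, 1]]),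
    (4, ![![-1, 0, -1, -1, -1, -1, -1, 0], ![0, 0, 1, 1, 1, 0, 0, 0], ![1, 1, 1, 2, 2, 1, 1, 0],
      ![0, -1, -1, -2, -2, -1, -1, 0], ![0, 1, 1, 1, 1, 1, 1, 0], ![0, 0, 0, 1, 0, 0, 0, 0],
      ![0, 0, 0, 0, 1, 1, 0, 0], ![0, 0, 0, 0, 0, 0, 1, 1]]),
    (3, ![![-1, 0, -1, -1, -1, -1, -1, 0], ![0, 0, 1, 1, 0, 0, 0, 0], ![1, 1, 1, 2, 1, 1, 1, 0],
      ![0, -1, -1, -2, -1, -1, -1, 0], ![0, 1, 1, 1, 1, 1, 1, 0], ![0, 0, 0, 1, 1, 0, 0, 0],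
      ![0, 0, 0, 0, 0, 1, 0, 0], ![0, 0, 0, 0, 0, 0, 1, 1]]),
    (6, ![![-1, 0, -1, -1, -1, -1, -1, 0], ![0, 0, 1, 0, 0, 0, 0, 0], ![1, 1, 1, 1, 1, 1, 1, 0],
      ![0, -1, -1, -1, -1, -1, -1, 0], ![0, 1, 1, 2, 1, 1, 1, 0], ![0, 0, 0, 0, 1, 0, 0, 0],
      ![0, 0, 0, 0, 0, 1, 0, 0], ![0, 0, 0, 0, 0, 0, 1, 1]]),
    (5, ![![-1, 0, -1, -1, -1, -1, 0, 0], ![0, 0, 1, 0, 0, 0, 0, 0], ![1, 1, 1, 1, 1, 1, 0, 0],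
      ![0, -1, -1, -1, -1, -1, 0, 0], ![0, 1, 1, 2, 1, 1, 0, 0], ![0, 0, 0, 0, 1, 0, 0, 0],
      ![0, 0, 0, 0, 0, 1, 1, 0], ![0, 0, 0, 0, 0, 0, 0, 1]]),
    (4, ![![-1, 0, -1, -1, -1, 0, 0, 0], ![0, 0, 1, 0, 0, 0, 0, 0], ![1, 1, 1, 1, 1, 0, 0, 0],
      ![0, -1, -1, -1, -1, 0, 0, 0], ![0, 1, 1, 2, 1, 0, 0, 0], ![0, 0, 0, 0, 1, 1, 0, 0], ![0, 0, 0, 0, 0, 0, 1, 0],
      ![0, 0, 0, 0, 0, 0, 0, 1]]),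
    (3, ![![-1, 0, -1, -1, 0, 0, 0, 0], ![0, 0, 1, 0, 0, 0, 0, 0], ![1, 1, 1, 1, 0, 0, 0, 0],
      ![0, -1, -1, -1, 0, 0, 0, 0], ![0, 1, 1, 2, 1, 0, 0, 0], ![0, 0, 0, 0, 0, 1, 0, 0], ![0, 0, 0, 0, 0, 0, 1, 0],
      ![0, 0, 0, 0, 0, 0, 0, 1]]),
    (1, ![![-1, 0, -1, 0, 0, 0, 0, 0], ![0, 0, 1, 1, 0, 0, 0, 0], ![1, 1, 1, 1, 0, 0, 0, 0],
      ![0, -1, -1, -1, 0, 0, 0, 0], ![0, 1, 1, 1, 1, 0, 0, 0], ![0, 0, 0, 0, 0, 1, 0, 0], ![0, 0, 0, 0, 0, 0, 1, 0],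
      ![0, 0, 0, 0, 0, 0, 0, 1]]),
    (2, ![![-1, 0, -1, 0, 0, 0, 0, 0], ![0, 1, 1, 1, 0, 0, 0, 0], ![1, 0, 1, 1, 0, 0, 0, 0],
      ![0, 0, -1, -1, 0, 0, 0, 0], ![0, 0, 1, 1, 1, 0, 0, 0], ![0, 0, 0, 0, 0, 1, 0, 0], ![0, 0, 0, 0, 0, 0, 1, 0],
      ![0, 0, 0, 0, 0, 0, 0, 1]]),
    (0, ![![-1, 0, 0, 0, 0, 0, 0, 0], ![0, 1, 0, 1, 0, 0, 0, 0], ![1, 0, 1, 1, 0, 0, 0, 0],
      ![0, 0, 0, -1, 0, 0, 0, 0], ![0, 0, 0, 1, 1, 0, 0, 0], ![0, 0, 0, 0, 0, 1, 0, 0], ![0, 0, 0, 0, 0, 0, 1, 0],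
      ![0, 0, 0, 0, 0, 0, 0, 1]]),
    (3, ![![1, 0, 0, 0, 0, 0, 0, 0], ![0, 1, 0, 1, 0, 0, 0, 0], ![0, 0, 1, 1, 0, 0, 0, 0],
      ![0, 0, 0, -1, 0, 0, 0, 0], ![0, 0, 0, 1, 1, 0, 0, 0], ![0, 0, 0, 0, 0, 1, 0, 0], ![0, 0, 0, 0, 0, 0, 1, 0],
      ![0, 0, 0, 0, 0, 0, 0, 1]])]

theorem ch1_2_6_12_ok : ChainOK Am ch1_2_6_12 := by decide +kernel

/-- coefficients of the eigenvector, order 6 -/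
def v1_2_6_12_at6 : Fin 2 → Fin 8 → ℤ := ![![0, -1, 0, -1, 0, -1, 0, 0],
    ![0, 1, 0, 0, -1, -1, -1, 0]]

theorem e1_2_6_12_at6 : EigOK (hd ch1_2_6_12) c6 v1_2_6_12_at6 ![0, 0, 0, -1, 0, 0, 0, 0] := by decide +kernel

/-- coefficients of the eigenvector, order 12 -/
def v1_2_6_12_at12 : Fin 4 → Fin 8 → ℤ := ![![0, 0, 1, 0, -1, 0, 1, 0],
    ![-1, 0, -1, 0, 1, 0, -1, 0], ![1, 0, -1, -1, 0, 0, 0, 0], ![-1, -1, 0, -1, -2, -1, 0, 0]]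

theorem e1_2_6_12_at12 : EigOK (hd ch1_2_6_12) c12 v1_2_6_12_at12 ![-1, 1, 0, -1, 0, 1, 1, 0] := by decide +kernel

theorem rel_12_6 {F : Type u} [Field F] [Finite F] {r s : ℕ} (hr : r.Prime) (hs : s.Prime) (hrs : r ≠ s)
    (h1 : phiC c12 (Nat.card F) 1 r) (h2 : phiC c6 (Nat.card F) 1 s) :
    PG.Rel ↥(chevE8.group F) r s := by
  have := finW
  exact rel_of_eig hp CoxeterMatrix.E₈.toCoxeterSystem H129.TorusChar.invC_E8 one_ne_zero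
    (chain_rep hp CoxeterMatrix.E₈.toCoxeterSystem hA ch1_2_6_12_ok) e1_2_6_12_at12 e1_2_6_12_at6 hr hs hrs h1.1 h2.1 h1.2 h2.2

/-- partial products of an element with characteristic polynomial Φ1 Φ2 Φ6 Φ8 -/
def ch1_2_6_8 : List (Fin 8 × Mat 8) := [
    (4, ![![1, 0, 1, 1, 1, 1, 0, 0], ![0, -1, -1, -2, -2, -2, -1, 0], ![0, 0, 0, 0, 0, 0, 1, 0],
      ![0, 1, 0, 1, 1, 1, 0, 0], ![0, 0, 1, 0, 0, 0, 0, 0], ![0, 0, 0, 1, 1, 0, 0, 0], ![0, 0, 0, 0, 0, 1, 1, 1],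
      ![0, 0, 0, 0, -1, -1, -1, -1]]),
    (5, ![![1, 0, 1, 1, 1, 1, 0, 0], ![0, -1, -1, -2, -2, -2, -1, 0], ![0, 0, 0, 0, 0, 0, 1, 0],
      ![0, 1, 0, 1, 1, 1, 0, 0], ![0, 0, 1, 0, 0, 0, 0, 0], ![0, 0, 0, 1, 0, 0, 0, 0], ![0, 0, 0, 0, 1, 1, 1, 1],
      ![0, 0, 0, 0, 0, -1, -1, -1]]),
    (4, ![![1, 0, 1, 1, 1, 0, 0, 0], ![0, -1, -1, -2, -2, -1, -1, 0], ![0, 0, 0, 0, 0, 1, 1, 0],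
      ![0, 1, 0, 1, 1, 0, 0, 0], ![0, 0, 1, 0, 0, 0, 0, 0], ![0, 0, 0, 1, 0, 0, 0, 0], ![0, 0, 0, 0, 1, 1, 1, 1],
      ![0, 0, 0, 0, 0, 0, -1, -1]]),
    (3, ![![1, 0, 1, 1, 0, 0, 0, 0], ![0, -1, -1, -2, -1, -1, -1, 0], ![0, 0, 0, 0, 1, 1, 1, 0],
      ![0, 1, 0, 1, 0, 0, 0, 0], ![0, 0, 1, 0, 0, 0, 0, 0], ![0, 0, 0, 1, 1, 0, 0, 0], ![0, 0, 0, 0, 0, 1, 1, 1],
      ![0, 0, 0, 0, 0, 0, -1, -1]]),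
    (2, ![![1, 0, 1, 0, 0, 0, 0, 0], ![0, -1, -1, -1, -1, -1, -1, 0], ![0, 0, 0, 1, 1, 1, 1, 0],
      ![0, 1, 0, 0, 0, 0, 0, 0], ![0, 0, 1, 1, 0, 0, 0, 0], ![0, 0, 0, 0, 1, 0, 0, 0], ![0, 0, 0, 0, 0, 1, 1, 1],
      ![0, 0, 0, 0, 0, 0, -1, -1]]),
    (6, ![![1, 0, 0, 0, 0, 0, 0, 0], ![0, -1, 0, -1, -1, -1, -1, 0], ![0, 0, 1, 1, 1, 1, 1, 0],
      ![0, 1, 0, 0, 0, 0, 0, 0], ![0, 0, 0, 1, 0, 0, 0, 0], ![0, 0, 0, 0, 1, 0, 0, 0], ![0, 0, 0, 0, 0, 1, 1, 1],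
      ![0, 0, 0, 0, 0, 0, -1, -1]]),
    (5, ![![1, 0, 0, 0, 0, 0, 0, 0], ![0, -1, 0, -1, -1, -1, 0, 0], ![0, 0, 1, 1, 1, 1, 0, 0],
      ![0, 1, 0, 0, 0, 0, 0, 0], ![0, 0, 0, 1, 0, 0, 0, 0], ![0, 0, 0, 0, 1, 0, 0, 0], ![0, 0, 0, 0, 0, 1, 1, 1],
      ![0, 0, 0, 0, 0, 0, 0, -1]]),
    (4, ![![1, 0, 0, 0, 0, 0, 0, 0], ![0, -1, 0, -1, -1, 0, 0, 0], ![0, 0, 1, 1, 1, 0, 0, 0],
      ![0, 1, 0, 0, 0, 0, 0, 0], ![0, 0, 0, 1, 0, 0, 0, 0], ![0, 0, 0, 0, 1, 1, 0, 0], ![0, 0, 0, 0, 0, 0, 1, 1],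
      ![0, 0, 0, 0, 0, 0, 0, -1]]),
    (3, ![![1, 0, 0, 0, 0, 0, 0, 0], ![0, -1, 0, -1, 0, 0, 0, 0], ![0, 0, 1, 1, 0, 0, 0, 0],
      ![0, 1, 0, 0, 0, 0, 0, 0], ![0, 0, 0, 1, 1, 0, 0, 0], ![0, 0, 0, 0, 0, 1, 0, 0], ![0, 0, 0, 0, 0, 0, 1, 1],
      ![0, 0, 0, 0, 0, 0, 0, -1]]),
    (1, ![![1, 0, 0, 0, 0, 0, 0, 0], ![0, -1, 0, 0, 0, 0, 0, 0], ![0, 0, 1, 0, 0, 0, 0, 0],
      ![0, 1, 0, 1, 0, 0, 0, 0], ![0, 0, 0, 0, 1, 0, 0, 0], ![0, 0, 0, 0, 0, 1, 0, 0], ![0, 0, 0, 0, 0, 0, 1, 1],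
      ![0, 0, 0, 0, 0, 0, 0, -1]]),
    (7, ![![1, 0, 0, 0, 0, 0, 0, 0], ![0, 1, 0, 0, 0, 0, 0, 0], ![0, 0, 1, 0, 0, 0, 0, 0],
      ![0, 0, 0, 1, 0, 0, 0, 0], ![0, 0, 0, 0, 1, 0, 0, 0], ![0, 0, 0, 0, 0, 1, 0, 0], ![0, 0, 0, 0, 0, 0, 1, 1],
      ![0, 0, 0, 0, 0, 0, 0, -1]])]

theorem ch1_2_6_8_ok : ChainOK Am ch1_2_6_8 := by decide +kernel

/-- coefficients of the eigenvector, order 6 -/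
def v1_2_6_8_at6 : Fin 2 → Fin 8 → ℤ := ![![0, -1, -1, -1, -1, 0, 0, 0],
    ![0, 0, 0, -1, -1, -1, 0, 0]]

theorem e1_2_6_8_at6 : EigOK (hd ch1_2_6_8) c6 v1_2_6_8_at6 ![0, -1, 0, 0, 0, 0, 0, 0] := by decide +kernel

/-- coefficients of the eigenvector, order 8 -/
def v1_2_6_8_at8 : Fin 4 → Fin 8 → ℤ := ![![0, -1, 0, -1, -1, -1, -1, 0],
    ![0, 0, -1, -1, 0, 0, 0, 0], ![0, 0, 0, 0, -1, -1, -1, -1], ![0, 0, 0, 0, 0, 0, 0, 1]]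

theorem e1_2_6_8_at8 : EigOK (hd ch1_2_6_8) c8 v1_2_6_8_at8 ![0, -1, 0, 0, 0, 0, 0, 0] := by decide +kernel

theorem rel_8_6 {F : Type u} [Field F] [Finite F] {r s : ℕ} (hr : r.Prime) (hs : s.Prime) (hrs : r ≠ s)
    (h1 : phiC c8 (Nat.card F) 1 r) (h2 : phiC c6 (Nat.card F) 1 s) :
    PG.Rel ↥(chevE8.group F) r s := by
  have := finW
  exact rel_of_eig hp CoxeterMatrix.E₈.toCoxeterSystem H129.TorusChar.invC_E8 one_ne_zero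
    (chain_rep hp CoxeterMatrix.E₈.toCoxeterSystem hA ch1_2_6_8_ok) e1_2_6_8_at8 e1_2_6_8_at6 hr hs hrs h1.1 h2.1 h1.2 h2.2

/-- partial products of an element with characteristic polynomial Φ1 Φ2 Φ6 Φ10 -/
def ch1_2_6_10 : List (Fin 8 × Mat 8) := [
    (1, ![![0, 0, 0, 1, 1, 1, 1, 0], ![1, 0, 0, 0, 0, 0, 0, 0], ![0, 0, 0, -1, 0, 0, 0, 0],
      ![0, 0, 1, 1, 0, 0, 0, 0], ![-1, -1, -2, -2, -1, -1, -1, 0], ![1, 2, 2, 3, 2, 1, 1, 0],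
      ![0, 0, 0, 0, 0, 1, 0, 0], ![0, 0, 0, 0, 0, 0, 1, 1]]),
    (3, ![![0, 1, 0, 1, 1, 1, 1, 0], ![1, 0, 0, 0, 0, 0, 0, 0], ![0, -1, 0, -1, 0, 0, 0, 0],
      ![0, 1, 1, 1, 0, 0, 0, 0], ![-1, -1, -2, -2, -1, -1, -1, 0], ![1, 1, 2, 3, 2, 1, 1, 0],
      ![0, 0, 0, 0, 0, 1, 0, 0], ![0, 0, 0, 0, 0, 0, 1, 1]]),
    (1, ![![0, 1, 0, 1, 1, 1, 1, 0], ![1, 0, 0, 0, 0, 0, 0, 0], ![0, -1, 0, 0, 0, 0, 0, 0],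
      ![0, 1, 1, 1, 0, 0, 0, 0], ![-1, -1, -2, -2, -1, -1, -1, 0], ![1, 1, 2, 2, 2, 1, 1, 0],
      ![0, 0, 0, 0, 0, 1, 0, 0], ![0, 0, 0, 0, 0, 0, 1, 1]]),
    (2, ![![0, 0, 0, 1, 1, 1, 1, 0], ![1, 0, 0, 0, 0, 0, 0, 0], ![0, 1, 0, 0, 0, 0, 0, 0],
      ![0, 0, 1, 1, 0, 0, 0, 0], ![-1, -1, -2, -2, -1, -1, -1, 0], ![1, 1, 2, 2, 2, 1, 1, 0],
      ![0, 0, 0, 0, 0, 1, 0, 0], ![0, 0, 0, 0, 0, 0, 1, 1]]),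
    (0, ![![0, 0, 1, 1, 1, 1, 1, 0], ![1, 0, 1, 0, 0, 0, 0, 0], ![0, 1, 0, 0, 0, 0, 0, 0],
      ![0, 0, 0, 1, 0, 0, 0, 0], ![-1, -1, -1, -2, -1, -1, -1, 0], ![1, 1, 1, 2, 2, 1, 1, 0],
      ![0, 0, 0, 0, 0, 1, 0, 0], ![0, 0, 0, 0, 0, 0, 1, 1]]),
    (6, ![![1, 0, 1, 1, 1, 1, 1, 0], ![0, 0, 1, 0, 0, 0, 0, 0], ![0, 1, 0, 0, 0, 0, 0, 0],
      ![0, 0, 0, 1, 0, 0, 0, 0], ![0, -1, -1, -2, -1, -1, -1, 0], ![0, 1, 1, 2, 2, 1, 1, 0],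
      ![0, 0, 0, 0, 0, 1, 0, 0], ![0, 0, 0, 0, 0, 0, 1, 1]]),
    (5, ![![1, 0, 1, 1, 1, 1, 0, 0], ![0, 0, 1, 0, 0, 0, 0, 0], ![0, 1, 0, 0, 0, 0, 0, 0],
      ![0, 0, 0, 1, 0, 0, 0, 0], ![0, -1, -1, -2, -1, -1, 0, 0], ![0, 1, 1, 2, 2, 1, 0, 0],
      ![0, 0, 0, 0, 0, 1, 1, 0], ![0, 0, 0, 0, 0, 0, 0, 1]]),
    (4, ![![1, 0, 1, 1, 1, 0, 0, 0], ![0, 0, 1, 0, 0, 0, 0, 0], ![0, 1, 0, 0, 0, 0, 0, 0],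
      ![0, 0, 0, 1, 0, 0, 0, 0], ![0, -1, -1, -2, -1, 0, 0, 0], ![0, 1, 1, 2, 2, 1, 0, 0], ![0, 0, 0, 0, 0, 0, 1, 0],
      ![0, 0, 0, 0, 0, 0, 0, 1]]),
    (3, ![![1, 0, 1, 1, 0, 0, 0, 0], ![0, 0, 1, 0, 0, 0, 0, 0], ![0, 1, 0, 0, 0, 0, 0, 0],
      ![0, 0, 0, 1, 1, 0, 0, 0], ![0, -1, -1, -2, -1, 0, 0, 0], ![0, 1, 1, 2, 1, 1, 0, 0], ![0, 0, 0, 0, 0, 0, 1, 0],
      ![0, 0, 0, 0, 0, 0, 0, 1]]),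
    (1, ![![1, 0, 1, 0, 0, 0, 0, 0], ![0, 0, 1, 1, 0, 0, 0, 0], ![0, 1, 0, 1, 0, 0, 0, 0],
      ![0, 0, 0, 0, 1, 0, 0, 0], ![0, -1, -1, -1, -1, 0, 0, 0], ![0, 1, 1, 1, 1, 1, 0, 0], ![0, 0, 0, 0, 0, 0, 1, 0],
      ![0, 0, 0, 0, 0, 0, 0, 1]]),
    (2, ![![1, 0, 1, 0, 0, 0, 0, 0], ![0, 1, 1, 1, 0, 0, 0, 0], ![0, 0, 0, 1, 0, 0, 0, 0],
      ![0, 0, 0, 0, 1, 0, 0, 0], ![0, 0, -1, -1, -1, 0, 0, 0], ![0, 0, 1, 1, 1, 1, 0, 0], ![0, 0, 0, 0, 0, 0, 1, 0],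
      ![0, 0, 0, 0, 0, 0, 0, 1]]),
    (3, ![![1, 0, 0, 0, 0, 0, 0, 0], ![0, 1, 0, 1, 0, 0, 0, 0], ![0, 0, 1, 1, 0, 0, 0, 0],
      ![0, 0, 0, 0, 1, 0, 0, 0], ![0, 0, 0, -1, -1, 0, 0, 0], ![0, 0, 0, 1, 1, 1, 0, 0], ![0, 0, 0, 0, 0, 0, 1, 0],
      ![0, 0, 0, 0, 0, 0, 0, 1]]),
    (4, ![![1, 0, 0, 0, 0, 0, 0, 0], ![0, 1, 0, 0, 0, 0, 0, 0], ![0, 0, 1, 0, 0, 0, 0, 0],
      ![0, 0, 0, 1, 1, 0, 0, 0], ![0, 0, 0, 0, -1, 0, 0, 0], ![0, 0, 0, 0, 1, 1, 0, 0], ![0, 0, 0, 0, 0, 0, 1, 0],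
      ![0, 0, 0, 0, 0, 0, 0, 1]])]

theorem ch1_2_6_10_ok : ChainOK Am ch1_2_6_10 := by decide +kernel

/-- coefficients of the eigenvector, order 6 -/
def v1_2_6_10_at6 : Fin 2 → Fin 8 → ℤ := ![![0, 0, 1, 0, 0, 0, 0, 0], ![0, 0, 0, 1, 0, 0, 0, 0]]

theorem e1_2_6_10_at6 : EigOK (hd ch1_2_6_10) c6 v1_2_6_10_at6 ![0, 0, 1, 0, 0, 0, 0, 0] := by decide +kernel

/-- coefficients of the eigenvector, order 10 -/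
def v1_2_6_10_at10 : Fin 4 → Fin 8 → ℤ := ![![1, 0, 1, 1, 1, 0, 0, 0], ![0, 2, 1, 2, 1, 1, 0, 0],
    ![0, -1, 0, 0, 1, 1, 1, 0], ![1, 1, 1, 1, 0, 0, 0, 0]]

theorem e1_2_6_10_at10 : EigOK (hd ch1_2_6_10) c10 v1_2_6_10_at10 ![0, 0, 0, 0, 1, -1, 0, 0] := by decide +kernel

theorem rel_10_6 {F : Type u} [Field F] [Finite F] {r s : ℕ} (hr : r.Prime) (hs : s.Prime) (hrs : r ≠ s)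
    (h1 : phiC c10 (Nat.card F) 1 r) (h2 : phiC c6 (Nat.card F) 1 s) :
    PG.Rel ↥(chevE8.group F) r s := by
  have := finW
  exact rel_of_eig hp CoxeterMatrix.E₈.toCoxeterSystem H129.TorusChar.invC_E8 one_ne_zero
    (chain_rep hp CoxeterMatrix.E₈.toCoxeterSystem hA ch1_2_6_10_ok) e1_2_6_10_at10 e1_2_6_10_at6 hr hs hrs h1.1 h2.1 h1.2 h2.2

end Cfsg.Agent.R2.Spec.EE.CertE8
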