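import Cfsg.Agent.H168.ExcE8

/-!
# Adjacency of the prime divisors of two cyclotomic values through one torus, type E8, part 4 (helper2)

Chains, eigenvectors and functionals as in `H168/ExcPairE8.lean`.
-/

set_option autoImplicit false

namespace Cfsg.Agent.R2.Spec.EE.CertE8

open Cfsg.Agent.H129.WData Cfsg.Agent.ChevalleyStructure.CoxeterGeomTypes Cfsg.Agent.Nodes.RGDChev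
open Cfsg.Lie Cfsg.Lie.ChevalleyDatum
open Cfsg.Agent Cfsg.Agent.H493 Cfsg.Agent.H493.PGTorus Cfsg.Agent.H493.PGCyc Cfsg.Agent.H493.PGE8
open Cfsg.Agent.H168.ExcAdj

universe u

/-- partial products of an element with characteristic polynomial Φ6 Φ18 -/
def ch6_18 : List (Fin 8 × Mat 8) := [
    (4, ![![0, 0, 0, 0, 0, 1, 0, 0], ![-1, -1, -2, -3, -3, -2, -1, -1], ![0, 0, 0, 0, 0, 0, 1, 1],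
      ![0, 1, 1, 2, 2, 1, 0, 0], ![1, 0, 0, 0, 0, 0, 0, 0], ![0, 0, 1, 0, 0, 0, 0, 0], ![0, 0, 0, 1, 0, 0, 0, 0],
      ![0, 0, 0, 0, 1, 1, 1, 0]]),
    (3, ![![0, 0, 0, 0, 1, 1, 0, 0], ![-1, -1, -2, -3, -2, -2, -1, -1], ![0, 0, 0, 0, 0, 0, 1, 1],
      ![0, 1, 1, 2, 1, 1, 0, 0], ![1, 0, 0, 0, 0, 0, 0, 0], ![0, 0, 1, 0, 0, 0, 0, 0], ![0, 0, 0, 1, 1, 0, 0, 0],
      ![0, 0, 0, 0, 0, 1, 1, 0]]),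
    (2, ![![0, 0, 0, 1, 1, 1, 0, 0], ![-1, -1, -2, -2, -2, -2, -1, -1], ![0, 0, 0, 0, 0, 0, 1, 1],
      ![0, 1, 1, 1, 1, 1, 0, 0], ![1, 0, 0, 0, 0, 0, 0, 0], ![0, 0, 1, 1, 0, 0, 0, 0], ![0, 0, 0, 0, 1, 0, 0, 0],
      ![0, 0, 0, 0, 0, 1, 1, 0]]),
    (0, ![![0, 0, 1, 1, 1, 1, 0, 0], ![-1, -1, -1, -2, -2, -2, -1, -1], ![0, 0, 0, 0, 0, 0, 1, 1],
      ![0, 1, 0, 1, 1, 1, 0, 0], ![1, 0, 1, 0, 0, 0, 0, 0], ![0, 0, 0, 1, 0, 0, 0, 0], ![0, 0, 0, 0, 1, 0, 0, 0],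
      ![0, 0, 0, 0, 0, 1, 1, 0]]),
    (5, ![![1, 0, 1, 1, 1, 1, 0, 0], ![0, -1, -1, -2, -2, -2, -1, -1], ![0, 0, 0, 0, 0, 0, 1, 1],
      ![0, 1, 0, 1, 1, 1, 0, 0], ![0, 0, 1, 0, 0, 0, 0, 0], ![0, 0, 0, 1, 0, 0, 0, 0], ![0, 0, 0, 0, 1, 0, 0, 0],
      ![0, 0, 0, 0, 0, 1, 1, 0]]),
    (4, ![![1, 0, 1, 1, 1, 0, 0, 0], ![0, -1, -1, -2, -2, -1, -1, -1], ![0, 0, 0, 0, 0, 1, 1, 1],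
      ![0, 1, 0, 1, 1, 0, 0, 0], ![0, 0, 1, 0, 0, 0, 0, 0], ![0, 0, 0, 1, 0, 0, 0, 0], ![0, 0, 0, 0, 1, 1, 0, 0],
      ![0, 0, 0, 0, 0, 0, 1, 0]]),
    (3, ![![1, 0, 1, 1, 0, 0, 0, 0], ![0, -1, -1, -2, -1, -1, -1, -1], ![0, 0, 0, 0, 1, 1, 1, 1],
      ![0, 1, 0, 1, 0, 0, 0, 0], ![0, 0, 1, 0, 0, 0, 0, 0], ![0, 0, 0, 1, 1, 0, 0, 0], ![0, 0, 0, 0, 0, 1, 0, 0],
      ![0, 0, 0, 0, 0, 0, 1, 0]]),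
    (2, ![![1, 0, 1, 0, 0, 0, 0, 0], ![0, -1, -1, -1, -1, -1, -1, -1], ![0, 0, 0, 1, 1, 1, 1, 1],
      ![0, 1, 0, 0, 0, 0, 0, 0], ![0, 0, 1, 1, 0, 0, 0, 0], ![0, 0, 0, 0, 1, 0, 0, 0], ![0, 0, 0, 0, 0, 1, 0, 0],
      ![0, 0, 0, 0, 0, 0, 1, 0]]),
    (7, ![![1, 0, 0, 0, 0, 0, 0, 0], ![0, -1, 0, -1, -1, -1, -1, -1], ![0, 0, 1, 1, 1, 1, 1, 1],
      ![0, 1, 0, 0, 0, 0, 0, 0], ![0, 0, 0, 1, 0, 0, 0, 0], ![0, 0, 0, 0, 1, 0, 0, 0], ![0, 0, 0, 0, 0, 1, 0, 0],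
      ![0, 0, 0, 0, 0, 0, 1, 0]]),
    (6, ![![1, 0, 0, 0, 0, 0, 0, 0], ![0, -1, 0, -1, -1, -1, -1, 0], ![0, 0, 1, 1, 1, 1, 1, 0],
      ![0, 1, 0, 0, 0, 0, 0, 0], ![0, 0, 0, 1, 0, 0, 0, 0], ![0, 0, 0, 0, 1, 0, 0, 0], ![0, 0, 0, 0, 0, 1, 0, 0],
      ![0, 0, 0, 0, 0, 0, 1, 1]]),
    (5, ![![1, 0, 0, 0, 0, 0, 0, 0], ![0, -1, 0, -1, -1, -1, 0, 0], ![0, 0, 1, 1, 1, 1, 0, 0],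
      ![0, 1, 0, 0, 0, 0, 0, 0], ![0, 0, 0, 1, 0, 0, 0, 0], ![0, 0, 0, 0, 1, 0, 0, 0], ![0, 0, 0, 0, 0, 1, 1, 0],
      ![0, 0, 0, 0, 0, 0, 0, 1]]),
    (4, ![![1, 0, 0, 0, 0, 0, 0, 0], ![0, -1, 0, -1, -1, 0, 0, 0], ![0, 0, 1, 1, 1, 0, 0, 0],
      ![0, 1, 0, 0, 0, 0, 0, 0], ![0, 0, 0, 1, 0, 0, 0, 0], ![0, 0, 0, 0, 1, 1, 0, 0], ![0, 0, 0, 0, 0, 0, 1, 0],
      ![0, 0, 0, 0, 0, 0, 0, 1]]),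
    (3, ![![1, 0, 0, 0, 0, 0, 0, 0], ![0, -1, 0, -1, 0, 0, 0, 0], ![0, 0, 1, 1, 0, 0, 0, 0],
      ![0, 1, 0, 0, 0, 0, 0, 0], ![0, 0, 0, 1, 1, 0, 0, 0], ![0, 0, 0, 0, 0, 1, 0, 0], ![0, 0, 0, 0, 0, 0, 1, 0],
      ![0, 0, 0, 0, 0, 0, 0, 1]]),
    (1, ![![1, 0, 0, 0, 0, 0, 0, 0], ![0, -1, 0, 0, 0, 0, 0, 0], ![0, 0, 1, 0, 0, 0, 0, 0],
      ![0, 1, 0, 1, 0, 0, 0, 0], ![0, 0, 0, 0, 1, 0, 0, 0], ![0, 0, 0, 0, 0, 1, 0, 0], ![0, 0, 0, 0, 0, 0, 1, 0],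
      ![0, 0, 0, 0, 0, 0, 0, 1]])]

theorem ch6_18_ok : ChainOK Am ch6_18 := by decide +kernel

/-- coefficients of the eigenvector, order 6 -/
def v6_18_at6 : Fin 2 → Fin 8 → ℤ := ![![1, 1, 1, 1, 1, 1, 0, 0], ![0, 0, 0, 1, 1, 0, 0, 0]]

theorem e6_18_at6 : EigOK (hd ch6_18) c6 v6_18_at6 ![1, 0, 0, 0, 0, 0, 0, 0] := by decide +kernel

/-- coefficients of the eigenvector, order 18 -/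
def v6_18_at18 : Fin 6 → Fin 8 → ℤ := ![![0, -1, -1, -1, -1, 0, 0, -1],
    ![0, 0, -1, -1, 0, 0, 1, 1], ![0, 0, 1, 0, 0, -1, -1, 0], ![-1, 0, 0, 0, 0, 0, -1, 0],
    ![0, -1, -1, -1, -2, -1, -1, -1], ![0, 0, -1, -1, 0, 0, 1, 0]]

theorem e6_18_at18 : EigOK (hd ch6_18) c18 v6_18_at18 ![0, -1, 1, -1, 0, 1, 0, 0] := by decide +kernel

theorem rel_18_6 {F : Type u} [Field F] [Finite F] {r s : ℕ} (hr : r.Prime) (hs : s.Prime) (hrs : r ≠ s)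
    (h1 : phiC c18 (Nat.card F) 1 r) (h2 : phiC c6 (Nat.card F) 1 s) :
    PG.Rel ↥(chevE8.group F) r s := by
  have := finW
  exact rel_of_eig hp CoxeterMatrix.E₈.toCoxeterSystem H129.TorusChar.invC_E8 one_ne_zero
    (chain_rep hp CoxeterMatrix.E₈.toCoxeterSystem hA ch6_18_ok) e6_18_at18 e6_18_at6 hr hs hrs h1.1 h2.1 h1.2 h2.2

/-- partial products of an element with characteristic polynomial Φ3 Φ9 -/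
def ch3_9 : List (Fin 8 × Mat 8) := [
    (1, ![![-1, 0, -1, -1, 0, 0, 0, 0], ![0, 0, 1, 1, 1, 1, 1, 1], ![0, -1, -1, -1, -1, 0, 0, 0],
      ![1, 2, 2, 3, 2, 1, 1, 0], ![-1, -2, -2, -4, -3, -2, -2, -1], ![0, 0, 0, 1, 1, 0, 0, 0],
      ![1, 1, 1, 1, 1, 1, 1, 1], ![0, 1, 1, 2, 1, 1, 0, 0]]),
    (3, ![![-1, -1, -1, -1, 0, 0, 0, 0], ![0, 1, 1, 1, 1, 1, 1, 1], ![0, 0, -1, -1, -1, 0, 0, 0],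
      ![1, 1, 2, 3, 2, 1, 1, 0], ![-1, -2, -2, -4, -3, -2, -2, -1], ![0, 1, 0, 1, 1, 0, 0, 0],
      ![1, 0, 1, 1, 1, 1, 1, 1], ![0, 1, 1, 2, 1, 1, 0, 0]]),
    (1, ![![-1, -1, -1, -1, 0, 0, 0, 0], ![0, 1, 1, 2, 1, 1, 1, 1], ![0, 0, -1, -1, -1, 0, 0, 0],
      ![1, 1, 2, 2, 2, 1, 1, 0], ![-1, -2, -2, -3, -3, -2, -2, -1], ![0, 1, 0, 1, 1, 0, 0, 0],
      ![1, 0, 1, 1, 1, 1, 1, 1], ![0, 1, 1, 1, 1, 1, 0, 0]]),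
    (2, ![![-1, 0, -1, -1, 0, 0, 0, 0], ![0, 1, 1, 2, 1, 1, 1, 1], ![0, -1, -1, -1, -1, 0, 0, 0],
      ![1, 1, 2, 2, 2, 1, 1, 0], ![-1, -1, -2, -3, -3, -2, -2, -1], ![0, 0, 0, 1, 1, 0, 0, 0],
      ![1, 1, 1, 1, 1, 1, 1, 1], ![0, 0, 1, 1, 1, 1, 0, 0]]),
    (0, ![![-1, 0, -1, -1, 0, 0, 0, 0], ![0, 1, 1, 2, 1, 1, 1, 1], ![0, -1, 0, -1, -1, 0, 0, 0],
      ![1, 1, 1, 2, 2, 1, 1, 0], ![-1, -1, -2, -3, -3, -2, -2, -1], ![0, 0, 1, 1, 1, 0, 0, 0],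
      ![1, 1, 1, 1, 1, 1, 1, 1], ![0, 0, 0, 1, 1, 1, 0, 0]]),
    (3, ![![0, 0, -1, -1, 0, 0, 0, 0], ![1, 1, 1, 2, 1, 1, 1, 1], ![0, -1, 0, -1, -1, 0, 0, 0],
      ![0, 1, 1, 2, 2, 1, 1, 0], ![-1, -1, -2, -3, -3, -2, -2, -1], ![1, 0, 1, 1, 1, 0, 0, 0],
      ![0, 1, 1, 1, 1, 1, 1, 1], ![0, 0, 0, 1, 1, 1, 0, 0]]),
    (2, ![![0, 0, -1, 0, 0, 0, 0, 0], ![1, 1, 1, 1, 1, 1, 1, 1], ![0, -1, 0, -1, -1, 0, 0, 0],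
      ![0, 1, 1, 2, 2, 1, 1, 0], ![-1, -1, -2, -3, -3, -2, -2, -1], ![1, 0, 1, 1, 1, 0, 0, 0],
      ![0, 1, 1, 2, 1, 1, 1, 1], ![0, 0, 0, 0, 1, 1, 0, 0]]),
    (4, ![![0, 0, 1, 0, 0, 0, 0, 0], ![1, 1, 1, 1, 1, 1, 1, 1], ![0, -1, -1, -1, -1, 0, 0, 0],
      ![0, 1, 1, 2, 2, 1, 1, 0], ![-1, -1, -2, -3, -3, -2, -2, -1], ![1, 0, 1, 1, 1, 0, 0, 0],
      ![0, 1, 1, 2, 1, 1, 1, 1], ![0, 0, 0, 0, 1, 1, 0, 0]]),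
    (3, ![![0, 0, 1, 0, 0, 0, 0, 0], ![1, 1, 1, 1, 1, 1, 1, 1], ![0, -1, -1, -1, 0, 0, 0, 0],
      ![0, 1, 1, 2, 1, 1, 1, 0], ![-1, -1, -2, -3, -2, -2, -2, -1], ![1, 0, 1, 1, 0, 0, 0, 0],
      ![0, 1, 1, 2, 2, 1, 1, 1], ![0, 0, 0, 0, 0, 1, 0, 0]]),
    (1, ![![0, 0, 1, 1, 0, 0, 0, 0], ![1, 1, 1, 2, 1, 1, 1, 1], ![0, -1, -1, -1, 0, 0, 0, 0],
      ![0, 1, 1, 1, 1, 1, 1, 0], ![-1, -1, -2, -2, -2, -2, -2, -1], ![1, 0, 1, 0, 0, 0, 0, 0],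
      ![0, 1, 1, 2, 2, 1, 1, 1], ![0, 0, 0, 0, 0, 1, 0, 0]]),
    (2, ![![0, 1, 1, 1, 0, 0, 0, 0], ![1, 1, 1, 2, 1, 1, 1, 1], ![0, 0, -1, -1, 0, 0, 0, 0],
      ![0, 0, 1, 1, 1, 1, 1, 0], ![-1, -1, -2, -2, -2, -2, -2, -1], ![1, 0, 1, 0, 0, 0, 0, 0],
      ![0, 1, 1, 2, 2, 1, 1, 1], ![0, 0, 0, 0, 0, 1, 0, 0]]),
    (3, ![![0, 1, 0, 1, 0, 0, 0, 0], ![1, 1, 2, 2, 1, 1, 1, 1], ![0, 0, 0, -1, 0, 0, 0, 0],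
      ![0, 0, 0, 1, 1, 1, 1, 0], ![-1, -1, -1, -2, -2, -2, -2, -1], ![1, 0, 0, 0, 0, 0, 0, 0],
      ![0, 1, 1, 2, 2, 1, 1, 1], ![0, 0, 0, 0, 0, 1, 0, 0]]),
    (6, ![![0, 1, 0, 0, 0, 0, 0, 0], ![1, 1, 2, 2, 1, 1, 1, 1], ![0, 0, 0, 1, 0, 0, 0, 0],
      ![0, 0, 0, 0, 1, 1, 1, 0], ![-1, -1, -1, -2, -2, -2, -2, -1], ![1, 0, 0, 0, 0, 0, 0, 0],
      ![0, 1, 1, 2, 2, 1, 1, 1], ![0, 0, 0, 0, 0, 1, 0, 0]]),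
    (5, ![![0, 1, 0, 0, 0, 0, 0, 0], ![1, 1, 2, 2, 1, 1, 1, 1], ![0, 0, 0, 1, 0, 0, 0, 0],
      ![0, 0, 0, 0, 1, 1, 0, 0], ![-1, -1, -1, -2, -2, -2, -1, -1], ![1, 0, 0, 0, 0, 0, 0, 0],
      ![0, 1, 1, 2, 2, 1, 1, 1], ![0, 0, 0, 0, 0, 1, 1, 0]]),
    (7, ![![0, 1, 0, 0, 0, 0, 0, 0], ![1, 1, 2, 2, 1, 1, 1, 1], ![0, 0, 0, 1, 0, 0, 0, 0],
      ![0, 0, 0, 0, 1, 0, 0, 0], ![-1, -1, -1, -2, -2, -1, -1, -1], ![1, 0, 0, 0, 0, 0, 0, 0],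
      ![0, 1, 1, 2, 2, 2, 1, 1], ![0, 0, 0, 0, 0, 0, 1, 0]]),
    (6, ![![0, 1, 0, 0, 0, 0, 0, 0], ![1, 1, 2, 2, 1, 1, 1, 0], ![0, 0, 0, 1, 0, 0, 0, 0],
      ![0, 0, 0, 0, 1, 0, 0, 0], ![-1, -1, -1, -2, -2, -1, -1, 0], ![1, 0, 0, 0, 0, 0, 0, 0],
      ![0, 1, 1, 2, 2, 2, 1, 0], ![0, 0, 0, 0, 0, 0, 1, 1]]),
    (5, ![![0, 1, 0, 0, 0, 0, 0, 0], ![1, 1, 2, 2, 1, 1, 0, 0], ![0, 0, 0, 1, 0, 0, 0, 0],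
      ![0, 0, 0, 0, 1, 0, 0, 0], ![-1, -1, -1, -2, -2, -1, 0, 0], ![1, 0, 0, 0, 0, 0, 0, 0],
      ![0, 1, 1, 2, 2, 2, 1, 0], ![0, 0, 0, 0, 0, 0, 0, 1]]),
    (4, ![![0, 1, 0, 0, 0, 0, 0, 0], ![1, 1, 2, 2, 1, 0, 0, 0], ![0, 0, 0, 1, 0, 0, 0, 0],
      ![0, 0, 0, 0, 1, 1, 0, 0], ![-1, -1, -1, -2, -2, -1, 0, 0], ![1, 0, 0, 0, 0, 0, 0, 0],
      ![0, 1, 1, 2, 2, 1, 1, 0], ![0, 0, 0, 0, 0, 0, 0, 1]]),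
    (3, ![![0, 1, 0, 0, 0, 0, 0, 0], ![1, 1, 2, 2, 1, 0, 0, 0], ![0, 0, 0, 1, 1, 0, 0, 0],
      ![0, 0, 0, 0, 0, 1, 0, 0], ![-1, -1, -1, -2, -1, -1, 0, 0], ![1, 0, 0, 0, 0, 0, 0, 0],
      ![0, 1, 1, 2, 1, 1, 1, 0], ![0, 0, 0, 0, 0, 0, 0, 1]]),
    (1, ![![0, 1, 0, 1, 0, 0, 0, 0], ![1, 1, 2, 2, 1, 0, 0, 0], ![0, 0, 0, 0, 1, 0, 0, 0],
      ![0, 0, 0, 0, 0, 1, 0, 0], ![-1, -1, -1, -1, -1, -1, 0, 0], ![1, 0, 0, 0, 0, 0, 0, 0],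
      ![0, 1, 1, 1, 1, 1, 1, 0], ![0, 0, 0, 0, 0, 0, 0, 1]]),
    (2, ![![0, 0, 0, 1, 0, 0, 0, 0], ![1, 1, 2, 2, 1, 0, 0, 0], ![0, 0, 0, 0, 1, 0, 0, 0],
      ![0, 0, 0, 0, 0, 1, 0, 0], ![-1, 0, -1, -1, -1, -1, 0, 0], ![1, 0, 0, 0, 0, 0, 0, 0],
      ![0, 0, 1, 1, 1, 1, 1, 0], ![0, 0, 0, 0, 0, 0, 0, 1]]),
    (0, ![![0, 0, 1, 1, 0, 0, 0, 0], ![1, 1, 1, 2, 1, 0, 0, 0], ![0, 0, 0, 0, 1, 0, 0, 0],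
      ![0, 0, 0, 0, 0, 1, 0, 0], ![-1, 0, -1, -1, -1, -1, 0, 0], ![1, 0, 1, 0, 0, 0, 0, 0],
      ![0, 0, 0, 1, 1, 1, 1, 0], ![0, 0, 0, 0, 0, 0, 0, 1]]),
    (3, ![![1, 0, 1, 1, 0, 0, 0, 0], ![0, 1, 1, 2, 1, 0, 0, 0], ![0, 0, 0, 0, 1, 0, 0, 0],
      ![0, 0, 0, 0, 0, 1, 0, 0], ![0, 0, -1, -1, -1, -1, 0, 0], ![0, 0, 1, 0, 0, 0, 0, 0], ![0, 0, 0, 1, 1, 1, 1, 0],
      ![0, 0, 0, 0, 0, 0, 0, 1]]),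
    (2, ![![1, 0, 1, 0, 0, 0, 0, 0], ![0, 1, 1, 1, 1, 0, 0, 0], ![0, 0, 0, 1, 1, 0, 0, 0],
      ![0, 0, 0, 0, 0, 1, 0, 0], ![0, 0, -1, -1, -1, -1, 0, 0], ![0, 0, 1, 1, 0, 0, 0, 0], ![0, 0, 0, 0, 1, 1, 1, 0],
      ![0, 0, 0, 0, 0, 0, 0, 1]]),
    (4, ![![1, 0, 0, 0, 0, 0, 0, 0], ![0, 1, 0, 1, 1, 0, 0, 0], ![0, 0, 1, 1, 1, 0, 0, 0],
      ![0, 0, 0, 0, 0, 1, 0, 0], ![0, 0, 0, -1, -1, -1, 0, 0], ![0, 0, 0, 1, 0, 0, 0, 0], ![0, 0, 0, 0, 1, 1, 1, 0],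
      ![0, 0, 0, 0, 0, 0, 0, 1]]),
    (3, ![![1, 0, 0, 0, 0, 0, 0, 0], ![0, 1, 0, 1, 0, 0, 0, 0], ![0, 0, 1, 1, 0, 0, 0, 0],
      ![0, 0, 0, 0, 1, 1, 0, 0], ![0, 0, 0, -1, -1, -1, 0, 0], ![0, 0, 0, 1, 1, 0, 0, 0], ![0, 0, 0, 0, 0, 1, 1, 0],
      ![0, 0, 0, 0, 0, 0, 0, 1]]),
    (5, ![![1, 0, 0, 0, 0, 0, 0, 0], ![0, 1, 0, 0, 0, 0, 0, 0], ![0, 0, 1, 0, 0, 0, 0, 0],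
      ![0, 0, 0, 1, 1, 1, 0, 0], ![0, 0, 0, 0, -1, -1, 0, 0], ![0, 0, 0, 0, 1, 0, 0, 0], ![0, 0, 0, 0, 0, 1, 1, 0],
      ![0, 0, 0, 0, 0, 0, 0, 1]]),
    (4, ![![1, 0, 0, 0, 0, 0, 0, 0], ![0, 1, 0, 0, 0, 0, 0, 0], ![0, 0, 1, 0, 0, 0, 0, 0],
      ![0, 0, 0, 1, 1, 0, 0, 0], ![0, 0, 0, 0, -1, 0, 0, 0], ![0, 0, 0, 0, 1, 1, 0, 0], ![0, 0, 0, 0, 0, 0, 1, 0],
      ![0, 0, 0, 0, 0, 0, 0, 1]])]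

theorem ch3_9_ok : ChainOK Am ch3_9 := by decide +kernel

/-- coefficients of the eigenvector, order 3 -/
def v3_9_at3 : Fin 2 → Fin 8 → ℤ := ![![0, -1, 0, -1, -1, 0, 0, 0],
    ![0, 0, 1, 0, 0, 0, 0, 0]]

theorem e3_9_at3 : EigOK (hd ch3_9) c3 v3_9_at3 ![0, -1, 0, 0, 0, 0, 0, 0] := by decide +kernel

/-- coefficients of the eigenvector, order 9 -/
def v3_9_at9 : Fin 6 → Fin 8 → ℤ := ![![-1, -1, -2, -3, -1, 0, 1, 1],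
    ![1, 0, 0, -1, -1, -1, 0, -1], ![0, 0, 1, 2, 1, 0, 0, -1], ![-1, 0, -1, -1, 0, 1, 0, 1],
    ![1, 0, 0, -1, 0, 0, 1, 1], ![0, 0, 0, 0, 0, 0, 1, -1]]

theorem e3_9_at9 : EigOK (hd ch3_9) c9 v3_9_at9 ![0, -1, 0, 0, 0, 0, 0, 0] := by decide +kernel

theorem rel_9_3 {F : Type u} [Field F] [Finite F] {r s : ℕ} (hr : r.Prime) (hs : s.Prime) (hrs : r ≠ s)
    (h1 : phiC c9 (Nat.card F) 1 r) (h2 : phiC c3 (Nat.card F) 1 s) :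
    PG.Rel ↥(chevE8.group F) r s := by
  have := finW
  exact rel_of_eig hp CoxeterMatrix.E₈.toCoxeterSystem H129.TorusChar.invC_E8 one_ne_zero
    (chain_rep hp CoxeterMatrix.E₈.toCoxeterSystem hA ch3_9_ok) e3_9_at9 e3_9_at3 hr hs hrs h1.1 h2.1 h1.2 h2.2

end Cfsg.Agent.R2.Spec.EE.CertE8
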