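import Cfsg.Agent.H168.ExcF4
import Cfsg.Agent.R2.Spec.EE.CertBase

/-!
# Adjacency of the prime divisors of two cyclotomic values through one torus, type F4, part 1 (helper2)
-/

set_option autoImplicit false

namespace Cfsg.Agent.R2.Spec.EE.CertF4

open Cfsg.Agent.H129.WData Cfsg.Agent.ChevalleyStructure.CoxeterGeomTypes Cfsg.Agent.Nodes.RGDChev
open Cfsg.Lie Cfsg.Lie.ChevalleyDatum
open Cfsg.Agent Cfsg.Agent.H493 Cfsg.Agent.H493.PGTorus Cfsg.Agent.H493.PGCyc Cfsg.Agent.H493.PGF4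
open Cfsg.Agent.H168.ExcAdj Cfsg.Agent.R2.Spec.EE.CertBase

universe u

/-- partial products, characteristic polynomial Φ1^2 Φ4 -/
def ch1_4 : List (Fin 4 × Mat 4) := [
    (2, ![![1, 1, 1, 0], ![0, -1, -1, 0], ![0, 2, 1, 0], ![0, 0, 1, 1]]),
    (1, ![![1, 1, 0, 0], ![0, -1, 0, 0], ![0, 2, 1, 0], ![0, 0, 0, 1]])]

theorem ch1_4_ok : ChainOK Am ch1_4 := by decide +kernel

/-- coefficients, order 1 -/
def v1_4_at1 : Fin 1 → Fin 4 → ℤ := ![![0, 1, 1, 1]]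

theorem e1_4_at1 : EigOK (hd ch1_4) c1 v1_4_at1 ![0, 1, 0, 0] := by decide +kernel

/-- coefficients, order 4 -/
def v1_4_at4 : Fin 2 → Fin 4 → ℤ := ![![0, -1, -1, 0], ![0, 1, 0, 0]]

theorem e1_4_at4 : EigOK (hd ch1_4) c4 v1_4_at4 ![0, 0, -1, 0] := by decide +kernel

theorem rel_4_1 {F : Type u} [Field F] [Finite F] {r s : ℕ} (hr : r.Prime) (hs : s.Prime) (hrs : r ≠ s)
    (h1 : phiC c4 (Nat.card F) 1 r) (h2 : phiC c1 (Nat.card F) 1 s) :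
    PG.Rel ↥(chevF4.group F) r s := by
  have := finW
  exact rel_of_eig hp CoxeterMatrix.F₄.toCoxeterSystem H129.TorusChar.invC_F4 one_ne_zero
    (chain_rep hp CoxeterMatrix.F₄.toCoxeterSystem hA ch1_4_ok) e1_4_at4 e1_4_at1 hr hs hrs h1.1 h2.1 h1.2 h2.2

theorem rel_4_4 {F : Type u} [Field F] [Finite F] {r s : ℕ} (hr : r.Prime) (hs : s.Prime) (hrs : r ≠ s)
    (h1 : phiC c4 (Nat.card F) 1 r) (h2 : phiC c4 (Nat.card F) 1 s) :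
    PG.Rel ↥(chevF4.group F) r s := by
  have := finW
  exact rel_of_eig hp CoxeterMatrix.F₄.toCoxeterSystem H129.TorusChar.invC_F4 one_ne_zero
    (chain_rep hp CoxeterMatrix.F₄.toCoxeterSystem hA ch1_4_ok) e1_4_at4 e1_4_at4 hr hs hrs h1.1 h2.1 h1.2 h2.2

/-- partial products, characteristic polynomial Φ1 Φ2 Φ3 -/
def ch1_2_3 : List (Fin 4 × Mat 4) := [
    (3, ![![-1, -1, 0, 0], ![1, 0, 0, 0], ![0, 2, 1, 1], ![0, 0, 0, -1]]),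
    (1, ![![-1, -1, 0, 0], ![1, 0, 0, 0], ![0, 2, 1, 0], ![0, 0, 0, 1]]),
    (0, ![![-1, 0, 0, 0], ![1, 1, 0, 0], ![0, 0, 1, 0], ![0, 0, 0, 1]])]

theorem ch1_2_3_ok : ChainOK Am ch1_2_3 := by decide +kernel

/-- coefficients, order 1 -/
def v1_2_3_at1 : Fin 1 → Fin 4 → ℤ := ![![4, 8, 6, 3]]

theorem e1_2_3_at1 : EigOK (hd ch1_2_3) c1 v1_2_3_at1 ![1, 0, 0, -1] := by decide +kernel

/-- coefficients, order 2 -/
def v1_2_3_at2 : Fin 1 → Fin 4 → ℤ := ![![0, 0, 0, 1]]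

theorem e1_2_3_at2 : EigOK (hd ch1_2_3) c2 v1_2_3_at2 ![0, 0, 0, 1] := by decide +kernel

/-- coefficients, order 3 -/
def v1_2_3_at3 : Fin 2 → Fin 4 → ℤ := ![![0, -1, 0, 0], ![1, 0, 0, 0]]

theorem e1_2_3_at3 : EigOK (hd ch1_2_3) c3 v1_2_3_at3 ![0, -1, 0, 0] := by decide +kernel

theorem rel_3_1 {F : Type u} [Field F] [Finite F] {r s : ℕ} (hr : r.Prime) (hs : s.Prime) (hrs : r ≠ s)
    (h1 : phiC c3 (Nat.card F) 1 r) (h2 : phiC c1 (Nat.card F) 1 s) :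
    PG.Rel ↥(chevF4.group F) r s := by
  have := finW
  exact rel_of_eig hp CoxeterMatrix.F₄.toCoxeterSystem H129.TorusChar.invC_F4 one_ne_zero
    (chain_rep hp CoxeterMatrix.F₄.toCoxeterSystem hA ch1_2_3_ok) e1_2_3_at3 e1_2_3_at1 hr hs hrs h1.1 h2.1 h1.2 h2.2

theorem rel_3_2 {F : Type u} [Field F] [Finite F] {r s : ℕ} (hr : r.Prime) (hs : s.Prime) (hrs : r ≠ s)
    (h1 : phiC c3 (Nat.card F) 1 r) (h2 : phiC c2 (Nat.card F) 1 s) :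
    PG.Rel ↥(chevF4.group F) r s := by
  have := finW
  exact rel_of_eig hp CoxeterMatrix.F₄.toCoxeterSystem H129.TorusChar.invC_F4 one_ne_zero
    (chain_rep hp CoxeterMatrix.F₄.toCoxeterSystem hA ch1_2_3_ok) e1_2_3_at3 e1_2_3_at2 hr hs hrs h1.1 h2.1 h1.2 h2.2

theorem rel_3_3 {F : Type u} [Field F] [Finite F] {r s : ℕ} (hr : r.Prime) (hs : s.Prime) (hrs : r ≠ s)
    (h1 : phiC c3 (Nat.card F) 1 r) (h2 : phiC c3 (Nat.card F) 1 s) :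
    PG.Rel ↥(chevF4.group F) r s := by
  have := finW
  exact rel_of_eig hp CoxeterMatrix.F₄.toCoxeterSystem H129.TorusChar.invC_F4 one_ne_zero
    (chain_rep hp CoxeterMatrix.F₄.toCoxeterSystem hA ch1_2_3_ok) e1_2_3_at3 e1_2_3_at3 hr hs hrs h1.1 h2.1 h1.2 h2.2

/-- partial products, characteristic polynomial Φ1 Φ2 Φ6 -/
def ch1_2_6 : List (Fin 4 × Mat 4) := [
    (2, ![![-1, -1, -1, 0], ![1, 0, 0, 0], ![0, 2, 1, 0], ![0, 0, 1, 1]]),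
    (1, ![![-1, -1, 0, 0], ![1, 0, 0, 0], ![0, 2, 1, 0], ![0, 0, 0, 1]]),
    (0, ![![-1, 0, 0, 0], ![1, 1, 0, 0], ![0, 0, 1, 0], ![0, 0, 0, 1]])]

theorem ch1_2_6_ok : ChainOK Am ch1_2_6 := by decide +kernel

/-- coefficients, order 1 -/
def v1_2_6_at1 : Fin 1 → Fin 4 → ℤ := ![![-2, -4, -3, -2]]

theorem e1_2_6_at1 : EigOK (hd ch1_2_6) c1 v1_2_6_at1 ![1, 0, -1, 0] := by decide +kernel

/-- coefficients, order 2 -/
def v1_2_6_at2 : Fin 1 → Fin 4 → ℤ := ![![2, 0, 1, 0]]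

theorem e1_2_6_at2 : EigOK (hd ch1_2_6) c2 v1_2_6_at2 ![0, 0, 1, 0] := by decide +kernel

/-- coefficients, order 6 -/
def v1_2_6_at6 : Fin 2 → Fin 4 → ℤ := ![![-1, -1, 0, 0], ![0, -1, -1, 0]]

theorem e1_2_6_at6 : EigOK (hd ch1_2_6) c6 v1_2_6_at6 ![-1, 0, 0, 0] := by decide +kernel

theorem rel_1_1 {F : Type u} [Field F] [Finite F] {r s : ℕ} (hr : r.Prime) (hs : s.Prime) (hrs : r ≠ s)
    (h1 : phiC c1 (Nat.card F) 1 r) (h2 : phiC c1 (Nat.card F) 1 s) :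
    PG.Rel ↥(chevF4.group F) r s := by
  have := finW
  exact rel_of_eig hp CoxeterMatrix.F₄.toCoxeterSystem H129.TorusChar.invC_F4 one_ne_zero
    (chain_rep hp CoxeterMatrix.F₄.toCoxeterSystem hA ch1_2_6_ok) e1_2_6_at1 e1_2_6_at1 hr hs hrs h1.1 h2.1 h1.2 h2.2

theorem rel_2_1 {F : Type u} [Field F] [Finite F] {r s : ℕ} (hr : r.Prime) (hs : s.Prime) (hrs : r ≠ s)
    (h1 : phiC c2 (Nat.card F) 1 r) (h2 : phiC c1 (Nat.card F) 1 s) :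
    PG.Rel ↥(chevF4.group F) r s := by
  have := finW
  exact rel_of_eig hp CoxeterMatrix.F₄.toCoxeterSystem H129.TorusChar.invC_F4 one_ne_zero
    (chain_rep hp CoxeterMatrix.F₄.toCoxeterSystem hA ch1_2_6_ok) e1_2_6_at2 e1_2_6_at1 hr hs hrs h1.1 h2.1 h1.2 h2.2

theorem rel_6_1 {F : Type u} [Field F] [Finite F] {r s : ℕ} (hr : r.Prime) (hs : s.Prime) (hrs : r ≠ s)
    (h1 : phiC c6 (Nat.card F) 1 r) (h2 : phiC c1 (Nat.card F) 1 s) :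
    PG.Rel ↥(chevF4.group F) r s := by
  have := finW
  exact rel_of_eig hp CoxeterMatrix.F₄.toCoxeterSystem H129.TorusChar.invC_F4 one_ne_zero
    (chain_rep hp CoxeterMatrix.F₄.toCoxeterSystem hA ch1_2_6_ok) e1_2_6_at6 e1_2_6_at1 hr hs hrs h1.1 h2.1 h1.2 h2.2

theorem rel_2_2 {F : Type u} [Field F] [Finite F] {r s : ℕ} (hr : r.Prime) (hs : s.Prime) (hrs : r ≠ s)
    (h1 : phiC c2 (Nat.card F) 1 r) (h2 : phiC c2 (Nat.card F) 1 s) :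
    PG.Rel ↥(chevF4.group F) r s := by
  have := finW
  exact rel_of_eig hp CoxeterMatrix.F₄.toCoxeterSystem H129.TorusChar.invC_F4 one_ne_zero
    (chain_rep hp CoxeterMatrix.F₄.toCoxeterSystem hA ch1_2_6_ok) e1_2_6_at2 e1_2_6_at2 hr hs hrs h1.1 h2.1 h1.2 h2.2

theorem rel_6_2 {F : Type u} [Field F] [Finite F] {r s : ℕ} (hr : r.Prime) (hs : s.Prime) (hrs : r ≠ s)
    (h1 : phiC c6 (Nat.card F) 1 r) (h2 : phiC c2 (Nat.card F) 1 s) :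
    PG.Rel ↥(chevF4.group F) r s := by
  have := finW
  exact rel_of_eig hp CoxeterMatrix.F₄.toCoxeterSystem H129.TorusChar.invC_F4 one_ne_zero
    (chain_rep hp CoxeterMatrix.F₄.toCoxeterSystem hA ch1_2_6_ok) e1_2_6_at6 e1_2_6_at2 hr hs hrs h1.1 h2.1 h1.2 h2.2

theorem rel_6_6 {F : Type u} [Field F] [Finite F] {r s : ℕ} (hr : r.Prime) (hs : s.Prime) (hrs : r ≠ s)
    (h1 : phiC c6 (Nat.card F) 1 r) (h2 : phiC c6 (Nat.card F) 1 s) :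
    PG.Rel ↥(chevF4.group F) r s := by
  have := finW
  exact rel_of_eig hp CoxeterMatrix.F₄.toCoxeterSystem H129.TorusChar.invC_F4 one_ne_zero
    (chain_rep hp CoxeterMatrix.F₄.toCoxeterSystem hA ch1_2_6_ok) e1_2_6_at6 e1_2_6_at6 hr hs hrs h1.1 h2.1 h1.2 h2.2

/-- partial products, characteristic polynomial Φ12 -/
def ch12 : List (Fin 4 × Mat 4) := [
    (3, ![![-1, -1, -1, -1], ![1, 0, 0, 0], ![0, 2, 1, 1], ![0, 0, 1, 0]]),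
    (2, ![![-1, -1, -1, 0], ![1, 0, 0, 0], ![0, 2, 1, 0], ![0, 0, 1, 1]]),
    (1, ![![-1, -1, 0, 0], ![1, 0, 0, 0], ![0, 2, 1, 0], ![0, 0, 0, 1]]),
    (0, ![![-1, 0, 0, 0], ![1, 1, 0, 0], ![0, 0, 1, 0], ![0, 0, 0, 1]])]

theorem ch12_ok : ChainOK Am ch12 := by decide +kernel

/-- coefficients, order 12 -/
def v12_at12 : Fin 4 → Fin 4 → ℤ := ![![1, 0, 0, 0], ![0, 1, 0, 0], ![0, 1, 1, 0],
    ![1, 1, 1, 1]]

theorem e12_at12 : EigOK (hd ch12) c12 v12_at12 ![1, 0, 0, -1] := by decide +kernel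

theorem rel_12_12 {F : Type u} [Field F] [Finite F] {r s : ℕ} (hr : r.Prime) (hs : s.Prime) (hrs : r ≠ s)
    (h1 : phiC c12 (Nat.card F) 1 r) (h2 : phiC c12 (Nat.card F) 1 s) :
    PG.Rel ↥(chevF4.group F) r s := by
  have := finW
  exact rel_of_eig hp CoxeterMatrix.F₄.toCoxeterSystem H129.TorusChar.invC_F4 one_ne_zero
    (chain_rep hp CoxeterMatrix.F₄.toCoxeterSystem hA ch12_ok) e12_at12 e12_at12 hr hs hrs h1.1 h2.1 h1.2 h2.2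

/-- partial products, characteristic polynomial Φ1 Φ2 Φ4 -/
def ch1_2_4 : List (Fin 4 × Mat 4) := [
    (2, ![![-1, -2, -1, 0], ![1, 1, 1, 0], ![0, 0, -1, 0], ![0, 2, 2, 1]]),
    (1, ![![-1, -2, -1, 0], ![1, 1, 0, 0], ![0, 0, 1, 0], ![0, 2, 1, 1]]),
    (2, ![![-1, -1, -1, 0], ![1, 0, 0, 0], ![0, 2, 1, 0], ![0, 0, 1, 1]]),
    (1, ![![-1, -1, 0, 0], ![1, 0, 0, 0], ![0, 2, 1, 0], ![0, 0, 0, 1]]),
    (0, ![![-1, 0, 0, 0], ![1, 1, 0, 0], ![0, 0, 1, 0], ![0, 0, 0, 1]])]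

theorem ch1_2_4_ok : ChainOK Am ch1_2_4 := by decide +kernel

/-- coefficients, order 2 -/
def v1_2_4_at2 : Fin 1 → Fin 4 → ℤ := ![![0, 0, 1, 0]]

theorem e1_2_4_at2 : EigOK (hd ch1_2_4) c2 v1_2_4_at2 ![0, 0, 1, 0] := by decide +kernel

/-- coefficients, order 4 -/
def v1_2_4_at4 : Fin 2 → Fin 4 → ℤ := ![![-1, -2, -1, 0], ![1, 0, 0, 0]]

theorem e1_2_4_at4 : EigOK (hd ch1_2_4) c4 v1_2_4_at4 ![0, 0, -1, 0] := by decide +kernel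

theorem rel_4_2 {F : Type u} [Field F] [Finite F] {r s : ℕ} (hr : r.Prime) (hs : s.Prime) (hrs : r ≠ s)
    (h1 : phiC c4 (Nat.card F) 1 r) (h2 : phiC c2 (Nat.card F) 1 s) :
    PG.Rel ↥(chevF4.group F) r s := by
  have := finW
  exact rel_of_eig hp CoxeterMatrix.F₄.toCoxeterSystem H129.TorusChar.invC_F4 one_ne_zero
    (chain_rep hp CoxeterMatrix.F₄.toCoxeterSystem hA ch1_2_4_ok) e1_2_4_at4 e1_2_4_at2 hr hs hrs h1.1 h2.1 h1.2 h2.2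

/-- partial products, characteristic polynomial Φ8 -/
def ch8 : List (Fin 4 × Mat 4) := [
    (3, ![![-1, -2, -1, -1], ![1, 1, 1, 1], ![0, 0, -1, -1], ![0, 2, 2, 1]]),
    (2, ![![-1, -2, -1, 0], ![1, 1, 1, 0], ![0, 0, -1, 0], ![0, 2, 2, 1]]),
    (1, ![![-1, -2, -1, 0], ![1, 1, 0, 0], ![0, 0, 1, 0], ![0, 2, 1, 1]]),
    (2, ![![-1, -1, -1, 0], ![1, 0, 0, 0], ![0, 2, 1, 0], ![0, 0, 1, 1]]),
    (1, ![![-1, -1, 0, 0], ![1, 0, 0, 0], ![0, 2, 1, 0], ![0, 0, 0, 1]]),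
    (0, ![![-1, 0, 0, 0], ![1, 1, 0, 0], ![0, 0, 1, 0], ![0, 0, 0, 1]])]

theorem ch8_ok : ChainOK Am ch8 := by decide +kernel

/-- coefficients, order 8 -/
def v8_at8 : Fin 4 → Fin 4 → ℤ := ![![1, 1, 0, 0], ![0, 1, 1, 0], ![1, 1, 1, 1],
    ![0, 1, 0, 0]]

theorem e8_at8 : EigOK (hd ch8) c8 v8_at8 ![1, 0, 0, -1] := by decide +kernel

theorem rel_8_8 {F : Type u} [Field F] [Finite F] {r s : ℕ} (hr : r.Prime) (hs : s.Prime) (hrs : r ≠ s)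
    (h1 : phiC c8 (Nat.card F) 1 r) (h2 : phiC c8 (Nat.card F) 1 s) :
    PG.Rel ↥(chevF4.group F) r s := by
  have := finW
  exact rel_of_eig hp CoxeterMatrix.F₄.toCoxeterSystem H129.TorusChar.invC_F4 one_ne_zero
    (chain_rep hp CoxeterMatrix.F₄.toCoxeterSystem hA ch8_ok) e8_at8 e8_at8 hr hs hrs h1.1 h2.1 h1.2 h2.2

end Cfsg.Agent.R2.Spec.EE.CertF4
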