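import Cfsg.Agent.H168.ExcF4
import Cfsg.Agent.R2.Spec.EE.CertBase

/-!
# Adjacency with the characteristic, type F4 (helper2)
-/

set_option autoImplicit false

namespace Cfsg.Agent.R2.Spec.EE.CertF4

open Cfsg.Agent.H129.WData Cfsg.Agent.ChevalleyStructure.CoxeterGeomTypes Cfsg.Agent.Nodes.RGDChev
open Cfsg.Lie Cfsg.Lie.ChevalleyDatum
open Cfsg.Agent Cfsg.Agent.H493 Cfsg.Agent.H493.PGTorus Cfsg.Agent.H493.PGCyc Cfsg.Agent.H493.PGF4
open Cfsg.Agent.H168.ExcAdj Cfsg.Agent.R2.Spec.EE.CertBase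

universe u

/-- the highest root -/
def r0 : ℕ := 47

theorem r0_lt : r0 < chevF4.nroots := by decide +kernel

theorem r0_ok : vec chevF4 4 r0 = ![2, 4, 3, 2] := by decide +kernel

/-- partial products, characteristic polynomial Φ1^4 -/
def q1 : List (Fin 4 × Mat 4) := []

theorem q1_ok : ChainOK Am q1 := by decide +kernel

/-- coefficients of the functional, order 1 -/
def w1 : Fin 1 → Fin 4 → ℤ := ![![-1, 0, 0, 1]]

theorem g1 : EigOK (fun i j => hd q1 j i) c1 w1 ![-1, 0, 0, 0] := by decide +kernel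

theorem f1 : ∀ m, ∑ j, vec chevF4 4 r0 j * hd q1 j m = vec chevF4 4 r0 m := by decide +kernel

theorem z1 : ∀ i, ∑ m, vec chevF4 4 r0 m * w1 i m = 0 := by decide +kernel

theorem rel_1_p {F : Type u} [Field F] [Finite F] {r s : ℕ} (hr : r.Prime) (hs : s.Prime)
    (h1 : phiC c1 (Nat.card F) 1 r) (h2 : s ∣ Nat.card F) : PG.Rel ↥(chevF4.group F) r s := by
  have := finW
  exact rel_p_of_eig hp CoxeterMatrix.F₄.toCoxeterSystem H129.TorusChar.invC_F4 one_ne_zero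
    (chain_rep hp CoxeterMatrix.F₄.toCoxeterSystem hA q1_ok) g1 (Or.inr (by decide +kernel)) r0_lt f1 z1 hr hs h1.1
    (fun h => absurd (Nat.dvd_one.1 h) hs.one_lt.ne') h1.2 h2

/-- partial products, characteristic polynomial Φ1^3 Φ2 -/
def q2 : List (Fin 4 × Mat 4) := [
    (0, ![![-1, 0, 0, 0], ![1, 1, 0, 0], ![0, 0, 1, 0], ![0, 0, 0, 1]])]

theorem q2_ok : ChainOK Am q2 := by decide +kernel

/-- coefficients of the functional, order 2 -/
def w2 : Fin 1 → Fin 4 → ℤ := ![![-2, 1, 0, 0]]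

theorem g2 : EigOK (fun i j => hd q2 j i) c2 w2 ![0, 1, 0, 0] := by decide +kernel

theorem f2 : ∀ m, ∑ j, vec chevF4 4 r0 j * hd q2 j m = vec chevF4 4 r0 m := by decide +kernel

theorem z2 : ∀ i, ∑ m, vec chevF4 4 r0 m * w2 i m = 0 := by decide +kernel

theorem rel_2_p {F : Type u} [Field F] [Finite F] {r s : ℕ} (hr : r.Prime) (hs : s.Prime)
    (h1 : phiC c2 (Nat.card F) 1 r) (h2 : s ∣ Nat.card F) : PG.Rel ↥(chevF4.group F) r s := by
  have := finW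
  exact rel_p_of_eig hp CoxeterMatrix.F₄.toCoxeterSystem H129.TorusChar.invC_F4 one_ne_zero
    (chain_rep hp CoxeterMatrix.F₄.toCoxeterSystem hA q2_ok) g2 (Or.inl (by decide +kernel)) r0_lt f2 z2 hr hs h1.1
    (fun h => absurd (Nat.dvd_one.1 h) hs.one_lt.ne') h1.2 h2

/-- partial products, characteristic polynomial Φ1^2 Φ3 -/
def q3 : List (Fin 4 × Mat 4) := [
    (1, ![![-1, -1, 0, 0], ![1, 0, 0, 0], ![0, 2, 1, 0], ![0, 0, 0, 1]]),
    (0, ![![-1, 0, 0, 0], ![1, 1, 0, 0], ![0, 0, 1, 0], ![0, 0, 0, 1]])]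

theorem q3_ok : ChainOK Am q3 := by decide +kernel

/-- coefficients of the functional, order 3 -/
def w3 : Fin 2 → Fin 4 → ℤ := ![![-1, -1, 2, 0], ![-2, 1, 0, 0]]

theorem g3 : EigOK (fun i j => hd q3 j i) c3 w3 ![-1, -2, -1, 0] := by decide +kernel

theorem f3 : ∀ m, ∑ j, vec chevF4 4 r0 j * hd q3 j m = vec chevF4 4 r0 m := by decide +kernel

theorem z3 : ∀ i, ∑ m, vec chevF4 4 r0 m * w3 i m = 0 := by decide +kernel

theorem rel_3_p {F : Type u} [Field F] [Finite F] {r s : ℕ} (hr : r.Prime) (hs : s.Prime)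
    (h1 : phiC c3 (Nat.card F) 1 r) (h2 : s ∣ Nat.card F) : PG.Rel ↥(chevF4.group F) r s := by
  have := finW
  exact rel_p_of_eig hp CoxeterMatrix.F₄.toCoxeterSystem H129.TorusChar.invC_F4 one_ne_zero
    (chain_rep hp CoxeterMatrix.F₄.toCoxeterSystem hA q3_ok) g3 (Or.inl (by decide +kernel)) r0_lt f3 z3 hr hs h1.1
    (fun h => absurd (Nat.dvd_one.1 h) hs.one_lt.ne') h1.2 h2

/-- partial products, characteristic polynomial Φ1^2 Φ4 -/
def q4 : List (Fin 4 × Mat 4) := [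
    (2, ![![1, 1, 1, 0], ![0, -1, -1, 0], ![0, 2, 1, 0], ![0, 0, 1, 1]]),
    (1, ![![1, 1, 0, 0], ![0, -1, 0, 0], ![0, 2, 1, 0], ![0, 0, 0, 1]])]

theorem q4_ok : ChainOK Am q4 := by decide +kernel

/-- coefficients of the functional, order 4 -/
def w4 : Fin 2 → Fin 4 → ℤ := ![![-1, 1, 0, -1], ![0, 1, -2, 1]]

theorem g4 : EigOK (fun i j => hd q4 j i) c4 w4 ![-1, 0, 0, 0] := by decide +kernel

theorem f4 : ∀ m, ∑ j, vec chevF4 4 r0 j * hd q4 j m = vec chevF4 4 r0 m := by decide +kernel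

theorem z4 : ∀ i, ∑ m, vec chevF4 4 r0 m * w4 i m = 0 := by decide +kernel

theorem rel_4_p {F : Type u} [Field F] [Finite F] {r s : ℕ} (hr : r.Prime) (hs : s.Prime)
    (h1 : phiC c4 (Nat.card F) 1 r) (h2 : s ∣ Nat.card F) : PG.Rel ↥(chevF4.group F) r s := by
  have := finW
  exact rel_p_of_eig hp CoxeterMatrix.F₄.toCoxeterSystem H129.TorusChar.invC_F4 one_ne_zero
    (chain_rep hp CoxeterMatrix.F₄.toCoxeterSystem hA q4_ok) g4 (Or.inl (by decide +kernel)) r0_lt f4 z4 hr hs h1.1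
    (fun h => absurd (Nat.dvd_one.1 h) hs.one_lt.ne') h1.2 h2

/-- partial products, characteristic polynomial Φ1 Φ2 Φ6 -/
def q6 : List (Fin 4 × Mat 4) := [
    (2, ![![-1, -1, -1, 0], ![1, 0, 0, 0], ![0, 2, 1, 0], ![0, 0, 1, 1]]),
    (1, ![![-1, -1, 0, 0], ![1, 0, 0, 0], ![0, 2, 1, 0], ![0, 0, 0, 1]]),
    (0, ![![-1, 0, 0, 0], ![1, 1, 0, 0], ![0, 0, 1, 0], ![0, 0, 0, 1]])]

theorem q6_ok : ChainOK Am q6 := by decide +kernel

/-- coefficients of the functional, order 6 -/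
def w6 : Fin 2 → Fin 4 → ℤ := ![![-1, -1, 2, 0], ![0, 1, 0, -2]]

theorem g6 : EigOK (fun i j => hd q6 j i) c6 w6 ![-1, 0, 0, 0] := by decide +kernel

theorem f6 : ∀ m, ∑ j, vec chevF4 4 r0 j * hd q6 j m = vec chevF4 4 r0 m := by decide +kernel

theorem z6 : ∀ i, ∑ m, vec chevF4 4 r0 m * w6 i m = 0 := by decide +kernel

theorem rel_6_p {F : Type u} [Field F] [Finite F] {r s : ℕ} (hr : r.Prime) (hs : s.Prime)
    (h1 : phiC c6 (Nat.card F) 1 r) (h2 : s ∣ Nat.card F) : PG.Rel ↥(chevF4.group F) r s := by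
  have := finW
  exact rel_p_of_eig hp CoxeterMatrix.F₄.toCoxeterSystem H129.TorusChar.invC_F4 one_ne_zero
    (chain_rep hp CoxeterMatrix.F₄.toCoxeterSystem hA q6_ok) g6 (Or.inl (by decide +kernel)) r0_lt f6 z6 hr hs h1.1
    (fun h => absurd (Nat.dvd_one.1 h) hs.one_lt.ne') h1.2 h2

end Cfsg.Agent.R2.Spec.EE.CertF4
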