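import Cfsg.Agent.R2.Spec.EE.CertBaseT

/-!
# Adjacency of the prime divisors of two cyclotomic values through one torus, type TD4, part 1 (helper2)
-/

set_option autoImplicit false

namespace Cfsg.Agent.R2.Spec.EE.CertTD4

open Cfsg Cfsg.Lie Cfsg.Lie.ChevalleyDatum Cfsg.Agent Cfsg.Agent.H129 Cfsg.Agent.H129.WData
open Cfsg.Agent.Nodes Cfsg.Agent.Nodes.RGDChev Cfsg.Agent.Tits.Roots Cfsg.Agent.ChevalleyStructure.CoxeterGeomTypes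
open Cfsg.Agent.H493 Cfsg.Agent.H493.PGTorus Cfsg.Agent.H493.PGCyc Cfsg.Agent.H168.ExcAdj Cfsg.Agent.H168.TwAdj
open Cfsg.Agent.H168.TwCover (pi6 pi4 phiT rel_six rel_tri)
open Cfsg.Agent.R2.Spec.EE.CertBaseT

universe u

/-- partial products, characteristic polynomial Φ1^2 Φ3 -/
def ch1_3 : List (Fin 4 × Mat 4) := []

theorem ch1_3_ok : ChainOK DataD4C.Am ch1_3 := by decide +kernel

/-- the matrix -/
def th1_3 : Mat 4 := ![![0, 0, 1, 0], ![0, 1, 0, 0], ![0, 0, 0, 1], ![1, 0, 0, 0]]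

theorem th1_3_eq : ∀ j, hd ch1_3 (pi4 j) = th1_3 j := by decide +kernel

/-- coefficients, order 1 -/
def v1_3_at1 : Fin 1 → Fin 4 → ℤ := ![![0, 1, 0, 0]]

theorem e1_3_at1 : EigOK (tr th1_3) c1 v1_3_at1 ![0, 1, 0, 0] := by decide +kernel

/-- coefficients, order 3 -/
def v1_3_at3 : Fin 2 → Fin 4 → ℤ := ![![0, 0, 1, -1], ![-1, 0, 1, 0]]

theorem e1_3_at3 : EigOK (tr th1_3) c3 v1_3_at3 ![0, 0, 0, -1] := by decide +kernel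

theorem rel_3_1 {F : Type u} [Field F] [Fintype F] {q : ℕ} (hq : IsPrimePow q) (hF : Fintype.card F = q ^ 3) {r s : ℕ}
    (hr : r.Prime) (hs : s.Prime) (hrs : r ≠ s) (hrq : ¬ r ∣ q) (hsq : ¬ s ∣ q) (h1 : (r : ℤ) ∣ pv c3 (q : ℤ))
    (h2 : (s : ℤ) ∣ pv c1 (q : ℤ)) : PG.Rel ↥(twistedD4 F q) r s :=
  rel_tri hq hF ch1_3_ok th1_3_eq e1_3_at3 e1_3_at1 hr hs hrs hrq hsq h1 h2

theorem rel_3_3 {F : Type u} [Field F] [Fintype F] {q : ℕ} (hq : IsPrimePow q) (hF : Fintype.card F = q ^ 3) {r s : ℕ}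
    (hr : r.Prime) (hs : s.Prime) (hrs : r ≠ s) (hrq : ¬ r ∣ q) (hsq : ¬ s ∣ q) (h1 : (r : ℤ) ∣ pv c3 (q : ℤ))
    (h2 : (s : ℤ) ∣ pv c3 (q : ℤ)) : PG.Rel ↥(twistedD4 F q) r s :=
  rel_tri hq hF ch1_3_ok th1_3_eq e1_3_at3 e1_3_at3 hr hs hrs hrq hsq h1 h2

/-- partial products, characteristic polynomial Φ1 Φ2 Φ3 -/
def ch1_2_3 : List (Fin 4 × Mat 4) := [
    (1, ![![1, 1, 0, 0], ![0, -1, 0, 0], ![0, 1, 1, 0], ![0, 1, 0, 1]])]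

theorem ch1_2_3_ok : ChainOK DataD4C.Am ch1_2_3 := by decide +kernel

/-- the matrix -/
def th1_2_3 : Mat 4 := ![![0, 1, 1, 0], ![0, -1, 0, 0], ![0, 1, 0, 1], ![1, 1, 0, 0]]

theorem th1_2_3_eq : ∀ j, hd ch1_2_3 (pi4 j) = th1_2_3 j := by decide +kernel

/-- coefficients, order 2 -/
def v1_2_3_at2 : Fin 1 → Fin 4 → ℤ := ![![1, -2, 1, 1]]

theorem e1_2_3_at2 : EigOK (tr th1_2_3) c2 v1_2_3_at2 ![1, 0, 0, 0] := by decide +kernel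

/-- coefficients, order 3 -/
def v1_2_3_at3 : Fin 2 → Fin 4 → ℤ := ![![0, 0, 1, -1], ![-1, 0, 1, 0]]

theorem e1_2_3_at3 : EigOK (tr th1_2_3) c3 v1_2_3_at3 ![0, 0, 0, -1] := by decide +kernel

theorem rel_3_2 {F : Type u} [Field F] [Fintype F] {q : ℕ} (hq : IsPrimePow q) (hF : Fintype.card F = q ^ 3) {r s : ℕ}
    (hr : r.Prime) (hs : s.Prime) (hrs : r ≠ s) (hrq : ¬ r ∣ q) (hsq : ¬ s ∣ q) (h1 : (r : ℤ) ∣ pv c3 (q : ℤ))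
    (h2 : (s : ℤ) ∣ pv c2 (q : ℤ)) : PG.Rel ↥(twistedD4 F q) r s :=
  rel_tri hq hF ch1_2_3_ok th1_2_3_eq e1_2_3_at3 e1_2_3_at2 hr hs hrs hrq hsq h1 h2

/-- partial products, characteristic polynomial Φ1 Φ2 Φ6 -/
def ch1_2_6 : List (Fin 4 × Mat 4) := [
    (0, ![![-1, 0, 0, 0], ![1, 1, 0, 0], ![0, 0, 1, 0], ![0, 0, 0, 1]])]

theorem ch1_2_6_ok : ChainOK DataD4C.Am ch1_2_6 := by decide +kernel

/-- the matrix -/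
def th1_2_6 : Mat 4 := ![![0, 0, 1, 0], ![1, 1, 0, 0], ![0, 0, 0, 1], ![-1, 0, 0, 0]]

theorem th1_2_6_eq : ∀ j, hd ch1_2_6 (pi4 j) = th1_2_6 j := by decide +kernel

/-- coefficients, order 1 -/
def v1_2_6_at1 : Fin 1 → Fin 4 → ℤ := ![![0, 1, 0, 0]]

theorem e1_2_6_at1 : EigOK (tr th1_2_6) c1 v1_2_6_at1 ![0, 1, 0, 0] := by decide +kernel

/-- coefficients, order 2 -/
def v1_2_6_at2 : Fin 1 → Fin 4 → ℤ := ![![-2, 1, 2, -2]]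

theorem e1_2_6_at2 : EigOK (tr th1_2_6) c2 v1_2_6_at2 ![0, 1, 0, 0] := by decide +kernel

/-- coefficients, order 6 -/
def v1_2_6_at6 : Fin 2 → Fin 4 → ℤ := ![![1, -1, 1, 0], ![-1, 0, 0, 1]]

theorem e1_2_6_at6 : EigOK (tr th1_2_6) c6 v1_2_6_at6 ![0, -1, 0, 0] := by decide +kernel

theorem rel_1_1 {F : Type u} [Field F] [Fintype F] {q : ℕ} (hq : IsPrimePow q) (hF : Fintype.card F = q ^ 3) {r s : ℕ}
    (hr : r.Prime) (hs : s.Prime) (hrs : r ≠ s) (hrq : ¬ r ∣ q) (hsq : ¬ s ∣ q) (h1 : (r : ℤ) ∣ pv c1 (q : ℤ))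
    (h2 : (s : ℤ) ∣ pv c1 (q : ℤ)) : PG.Rel ↥(twistedD4 F q) r s :=
  rel_tri hq hF ch1_2_6_ok th1_2_6_eq e1_2_6_at1 e1_2_6_at1 hr hs hrs hrq hsq h1 h2

theorem rel_2_1 {F : Type u} [Field F] [Fintype F] {q : ℕ} (hq : IsPrimePow q) (hF : Fintype.card F = q ^ 3) {r s : ℕ}
    (hr : r.Prime) (hs : s.Prime) (hrs : r ≠ s) (hrq : ¬ r ∣ q) (hsq : ¬ s ∣ q) (h1 : (r : ℤ) ∣ pv c2 (q : ℤ))
    (h2 : (s : ℤ) ∣ pv c1 (q : ℤ)) : PG.Rel ↥(twistedD4 F q) r s :=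
  rel_tri hq hF ch1_2_6_ok th1_2_6_eq e1_2_6_at2 e1_2_6_at1 hr hs hrs hrq hsq h1 h2

theorem rel_6_1 {F : Type u} [Field F] [Fintype F] {q : ℕ} (hq : IsPrimePow q) (hF : Fintype.card F = q ^ 3) {r s : ℕ}
    (hr : r.Prime) (hs : s.Prime) (hrs : r ≠ s) (hrq : ¬ r ∣ q) (hsq : ¬ s ∣ q) (h1 : (r : ℤ) ∣ pv c6 (q : ℤ))
    (h2 : (s : ℤ) ∣ pv c1 (q : ℤ)) : PG.Rel ↥(twistedD4 F q) r s :=
  rel_tri hq hF ch1_2_6_ok th1_2_6_eq e1_2_6_at6 e1_2_6_at1 hr hs hrs hrq hsq h1 h2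

theorem rel_2_2 {F : Type u} [Field F] [Fintype F] {q : ℕ} (hq : IsPrimePow q) (hF : Fintype.card F = q ^ 3) {r s : ℕ}
    (hr : r.Prime) (hs : s.Prime) (hrs : r ≠ s) (hrq : ¬ r ∣ q) (hsq : ¬ s ∣ q) (h1 : (r : ℤ) ∣ pv c2 (q : ℤ))
    (h2 : (s : ℤ) ∣ pv c2 (q : ℤ)) : PG.Rel ↥(twistedD4 F q) r s :=
  rel_tri hq hF ch1_2_6_ok th1_2_6_eq e1_2_6_at2 e1_2_6_at2 hr hs hrs hrq hsq h1 h2

theorem rel_6_2 {F : Type u} [Field F] [Fintype F] {q : ℕ} (hq : IsPrimePow q) (hF : Fintype.card F = q ^ 3) {r s : ℕ}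
    (hr : r.Prime) (hs : s.Prime) (hrs : r ≠ s) (hrq : ¬ r ∣ q) (hsq : ¬ s ∣ q) (h1 : (r : ℤ) ∣ pv c6 (q : ℤ))
    (h2 : (s : ℤ) ∣ pv c2 (q : ℤ)) : PG.Rel ↥(twistedD4 F q) r s :=
  rel_tri hq hF ch1_2_6_ok th1_2_6_eq e1_2_6_at6 e1_2_6_at2 hr hs hrs hrq hsq h1 h2

theorem rel_6_6 {F : Type u} [Field F] [Fintype F] {q : ℕ} (hq : IsPrimePow q) (hF : Fintype.card F = q ^ 3) {r s : ℕ}
    (hr : r.Prime) (hs : s.Prime) (hrs : r ≠ s) (hrq : ¬ r ∣ q) (hsq : ¬ s ∣ q) (h1 : (r : ℤ) ∣ pv c6 (q : ℤ))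
    (h2 : (s : ℤ) ∣ pv c6 (q : ℤ)) : PG.Rel ↥(twistedD4 F q) r s :=
  rel_tri hq hF ch1_2_6_ok th1_2_6_eq e1_2_6_at6 e1_2_6_at6 hr hs hrs hrq hsq h1 h2

/-- partial products, characteristic polynomial Φ12 -/
def ch12 : List (Fin 4 × Mat 4) := [
    (1, ![![-1, -1, 0, 0], ![1, 0, 0, 0], ![0, 1, 1, 0], ![0, 1, 0, 1]]),
    (0, ![![-1, 0, 0, 0], ![1, 1, 0, 0], ![0, 0, 1, 0], ![0, 0, 0, 1]])]

theorem ch12_ok : ChainOK DataD4C.Am ch12 := by decide +kernel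

/-- the matrix -/
def th12 : Mat 4 := ![![0, 1, 1, 0], ![1, 0, 0, 0], ![0, 1, 0, 1], ![-1, -1, 0, 0]]

theorem th12_eq : ∀ j, hd ch12 (pi4 j) = th12 j := by decide +kernel

/-- coefficients, order 12 -/
def v12_at12 : Fin 4 → Fin 4 → ℤ := ![![0, 0, -1, 0], ![0, 0, 0, -1], ![0, 1, 0, -1],
    ![1, 0, 0, 0]]

theorem e12_at12 : EigOK (tr th12) c12 v12_at12 ![0, 0, -1, 0] := by decide +kernel

theorem rel_12_12 {F : Type u} [Field F] [Fintype F] {q : ℕ} (hq : IsPrimePow q) (hF : Fintype.card F = q ^ 3) {r s : ℕ}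
    (hr : r.Prime) (hs : s.Prime) (hrs : r ≠ s) (hrq : ¬ r ∣ q) (hsq : ¬ s ∣ q) (h1 : (r : ℤ) ∣ pv c12 (q : ℤ))
    (h2 : (s : ℤ) ∣ pv c12 (q : ℤ)) : PG.Rel ↥(twistedD4 F q) r s :=
  rel_tri hq hF ch12_ok th12_eq e12_at12 e12_at12 hr hs hrs hrq hsq h1 h2

end Cfsg.Agent.R2.Spec.EE.CertTD4
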