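import Cfsg.Agent.R2.Spec.EE.CertBaseT

/-!
# Adjacency with the characteristic, type TE6 (helper2)
-/

set_option autoImplicit false

namespace Cfsg.Agent.R2.Spec.EE.CertTE6

open Cfsg Cfsg.Lie Cfsg.Lie.ChevalleyDatum Cfsg.Agent Cfsg.Agent.H129 Cfsg.Agent.H129.WData
open Cfsg.Agent.Nodes Cfsg.Agent.Nodes.RGDChev Cfsg.Agent.Tits.Roots Cfsg.Agent.ChevalleyStructure.CoxeterGeomTypes
open Cfsg.Agent.H493 Cfsg.Agent.H493.PGTorus Cfsg.Agent.H493.PGCyc Cfsg.Agent.H168.ExcAdj Cfsg.Agent.H168.TwAdj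
open Cfsg.Agent.H168.TwCover (pi6 pi4 phiT rel_six rel_tri)
open Cfsg.Agent.R2.Spec.EE.CertBaseT

universe u

/-- the highest root -/
def r0 : ℕ := 71

theorem r0_lt : r0 < chevE6.nroots := by decide +kernel

theorem r0_ok : vec chevE6 6 r0 = ![1, 2, 2, 3, 2, 1] := by decide +kernel

/-- partial products, characteristic polynomial Φ1^4 Φ2^2 -/
def q1 : List (Fin 6 × Mat 6) := []

theorem q1_ok : ChainOK PGE6.Am q1 := by decide +kernel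

/-- the matrix -/
def qh1 : Mat 6 := ![![0, 0, 0, 0, 0, 1], ![0, 1, 0, 0, 0, 0], ![0, 0, 0, 0, 1, 0], ![0, 0, 0, 1, 0, 0],
    ![0, 0, 1, 0, 0, 0], ![1, 0, 0, 0, 0, 0]]

theorem qh1_eq : ∀ j, hd q1 (pi6 j) = qh1 j := by decide +kernel

/-- coefficients of the functional, order 1 -/
def w1 : Fin 1 → Fin 6 → ℤ := ![![1, -1, 0, 0, 0, 1]]

theorem g1 : EigOK (fun i j => qh1 j i) c1 w1 ![1, 0, 0, 0, 0, 0] := by decide +kernel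

theorem f1 : ∀ m, ∑ j, vec chevE6 6 r0 j * qh1 j m = vec chevE6 6 r0 m := by decide +kernel

theorem z1 : ∀ i, ∑ m, vec chevE6 6 r0 m * w1 i m = 0 := by decide +kernel

theorem rel_1_p {F : Type u} [Field F] [Fintype F] {q : ℕ} (hq : IsPrimePow q) (hF : Fintype.card F = q ^ 2) {r s : ℕ}
    (hr : r.Prime) (hs : s.Prime) (h3 : r ≠ 3) (h1 : (r : ℤ) ∣ pv c1 (q : ℤ)) (h2 : s ∣ q) :
    PG.Rel ↥(twistedE6 F q) r s :=
  relp_six hq hF q1_ok qh1_eq g1 (Or.inr (by decide +kernel)) r0_lt f1 z1 hr hs h3 h1 h2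

/-- partial products, characteristic polynomial Φ1^4 Φ2^2 -/
def q2 : List (Fin 6 × Mat 6) := []

theorem q2_ok : ChainOK PGE6.Am q2 := by decide +kernel

/-- the matrix -/
def qh2 : Mat 6 := ![![0, 0, 0, 0, 0, 1], ![0, 1, 0, 0, 0, 0], ![0, 0, 0, 0, 1, 0], ![0, 0, 0, 1, 0, 0],
    ![0, 0, 1, 0, 0, 0], ![1, 0, 0, 0, 0, 0]]

theorem qh2_eq : ∀ j, hd q2 (pi6 j) = qh2 j := by decide +kernel

/-- coefficients of the functional, order 2 -/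
def w2 : Fin 1 → Fin 6 → ℤ := ![![0, 0, -1, 0, 1, 0]]

theorem g2 : EigOK (fun i j => qh2 j i) c2 w2 ![0, 0, -1, 0, 0, 0] := by decide +kernel

theorem f2 : ∀ m, ∑ j, vec chevE6 6 r0 j * qh2 j m = vec chevE6 6 r0 m := by decide +kernel

theorem z2 : ∀ i, ∑ m, vec chevE6 6 r0 m * w2 i m = 0 := by decide +kernel

theorem rel_2_p {F : Type u} [Field F] [Fintype F] {q : ℕ} (hq : IsPrimePow q) (hF : Fintype.card F = q ^ 2) {r s : ℕ}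
    (hr : r.Prime) (hs : s.Prime) (h3 : r ≠ 3) (h1 : (r : ℤ) ∣ pv c2 (q : ℤ)) (h2 : s ∣ q) :
    PG.Rel ↥(twistedE6 F q) r s :=
  relp_six hq hF q2_ok qh2_eq g2 (Or.inl (by decide +kernel)) r0_lt f2 z2 hr hs h3 h1 h2

/-- partial products, characteristic polynomial Φ1^2 Φ3 Φ6 -/
def q3 : List (Fin 6 × Mat 6) := [
    (2, ![![-1, 0, -1, 0, 0, 0], ![0, 1, 0, 0, 0, 0], ![1, 0, 0, 0, 0, 0], ![0, 0, 1, 1, 0, 0], ![0, 0, 0, 0, 1, 0],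
      ![0, 0, 0, 0, 0, 1]]),
    (0, ![![-1, 0, 0, 0, 0, 0], ![0, 1, 0, 0, 0, 0], ![1, 0, 1, 0, 0, 0], ![0, 0, 0, 1, 0, 0], ![0, 0, 0, 0, 1, 0],
      ![0, 0, 0, 0, 0, 1]])]

theorem q3_ok : ChainOK PGE6.Am q3 := by decide +kernel

/-- the matrix -/
def qh3 : Mat 6 := ![![0, 0, 0, 0, 0, 1], ![0, 1, 0, 0, 0, 0], ![0, 0, 0, 0, 1, 0], ![0, 0, 1, 1, 0, 0],
    ![1, 0, 0, 0, 0, 0], ![-1, 0, -1, 0, 0, 0]]

theorem qh3_eq : ∀ j, hd q3 (pi6 j) = qh3 j := by decide +kernel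

/-- coefficients of the functional, order 3 -/
def w3 : Fin 2 → Fin 6 → ℤ := ![![2, 0, -1, 1, -1, -1], ![1, 0, 1, 0, -2, 1]]

theorem g3 : EigOK (fun i j => qh3 j i) c3 w3 ![0, 0, 0, 1, 0, 0] := by decide +kernel

theorem f3 : ∀ m, ∑ j, vec chevE6 6 r0 j * qh3 j m = vec chevE6 6 r0 m := by decide +kernel

theorem z3 : ∀ i, ∑ m, vec chevE6 6 r0 m * w3 i m = 0 := by decide +kernel

theorem rel_3_p {F : Type u} [Field F] [Fintype F] {q : ℕ} (hq : IsPrimePow q) (hF : Fintype.card F = q ^ 2) {r s : ℕ}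
    (hr : r.Prime) (hs : s.Prime) (h3 : r ≠ 3) (h1 : (r : ℤ) ∣ pv c3 (q : ℤ)) (h2 : s ∣ q) :
    PG.Rel ↥(twistedE6 F q) r s :=
  relp_six hq hF q3_ok qh3_eq g3 (Or.inl (by decide +kernel)) r0_lt f3 z3 hr hs h3 h1 h2

/-- partial products, characteristic polynomial Φ1^3 Φ2 Φ4 -/
def q4 : List (Fin 6 × Mat 6) := [
    (0, ![![-1, 0, 0, 0, 0, 0], ![0, 1, 0, 0, 0, 0], ![1, 0, 1, 0, 0, 0], ![0, 0, 0, 1, 0, 0], ![0, 0, 0, 0, 1, 0],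
      ![0, 0, 0, 0, 0, 1]])]

theorem q4_ok : ChainOK PGE6.Am q4 := by decide +kernel

/-- the matrix -/
def qh4 : Mat 6 := ![![0, 0, 0, 0, 0, 1], ![0, 1, 0, 0, 0, 0], ![0, 0, 0, 0, 1, 0], ![0, 0, 0, 1, 0, 0],
    ![1, 0, 1, 0, 0, 0], ![-1, 0, 0, 0, 0, 0]]

theorem qh4_eq : ∀ j, hd q4 (pi6 j) = qh4 j := by decide +kernel

/-- coefficients of the functional, order 4 -/
def w4 : Fin 2 → Fin 6 → ℤ := ![![-2, 0, 1, 0, 0, 0], ![0, 0, 0, 0, 1, -2]]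

theorem g4 : EigOK (fun i j => qh4 j i) c4 w4 ![0, 0, 1, 0, 0, 0] := by decide +kernel

theorem f4 : ∀ m, ∑ j, vec chevE6 6 r0 j * qh4 j m = vec chevE6 6 r0 m := by decide +kernel

theorem z4 : ∀ i, ∑ m, vec chevE6 6 r0 m * w4 i m = 0 := by decide +kernel

theorem rel_4_p {F : Type u} [Field F] [Fintype F] {q : ℕ} (hq : IsPrimePow q) (hF : Fintype.card F = q ^ 2) {r s : ℕ}
    (hr : r.Prime) (hs : s.Prime) (h3 : r ≠ 3) (h1 : (r : ℤ) ∣ pv c4 (q : ℤ)) (h2 : s ∣ q) :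
    PG.Rel ↥(twistedE6 F q) r s :=
  relp_six hq hF q4_ok qh4_eq g4 (Or.inl (by decide +kernel)) r0_lt f4 z4 hr hs h3 h1 h2

/-- partial products, characteristic polynomial Φ1^2 Φ3 Φ6 -/
def q6 : List (Fin 6 × Mat 6) := [
    (2, ![![-1, 0, -1, 0, 0, 0], ![0, 1, 0, 0, 0, 0], ![1, 0, 0, 0, 0, 0], ![0, 0, 1, 1, 0, 0], ![0, 0, 0, 0, 1, 0],
      ![0, 0, 0, 0, 0, 1]]),
    (0, ![![-1, 0, 0, 0, 0, 0], ![0, 1, 0, 0, 0, 0], ![1, 0, 1, 0, 0, 0], ![0, 0, 0, 1, 0, 0], ![0, 0, 0, 0, 1, 0],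
      ![0, 0, 0, 0, 0, 1]])]

theorem q6_ok : ChainOK PGE6.Am q6 := by decide +kernel

/-- the matrix -/
def qh6 : Mat 6 := ![![0, 0, 0, 0, 0, 1], ![0, 1, 0, 0, 0, 0], ![0, 0, 0, 0, 1, 0], ![0, 0, 1, 1, 0, 0],
    ![1, 0, 0, 0, 0, 0], ![-1, 0, -1, 0, 0, 0]]

theorem qh6_eq : ∀ j, hd q6 (pi6 j) = qh6 j := by decide +kernel

/-- coefficients of the functional, order 6 -/
def w6 : Fin 2 → Fin 6 → ℤ := ![![-1, 0, 1, 0, 0, -1], ![1, 0, 0, -1, 1, 0]]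

theorem g6 : EigOK (fun i j => qh6 j i) c6 w6 ![0, 0, 1, 0, 0, 0] := by decide +kernel

theorem f6 : ∀ m, ∑ j, vec chevE6 6 r0 j * qh6 j m = vec chevE6 6 r0 m := by decide +kernel

theorem z6 : ∀ i, ∑ m, vec chevE6 6 r0 m * w6 i m = 0 := by decide +kernel

theorem rel_6_p {F : Type u} [Field F] [Fintype F] {q : ℕ} (hq : IsPrimePow q) (hF : Fintype.card F = q ^ 2) {r s : ℕ}
    (hr : r.Prime) (hs : s.Prime) (h3 : r ≠ 3) (h1 : (r : ℤ) ∣ pv c6 (q : ℤ)) (h2 : s ∣ q) :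
    PG.Rel ↥(twistedE6 F q) r s :=
  relp_six hq hF q6_ok qh6_eq g6 (Or.inl (by decide +kernel)) r0_lt f6 z6 hr hs h3 h1 h2

/-- partial products, characteristic polynomial Φ1 Φ2 Φ10 -/
def q10 : List (Fin 6 × Mat 6) := [
    (3, ![![-1, 0, -1, -1, 0, 0], ![0, 1, 0, 1, 0, 0], ![1, 0, 0, 0, 0, 0], ![0, 0, 1, 0, 0, 0],
      ![0, 0, 0, 1, 1, 0], ![0, 0, 0, 0, 0, 1]]),
    (2, ![![-1, 0, -1, 0, 0, 0], ![0, 1, 0, 0, 0, 0], ![1, 0, 0, 0, 0, 0], ![0, 0, 1, 1, 0, 0], ![0, 0, 0, 0, 1, 0],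
      ![0, 0, 0, 0, 0, 1]]),
    (0, ![![-1, 0, 0, 0, 0, 0], ![0, 1, 0, 0, 0, 0], ![1, 0, 1, 0, 0, 0], ![0, 0, 0, 1, 0, 0], ![0, 0, 0, 0, 1, 0],
      ![0, 0, 0, 0, 0, 1]])]

theorem q10_ok : ChainOK PGE6.Am q10 := by decide +kernel

/-- the matrix -/
def qh10 : Mat 6 := ![![0, 0, 0, 0, 0, 1], ![0, 1, 0, 1, 0, 0], ![0, 0, 0, 1, 1, 0], ![0, 0, 1, 0, 0, 0],
    ![1, 0, 0, 0, 0, 0], ![-1, 0, -1, -1, 0, 0]]

theorem qh10_eq : ∀ j, hd q10 (pi6 j) = qh10 j := by decide +kernel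

/-- coefficients of the functional, order 10 -/
def w10 : Fin 4 → Fin 6 → ℤ := ![![0, 0, 0, 1, -1, -1], ![-1, -1, 1, 0, 0, 1],
    ![0, 0, 0, 0, 1, -2], ![1, -1, 0, 0, 0, 1]]

theorem g10 : EigOK (fun i j => qh10 j i) c10 w10 ![0, 0, 0, 1, 0, 0] := by decide +kernel

theorem f10 : ∀ m, ∑ j, vec chevE6 6 r0 j * qh10 j m = vec chevE6 6 r0 m := by decide +kernel

theorem z10 : ∀ i, ∑ m, vec chevE6 6 r0 m * w10 i m = 0 := by decide +kernel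

theorem rel_10_p {F : Type u} [Field F] [Fintype F] {q : ℕ} (hq : IsPrimePow q) (hF : Fintype.card F = q ^ 2) {r s : ℕ}
    (hr : r.Prime) (hs : s.Prime) (h3 : r ≠ 3) (h1 : (r : ℤ) ∣ pv c10 (q : ℤ)) (h2 : s ∣ q) :
    PG.Rel ↥(twistedE6 F q) r s :=
  relp_six hq hF q10_ok qh10_eq g10 (Or.inl (by decide +kernel)) r0_lt f10 z10 hr hs h3 h1 h2

end Cfsg.Agent.R2.Spec.EE.CertTE6
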