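import Cfsg.Agent.R2.Spec.EE.Fr

/-!
# The values of several classes (helper5)

* `Tab.domL T I m` : the domains of the classes in `I` without the values in `m`;
* `EX.excl` : a kernel computation shows that all the values of one of the classes of `I` are in `m`.
-/

set_option autoImplicit false
set_option linter.unusedSectionVars false
set_option linter.unusedVariables false

namespace Cfsg.Agent.R2.Spec.EE

open Subgroup Cfsg
open Cfsg.Agent.H426.LieFam Cfsg.Agent.R2.Spec Cfsg.Agent.R2.Spec.P1 Cfsg.Agent.R2.Spec.F1
open Cfsg.Agent.H420.QR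

universe u w

/-- the domains with the values `m` of the classes in `I` excluded -/
def Tab.domL (T : Tab) (I : List ℕ) (m i : ℕ) : ℕ := bif I.contains i then T.dom i ^^^ (T.dom i &&& m) else T.dom i

theorem domL_lt (T : Tab) (I : List ℕ) (m i : ℕ) : T.domL I m i < 2 ^ (T.n + 4) := by
  rw [Tab.domL]
  cases I.contains i
  · exact dom_lt T i
  · exact Nat.xor_lt_two_pow (dom_lt T i) (lt_of_le_of_lt Nat.and_le_left (dom_lt T i))

section

variable {t : Fam} {p f : ℕ} {L : Type w} [Group L] [Finite L] {G : Type u} [Group G] [Finite G]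
  {K : Subgroup G} [K.Normal] {S : Subgroup (G ⧸ K)} [S.Normal] {t' : Fam} {v f' : ℕ} {T : Tab} {k : ℕ → ℕ}

/-- **All the values of one of the classes in `I` are in `m`.** -/
theorem EX.excl (h : EX t p f L G K S t' v f' T k)
    (hgd : ∀ i ∈ cls3 t, ∃ y, Gd t (p ^ f) (Nat.card ↥K) S.index i y) {I : List ℕ} {m : ℕ}
    (hk : (dat T.tbl t (cls3 t)).go (cls3 t).length (st0 T.tbl (cls3 t) (T.domL I m)) 0 = false) :
    ∃ i ∈ I, ∀ z, Gd t (p ^ f) (Nat.card ↥K) S.index i z → m.testBit (val T (Nat.card ↥K) v k z) = true := by
  by_contra hcon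
  push Not at hcon
  choose! z hz using hcon
  choose! y hy using hgd
  have h1 := go_of h.ls h.is h.rk3 h.ef (nodup_cls3 t) (fun i hi => of_cls3 hi) (D := T.domL I m)
    (y := fun i => if i ∈ I then z i else y i)
    (fun i hi => by
      by_cases h2 : i ∈ I
      · show Gd t (p ^ f) (Nat.card ↥K) S.index i (if i ∈ I then z i else y i)
        rw [if_pos h2]
        exact (hz i h2).1
      · show Gd t (p ^ f) (Nat.card ↥K) S.index i (if i ∈ I then z i else y i)
        rw [if_neg h2]
        exact hy i hi)
    (fun i _ => domL_lt T I m i)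
    (fun i _ h3 => by
      rw [Tab.domL]
      by_cases h2 : i ∈ I
      · rw [List.contains_iff_mem.2 h2, cond_true, Nat.testBit_xor, Nat.testBit_and, h3]
        show (true ^^ (true && m.testBit (val T (Nat.card ↥K) v k (if i ∈ I then z i else y i)))) = true
        have h4 := (hz i h2).2
        rw [Ne, Bool.not_eq_true] at h4
        rw [if_pos h2, h4]
        rfl
      · have h4 : I.contains i = false := by
          rw [← Bool.not_eq_true, List.contains_iff_mem]
          exact h2
        rw [h4, cond_false]
        exact h3)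
  rw [hk] at h1
  exact Bool.noConfusion h1

end

end Cfsg.Agent.R2.Spec.EE
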