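import Cfsg.Agent.R2.Spec.EE.SokE8
import Cfsg.Agent.R2.Spec.EE.SokE7
import Cfsg.Agent.R2.Spec.EE.SokE6
import Cfsg.Agent.R2.Spec.EE.SokTE6
import Cfsg.Agent.R2.Spec.EE.SokF4
import Cfsg.Agent.R2.Spec.EE.SokTF4
import Cfsg.Agent.R2.Spec.EE.SokTD4
import Cfsg.Agent.R2.Spec.EE.SokG2
import Cfsg.Agent.R2.Spec.EE.SokRee
import Cfsg.Agent.R2.Spec.EE.SokSz
import Cfsg.Agent.R2.Spec.F1.ExcTF4
import Cfsg.Agent.R2.Spec.F1.ExcOut

/-!
# The frames of the exceptional groups (helper1)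

`ef_X : ExFrm G K S X v f' → EF G K S v f' tabX k`.
-/

set_option autoImplicit false
set_option linter.unusedSectionVars false
set_option linter.unusedVariables false

namespace Cfsg.Agent.R2.Spec.EE

open Subgroup Cfsg
open Cfsg.Agent.H426.LieFam Cfsg.Agent.R2.Spec Cfsg.Agent.R2.Spec.P1 Cfsg.Agent.R2.Spec.F1

universe u

variable {G : Type u} [Group G] [Finite G] {K : Subgroup G} [K.Normal] {S : Subgroup (G ⧸ K)} [S.Normal] {t : Fam}
  {v f' : ℕ}

/-- the frame from the table -/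
theorem ef_of (hF : ExFrm G K S t v f') {T : Tab} {k : ℕ → ℕ} (hs : SOk T ↥S v k) (hspn : T.sp < 2 ^ T.n)
    (hspe : ∀ r : ℕ, r.Prime → 5 ≤ r → r ≠ v → r ∣ Nat.card ↥S → T.sp.testBit (k r) = true → r = 5)
    (hmv : ∀ x : ℕ, x.Prime → 5 ≤ x → x ≠ v → x ∣ Nat.card ↥S → T.mv.testBit (k x) = true →
      T.nt.testBit (k x) = true ∨
        ∀ r : ℕ, r.Prime → r ∣ Nat.card ↥K → r ≠ v → x ≠ r → ∃ g : G, orderOf g = r * x)
    (hvv : T.vin = false → v ≤ 3) : EF G K S v f' T k where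
  nil := hF.nil
  vp := hF.prime
  idx r a hr h5 ha := hF.index_pow hr h5 ha
  spe := hspe
  spn := hspn
  sok := hs
  kad r x hr hrK hrv hx hx5 hxv hxr hxS hm := by
    rcases hmv x hx hx5 hxv hxS hm with h1 | h1
    · exact hF.kadj_all hr hrK hrv hx hx5 hxv hxr (hs.nt x hx hx5 hxv hxS h1)
    · exact h1 r hr hrK hrv hxr
  kv _ r hr hrK hrv := hF.sv_adj hr hrv hrK
  vv := hvv

/-- the frame from the table, classes given by the order -/
theorem ef_kcl (hF : ExFrm G K S t v f') {T : Tab} {cl : List ℕ} (hs : SOk T ↥S v (kcl cl (v ^ f')))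
    (hn : T.n = cl.length) (hsp : T.sp = 0) (hvin : T.vin = true)
    (hmv : ∀ a ∈ cl, T.mv.testBit (cl.idxOf a) = true → T.nt.testBit (cl.idxOf a) = true ∨ a ∈ mvc t) :
    EF G K S v f' T (kcl cl (v ^ f')) := by
  refine ef_of hF hs (by rw [hsp]; positivity) ?_ ?_ ?_
  · intro r _ _ _ _ h
    rw [hsp, Nat.zero_testBit] at h
    exact Bool.noConfusion h
  · intro x hx hx5 hxv hxS hm
    have h1 := hs.lt x hx hx5 hxv hxS
    rw [hn] at h1
    have h2 : oc v f' x ∈ cl := List.idxOf_lt_length_iff.1 h1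
    rcases hmv _ h2 hm with h3 | h3
    · exact Or.inl h3
    · exact Or.inr fun r hr hrK hrv hxr => hF.kadj_cls hr hrK hrv hx hx5 hxv hxr h3
  · intro h
    rw [hvin] at h
    exact Bool.noConfusion h

theorem ef_e8 (hF : ExFrm G K S .e8 v f') : EF G K S v f' tabE8 (kE8 (v ^ f')) :=
  ef_of hF (sok_e8 hF.prime hF.is) (by decide) (fun r hr _ hrv hd hb => spe_e8 hF.prime hF.is hr hrv hd hb)
    (fun x _ _ _ _ h => Or.inl h) (fun h => Bool.noConfusion h)

theorem ef_e7 (hF : ExFrm G K S .e7 v f') : EF G K S v f' tabE7 (kcl clE7 (v ^ f')) :=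
  ef_kcl hF (sok_e7 hF.prime hF.is) rfl rfl rfl (by decide +kernel)

theorem ef_e6 (hF : ExFrm G K S .e6 v f') : EF G K S v f' tabE6 (kcl clE6 (v ^ f')) :=
  ef_kcl hF (sok_e6 hF.prime hF.is) rfl rfl rfl (by decide +kernel)

theorem ef_te6 (hF : ExFrm G K S .te6 v f') : EF G K S v f' tabTE6 (kcl clTE6 (v ^ f')) :=
  ef_kcl hF (sok_te6 hF.prime hF.is) rfl rfl rfl (by decide +kernel)

theorem ef_f4 (hF : ExFrm G K S .f4 v f') : EF G K S v f' tabF4 (kcl clF4 (v ^ f')) :=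
  ef_kcl hF (sok_f4 hF.prime hF.is) rfl rfl rfl (by decide +kernel)

theorem ef_td4 (hF : ExFrm G K S .td4 v f') : EF G K S v f' tabTD4 (kcl clTD4 (v ^ f')) :=
  ef_kcl hF (sok_td4 hF.prime hF.is) rfl rfl rfl (by decide +kernel)

theorem ef_g2 (hF : ExFrm G K S .g2 v f') : EF G K S v f' tabG2 (kcl clG2 (v ^ f')) :=
  ef_kcl hF (sok_g2 hF.prime hF.is) rfl rfl rfl (by decide +kernel)

theorem ef_tf4 (hF : ExFrm G K S .tf4 v f') : EF G K S v f' tabTF4 (kTF4 f') :=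
  ef_of hF (sok_tf4 hF.prime hF.is) (by decide) (fun r _ _ _ _ h => by
      rw [show tabTF4.sp = 0 from rfl, Nat.zero_testBit] at h
      exact Bool.noConfusion h)
    (fun x _ _ _ _ h => Or.inl h) (fun _ => by
      obtain ⟨h1, -⟩ := hF.is
      omega)

theorem ef_ree (hF : ExFrm G K S .ree v f') : EF G K S v f' tabRee (kRee f') := by
  refine ef_of hF (sok_ree hF.prime hF.is) (by decide) (fun r _ _ _ _ h => by
      rw [show tabRee.sp = 0 from rfl, Nat.zero_testBit] at h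
      exact Bool.noConfusion h) ?_ (fun _ => by
      obtain ⟨h1, -⟩ := hF.is
      omega)
  intro x hx hx5 hxv hxS hm
  right
  intro r hr hrK hrv hxr
  obtain ⟨h1, -⟩ := id hF.is
  have h2 : x ∣ 3 ^ f' - 1 := by
    by_contra hcon
    rw [kRee, if_neg hcon] at hm
    revert hm
    split_ifs <;> decide
  refine hF.kadj_cls hr hrK hrv hx hx5 hxv hxr ?_
  have h3 : oc v f' x = 1 := by
    have h4 := (oc_pow (v := v) (f := f') (x := x) (n := 1) hF.prime).1 (by rw [pow_one, h1]; exact h2)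
    exact Nat.dvd_one.1 h4
  rw [h3]
  decide

theorem ef_sz (hF : ExFrm G K S .sz v f') : EF G K S v f' tabSz (kSz f') := by
  refine ef_of hF (sok_sz hF.prime hF.is) (by decide) (fun r _ _ _ _ h => by
      rw [show tabSz.sp = 0 from rfl, Nat.zero_testBit] at h
      exact Bool.noConfusion h) ?_ (fun _ => by
      obtain ⟨h1, -⟩ := hF.is
      omega)
  intro x hx hx5 hxv hxS hm
  right
  intro r hr hrK hrv hxr
  obtain ⟨h1, -⟩ := id hF.is
  refine hF.kadj_sz hr hrK hrv hx hx5 hxr ?_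
  rw [h1]
  by_contra hcon
  rw [kSz, if_neg hcon] at hm
  revert hm
  split_ifs <;> decide

end Cfsg.Agent.R2.Spec.EE
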