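import Cfsg.Agent.R2.Spec.EE.Asg

/-!
# A fast constraint solver (helper13)

The state is one natural number: the domains of the variables are blocks of `b` bits (from the bit 64 on, below there is
a check sum, for the hashing of the kernel). `go_sound` : `go = false` excludes solutions.
-/

set_option autoImplicit false
set_option linter.unusedVariables false
set_option linter.unusedSectionVars false

namespace Cfsg.Agent.R2.Spec.EE

open Cfsg Cfsg.Agent.H426.LieFam Cfsg.Agent.R2.Spec Cfsg.Agent.R2.Spec.F1

/-- packing -/
def pk (b : ℕ) (l : List ℕ) : ℕ := l.foldr (fun x m => 2 ^ b * m + x) 0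

/-- a block -/
def blk (b x j : ℕ) : ℕ := Nat.mod (Nat.shiftRight x (Nat.mul b j)) (Nat.pow 2 b)

/-- forced evaluation -/
noncomputable def frc {α : Type} (x : ℕ) (F : ℕ → α) : α := Nat.rec (F 0) (fun n _ => F (Nat.succ n)) x

theorem frc_eq {α : Type} (x : ℕ) (F : ℕ → α) : frc x F = F x := by
  cases x <;> rfl

/-- the data: number of variables `N`, block width `b`, number of bits `s`, ones, full blocks, guards, masks, relations -/
structure FD where
  N : ℕ
  b : ℕ
  s : ℕ
  fb : ℕ
  one : ℕ
  full : ℕ
  grd : ℕ
  m0 : ℕ
  m1 : ℕ
  tn : ℕ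
  ta : ℕ
  deriving DecidableEq

/-- guards of the vanishing blocks -/
noncomputable def FD.zr (d : FD) (x : ℕ) : ℕ := Nat.xor (Nat.land (Nat.add x d.full) d.grd) d.grd

/-- the lowest bit -/
noncomputable def lowb (z : ℕ) : ℕ := Nat.sub z (Nat.land z (Nat.sub z 1))

/-- logarithms modulo 709 (plus 1), 16 bits each -/
def t709 : ℕ := 4149787710559483179515604021575706065132964663391313818058138689848044248998430569916144816456708370744905570026399461328608090393592349954763818988582308753874872828857404559608959488543402256202341742471945035088493821636551335677007042990730648591892776473965240059745676710301300998024389090245499190713340759680995563523007992513695297714554904091228875410664865994516609481147384313616761290784139936589527858189249452971025696909169230717860342404915923147068376789125447195308331068768722586438920997580274301353672348774628046333965384433975171996729150512891229430206384686547517474010189583514819144621526356588577628557785332782132442753458087539921992024432140343361893022418879816403286756964104074429086569342800572486772481105411911796584406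69778007698424917062355984406139550798896123476567089309221208639280651145056317731262722004197940064626569563437579618500428389928607651560469826372368306684034322943227862412586554373746027154700403387929654468337861969344965266173266692593447453678632952833169297083473690579337129851778257520998264207929675421359448766941589553477471656216141203445015098956102717303221101174625173862554165172625798239805917994890428072402808022709855134491607476931051523129419935086396148928437182316070115240508261050337076440223108080543435830497483582385371990435254208035560265504827128652002822064014890629259181245347718061497241583378677472500052793676624389589995060248658426603401907291734397181222720082981430545490783667988148193489153184318292005724962403850037179803597739772376308320657185973779880913256847597839955650195109993961949188695190379255182222660483969123407851841152899837529665765074661156753101367707475056551092333903373681802666372090187785879814715382236326898248280934082874336879043896812049790750009191709883030708796988024875458103807269272785186899669681893469924380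38074356663279012401580049862796144572479876833458801567969972674404149545449064055692978079206669800776554762717847019015760789140250161870772890058681383501173901959086265520946812995604595716495999974428639789311022419074454819322040796538018814146564815224658601252060344461020349732504396527645897424319897385012676458512698524127370462917528616476510494929235960976007448404106668208135947020316302504085366543646138911713600950423042590771294130313874522756799939922498828094028126542158721793647333055349237703998139391332411035004470563623908281918546235911051569715785852719704407148037728704544610729368812715083527162747103299645404021551242399825882814886301536989247186667630024271515105710874844433629808170654808976079931537770486762649273516482275848629023734533561306015291451939576605237993416232668043374638834019738033664625101037855499922600518493031380338955424835692706553764728979097230412562933524023808693875884368236952555422013822236117073132870531088690110357578305568839175935010525851447227916114800739933216714534260384804470503050971723282987971374366348235492240478631895557464154256110026553389099799032191376119995289609602226841975360037469451712917870787987941562893825270347602177821065293657013542222542849066398151376019971548611948286413621892789027222548868930521888756379556869951437349190743452767674993836065366331640366398773609788520443933006924678419674006376814209833073310161678610675560425268196964756079972785958268927865657896008271994491464972124161557335879308329136421688395145083798257309906902733357056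

/-- logarithms modulo 37 (plus 1), 8 bits each -/
def t37 : ℕ := 9488063789781277152368629889105640254208870120664128849280058541765022883360761392005376

/-- the logarithm (plus 1) of a power of 2 -/
noncomputable def lgB (l : ℕ) : ℕ := Nat.mod (Nat.shiftRight t709 (Nat.mul 16 (Nat.mod l 709))) 65536

/-- the logarithm (plus 1) of a power of 2 -/
noncomputable def lgS (l : ℕ) : ℕ := Nat.mod (Nat.shiftRight t37 (Nat.mul 8 (Nat.mod l 37))) 256

/-- a block with few bits -/
noncomputable def FD.pick (d : FD) (k : ℕ) : ℕ → ℕ :=
  Nat.rec (fun _ => 0) (fun _ ih x => frc (lgB (lowb (Nat.shiftRight (d.zr x) 64))) fun z =>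
    Bool.rec (Nat.div (Nat.sub z 1) d.b) (frc (Nat.land x (Nat.sub x d.one)) ih) (Nat.beq z 0)) k

/-- all the values -/
noncomputable def loopF (F : ℕ → Bool) (n : ℕ) : ℕ → Bool :=
  Nat.rec (fun _ => true) (fun _ ih e => Bool.rec (frc (Nat.sub (lgS (lowb e)) 1) fun a =>
    Bool.rec (frc (Nat.xor e (Nat.shiftLeft 1 a)) ih) true (F a)) false (Nat.beq e 0)) n

/-- the next state -/
noncomputable def FD.nx (d : FD) (st as' p q a : ℕ) : ℕ :=
  Nat.lor (Nat.land st (Nat.shiftLeft (Nat.lor (Nat.mul p (blk d.b d.m1 a)) (Nat.mul q (blk d.b d.m0 a))) 64)) as'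

/-- with the check sum -/
noncomputable def FD.ny (d : FD) (y : ℕ) : ℕ := Nat.lor y (Nat.shiftLeft (Nat.mod (Nat.shiftRight y 64) 4294967291) 32)

/-- the assigned variables, with the check sum -/
noncomputable def FD.az (d : FD) (x : ℕ) : ℕ := Nat.lor (Nat.shiftLeft x 64) (Nat.mod x 4294967291)

/-- the assigned variables -/
noncomputable def FD.ax (d : FD) (as i : ℕ) : ℕ := d.az (Nat.lor (Nat.shiftRight as 64) (Nat.shiftLeft d.fb (Nat.mul d.b i)))

/-- one step of the search -/
noncomputable def FD.step (d : FD) (ih : ℕ → ℕ → Bool) (st as : ℕ) : Bool :=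
  frc (d.pick d.b st) fun i =>
  Bool.rec true
    (frc (blk d.b (Nat.shiftRight st 64) i) fun e =>
      Bool.rec
        (frc (d.ax as i) fun as' =>
         frc (blk d.s d.tn i) fun p =>
         frc (blk d.s d.ta i) fun q =>
         loopF (fun a => frc (d.ny (d.nx st as' p q a)) fun st' => ih st' as') d.b e)
        false (Nat.beq e 0))
    (Nat.blt i d.N)

/-- the search -/
noncomputable def FD.go (d : FD) (k : ℕ) : ℕ → ℕ → Bool :=
  Nat.rec (fun _ _ => true) (fun _ ih st as => d.step ih st as) k

/-- the data of a problem -/
def dat (T : Tbl) (t : Fam) (V : List ℕ) : FD where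
  N := V.length
  b := T.n + 1
  s := (T.n + 1) * V.length
  fb := 2 ^ T.n - 1
  one := 2 ^ 64 * pk (T.n + 1) (V.map fun _ => 1)
  full := 2 ^ 64 * pk (T.n + 1) (V.map fun _ => 2 ^ T.n - 1)
  grd := 2 ^ 64 * pk (T.n + 1) (V.map fun _ => 2 ^ T.n)
  m0 := pk (T.n + 1) T.m0
  m1 := pk (T.n + 1) T.m1
  tn := pk ((T.n + 1) * V.length) (V.map fun i => pk (T.n + 1) (V.map fun j => bif naB t i j then 1 else 0))
  ta := pk ((T.n + 1) * V.length) (V.map fun i => pk (T.n + 1) (V.map fun j => bif naB t i j then 0 else 1))

/-- the initial state -/
def st0 (T : Tbl) (V : List ℕ) (D : ℕ → ℕ) : ℕ := 2 ^ 64 * pk (T.n + 1) (V.map D)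

/-! ### soundness -/

theorem pk_lt {b : ℕ} : ∀ {l : List ℕ}, (∀ x ∈ l, x < 2 ^ b) → pk b l < 2 ^ (b * l.length) := by
  intro l
  induction l with
  | nil => intro _; simp [pk]
  | cons x l ih =>
    intro h
    have h1 := ih fun y hy => h y (List.mem_cons_of_mem _ hy)
    have h2 := h x List.mem_cons_self
    show 2 ^ b * pk b l + x < _
    rw [List.length_cons, Nat.mul_add, Nat.mul_one, pow_add]
    calc 2 ^ b * pk b l + x < 2 ^ b * pk b l + 2 ^ b := by omega
      _ = 2 ^ b * (pk b l + 1) := by ring
      _ ≤ 2 ^ b * 2 ^ (b * l.length) := Nat.mul_le_mul_left _ h1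
      _ = _ := by ring

theorem testBit_pk {b : ℕ} : ∀ {l : List ℕ}, (∀ x ∈ l, x < 2 ^ b) → ∀ j c : ℕ, c < b →
    (pk b l).testBit (b * j + c) = (l.getD j 0).testBit c := by
  intro l
  induction l with
  | nil => intro _ j c _; simp [pk]
  | cons x l ih =>
    intro h j c hc
    have h1 := ih fun y hy => h y (List.mem_cons_of_mem _ hy)
    have h2 := h x List.mem_cons_self
    show (2 ^ b * pk b l + x).testBit _ = _
    rw [Nat.testBit_two_pow_mul_add _ h2]
    rcases j with _ | j
    · rw [Nat.mul_zero, Nat.zero_add, if_pos hc]
      rfl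
    · rw [if_neg (by rw [Nat.mul_add]; omega), show b * (j + 1) + c - b = b * j + c by rw [Nat.mul_add]; omega, h1 j c hc]
      rfl

theorem testBit_blk (b x j c : ℕ) : (blk b x j).testBit c = (decide (c < b) && x.testBit (b * j + c)) := by
  show ((x >>> (b * j)) % 2 ^ b).testBit c = _
  rw [Nat.testBit_mod_two_pow, Nat.testBit_shiftRight]

theorem blk_pk {b : ℕ} {l : List ℕ} (h : ∀ x ∈ l, x < 2 ^ b) (j : ℕ) : blk b (pk b l) j = l.getD j 0 := by
  have hj : l.getD j 0 < 2 ^ b := by
    rw [List.getD_eq_getElem?_getD]
    cases h1 : l[j]? with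
    | none => simp
    | some x => exact h x (List.mem_of_getElem? h1)
  apply Nat.eq_of_testBit_eq
  intro c
  rw [testBit_blk]
  by_cases hc : c < b
  · rw [decide_eq_true hc, Bool.true_and, testBit_pk h j c hc]
  · rw [decide_eq_false hc, Bool.false_and]
    exact (Nat.testBit_lt_two_pow (hj.trans_le (Nat.pow_le_pow_right (by norm_num) (by omega)))).symm

theorem pk_mul (b m : ℕ) : ∀ l : List ℕ, pk b l * m = pk b (l.map (· * m)) := by
  intro l
  induction l with
  | nil => simp [pk]
  | cons x l ih =>
    show (2 ^ b * pk b l + x) * m = 2 ^ b * pk b (l.map (· * m)) + x * m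
    rw [← ih]
    ring

theorem beq_zero {e : ℕ} (h : e ≠ 0) : Nat.beq e 0 = false := by
  cases e with
  | zero => exact absurd rfl h
  | succ n => rfl

theorem loopF_sound {F : ℕ → Bool} : ∀ (n e c : ℕ), e.testBit c = true → F c = true → loopF F n e = true := by
  intro n
  induction n with
  | zero => intro e c _ _; rfl
  | succ n ih =>
    intro e c he hF
    show Bool.rec (frc (Nat.sub (lgS (lowb e)) 1) fun a => Bool.rec (frc (Nat.xor e (Nat.shiftLeft 1 a)) (loopF F n)) true
      (F a)) false (Nat.beq e 0) = true
    have h0 : Nat.beq e 0 = false := beq_zero (by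
      rintro rfl
      simp at he)
    rw [h0, frc_eq]
    generalize Nat.sub (lgS (lowb e)) 1 = a
    show Bool.rec (frc (Nat.xor e (Nat.shiftLeft 1 a)) (loopF F n)) true (F a) = true
    by_cases hc : c = a
    · rw [← hc, hF]
    · cases F a with
      | true => rfl
      | false =>
        show frc (Nat.xor e (Nat.shiftLeft 1 a)) (loopF F n) = true
        rw [frc_eq]
        refine ih _ c ?_ hF
        show (e ^^^ (1 <<< a)).testBit c = true
        rw [Nat.testBit_xor, he, Nat.one_shiftLeft, Nat.testBit_two_pow, decide_eq_false (Ne.symm hc)]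
        rfl

/-- the search, unfolded -/
theorem step_eq (d : FD) (ih : ℕ → ℕ → Bool) (st as : ℕ) (i e as' p q : ℕ)
    (hi : i = d.pick d.b st) (he : e = blk d.b (Nat.shiftRight st 64) i) (h1 : as' = d.ax as i)
    (hp : p = blk d.s d.tn i) (hq : q = blk d.s d.ta i) :
    d.step ih st as = Bool.rec true (Bool.rec (loopF (fun a => ih (d.ny (d.nx st as' p q a)) as')
      d.b e) false (Nat.beq e 0)) (Nat.blt i d.N) := by
  subst hi he h1 hp hq
  rw [FD.step]
  simp only [frc_eq]

theorem getD_map {F : ℕ → ℕ} {V : List ℕ} {i : ℕ} (hi : i < V.length) : (V.map F).getD i 0 = F (V.getD i 0) := by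
  rw [List.getD_eq_getElem?_getD, List.getD_eq_getElem?_getD, List.getElem?_map, List.getElem?_eq_getElem hi]
  rfl

theorem getD_lt {b : ℕ} {l : List ℕ} (h : ∀ x ∈ l, x < 2 ^ b) (j : ℕ) : l.getD j 0 < 2 ^ b := by
  rw [List.getD_eq_getElem?_getD]
  cases h1 : l[j]? with
  | none => simp
  | some x => exact h x (List.mem_of_getElem? h1)

/-- the rows of the relations -/
theorem blk_row {b : ℕ} (hb : 1 ≤ b) {V : List ℕ} {R : ℕ → ℕ → Bool} {i : ℕ} (hi : i < V.length) (x y : ℕ) (hx : x < 2) (hy : y < 2) :
    blk (b * V.length) (pk (b * V.length) (V.map fun i => pk b (V.map fun j => bif R i j then x else y))) i =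
      pk b (V.map fun j => bif R (V.getD i 0) j then x else y) := by
  rw [blk_pk, getD_map hi]
  intro z hz
  obtain ⟨k, -, rfl⟩ := List.mem_map.1 hz
  have := pk_lt (b := b) (l := V.map fun j => bif R k j then x else y) (by
    intro z hz
    obtain ⟨j, -, rfl⟩ := List.mem_map.1 hz
    have h2 : 2 ≤ 2 ^ b := by
      calc 2 = 2 ^ 1 := by norm_num
        _ ≤ 2 ^ b := Nat.pow_le_pow_right (by norm_num) hb
    cases R k j
    · exact hy.trans_le h2
    · exact hx.trans_le h2)
  rwa [List.length_map] at this

/-- a bit of a row times a mask -/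
theorem testBit_row {b m : ℕ} {V : List ℕ} {P : ℕ → Bool} {x y : ℕ} (hx : x < 2) (hy : y < 2) (hm : m < 2 ^ b) {j c : ℕ}
    (hj : j < V.length) (hc : c < b) :
    (pk b (V.map fun j => bif P j then x else y) * m).testBit (b * j + c) =
      ((bif P (V.getD j 0) then x else y) * m).testBit c := by
  rw [pk_mul, List.map_map, testBit_pk _ _ _ hc, getD_map hj]
  · rfl
  · intro z hz
    obtain ⟨k, -, rfl⟩ := List.mem_map.1 hz
    show (bif P k then x else y) * m < 2 ^ b
    have h1 : (bif P k then x else y) < 2 := by
      cases P k
      · exact hy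
      · exact hx
    calc (bif P k then x else y) * m ≤ 1 * m := Nat.mul_le_mul_right _ (by omega)
      _ = m := one_mul m
      _ < _ := hm

/-- **Soundness.** -/
theorem go_sound {T : Tbl} {t : Fam} {V : List ℕ} (hm0 : ∀ x ∈ T.m0, x < 2 ^ T.n) (hm1 : ∀ x ∈ T.m1, x < 2 ^ T.n)
    {g : ℕ → ℕ} (hg : ∀ j < V.length, g j < T.n)
    (h1 : ∀ i < V.length, ∀ j < V.length, i ≠ j → naB t (V.getD i 0) (V.getD j 0) = true →
      (T.m1.getD (g i) 0).testBit (g j) = true)
    (h0 : ∀ i < V.length, ∀ j < V.length, i ≠ j → naB t (V.getD i 0) (V.getD j 0) = false →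
      (T.m0.getD (g i) 0).testBit (g j) = true) :
    ∀ k st as : ℕ, (∀ j < V.length, st.testBit (64 + ((T.n + 1) * j + g j)) = true) → (dat T t V).go k st as = true := by
  intro k
  induction k with
  | zero => intro st as _; rfl
  | succ k ih =>
    intro st as hst
    show (dat T t V).step ((dat T t V).go k) st as = true
    set d := dat T t V with hd
    obtain ⟨i, hi⟩ : ∃ i, i = d.pick d.b st := ⟨_, rfl⟩
    obtain ⟨e, he⟩ : ∃ e, e = blk d.b (Nat.shiftRight st 64) i := ⟨_, rfl⟩
    obtain ⟨as', has'⟩ : ∃ x, x = d.ax as i := ⟨_, rfl⟩
    obtain ⟨p, hp⟩ : ∃ x, x = blk d.s d.tn i := ⟨_, rfl⟩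
    obtain ⟨q, hq⟩ : ∃ x, x = blk d.s d.ta i := ⟨_, rfl⟩
    rw [step_eq d _ st as i e as' p q hi he has' hp hq]
    by_cases hiN : i < V.length
    · have e1 : Nat.blt i d.N = true := by rw [Nat.blt_eq]; exact hiN
      rw [e1]
      have hgi := hg i hiN
      have hei : e.testBit (g i) = true := by
        rw [he, testBit_blk]
        show (decide (g i < T.n + 1) && (st >>> 64).testBit ((T.n + 1) * i + g i)) = true
        rw [Nat.testBit_shiftRight, hst i hiN, decide_eq_true (by omega)]
        rfl
      have e2 : Nat.beq e 0 = false := beq_zero (by rintro rfl; simp at hei)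
      rw [e2]
      show loopF _ d.b e = true
      refine loopF_sound _ _ _ hei (ih _ _ ?_)
      intro j hj
      have hgj := hg j hj
      have key : (d.nx st as' p q (g i)).testBit (64 + ((T.n + 1) * j + g j)) = true := by
        show ((st &&& ((p * blk d.b d.m1 (g i) ||| q * blk d.b d.m0 (g i)) <<< 64)) ||| as').testBit _ = true
        rw [Nat.testBit_or, Nat.testBit_and, hst j hj, Bool.true_and, Nat.testBit_shiftLeft,
          decide_eq_true (show 64 ≤ 64 + ((T.n + 1) * j + g j) by omega), Bool.true_and, Nat.add_sub_cancel_left,
          Nat.testBit_or]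
        by_cases hij : j = i
        · have h3 : as'.testBit (64 + ((T.n + 1) * j + g j)) = true := by
            rw [has', hij]
            show ((((as >>> 64) ||| ((2 ^ T.n - 1) <<< ((T.n + 1) * i))) <<< 64) ||| _).testBit _ = true
            rw [Nat.testBit_or, Nat.testBit_shiftLeft, decide_eq_true (show 64 ≤ 64 + ((T.n + 1) * i + g i) by omega),
              Bool.true_and, Nat.add_sub_cancel_left, Nat.testBit_or, Nat.testBit_shiftLeft,
              decide_eq_true (show (T.n + 1) * i ≤ (T.n + 1) * i + g i by omega), Bool.true_and,
              Nat.add_sub_cancel_left, Nat.testBit_two_pow_sub_one, decide_eq_true hgi]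
            simp
          rw [h3, Bool.or_true]
        · have hb : (1 : ℕ) ≤ T.n + 1 := by omega
          have w0 : ∀ x ∈ T.m0, x < 2 ^ (T.n + 1) := fun x hx => (hm0 x hx).trans (Nat.pow_lt_pow_right (by norm_num) (by omega))
          have w1 : ∀ x ∈ T.m1, x < 2 ^ (T.n + 1) := fun x hx => (hm1 x hx).trans (Nat.pow_lt_pow_right (by norm_num) (by omega))
          have q0 : blk d.b d.m0 (g i) = T.m0.getD (g i) 0 := blk_pk w0 _
          have q1 : blk d.b d.m1 (g i) = T.m1.getD (g i) 0 := blk_pk w1 _
          have hp' : p = pk (T.n + 1) (V.map fun j => bif naB t (V.getD i 0) j then 1 else 0) := by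
            rw [hp]
            exact blk_row hb hiN 1 0 (by norm_num) (by norm_num)
          have hq' : q = pk (T.n + 1) (V.map fun j => bif naB t (V.getD i 0) j then 0 else 1) := by
            rw [hq]
            exact blk_row hb hiN 0 1 (by norm_num) (by norm_num)
          rw [q0, q1, hp', hq', testBit_row (by norm_num) (by norm_num) (getD_lt w1 _) hj (by omega),
            testBit_row (by norm_num) (by norm_num) (getD_lt w0 _) hj (by omega)]
          cases hn : naB t (V.getD i 0) (V.getD j 0) with
          | true =>
            rw [cond_true, one_mul, h1 i hiN j hj (Ne.symm hij) hn]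
            simp
          | false =>
            rw [cond_false, cond_false, one_mul, h0 i hiN j hj (Ne.symm hij) hn]
            simp
      show (d.nx st as' p q (g i) ||| _).testBit _ = true
      rw [Nat.testBit_or, key, Bool.true_or]
    · have e1 : Nat.blt i d.N = false := by rw [← Bool.not_eq_true, Nat.blt_eq]; exact hiN
      rw [e1]

theorem msk_lt {n : ℕ} (P : ℕ → Bool) : msk (List.range n) P < 2 ^ n := by
  apply Nat.lt_pow_two_of_testBit
  intro i hi
  rw [testBit_msk, List.any_eq_false]
  intro k hk h
  rw [List.mem_range] at hk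
  rw [Bool.and_eq_true, beq_iff_eq] at h
  omega

open Cfsg.Agent.R2.Spec.P1

universe u w

/-- **The constraint problem has a solution.** -/
theorem go_of {t : Fam} {p f : ℕ} {L : Type w} [Group L] [Finite L] {G : Type u} [Group G] [Finite G]
    {K : Subgroup G} [K.Normal] {S : Subgroup (G ⧸ K)} [S.Normal] {v f' : ℕ} {T : Tab} {k : ℕ → ℕ}
    (h : LS t p f L G) (hI : Fam.Is p f L t) (hn : 3 ≤ rk t) (hE : EF G K S v f' T k) {V : List ℕ}
    (hVn : V.Nodup) (hV : ∀ i ∈ V, 3 ≤ i ∧ mem t i) {y : ℕ → ℕ}
    (hyg : ∀ i ∈ V, Gd t (p ^ f) (Nat.card ↥K) S.index i (y i)) {D : ℕ → ℕ} (hDl : ∀ i ∈ V, D i < 2 ^ (T.n + 4))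
    (hD : ∀ i ∈ V, (T.dom i).testBit (val T (Nat.card ↥K) v k (y i)) = true →
      (D i).testBit (val T (Nat.card ↥K) v k (y i)) = true) :
    (dat T.tbl t V).go V.length (st0 T.tbl V D) 0 = true := by
  obtain ⟨h1, h2, h3⟩ := rel_of h hI hn hE hVn hV hyg
  have hmem : ∀ i < V.length, V.getD i 0 ∈ V := by
    intro i hi
    rw [List.getD_eq_getElem?_getD, List.getElem?_eq_getElem hi]
    exact List.getElem_mem hi
  have hinj : ∀ i < V.length, ∀ j < V.length, i ≠ j → V.getD i 0 ≠ V.getD j 0 := by
    intro i hi j hj hij he
    rw [List.getD_eq_getElem?_getD, List.getD_eq_getElem?_getD, List.getElem?_eq_getElem hi,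
      List.getElem?_eq_getElem hj] at he
    exact hij ((List.Nodup.getElem_inj_iff hVn).1 he)
  refine go_sound (g := fun j => val T (Nat.card ↥K) v k (y (V.getD j 0))) ?_ ?_ ?_ ?_ ?_ _ _ _ ?_
  · intro x hx
    obtain ⟨a, -, rfl⟩ := List.mem_map.1 hx
    exact msk_lt _
  · intro x hx
    obtain ⟨a, -, rfl⟩ := List.mem_map.1 hx
    exact msk_lt _
  · intro j hj
    exact (h1 _ (hmem j hj)).2
  · intro i hi j hj hij hn
    exact h2 _ (hmem i hi) _ (hmem j hj) (hinj i hi j hj hij) hn
  · intro i hi j hj hij hn
    exact h3 _ (hmem i hi) _ (hmem j hj) (hinj i hi j hj hij) hn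
  · intro j hj
    have h4 : ∀ x ∈ V.map D, x < 2 ^ (T.n + 3 + 1) := by
      intro x hx
      obtain ⟨a, ha, rfl⟩ := List.mem_map.1 hx
      exact hDl a ha
    have h5 := (h1 _ (hmem j hj)).2
    show (2 ^ 64 * pk (T.n + 3 + 1) (V.map D)).testBit (64 + ((T.n + 3 + 1) * j + _)) = true
    rw [Nat.testBit_two_pow_mul, decide_eq_true (by omega), Bool.true_and, Nat.add_sub_cancel_left,
      testBit_pk h4 j _ (by omega), getD_map hj]
    exact hD _ (hmem j hj) (h1 _ (hmem j hj)).1

end Cfsg.Agent.R2.Spec.EE
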