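import Cfsg.Agent.R2.Spec.EE.FCsp
import Cfsg.Agent.R2.Spec.F1.ExcFrm
import Cfsg.Agent.R2.Spec.F1.GoodS

/-!
# The context of the rows, `S` exceptional (helper13)

* `EX` : the context with the table; `cls3 t` : the regular classes of `t`;
* `EX.row` : a kernel computation excludes the row; `EX.row_val` : a kernel computation restricts the value of a class.
-/

set_option autoImplicit false
set_option linter.unusedSectionVars false
set_option linter.unusedVariables false

namespace Cfsg.Agent.R2.Spec.EE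

open Subgroup Cfsg
open Cfsg.Agent.H426.LieFam Cfsg.Agent.R2.Spec Cfsg.Agent.R2.Spec.P1 Cfsg.Agent.R2.Spec.F1
open Cfsg.Agent.H420.QR

universe u w

/-- the context -/
structure EX (t : Fam) (p f : ℕ) (L : Type w) [Group L] (G : Type u) [Group G] (K : Subgroup G) [K.Normal]
    (S : Subgroup (G ⧸ K)) [S.Normal] (t' : Fam) (v f' : ℕ) (T : Tab) (k : ℕ → ℕ) : Prop where
  p2 : p ≠ 2
  vp : v ≠ p
  ls : LS t p f L G
  is : Fam.Is p f L t
  rk3 : 3 ≤ rk t
  red : Red G K S
  frm : ExFrm G K S t' v f'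
  ef : EF G K S v f' T k

/-- the regular classes -/
def cls3 (t : Fam) : List ℕ := (List.range (2 * rk t + 1)).filter fun i => Nat.ble 3 i && memB t i

theorem nodup_cls3 (t : Fam) : (cls3 t).Nodup := List.Nodup.filter _ List.nodup_range

theorem of_cls3 {t : Fam} {i : ℕ} (h : i ∈ cls3 t) : 3 ≤ i ∧ mem t i := by
  rw [cls3, List.mem_filter, Bool.and_eq_true, Nat.ble_eq] at h
  exact ⟨h.2.1, mem_of_memB h.2.2⟩

section

variable {t : Fam} {p f : ℕ} {L : Type w} [Group L] [Finite L] {G : Type u} [Group G] [Finite G]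
  {K : Subgroup G} [K.Normal] {S : Subgroup (G ⧸ K)} [S.Normal] {t' : Fam} {v f' : ℕ} {T : Tab} {k : ℕ → ℕ}

theorem dom_lt (T : Tab) (i : ℕ) : T.dom i < 2 ^ (T.n + 4) :=
  (msk_lt _).trans (Nat.pow_lt_pow_right (by norm_num) (by omega))

/-- **A row excluded by the kernel**, a list of classes. -/
theorem EX.rowV (h : EX t p f L G K S t' v f' T k) {V : List ℕ} (hVn : V.Nodup) (hVs : ∀ i ∈ V, i ∈ cls3 t)
    (hgd : ∀ i ∈ V, ∃ y, Gd t (p ^ f) (Nat.card ↥K) S.index i y)
    (hk : (dat T.tbl t V).go V.length (st0 T.tbl V T.dom) 0 = false) : False := by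
  choose! y hy using hgd
  have h1 := go_of h.ls h.is h.rk3 h.ef hVn (fun i hi => of_cls3 (hVs i hi)) (D := T.dom) hy
    (fun i _ => dom_lt T i) (fun i _ h => h)
  rw [hk] at h1
  exact Bool.noConfusion h1

/-- **A row excluded by the kernel.** -/
theorem EX.row (h : EX t p f L G K S t' v f' T k)
    (hgd : ∀ i ∈ cls3 t, ∃ y, Gd t (p ^ f) (Nat.card ↥K) S.index i y)
    (hk : (dat T.tbl t (cls3 t)).go (cls3 t).length (st0 T.tbl (cls3 t) T.dom) 0 = false) : False := by
  choose! y hy using hgd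
  have h1 := go_of h.ls h.is h.rk3 h.ef (nodup_cls3 t) (fun i hi => of_cls3 hi) (D := T.dom) hy
    (fun i _ => dom_lt T i) (fun i _ h => h)
  rw [hk] at h1
  exact Bool.noConfusion h1

/-- the domains with the values `m` of the class `i0` excluded -/
def Tab.domX (T : Tab) (i0 m i : ℕ) : ℕ := bif i == i0 then T.dom i ^^^ (T.dom i &&& m) else T.dom i

theorem domX_lt (T : Tab) (i0 m i : ℕ) : T.domX i0 m i < 2 ^ (T.n + 4) := by
  rw [Tab.domX]
  cases i == i0
  · exact dom_lt T i
  · exact Nat.xor_lt_two_pow (dom_lt T i) (lt_of_le_of_lt Nat.and_le_left (dom_lt T i))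

/-- **The values of the class `i0` are in `m`.** -/
theorem EX.row_val (h : EX t p f L G K S t' v f' T k)
    (hgd : ∀ i ∈ cls3 t, ∃ y, Gd t (p ^ f) (Nat.card ↥K) S.index i y) {i0 m : ℕ}
    (hk : (dat T.tbl t (cls3 t)).go (cls3 t).length (st0 T.tbl (cls3 t) (T.domX i0 m)) 0 = false)
    {z : ℕ} (hz : Gd t (p ^ f) (Nat.card ↥K) S.index i0 z) : m.testBit (val T (Nat.card ↥K) v k z) = true := by
  by_contra hcon
  rw [Bool.not_eq_true] at hcon
  choose! y hy using hgd
  have h1 := go_of h.ls h.is h.rk3 h.ef (nodup_cls3 t) (fun i hi => of_cls3 hi) (D := T.domX i0 m)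
    (y := fun i => if i = i0 then z else y i)
    (fun i hi => by
      by_cases h2 : i = i0
      · show Gd t (p ^ f) (Nat.card ↥K) S.index i (if i = i0 then z else y i)
        rw [if_pos h2, h2]
        exact hz
      · show Gd t (p ^ f) (Nat.card ↥K) S.index i (if i = i0 then z else y i)
        rw [if_neg h2]
        exact hy i hi)
    (fun i _ => domX_lt T i0 m i)
    (fun i _ h3 => by
      rw [Tab.domX]
      by_cases h2 : i = i0
      · rw [beq_iff_eq.2 h2, cond_true, Nat.testBit_xor, Nat.testBit_and, h3]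
        show (true ^^ (true && m.testBit (val T (Nat.card ↥K) v k (if i = i0 then z else y i)))) = true
        rw [if_pos h2, hcon]
        rfl
      · rw [beq_eq_false_iff_ne.2 h2, cond_false]
        exact h3)
  rw [hk] at h1
  exact Bool.noConfusion h1

end

end Cfsg.Agent.R2.Spec.EE
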