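import Cfsg.Agent.R2.Spec.EE.Fr
import Cfsg.Agent.R2.Spec.EE.Big
import Cfsg.Agent.R2.Spec.EE.TabDef

/-!
# EE (P3), large rank (helper12)

* `pigB T α cov` : the classes of `T` are covered by `α` cliques, fewer than `α` classes are nonadjacent to the radical,
  fewer than `α` classes are nonadjacent to the characteristic;
* `EX.pig0` : more than `α` big classes are impossible;
* `card_..` : the number of the big classes.
-/

set_option autoImplicit false
set_option linter.unusedSectionVars false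
set_option linter.unusedVariables false

namespace Cfsg.Agent.R2.Spec.EE

open Subgroup Cfsg
open Cfsg.Agent.H426.LieFam Cfsg.Agent.R2.Spec Cfsg.Agent.R2.Spec.P1 Cfsg.Agent.R2.Spec.F1
open Cfsg.Agent.H420.QR

universe u w

/-- the check -/
def pigB (T : Tab) (α : ℕ) (cov : List ℕ) : Bool :=
  T.kv &&
  (List.range T.n).all (fun a => T.sp.testBit a || Nat.blt (cov.getD a 0) α) &&
  (List.range T.n).all (fun a => (List.range T.n).all fun b =>
    T.sp.testBit a || (T.sp.testBit b || (!(Nat.beq (cov.getD a 0) (cov.getD b 0)) || (T.adj.getD a 0).testBit b))) &&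
  Nat.blt ((List.range T.n).filter (fun a => !(T.mv.testBit a) && !(T.sp.testBit a))).length α &&
  (!T.vin || Nat.blt ((List.range T.n).filter (fun a => !(T.nt.testBit a) && !(T.sp.testBit a))).length α)

namespace Pig

theorem al1_lt {T : Tab} {a b : ℕ} (ha : a < T.n) (hb : b < T.n) (h : al1 T a b = true) :
    (T.adj.getD a 0).testBit b = false := by
  have ha' : Nat.blt a T.n = true := by rw [Nat.blt_eq]; exact ha
  have hb' : Nat.blt b T.n = true := by rw [Nat.blt_eq]; exact hb
  rw [al1, ha', hb', cond_true, cond_true] at h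
  cases h2 : (T.adj.getD a 0).testBit b
  · rfl
  · rw [h2] at h; exact Bool.noConfusion h

theorem al1_K {T : Tab} {b : ℕ} (hkv : T.kv = true) (h : al1 T (T.n + 2) b = true) : b < T.n ∧ T.mv.testBit b = false := by
  have b3 : Nat.blt (T.n + 2) T.n = false := by rw [← Bool.not_eq_true, Nat.blt_eq]; omega
  have e3 : (T.n + 2 == T.n) = false := by rw [beq_eq_false_iff_ne]; omega
  have e4 : (T.n + 2 == T.n + 1) = false := by rw [beq_eq_false_iff_ne]; omega
  rw [al1, b3, cond_false, e3, cond_false, e4, cond_false, hkv, Bool.not_true, Bool.and_false] at h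
  cases h2 : Nat.blt b T.n
  · rw [h2, cond_false] at h; exact Bool.noConfusion h
  · rw [h2, cond_true] at h
    refine ⟨by rw [Nat.blt_eq] at h2; exact h2, ?_⟩
    cases h3 : T.mv.testBit b
    · rfl
    · rw [h3] at h; exact Bool.noConfusion h

theorem al1_v {T : Tab} {a b : ℕ} (hkv : T.kv = true) (ha : a = T.n ∨ a = T.n + 1) (h : al1 T a b = true) :
    b < T.n ∧ T.nt.testBit b = false := by
  have key : Nat.blt b T.n = true → (!(T.nt.testBit b)) = true → b < T.n ∧ T.nt.testBit b = false := by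
    intro h2 h3
    refine ⟨by rw [Nat.blt_eq] at h2; exact h2, ?_⟩
    cases h4 : T.nt.testBit b
    · rfl
    · rw [h4] at h3; exact Bool.noConfusion h3
  rcases ha with rfl | rfl
  · have b3 : Nat.blt T.n T.n = false := by rw [← Bool.not_eq_true, Nat.blt_eq]; omega
    rw [al1, b3, cond_false, beq_self_eq_true, cond_true, hkv, Bool.not_true, Bool.and_false] at h
    cases h2 : Nat.blt b T.n
    · rw [h2, cond_false] at h; exact Bool.noConfusion h
    · rw [h2, cond_true] at h; exact key h2 h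
  · have b3 : Nat.blt (T.n + 1) T.n = false := by rw [← Bool.not_eq_true, Nat.blt_eq]; omega
    have e5 : (T.n + 1 == T.n) = false := by rw [beq_eq_false_iff_ne]; omega
    rw [al1, b3, cond_false, e5, cond_false, beq_self_eq_true, cond_true, Bool.and_eq_true] at h
    exact key h.1 h.2

/-- **The pigeonhole.** -/
theorem core {T : Tab} {α : ℕ} {cov : List ℕ} (hT : pigB T α cov = true) {V : Finset ℕ} {F : ℕ → ℕ}
    (h1 : ∀ i ∈ V, F i < T.n + 3) (h2 : ∀ i ∈ V, F i < T.n → T.sp.testBit (F i) = false)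
    (h3 : ∀ i ∈ V, F i = T.n ∨ F i = T.n + 1 → T.vin = true)
    (h4 : ∀ i ∈ V, ∀ j ∈ V, i ≠ j → al1 T (F i) (F j) = true) (hc : α < V.card) : False := by
  classical
  rw [pigB, Bool.and_eq_true, Bool.and_eq_true, Bool.and_eq_true, Bool.and_eq_true, List.all_eq_true, List.all_eq_true,
    Nat.blt_eq] at hT
  obtain ⟨⟨⟨⟨hkv, hcv⟩, hcl⟩, hmv⟩, hnt⟩ := hT
  have hcv' : ∀ a, a < T.n → T.sp.testBit a = false → cov.getD a 0 < α := by
    intro a ha hs
    have h5 := hcv a (List.mem_range.2 ha)
    rw [hs, Bool.false_or, Nat.blt_eq] at h5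
    exact h5
  have hcl' : ∀ a b, a < T.n → b < T.n → T.sp.testBit a = false → T.sp.testBit b = false →
      cov.getD a 0 = cov.getD b 0 → (T.adj.getD a 0).testBit b = true := by
    intro a b ha hb hsa hsb he
    have h5 := hcl a (List.mem_range.2 ha)
    rw [List.all_eq_true] at h5
    have h6 := h5 b (List.mem_range.2 hb)
    rw [hsa, hsb, Bool.false_or, Bool.false_or, he, Nat.beq_refl, Bool.not_true, Bool.false_or] at h6
    exact h6
  -- different cliques
  have hinj : ∀ i ∈ V, ∀ j ∈ V, F i < T.n → F j < T.n → cov.getD (F i) 0 = cov.getD (F j) 0 → i = j := by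
    intro i hi j hj hFi hFj he
    by_contra hne
    have h5 := al1_lt hFi hFj (h4 i hi j hj hne)
    rw [hcl' _ _ hFi hFj (h2 i hi hFi) (h2 j hj hFj) he] at h5
    exact Bool.noConfusion h5
  by_cases hall : ∀ i ∈ V, F i < T.n
  · have h5 : V.card ≤ (Finset.range α).card := by
      refine Finset.card_le_card_of_injOn (fun i => cov.getD (F i) 0) ?_ ?_
      · intro i hi
        exact Finset.mem_coe.2 (Finset.mem_range.2 (hcv' _ (hall i hi) (h2 i hi (hall i hi))))
      · intro i hi j hj he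
        exact hinj i hi j hj (hall i hi) (hall j hj) he
    rw [Finset.card_range] at h5
    omega
  · push Not at hall
    obtain ⟨i0, hi0, hF0⟩ := hall
    have hlt := h1 i0 hi0
    -- the other values
    have fin : ∀ m : ℕ, (∀ j ∈ V.erase i0, F j < T.n ∧ m.testBit (F j) = false) →
        ((List.range T.n).filter (fun a => !(m.testBit a) && !(T.sp.testBit a))).length < α → False := by
      intro m hm hlen
      have h5 : (V.erase i0).card ≤
          ((List.range T.n).filter (fun a => !(m.testBit a) && !(T.sp.testBit a))).toFinset.card := by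
        refine Finset.card_le_card_of_injOn F ?_ ?_
        · intro j hj
          obtain ⟨h6, h7⟩ := hm j hj
          have h8 := h2 j (Finset.mem_of_mem_erase hj) h6
          rw [Finset.mem_coe, List.mem_toFinset, List.mem_filter, List.mem_range, h7, h8]
          exact ⟨h6, rfl⟩
        · intro i hi j hj he
          have he' : F i = F j := he
          exact hinj i (Finset.mem_of_mem_erase hi) j (Finset.mem_of_mem_erase hj) (hm i hi).1 (hm j hj).1 (by rw [he'])
      have h6 := List.toFinset_card_le ((List.range T.n).filter (fun a => !(m.testBit a) && !(T.sp.testBit a)))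
      rw [Finset.card_erase_of_mem hi0] at h5
      omega
    rcases (show F i0 = T.n + 2 ∨ F i0 = T.n ∨ F i0 = T.n + 1 by omega) with h5 | h5
    · refine fin T.mv (fun j hj => ?_) hmv
      have h6 := h4 i0 hi0 j (Finset.mem_of_mem_erase hj) (Finset.ne_of_mem_erase hj).symm
      rw [h5] at h6
      exact al1_K hkv h6
    · have hv := h3 i0 hi0 h5
      rw [hv, Bool.not_true, Bool.false_or, Nat.blt_eq] at hnt
      refine fin T.nt (fun j hj => ?_) hnt
      exact al1_v hkv h5 (h4 i0 hi0 j (Finset.mem_of_mem_erase hj) (Finset.ne_of_mem_erase hj).symm)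

end Pig

/-! ### The tables -/

theorem pig_e8 : pigB tabE8 12 [0, 0, 0, 0, 0, 1, 2, 1, 3, 4, 5, 6, 7, 8, 9, 10, 11, 0] = true := by decide +kernel

theorem pig_e7 : pigB tabE7 8 [0, 0, 0, 1, 0, 2, 3, 1, 4, 2, 5, 6, 7] = true := by decide +kernel

theorem pig_e6 : pigB tabE6 5 [0, 0, 1, 0, 2, 0, 3, 4, 1] = true := by decide +kernel

theorem pig_te6 : pigB tabTE6 5 [0, 0, 0, 0, 1, 2, 3, 1, 4] = true := by decide +kernel

theorem pig_f4 : pigB tabF4 5 [0, 0, 0, 1, 2, 3, 4] = true := by decide +kernel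

theorem pig_tf4 : pigB tabTF4 5 [0, 0, 1, 2, 3, 4] = true := by decide +kernel

theorem pig_td4 : pigB tabTD4 3 [0, 0, 0, 1, 2] = true := by decide +kernel

theorem pig_g2 : pigB tabG2 3 [0, 0, 1, 2] = true := by decide +kernel

theorem pig_ree : pigB tabRee 4 [0, 1, 2, 3] = true := by decide +kernel

theorem pig_sz : pigB tabSz 3 [0, 1, 2] = true := by decide +kernel

section

variable {t : Fam} {p f : ℕ} {L : Type w} [Group L] [Finite L] {G : Type u} [Group G] [Finite G]
  {K : Subgroup G} [K.Normal] {S : Subgroup (G ⧸ K)} [S.Normal] {t' : Fam} {v f' : ℕ} {T : Tab} {k : ℕ → ℕ}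

theorem not_big_four {t : Fam} (h5 : Five t) : ¬ Big t 4 := by
  rintro ⟨-, -, hb⟩
  cases t with
  | psl n =>
    change n < 2 * 4 at hb
    change 9 ≤ n at h5
    omega
  | psu n =>
    change n < 2 * 4 at hb
    change 9 ≤ n at h5
    omega
  | psp n =>
    change n < 2 * 2 at hb
    change 7 ≤ n at h5
    omega
  | oodd n =>
    change n < 2 * 2 at hb
    change 7 ≤ n at h5
    omega
  | oplus n =>
    change n < 2 * 2 at hb
    change 7 ≤ n at h5
    omega
  | ominus n =>
    change n < 2 * 2 at hb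
    change 7 ≤ n at h5
    omega
  | _ => exact h5.elim

/-- **Many big classes.** -/
theorem EX.pig0 (h : EX t p f L G K S t' v f' T k) (h5 : Five t)
    (hgd : ∀ i, Big t i → ∃ y, Gd t (p ^ f) (Nat.card ↥K) S.index i y) {α : ℕ} {cov : List ℕ}
    (hT : pigB T α cov = true) (hb : α < (BigF t).card) : False := by
  classical
  choose! y hy using hgd
  obtain ⟨r1, r2, -⟩ := rel_of h.ls h.is h.rk3 h.ef (V := (BigF t).toList) (Finset.nodup_toList _)
    (fun i hi => ⟨(mem_BigF.1 (Finset.mem_toList.1 hi)).1, (mem_BigF.1 (Finset.mem_toList.1 hi)).2.1⟩)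
    (y := y) (fun i hi => hy i (mem_BigF.1 (Finset.mem_toList.1 hi)))
  have hdom : ∀ i ∈ BigF t, (Nat.blt (val T (Nat.card ↥K) v k (y i)) T.n ||
      val T (Nat.card ↥K) v k (y i) == T.n + 2 || T.vin) = true ∧
      T.sp.testBit (val T (Nat.card ↥K) v k (y i)) = false := by
    intro i hi
    obtain ⟨h1, h2⟩ := r1 i (Finset.mem_toList.2 hi)
    rw [Tab.dom, testBit_msk_of_mem (List.mem_range.2 h2), Bool.and_eq_true] at h1
    refine ⟨h1.1, ?_⟩
    have hi4 : (i == 4) = false := by
      rw [beq_eq_false_iff_ne]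
      rintro rfl
      exact not_big_four h5 (mem_BigF.1 hi)
    have h3 := h1.2
    rw [hi4, Bool.false_or] at h3
    cases h6 : T.sp.testBit (val T (Nat.card ↥K) v k (y i))
    · rfl
    · rw [h6] at h3; exact Bool.noConfusion h3
  refine Pig.core hT (V := BigF t) (F := fun i => val T (Nat.card ↥K) v k (y i))
    (fun i hi => (r1 i (Finset.mem_toList.2 hi)).2) (fun i hi _ => (hdom i hi).2) ?_ ?_ hb
  · intro i hi hv
    have h1 := (hdom i hi).1
    have h2 : Nat.blt (val T (Nat.card ↥K) v k (y i)) T.n = false := by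
      rw [← Bool.not_eq_true, Nat.blt_eq]
      rcases hv with hv | hv
      · have hv' : val T (Nat.card ↥K) v k (y i) = T.n := hv
        omega
      · have hv' : val T (Nat.card ↥K) v k (y i) = T.n + 1 := hv
        omega
    have h3 : (val T (Nat.card ↥K) v k (y i) == T.n + 2) = false := by
      rw [beq_eq_false_iff_ne]
      rcases hv with hv | hv
      · have hv' : val T (Nat.card ↥K) v k (y i) = T.n := hv
        omega
      · have hv' : val T (Nat.card ↥K) v k (y i) = T.n + 1 := hv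
        omega
    rw [h2, h3, Bool.false_or, Bool.false_or] at h1
    exact h1
  · intro i hi j hj hij
    have h1 := r2 i (Finset.mem_toList.2 hi) j (Finset.mem_toList.2 hj) hij
      (naB_of_na (na_of_big h.ls.cla (mem_BigF.1 hi) (mem_BigF.1 hj) hij))
    rw [tbl_m1 T (r1 i (Finset.mem_toList.2 hi)).2 (r1 j (Finset.mem_toList.2 hj)).2] at h1
    exact h1

/-- **Many big classes**, from the goodness of the big classes. -/
theorem EX.pig_of (h : EX t p f L G K S t' v f' T k) (h5 : Five t)
    (hgd : ∀ i y, In t (p ^ f) i y → Big t i → Gd t (p ^ f) (Nat.card ↥K) S.index i y) {α : ℕ} {cov : List ℕ}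
    (hT : pigB T α cov = true) (hb : α < (BigF t).card) : False := by
  refine h.pig0 h5 (fun i hi => ?_) hT hb
  have hq3 : 3 ≤ p ^ f := h.ls.q_three h.p2
  obtain ⟨y, hy, hyc⟩ := exists_cls (t := t) (q := p ^ f) (i := i) (by omega) hi.1 (by omega)
  exact ⟨y, hgd i y ⟨hy, hyc, hi.1, hi.2.1⟩ hi⟩

/-- **Large rank.** -/
theorem EX.pig (h : EX t p f L G K S t' v f' T k) (h5 : Five t) {α : ℕ} {cov : List ℕ} (hT : pigB T α cov = true)
    (hb : α < (BigF t).card) : False :=
  h.pig_of h5 (fun _ _ hy hb => h.gd_big h5 hy hb) hT hb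

end

/-! ### The number of the big classes -/

theorem card_one {t : Fam} {a b : ℕ} (h : ∀ j, a ≤ j → j ≤ b → Big t j) : b + 1 - a ≤ (BigF t).card := by
  rw [← Nat.card_Icc]
  exact Finset.card_le_card fun j hj => mem_BigF.2 (h j (Finset.mem_Icc.1 hj).1 (Finset.mem_Icc.1 hj).2)

theorem card_two {t : Fam} {a b c d : ℕ} (h1 : ∀ j, a ≤ j → j ≤ b → Big t (2 * j))
    (h2 : ∀ j, c ≤ j → j ≤ d → Big t (2 * j + 1)) : (b + 1 - a) + (d + 1 - c) ≤ (BigF t).card := by
  classical
  have e1 : ((Finset.Icc a b).image fun j => 2 * j).card = b + 1 - a := by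
    rw [Finset.card_image_of_injective _ (fun x y h => by
      have h' : 2 * x = 2 * y := h
      omega), Nat.card_Icc]
  have e2 : ((Finset.Icc c d).image fun j => 2 * j + 1).card = d + 1 - c := by
    rw [Finset.card_image_of_injective _ (fun x y h => by
      have h' : 2 * x + 1 = 2 * y + 1 := h
      omega), Nat.card_Icc]
  have hd : Disjoint ((Finset.Icc a b).image fun j => 2 * j) ((Finset.Icc c d).image fun j => 2 * j + 1) := by
    rw [Finset.disjoint_left]
    intro x hx hx'
    obtain ⟨y, -, rfl⟩ := Finset.mem_image.1 hx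
    obtain ⟨z, -, hz⟩ := Finset.mem_image.1 hx'
    have hz' : 2 * z + 1 = 2 * y := hz
    omega
  rw [← e1, ← e2, ← Finset.card_union_of_disjoint hd]
  refine Finset.card_le_card fun x hx => ?_
  rw [Finset.mem_union] at hx
  rcases hx with hx | hx
  · obtain ⟨y, hy, rfl⟩ := Finset.mem_image.1 hx
    exact mem_BigF.2 (h1 y (Finset.mem_Icc.1 hy).1 (Finset.mem_Icc.1 hy).2)
  · obtain ⟨y, hy, rfl⟩ := Finset.mem_image.1 hx
    exact mem_BigF.2 (h2 y (Finset.mem_Icc.1 hy).1 (Finset.mem_Icc.1 hy).2)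

theorem eta_dbl (j : ℕ) : eta (2 * j) = j := by
  rw [eta, if_pos (by omega)]
  omega

theorem eta_dbl_one (j : ℕ) : eta (2 * j + 1) = 2 * j + 1 := by
  rw [eta, if_neg (by omega)]

theorem card_psl {n : ℕ} (hn : 5 ≤ n) : n - n / 2 ≤ (BigF (.psl n)).card := by
  have h := card_one (t := .psl n) (a := n / 2 + 1) (b := n) fun j h1 h2 =>
    ⟨by omega, h2, (show n < 2 * j by omega)⟩
  omega

theorem card_psu {n : ℕ} (hn : 5 ≤ n) : n - n / 2 ≤ (BigF (.psu n)).card := by
  have h := card_one (t := .psu n) (a := n / 2 + 1) (b := n) fun j h1 h2 =>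
    ⟨by omega, h2, (show n < 2 * j by omega)⟩
  omega

theorem card_psp {n : ℕ} (hn : 5 ≤ n) : (n - n / 2) + ((n + 1) / 2 - (n / 2 + 1) / 2) ≤ (BigF (.psp n)).card := by
  have h := card_two (t := .psp n) (a := n / 2 + 1) (b := n) (c := (n / 2 + 1) / 2) (d := (n - 1) / 2)
    (fun j h1 h2 => ⟨by omega, (show eta (2 * j) ≤ n by rw [eta_dbl]; exact h2),
      (show n < 2 * eta (2 * j) by rw [eta_dbl]; omega)⟩)
    (fun j h1 h2 => ⟨by omega, (show eta (2 * j + 1) ≤ n by rw [eta_dbl_one]; omega),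
      (show n < 2 * eta (2 * j + 1) by rw [eta_dbl_one]; omega)⟩)
  omega

theorem card_oodd {n : ℕ} (hn : 5 ≤ n) : (n - n / 2) + ((n + 1) / 2 - (n / 2 + 1) / 2) ≤ (BigF (.oodd n)).card := by
  have h := card_two (t := .oodd n) (a := n / 2 + 1) (b := n) (c := (n / 2 + 1) / 2) (d := (n - 1) / 2)
    (fun j h1 h2 => ⟨by omega, (show eta (2 * j) ≤ n by rw [eta_dbl]; exact h2),
      (show n < 2 * eta (2 * j) by rw [eta_dbl]; omega)⟩)
    (fun j h1 h2 => ⟨by omega, (show eta (2 * j + 1) ≤ n by rw [eta_dbl_one]; omega),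
      (show n < 2 * eta (2 * j + 1) by rw [eta_dbl_one]; omega)⟩)
  omega

theorem card_oplus {n : ℕ} (hn : 5 ≤ n) :
    (n - 1 - n / 2) + ((n + 1) / 2 - (n / 2 + 1) / 2) ≤ (BigF (.oplus n)).card := by
  have h := card_two (t := .oplus n) (a := n / 2 + 1) (b := n - 1) (c := (n / 2 + 1) / 2) (d := (n - 1) / 2)
    (fun j h1 h2 => ⟨by omega, Or.inl (show eta (2 * j) + 1 ≤ n by rw [eta_dbl]; omega),
      (show n < 2 * eta (2 * j) by rw [eta_dbl]; omega)⟩)
    (fun j h1 h2 => ⟨by omega, (show eta (2 * j + 1) + 1 ≤ n ∨ (2 * j + 1 = n ∧ n % 2 = 1) by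
        rw [eta_dbl_one]; omega),
      (show n < 2 * eta (2 * j + 1) by rw [eta_dbl_one]; omega)⟩)
  omega

theorem card_ominus {n : ℕ} (hn : 5 ≤ n) :
    (n - n / 2) + (n / 2 - (n / 2 + 1) / 2) ≤ (BigF (.ominus n)).card := by
  have h := card_two (t := .ominus n) (a := n / 2 + 1) (b := n) (c := (n / 2 + 1) / 2) (d := n / 2 - 1)
    (fun j h1 h2 => ⟨by omega, (show eta (2 * j) + 1 ≤ n ∨ 2 * j = 2 * n by rw [eta_dbl]; omega),
      (show n < 2 * eta (2 * j) by rw [eta_dbl]; omega)⟩)
    (fun j h1 h2 => ⟨by omega, Or.inl (show eta (2 * j + 1) + 1 ≤ n by rw [eta_dbl_one]; omega),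
      (show n < 2 * eta (2 * j + 1) by rw [eta_dbl_one]; omega)⟩)
  omega

/-- more than 12 big classes -/
theorem big12 {t : Fam} (ht : (∃ n, 25 ≤ n ∧ (t = .psl n ∨ t = .psu n)) ∨ (∃ n, 17 ≤ n ∧ (t = .psp n ∨ t = .oodd n ∨ t = .ominus n)) ∨
    ∃ n, (n = 17 ∨ 19 ≤ n) ∧ t = .oplus n) : 12 < (BigF t).card := by
  rcases ht with ⟨n, hn, rfl | rfl⟩ | ⟨n, hn, rfl | rfl | rfl⟩ | ⟨n, hn, rfl⟩
  · have := card_psl (n := n) (by omega); omega
  · have := card_psu (n := n) (by omega); omega
  · have := card_psp (n := n) (by omega); omega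
  · have := card_oodd (n := n) (by omega); omega
  · have := card_ominus (n := n) (by omega); omega
  · have := card_oplus (n := n) (by omega); omega

/-- more than 8 big classes -/
theorem big8 {t : Fam} (ht : (∃ n, 17 ≤ n ∧ (t = .psl n ∨ t = .psu n)) ∨ (∃ n, 11 ≤ n ∧ (t = .psp n ∨ t = .oodd n)) ∨
    (∃ n, 13 ≤ n ∧ t = .oplus n) ∨ ∃ n, 12 ≤ n ∧ t = .ominus n) : 8 < (BigF t).card := by
  rcases ht with ⟨n, hn, rfl | rfl⟩ | ⟨n, hn, rfl | rfl⟩ | ⟨n, hn, rfl⟩ | ⟨n, hn, rfl⟩
  · have := card_psl (n := n) (by omega); omega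
  · have := card_psu (n := n) (by omega); omega
  · have := card_psp (n := n) (by omega); omega
  · have := card_oodd (n := n) (by omega); omega
  · have := card_oplus (n := n) (by omega); omega
  · have := card_ominus (n := n) (by omega); omega

/-- more than 5 big classes -/
theorem big5 {t : Fam} (ht : (∃ n, 11 ≤ n ∧ (t = .psl n ∨ t = .psu n)) ∨ (∃ n, 8 ≤ n ∧ (t = .psp n ∨ t = .oodd n)) ∨
    (∃ n, 9 ≤ n ∧ t = .oplus n) ∨ ∃ n, 8 ≤ n ∧ t = .ominus n) : 5 < (BigF t).card := by
  rcases ht with ⟨n, hn, rfl | rfl⟩ | ⟨n, hn, rfl | rfl⟩ | ⟨n, hn, rfl⟩ | ⟨n, hn, rfl⟩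
  · have := card_psl (n := n) (by omega); omega
  · have := card_psu (n := n) (by omega); omega
  · have := card_psp (n := n) (by omega); omega
  · have := card_oodd (n := n) (by omega); omega
  · have := card_oplus (n := n) (by omega); omega
  · have := card_ominus (n := n) (by omega); omega

/-- more than 4 big classes -/
theorem big4 {t : Fam} (ht : Five t) : 4 < (BigF t).card := card_BigF ht

end Cfsg.Agent.R2.Spec.EE
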