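import Cfsg.Agent.R2.Spec.EE.Fr
import Cfsg.Agent.R2.Spec.EE.NumA
import Cfsg.Agent.R2.Spec.EE.NumAr
import Cfsg.Agent.R2.Spec.EE.NumC
import Cfsg.Agent.R2.Spec.EE.NumD
import Cfsg.Agent.R2.Spec.EE.NumE
import Cfsg.Agent.R2.Spec.EE.NumEM
import Cfsg.Agent.R2.Spec.EE.NumF
import Cfsg.Agent.R2.Spec.EE.Big
import Cfsg.Agent.R2.Spec.EE.RowN

/-!
# The surviving rows with `S = E₇(u)` (helper16, packet P5 of EE)

* `classM` : the numbers of a class;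
* `e7_core` : `M ≤ 2 u ^ 6`;
* `e7_psl9`, `e7_psu9`, `e7_psl10`, `e7_psu10`, `e7_psp8`, `e7_oodd8`, `e7_ominus8`, `e7_oplus8`.
-/

set_option autoImplicit false
set_option linter.unusedSectionVars false
set_option linter.unusedVariables false

namespace Cfsg.Agent.R2.Spec.EE

open Subgroup Cfsg
open Cfsg.Agent.H426.LieFam Cfsg.Agent.R2.Spec Cfsg.Agent.R2.Spec.P1 Cfsg.Agent.R2.Spec.F1
open Cfsg.Agent.H420.QR NumPoly

universe u w

/-- the numbers of the class `i` -/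
theorem classM {t : Fam} (ht : Classical t) {q i M : ℕ} (hq : 2 ≤ q) (hi : 3 ≤ i) (hm : mem t i)
    (hM : (M : ℤ) ∣ (Polynomial.cyclotomic i ℤ).eval (sg t q)) (hMi : ∀ r : ℕ, r.Prime → r ∣ M → ¬ r ∣ i) :
    M ∣ tnum t q i ∧ ∀ r : ℕ, r.Prime → r ∣ M → In t q i r := by
  have hcl : ∀ r : ℕ, r.Prime → r ∣ M → cls t q r = i := by
    intro r hr hrM
    by_contra hne
    apply sg_not_dvd (t := t) (q := q) hr (hMi r hr hrM) hne
    rw [← Int.natCast_dvd]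
    exact (Int.natCast_dvd_natCast.2 hrM).trans hM
  refine ⟨?_, fun r hr hrM => ⟨hr, hcl r hr hrM, hi, hm⟩⟩
  have h1 : (M : ℤ) ∣ (sg t q) ^ i - 1 := by
    refine hM.trans ?_
    have := Polynomial.eval_dvd (x := sg t q) (Polynomial.cyclotomic.dvd_X_pow_sub_one i ℤ)
    simpa using this
  have hq1 : ∀ j : ℕ, 1 ≤ q ^ j := fun j => Nat.one_le_pow _ _ (by omega)
  have hcast : ∀ j : ℕ, ((q ^ j - 1 : ℕ) : ℤ) = (q : ℤ) ^ j - 1 := fun j => by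
    rw [Nat.cast_sub (hq1 j)]; push_cast; rfl
  by_cases hpsu : ∀ n, t ≠ .psu n
  · have hs : sg t q = (q : ℤ) := by
      unfold sg
      split
      · exact absurd rfl (hpsu _)
      · rfl
    rw [hs, ← hcast] at h1
    have h2 : M ∣ q ^ i - 1 := Int.natCast_dvd_natCast.1 h1
    by_cases hpsl : ∀ n, t ≠ .psl n
    · rw [tnum_tn hpsl hpsu]
      unfold Cfsg.Agent.H72.AdjOrth.tn
      split_ifs with he
      · obtain ⟨j, hj⟩ := he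
        have hj' : i / 2 = j := by omega
        rw [hj']
        have hij : i = 2 * j := by omega
        refine dvd_plus (by omega) (by omega) (hij ▸ h2) fun r hr hrM => ?_
        have h3 := hcl r hr hrM
        rw [cls, hs, Int.cast_natCast] at h3
        rw [h3, hij]
      · exact h2
    · push Not at hpsl
      obtain ⟨m, rfl⟩ := hpsl
      exact h2
  · push Not at hpsu
    obtain ⟨m, rfl⟩ := hpsu
    have hs : sg (.psu m) q = -(q : ℤ) := rfl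
    rw [hs] at h1
    show M ∣ if Even i then q ^ i - 1 else q ^ i + 1
    split_ifs with he
    · rw [he.neg_pow, ← hcast] at h1
      exact Int.natCast_dvd_natCast.1 h1
    · rw [(Nat.not_even_iff_odd.1 he).neg_pow] at h1
      have e : -(q : ℤ) ^ i - 1 = -((q ^ i + 1 : ℕ) : ℤ) := by push_cast; ring
      rw [e, dvd_neg] at h1
      exact Int.natCast_dvd_natCast.1 h1

section

variable {t : Fam} {p f : ℕ} {L : Type w} [Group L] [Finite L] {G : Type u} [Group G] [Finite G]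
  {K : Subgroup G} [K.Normal] {S : Subgroup (G ⧸ K)} [S.Normal] {v f' : ℕ}

theorem mask7 : ∀ x < 16, (8144 : ℕ).testBit x = true → x < 13 ∧ clE7.getD x 0 ∈ A7 := by decide

/-- **The size of `M`.** -/
theorem e7_core (h : EX t p f L G K S .e7 v f' tabE7 (kcl clE7 (v ^ f')))
    (hgd : ∀ i ∈ cls3 t, ∃ y, Gd t (p ^ f) (Nat.card ↥K) S.index i y) {i0 : ℕ} (hi0 : 3 ≤ i0) (hm : mem t i0)
    (hbg : ∀ y, In t (p ^ f) i0 y → Gd t (p ^ f) (Nat.card ↥K) S.index i0 y)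
    (hbi : ∀ y, In t (p ^ f) i0 y → ¬ y ∣ Nat.card ↥K → ¬ y ∣ S.index)
    (hk : (dat tabE7.tbl t (cls3 t)).go (cls3 t).length (st0 tabE7.tbl (cls3 t) (tabE7.domX i0 8144)) 0 = false)
    {M : ℕ} (hMo : Odd M) (hMd : (M : ℤ) ∣ (Polynomial.cyclotomic i0 ℤ).eval (sg t (p ^ f)))
    (hMi : ∀ r : ℕ, r.Prime → r ∣ M → ¬ r ∣ i0) : M ≤ 2 * (v ^ f') ^ 6 := by
  obtain ⟨hMt, hMI⟩ := classM h.ls.cla h.ls.q_pos hi0 hm hMd hMi
  obtain ⟨x, hx⟩ : ∃ x : L, orderOf x = M :=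
    (torFacts h.ls.cla h.ls.prime h.is).tor i0 M hi0 hm hMo (fun r hr hrM => by rw [(hMI r hr hrM).cls_eq]; exact hi0) hMt
  obtain ⟨g, hg⟩ := (h.ls.ord M).2 ⟨x, hx⟩
  have key : ∀ y : ℕ, y.Prime → y ∣ M → y ≠ v ∧ ¬ y ∣ Nat.card ↥K ∧ clE7.getD (kcl clE7 (v ^ f') y) 0 ∈ A7 := by
    intro y hy hyM
    have h1 := h.row_val hgd hk (hbg y (hMI y hy hyM))
    have hlt : val tabE7 (Nat.card ↥K) v (kcl clE7 (v ^ f')) y < 16 := by
      by_contra hcon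
      push Not at hcon
      have h2 : (8144 : ℕ).testBit (val tabE7 (Nat.card ↥K) v (kcl clE7 (v ^ f')) y) = false := by
        apply Nat.testBit_lt_two_pow
        calc 8144 < 2 ^ 16 := by norm_num
          _ ≤ _ := Nat.pow_le_pow_right (by norm_num) hcon
      rw [h2] at h1
      exact Bool.noConfusion h1
    obtain ⟨h2, h3⟩ := mask7 _ hlt h1
    have h4 : y ≠ v := by
      intro h5
      rw [val, if_pos h5] at h2
      split_ifs at h2 <;> exact absurd h2 (by decide)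
    have h5 : ¬ y ∣ Nat.card ↥K := by
      intro h5
      rw [val, if_neg h4, if_pos h5] at h2
      exact absurd h2 (by decide)
    rw [val, if_neg h4, if_neg h5] at h3
    exact ⟨h4, h5, h3⟩
  exact numA7_le h.frm.prime h.frm.is hg (fun y hy hyM => (key y hy hyM).2.1)
    (fun y hy hyM => hbi y (hMI y hy hyM) (key y hy hyM).2.1) (fun y hy hyM => ⟨(hMI y hy hyM).five, (key y hy hyM).1⟩)
    (fun y hy hyM => (key y hy hyM).2.2)


/-! ### the arithmetic -/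

/-- removing a prime -/
theorem split_M {W P : ℕ} (hP : P.Prime) (h2 : ¬ P ^ 2 ∣ W) : ∃ M, M ∣ W ∧ ¬ P ∣ M ∧ ((W = M ∧ ¬ P ∣ W) ∨ (W = P * M ∧ P ∣ W)) := by
  by_cases h : P ∣ W
  · obtain ⟨M, hM⟩ := h
    refine ⟨M, ⟨P, by rw [hM, mul_comm]⟩, ?_, Or.inr ⟨hM, ⟨M, hM⟩⟩⟩
    intro h3
    apply h2
    rw [hM, sq]
    exact Nat.mul_dvd_mul_left P h3
  · exact ⟨W, dvd_rfl, h, Or.inl ⟨rfl, h⟩⟩

theorem q_facts {G : Type u} [Group G] [Finite G] {t : Fam} {p f : ℕ} {L : Type w} [Group L] [Finite L]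
    (h : LS t p f L G) (hp2 : p ≠ 2) : (p ^ f) % 2 = 1 ∧ 3 ≤ p ^ f := by
  have hp := h.prime
  have h1 : 3 ≤ p := by have := hp.two_le; omega
  refine ⟨?_, h1.trans (Nat.le_self_pow (by have := h.fpos; omega) p)⟩
  rw [← Nat.odd_iff]
  exact (hp.odd_of_ne_two hp2).pow

/-- `M = Φ₉(q) / (3, q - 1)` -/
theorem num9 {q : ℕ} (hodd : q % 2 = 1) : ∃ M : ℕ, Odd M ∧ M ∣ q ^ 6 + q ^ 3 + 1 ∧ ¬ 3 ∣ M ∧
    ∀ U : ℕ, M ≤ U → (q % 3 = 1 ∧ q ^ 6 + q ^ 3 + 1 ≤ 3 * U) ∨ q ^ 6 + q ^ 3 + 1 ≤ U := by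
  have hz9 : ∀ a : ZMod 9, a ^ 6 + a ^ 3 + 1 ≠ 0 := by decide
  have hz3 : ∀ a : ZMod 3, a ^ 6 + a ^ 3 + 1 = 0 → a = 1 := by decide
  obtain ⟨M, hM, h3M, hc⟩ := split_M (W := q ^ 6 + q ^ 3 + 1) Nat.prime_three (by
    intro h
    have h9 : 9 ∣ q ^ 6 + q ^ 3 + 1 := by simpa using h
    have h1 : ((q ^ 6 + q ^ 3 + 1 : ℕ) : ZMod 9) = 0 := (ZMod.natCast_eq_zero_iff _ _).2 h9
    push_cast at h1
    exact hz9 _ h1)
  have hWo : Odd (q ^ 6 + q ^ 3 + 1) := by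
    rw [Nat.odd_iff]
    simp [Nat.add_mod, Nat.pow_mod, hodd]
  refine ⟨M, Odd.of_dvd_nat hWo hM, hM, h3M, fun U hU => ?_⟩
  rcases hc with ⟨h1, -⟩ | ⟨h1, h2⟩
  · right
    omega
  · left
    refine ⟨?_, by omega⟩
    have h4 : ((q ^ 6 + q ^ 3 + 1 : ℕ) : ZMod 3) = 0 := (ZMod.natCast_eq_zero_iff _ _).2 h2
    push_cast at h4
    have h5 := hz3 _ h4
    have h6 : ((q : ℕ) : ZMod 3) = ((1 : ℕ) : ZMod 3) := by rw [h5]; rfl
    rw [ZMod.natCast_eq_natCast_iff'] at h6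
    omega

/-- `M = Φ₁₈(q) / (3, q + 1)` -/
theorem num18 {q : ℕ} (hq : 1 ≤ q) (hodd : q % 2 = 1) : ∃ M : ℕ, Odd M ∧ M ∣ q ^ 6 - q ^ 3 + 1 ∧ ¬ 3 ∣ M ∧
    ∀ U : ℕ, M ≤ U → q ^ 6 - q ^ 3 + 1 ≤ 3 * U := by
  have hle : q ^ 3 ≤ q ^ 6 := Nat.pow_le_pow_right hq (by norm_num)
  obtain ⟨W, hW⟩ : ∃ W, W = q ^ 6 - q ^ 3 + 1 := ⟨_, rfl⟩
  have hW' : W + q ^ 3 = q ^ 6 + 1 := by omega
  have hm9 : W % 9 ≠ 0 := by
    intro h0
    have h9 : q % 9 = 0 ∨ q % 9 = 1 ∨ q % 9 = 2 ∨ q % 9 = 3 ∨ q % 9 = 4 ∨ q % 9 = 5 ∨ q % 9 = 6 ∨ q % 9 = 7 ∨ q % 9 = 8 := by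
      omega
    have h1 : (W + q ^ 3) % 9 = (q ^ 6 + 1) % 9 := by rw [hW']
    rcases h9 with h | h | h | h | h | h | h | h | h <;> simp [Nat.add_mod, Nat.pow_mod, h, h0] at h1
  obtain ⟨M, hM, h3M, hc⟩ := split_M (W := W) Nat.prime_three (by
    intro h
    have : 9 ∣ W := by simpa using h
    omega)
  have hWo : Odd W := by
    rw [Nat.odd_iff]
    have h1 : (W + q ^ 3) % 2 = (q ^ 6 + 1) % 2 := by rw [hW']
    have h2 : q ^ 3 % 2 = 1 := by rw [Nat.pow_mod, hodd]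
    have h3 : q ^ 6 % 2 = 1 := by rw [Nat.pow_mod, hodd]
    omega
  refine ⟨M, Odd.of_dvd_nat hWo hM, hW ▸ hM, h3M, fun U hU => ?_⟩
  rw [← hW]
  rcases hc with ⟨h1, -⟩ | ⟨h1, h2⟩ <;> omega

/-- `M = (q ^ 8 + 1) / 2` -/
theorem num16 {q : ℕ} (hodd : q % 2 = 1) : ∃ M : ℕ, Odd M ∧ M ∣ q ^ 8 + 1 ∧ q ^ 8 + 1 = 2 * M := by
  have h4 : (q ^ 8 + 1) % 4 = 2 := by
    have h : q % 4 = 1 ∨ q % 4 = 3 := by omega
    rcases h with h | h <;> simp [Nat.add_mod, Nat.pow_mod, h]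
  refine ⟨(q ^ 8 + 1) / 2, ?_, ⟨2, by omega⟩, by omega⟩
  rw [Nat.odd_iff]
  omega

end

section

variable {p f : ℕ} {L : Type w} [Group L] [Finite L] {G : Type u} [Group G] [Finite G]
  {K : Subgroup G} [K.Normal] {S : Subgroup (G ⧸ K)} [S.Normal] {v f' : ℕ}

theorem ev9 (x : ℤ) : (Polynomial.cyclotomic 9 ℤ).eval x = x ^ 6 + x ^ 3 + 1 := by
  rw [cl_all (by decide) x]
  simp only [NumPoly.cl, NumPoly.ev]
  ring

theorem ev7 (x : ℤ) : (Polynomial.cyclotomic 7 ℤ).eval x = x ^ 6 + x ^ 5 + x ^ 4 + x ^ 3 + x ^ 2 + x + 1 := by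
  rw [cl_all (by decide) x]
  simp only [NumPoly.cl, NumPoly.ev]
  ring

theorem ev14 {x : ℤ} (hx : 0 ≤ x) :
    (Polynomial.cyclotomic 14 ℤ).eval x = x ^ 6 - x ^ 5 + x ^ 4 - x ^ 3 + x ^ 2 - x + 1 := by
  rw [cl_pos (by decide) hx]
  simp only [NumPoly.cl, NumPoly.ev]
  ring

theorem ev16 (x : ℤ) : (Polynomial.cyclotomic 16 ℤ).eval x = x ^ 8 + 1 := by
  rw [eval_16 x]
  simp only [NumPoly.cl, NumPoly.ev]
  ring

theorem not_three_dvd_nine {M : ℕ} (h : ¬ 3 ∣ M) : ∀ r : ℕ, r.Prime → r ∣ M → ¬ r ∣ 9 := by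
  intro r hr hrM hr9
  have h1 : r ∣ 3 := hr.dvd_of_dvd_pow (n := 2) (by simpa using hr9)
  have h2 := (Nat.prime_dvd_prime_iff_eq hr Nat.prime_three).1 h1
  exact h (h2 ▸ hrM)

theorem not_dvd_sixteen {M : ℕ} (h : Odd M) : ∀ r : ℕ, r.Prime → r ∣ M → ¬ r ∣ 16 := by
  intro r hr hrM hr9
  have h1 : r ∣ 2 := hr.dvd_of_dvd_pow (n := 4) (by simpa using hr9)
  have h2 := (Nat.prime_dvd_prime_iff_eq hr Nat.prime_two).1 h1
  rw [h2] at hrM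
  rw [Nat.odd_iff] at h
  omega

/-- the linear groups -/
theorem e7_psl {n : ℕ} (hn : n = 9 ∨ n = 10) (h : EX (.psl n) p f L G K S .e7 v f' tabE7 (kcl clE7 (v ^ f')))
    (hgd : ∀ i ∈ cls3 (.psl n), ∃ y, Gd (.psl n) (p ^ f) (Nat.card ↥K) S.index i y)
    (hbg : ∀ y, In (.psl n) (p ^ f) 9 y → Gd (.psl n) (p ^ f) (Nat.card ↥K) S.index 9 y)
    (hbi : ∀ y, In (.psl n) (p ^ f) 9 y → ¬ y ∣ Nat.card ↥K → ¬ y ∣ S.index)
    (hk : (dat tabE7.tbl (.psl n) (cls3 (.psl n))).go (cls3 (.psl n)).length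
      (st0 tabE7.tbl (cls3 (.psl n)) (tabE7.domX 9 8144)) 0 = false) : False := by
  obtain ⟨hodd, hq3⟩ := q_facts h.ls h.p2
  have hu := field_two (Or.inr rfl) h.frm.is
  obtain ⟨M, hMo, hMd, hM3, hM⟩ := num9 (q := p ^ f) hodd
  have h1 := e7_core h hgd (i0 := 9) (by norm_num) (show 9 ≤ n by omega) hbg hbi hk hMo (by
    rw [ev9]
    have e : (sg (.psl n) (p ^ f)) ^ 6 + (sg (.psl n) (p ^ f)) ^ 3 + 1 = (((p ^ f) ^ 6 + (p ^ f) ^ 3 + 1 : ℕ) : ℤ) := by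
      push_cast
      rfl
    rw [e]
    exact Int.natCast_dvd_natCast.2 hMd) (not_three_dvd_nine hM3)
  have hB := bigB7 h.ls h.is h.p2 h.frm.is
  refine n4L (q := p ^ f) (u := v ^ f') hq3 hodd hu (hM _ h1) (hB.trans ?_)
  refine Nat.mul_le_mul_left _ ?_
  rcases hn with rfl | rfl
  · have h2 := RR_psl9 (q := p ^ f) hq3
    have h3 : (p ^ f) ^ 28 ≤ (p ^ f) ^ 32 := Nat.pow_le_pow_right (by omega) (by norm_num)
    exact Nat.mul_le_mul (Nat.mul_le_mul_right _ (by show 2 * 9 ≤ 2 * 10; norm_num)) (h2.trans (Nat.mul_le_mul_left _ h3))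
  · have h2 := RR_psl10 (q := p ^ f) hq3
    exact Nat.mul_le_mul_left _ (h2.trans (Nat.mul_le_mul_right _ (by norm_num)))

/-- the unitary groups -/
theorem e7_psu {n : ℕ} (hn : n = 9 ∨ n = 10) (h : EX (.psu n) p f L G K S .e7 v f' tabE7 (kcl clE7 (v ^ f')))
    (hgd : ∀ i ∈ cls3 (.psu n), ∃ y, Gd (.psu n) (p ^ f) (Nat.card ↥K) S.index i y)
    (hbg : ∀ y, In (.psu n) (p ^ f) 9 y → Gd (.psu n) (p ^ f) (Nat.card ↥K) S.index 9 y)
    (hbi : ∀ y, In (.psu n) (p ^ f) 9 y → ¬ y ∣ Nat.card ↥K → ¬ y ∣ S.index)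
    (hk : (dat tabE7.tbl (.psu n) (cls3 (.psu n))).go (cls3 (.psu n)).length
      (st0 tabE7.tbl (cls3 (.psu n)) (tabE7.domX 9 8144)) 0 = false) : False := by
  obtain ⟨hodd, hq3⟩ := q_facts h.ls h.p2
  have hu := field_two (Or.inr rfl) h.frm.is
  obtain ⟨M, hMo, hMd, hM3, hM⟩ := num18 (q := p ^ f) (by omega) hodd
  have hle : (p ^ f) ^ 3 ≤ (p ^ f) ^ 6 := Nat.pow_le_pow_right (by omega) (by norm_num)
  have hc : (((p ^ f) ^ 6 - (p ^ f) ^ 3 + 1 : ℕ) : ℤ) = ((p ^ f : ℕ) : ℤ) ^ 6 - ((p ^ f : ℕ) : ℤ) ^ 3 + 1 := by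
    rw [Nat.cast_add, Nat.cast_sub hle]
    push_cast
    ring
  have h1 := e7_core h hgd (i0 := 9) (by norm_num) (show 9 ≤ n by omega) hbg hbi hk hMo (by
    rw [ev9]
    have e : (sg (.psu n) (p ^ f)) ^ 6 + (sg (.psu n) (p ^ f)) ^ 3 + 1 = (((p ^ f) ^ 6 - (p ^ f) ^ 3 + 1 : ℕ) : ℤ) := by
      rw [hc]
      show (-((p ^ f : ℕ) : ℤ)) ^ 6 + (-((p ^ f : ℕ) : ℤ)) ^ 3 + 1 = _
      ring
    rw [e]
    exact Int.natCast_dvd_natCast.2 hMd) (not_three_dvd_nine hM3)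
  have hB := bigB7 h.ls h.is h.p2 h.frm.is
  refine n4U (q := p ^ f) (u := v ^ f') hq3 hodd hu ?_ (hB.trans ?_)
  · rw [← hc]
    exact_mod_cast hM _ h1
  refine Nat.mul_le_mul_left _ ?_
  rcases hn with rfl | rfl
  · have h2 := RR_psu9 (q := p ^ f) hq3
    have h3 : (p ^ f) ^ 28 ≤ (p ^ f) ^ 32 := Nat.pow_le_pow_right (by omega) (by norm_num)
    exact Nat.mul_le_mul (Nat.mul_le_mul_right _ (by show 2 * 9 ≤ 2 * 10; norm_num)) (h2.trans h3)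
  · exact Nat.mul_le_mul_left _ (RR_psu10 (q := p ^ f) hq3)

/-- the class 16 -/
theorem e7_sixteen {t : Fam} (hr : rk t = 8) (hs : sg t (p ^ f) = ((p ^ f : ℕ) : ℤ)) (hm : mem t 16)
    (hR : ∀ {q : ℕ}, 3 ≤ q → RR t q ≤ 2 * q ^ 44)
    (h : EX t p f L G K S .e7 v f' tabE7 (kcl clE7 (v ^ f')))
    (hgd : ∀ i ∈ cls3 t, ∃ y, Gd t (p ^ f) (Nat.card ↥K) S.index i y)
    (hbg : ∀ y, In t (p ^ f) 16 y → Gd t (p ^ f) (Nat.card ↥K) S.index 16 y)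
    (hbi : ∀ y, In t (p ^ f) 16 y → ¬ y ∣ Nat.card ↥K → ¬ y ∣ S.index)
    (hk : (dat tabE7.tbl t (cls3 t)).go (cls3 t).length (st0 tabE7.tbl (cls3 t) (tabE7.domX 16 8144)) 0 = false) :
    False := by
  obtain ⟨hodd, hq3⟩ := q_facts h.ls h.p2
  have hu := field_two (Or.inr rfl) h.frm.is
  obtain ⟨M, hMo, hMd, hM⟩ := num16 (q := p ^ f) hodd
  have h1 := e7_core h hgd (i0 := 16) (by norm_num) hm hbg hbi hk hMo (by
    rw [ev16, hs]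
    exact_mod_cast Int.natCast_dvd_natCast.2 hMd) (not_dvd_sixteen hMo)
  have hB := bigB7 h.ls h.is h.p2 h.frm.is
  rw [hr] at hB
  exact n5 (q := p ^ f) (u := v ^ f') hq3 hodd hu (by rw [hM]; exact Nat.mul_le_mul_left _ h1)
    (hB.trans (Nat.mul_le_mul_left _ (Nat.mul_le_mul_left _ (hR hq3))))

/-- `PΩ⁺₁₆` -/
theorem e7_oplus8 (h : EX (.oplus 8) p f L G K S .e7 v f' tabE7 (kcl clE7 (v ^ f')))
    (hgd : ∀ i ∈ cls3 (.oplus 8), ∃ y, Gd (.oplus 8) (p ^ f) (Nat.card ↥K) S.index i y)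
    (hbg : ∀ i y, Big (.oplus 8) i → In (.oplus 8) (p ^ f) i y → Gd (.oplus 8) (p ^ f) (Nat.card ↥K) S.index i y)
    (hbi : ∀ i y, Big (.oplus 8) i → In (.oplus 8) (p ^ f) i y → ¬ y ∣ Nat.card ↥K → ¬ y ∣ S.index)
    (hk : (dat tabE7.tbl (.oplus 8) (cls3 (.oplus 8))).go (cls3 (.oplus 8)).length
      (st0 tabE7.tbl (cls3 (.oplus 8)) (tabE7.domX 7 8144)) 0 = false)
    (hk' : (dat tabE7.tbl (.oplus 8) (cls3 (.oplus 8))).go (cls3 (.oplus 8)).length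
      (st0 tabE7.tbl (cls3 (.oplus 8)) (tabE7.domX 14 8144)) 0 = false) : False := by
  obtain ⟨hodd, hq3⟩ := q_facts h.ls h.p2
  have hu := field_two (Or.inr rfl) h.frm.is
  have hB := bigB7M h.ls h.is h.p2 nb_oplus8 h.frm.is
  obtain ⟨q, hq⟩ : ∃ q, q = p ^ f := ⟨_, rfl⟩
  have h33 : ¬ (v ^ f' = 3 ∧ p ^ f = 3) := by
    rintro ⟨h1, h2⟩
    have h3 : ∀ {r e : ℕ}, r.Prime → r ^ e = 3 → r = 3 := by
      intro r e hr he
      have h4 : e ≠ 0 := by rintro rfl; rw [pow_zero] at he; omega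
      exact (Nat.prime_dvd_prime_iff_eq hr Nat.prime_three).1 (he ▸ dvd_pow_self r h4)
    exact h.vp ((h3 h.frm.prime h1).trans (h3 h.ls.prime h2).symm)
  have hRM := RM_oplus8 (q := p ^ f) hq3
  have fin : (((p ^ f : ℕ) : ℤ)) ^ 6 - ((p ^ f : ℕ) : ℤ) ^ 5 + ((p ^ f : ℕ) : ℤ) ^ 4 - ((p ^ f : ℕ) : ℤ) ^ 3 +
      ((p ^ f : ℕ) : ℤ) ^ 2 - ((p ^ f : ℕ) : ℤ) + 1 ≤ 2 * ((v ^ f' : ℕ) : ℤ) ^ 6 → False := fun hA =>
    n6 (q := p ^ f) (u := v ^ f') hq3 hodd hu h33 hA (hB.trans (Nat.mul_le_mul_left _ (Nat.mul_le_mul_left _ hRM)))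
  rw [← hq] at hodd hq3 fin
  have hs : sg (.oplus 8) (p ^ f) = (q : ℤ) := by rw [hq]; rfl
  have hqZ : (3 : ℤ) ≤ q := by exact_mod_cast hq3
  have hsq : ∀ n : ℕ, q ^ n % 2 = 1 := fun n => by
    rw [← Nat.odd_iff]
    exact (Nat.odd_iff.2 hodd).pow
  by_cases h7 : 7 ∣ q ^ 6 + q ^ 5 + q ^ 4 + q ^ 3 + q ^ 2 + q + 1
  · -- the class 14
    obtain ⟨M, hM⟩ : ∃ M : ℕ, (M : ℤ) = (q : ℤ) ^ 6 - q ^ 5 + q ^ 4 - q ^ 3 + q ^ 2 - q + 1 := by
      refine ⟨((q : ℤ) ^ 6 - q ^ 5 + q ^ 4 - q ^ 3 + q ^ 2 - q + 1).toNat, Int.toNat_of_nonneg ?_⟩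
      have e : (q : ℤ) ^ 6 - q ^ 5 + q ^ 4 - q ^ 3 + q ^ 2 - q + 1 = (q ^ 5 + q ^ 3 + q) * (q - 1) + 1 := by ring
      rw [e]
      have : (0 : ℤ) ≤ (q : ℤ) - 1 := by linarith
      positivity
    have hMo : Odd M := by
      rw [Nat.odd_iff]
      have h1 : (M : ℤ) + q ^ 5 + q ^ 3 + q = q ^ 6 + q ^ 4 + q ^ 2 + 1 := by rw [hM]; ring
      have h2 : M + q ^ 5 + q ^ 3 + q = q ^ 6 + q ^ 4 + q ^ 2 + 1 := by exact_mod_cast h1
      have h3 := hsq 6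
      have h4 := hsq 5
      have h5 := hsq 4
      have h6 := hsq 3
      have h8 := hsq 2
      omega
    have h7M : ¬ 7 ∣ M := by
      intro hd
      have h1 : q % 7 = 1 := by
        have h9 : q % 7 = 0 ∨ q % 7 = 1 ∨ q % 7 = 2 ∨ q % 7 = 3 ∨ q % 7 = 4 ∨ q % 7 = 5 ∨ q % 7 = 6 := by omega
        have h4 : (q ^ 6 + q ^ 5 + q ^ 4 + q ^ 3 + q ^ 2 + q + 1) % 7 = 0 := Nat.mod_eq_zero_of_dvd h7
        rcases h9 with h | h | h | h | h | h | h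
        · simp [Nat.add_mod, Nat.pow_mod, h] at h4
        · exact h
        all_goals simp [Nat.add_mod, Nat.pow_mod, h] at h4
      have h2 : (M : ℤ) + q ^ 5 + q ^ 3 + q = q ^ 6 + q ^ 4 + q ^ 2 + 1 := by rw [hM]; ring
      have h3 : M + q ^ 5 + q ^ 3 + q = q ^ 6 + q ^ 4 + q ^ 2 + 1 := by exact_mod_cast h2
      have h4 : (M + q ^ 5 + q ^ 3 + q) % 7 = (q ^ 6 + q ^ 4 + q ^ 2 + 1) % 7 := by rw [h3]
      have h5 : M % 7 = 0 := Nat.mod_eq_zero_of_dvd hd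
      simp [Nat.add_mod, Nat.pow_mod, h1, h5] at h4
    have hb : Big (.oplus 8) 14 := ⟨by norm_num, by left; decide, by decide⟩
    have h1 := e7_core h hgd (i0 := 14) (by norm_num) hb.2.1 (fun y => hbg 14 y hb) (fun y => hbi 14 y hb) hk' hMo (by
      rw [hs, ev14 (by linarith), ← hM]) (by
      intro r hr hrM hr14
      rcases (hr.dvd_mul.1 (show r ∣ 2 * 7 from hr14)) with h5 | h5
      · have h6 := (Nat.prime_dvd_prime_iff_eq hr Nat.prime_two).1 h5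
        rw [h6] at hrM
        rw [Nat.odd_iff] at hMo
        omega
      · have h6 := (Nat.prime_dvd_prime_iff_eq hr (by norm_num)).1 h5
        exact h7M (h6 ▸ hrM))
    apply fin
    rw [← hM]
    exact_mod_cast h1
  · -- the class 7
    have hMo : Odd (q ^ 6 + q ^ 5 + q ^ 4 + q ^ 3 + q ^ 2 + q + 1) := by
      rw [Nat.odd_iff]
      have h3 := hsq 6
      have h4 := hsq 5
      have h5 := hsq 4
      have h6 := hsq 3
      have h8 := hsq 2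
      omega
    have hb : Big (.oplus 8) 7 := ⟨by norm_num, by left; decide, by decide⟩
    have h1 := e7_core h hgd (i0 := 7) (by norm_num) hb.2.1 (fun y => hbg 7 y hb) (fun y => hbi 7 y hb) hk hMo (by
      rw [hs, ev7]
      push_cast
      exact dvd_rfl) (by
      intro r hr hrM hr7
      have h6 := (Nat.prime_dvd_prime_iff_eq hr (by norm_num)).1 hr7
      exact h7 (h6 ▸ hrM))
    apply fin
    have h2 : (q : ℤ) ^ 6 + q ^ 5 + q ^ 4 + q ^ 3 + q ^ 2 + q + 1 ≤ 2 * ((v ^ f' : ℕ) : ℤ) ^ 6 := by exact_mod_cast h1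
    have h3 : (0 : ℤ) ≤ (q : ℤ) ^ 5 + q ^ 3 + q := by positivity
    linarith

/-! ### the rows -/

theorem gd7 {t : Fam} (h : EX t p f L G K S .e7 v f' tabE7 (kcl clE7 (v ^ f')))
    (hr : rk t ≤ 12 ∨ ((∀ i, wt t i = i) ∧ rk t ≤ 16)) :
    ∀ i ∈ cls3 t, ∃ y, Gd t (p ^ f) (Nat.card ↥K) S.index i y :=
  h.gd_all fun M hM5 hM => flt7 h.ls h.is h.p2 h.frm.is hr hM5 hM

theorem surv7_psl9 (h : EX (.psl 9) p f L G K S .e7 v f' tabE7 (kcl clE7 (v ^ f'))) : False := by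
  have h5 : Five (.psl 9) := show 9 ≤ 9 by norm_num
  have hb : Big (.psl 9) 9 := ⟨by norm_num, show 9 ≤ 9 by norm_num, show 9 < 2 * 9 by norm_num⟩
  exact e7_psl (Or.inl rfl) h (gd7 h (Or.inl (show 9 ≤ 12 by norm_num))) (fun y hy => h.gd_big h5 hy hb)
    (fun y hy hyK => h.big_index h5 hy hb hyK) n7_psl9

theorem surv7_psl10 (h : EX (.psl 10) p f L G K S .e7 v f' tabE7 (kcl clE7 (v ^ f'))) : False := by
  have h5 : Five (.psl 10) := show 9 ≤ 10 by norm_num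
  have hb : Big (.psl 10) 9 := ⟨by norm_num, show 9 ≤ 10 by norm_num, show 10 < 2 * 9 by norm_num⟩
  exact e7_psl (Or.inr rfl) h (gd7 h (Or.inl (show 10 ≤ 12 by norm_num))) (fun y hy => h.gd_big h5 hy hb)
    (fun y hy hyK => h.big_index h5 hy hb hyK) n7_psl10

theorem surv7_psu9 (h : EX (.psu 9) p f L G K S .e7 v f' tabE7 (kcl clE7 (v ^ f'))) : False := by
  have h5 : Five (.psu 9) := show 9 ≤ 9 by norm_num
  have hb : Big (.psu 9) 9 := ⟨by norm_num, show 9 ≤ 9 by norm_num, show 9 < 2 * 9 by norm_num⟩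
  exact e7_psu (Or.inl rfl) h (gd7 h (Or.inl (show 9 ≤ 12 by norm_num))) (fun y hy => h.gd_big h5 hy hb)
    (fun y hy hyK => h.big_index h5 hy hb hyK) n7_psu9

theorem surv7_psu10 (h : EX (.psu 10) p f L G K S .e7 v f' tabE7 (kcl clE7 (v ^ f'))) : False := by
  have h5 : Five (.psu 10) := show 9 ≤ 10 by norm_num
  have hb : Big (.psu 10) 9 := ⟨by norm_num, show 9 ≤ 10 by norm_num, show 10 < 2 * 9 by norm_num⟩
  exact e7_psu (Or.inr rfl) h (gd7 h (Or.inl (show 10 ≤ 12 by norm_num))) (fun y hy => h.gd_big h5 hy hb)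
    (fun y hy hyK => h.big_index h5 hy hb hyK) n7_psu10

theorem surv7_psp8 (h : EX (.psp 8) p f L G K S .e7 v f' tabE7 (kcl clE7 (v ^ f'))) : False := by
  have h5 : Five (.psp 8) := show 7 ≤ 8 by norm_num
  have hb : Big (.psp 8) 16 := ⟨by norm_num, show eta 16 ≤ 8 by decide, show 8 < 2 * eta 16 by decide⟩
  exact e7_sixteen rfl rfl hb.2.1 (fun hq => RR_psp8 hq) h (gd7 h (Or.inl (show 8 ≤ 12 by norm_num)))
    (fun y hy => h.gd_big h5 hy hb) (fun y hy hyK => h.big_index h5 hy hb hyK) n7_psp8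

theorem surv7_oodd8 (h : EX (.oodd 8) p f L G K S .e7 v f' tabE7 (kcl clE7 (v ^ f'))) : False := by
  have h5 : Five (.oodd 8) := show 7 ≤ 8 by norm_num
  have hb : Big (.oodd 8) 16 := ⟨by norm_num, show eta 16 ≤ 8 by decide, show 8 < 2 * eta 16 by decide⟩
  exact e7_sixteen rfl rfl hb.2.1 (fun hq => RR_oodd8 hq) h (gd7 h (Or.inl (show 8 ≤ 12 by norm_num)))
    (fun y hy => h.gd_big h5 hy hb) (fun y hy hyK => h.big_index h5 hy hb hyK) n7_oodd8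

theorem surv7_ominus8 (h : EX (.ominus 8) p f L G K S .e7 v f' tabE7 (kcl clE7 (v ^ f'))) : False := by
  have h5 : Five (.ominus 8) := show 7 ≤ 8 by norm_num
  have hb : Big (.ominus 8) 16 := ⟨by norm_num, Or.inr (by norm_num), show 8 < 2 * eta 16 by decide⟩
  exact e7_sixteen rfl rfl hb.2.1 (fun hq => RR_ominus8 hq) h (gd7 h (Or.inl (show 8 ≤ 12 by norm_num)))
    (fun y hy => h.gd_big h5 hy hb) (fun y hy hyK => h.big_index h5 hy hb hyK) n7_ominus8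

theorem surv7_oplus8 (h : EX (.oplus 8) p f L G K S .e7 v f' tabE7 (kcl clE7 (v ^ f'))) : False := by
  have h5 : Five (.oplus 8) := show 7 ≤ 8 by norm_num
  exact e7_oplus8 h (gd7 h (Or.inl (show 8 ≤ 12 by norm_num))) (fun i y hb hy => h.gd_big h5 hy hb)
    (fun i y hb hy hyK => h.big_index h5 hy hb hyK) n7_oplus8 n7_oplus8'

end

end Cfsg.Agent.R2.Spec.EE
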