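import Cfsg.Agent.R2.Spec.EE.Big
import Cfsg.Agent.R2.Spec.EE.NumA
import Cfsg.Agent.R2.Spec.EE.NumEM
import Cfsg.Agent.R2.Spec.EE.NumM

/-!
# The surviving rows of `E₈` (helper8)

* `surv8` : the number of a class `i0`, all the values of which are large classes of `E₈`, is at most `u^8 + u^7`;
* `kill8` : the contradiction.
-/

set_option autoImplicit false
set_option linter.unusedSectionVars false
set_option linter.unusedVariables false

namespace Cfsg.Agent.R2.Spec.EE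

open Subgroup Cfsg
open Cfsg.Agent.H426.LieFam Cfsg.Agent.R2.Spec Cfsg.Agent.R2.Spec.P1 Cfsg.Agent.R2.Spec.F1
open Cfsg.Agent.H365.Zsig

universe u w

/-- the mask of the large classes -/
theorem mask_A8 {x : ℕ} (h : (129344 : ℕ).testBit x = true) : clE8.getD x 0 ∈ A8 ∧ x < 17 := by
  have hx : x < 17 := by
    by_contra hcon
    rw [Nat.testBit_lt_two_pow (lt_of_lt_of_le (by norm_num : 129344 < 2 ^ 17)
      (Nat.pow_le_pow_right (by norm_num) (not_lt.1 hcon)))] at h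
    exact Bool.noConfusion h
  exact ⟨(by decide : ∀ x < 17, (129344 : ℕ).testBit x = true → clE8.getD x 0 ∈ A8) x hx h, hx⟩

section main

variable {t : Fam} {p f : ℕ} {L : Type w} [Group L] [Finite L] {G : Type u} [Group G] [Finite G]
  {K : Subgroup G} [K.Normal] {S : Subgroup (G ⧸ K)} [S.Normal] {v f' : ℕ}

/-- the element -/
theorem exists_tor (h : LS t p f L G) (hI : Fam.Is p f L t) {i M : ℕ} (hi : 3 ≤ i) (hm : mem t i) (hodd : Odd M)
    (hM : M ∣ tnum t (p ^ f) i) (hin : ∀ r : ℕ, r.Prime → r ∣ M → In t (p ^ f) i r) : ∃ g : G, orderOf g = M := by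
  rw [h.ord]
  refine (torFacts h.cla h.prime hI).tor i _ hi hm hodd (fun r hr hd => ?_) hM
  rw [(hin r hr hd).cls_eq]
  exact hi

theorem val_mask {T : Tab} {c : ℕ} {k : ℕ → ℕ} {y m : ℕ} (hm : m < 2 ^ T.n) (h : m.testBit (val T c v k y) = true) :
    y ≠ v ∧ ¬ y ∣ c ∧ m.testBit (k y) = true := by
  have hbig : ∀ x, T.n ≤ x → m.testBit x = false := fun x hx =>
    Nat.testBit_lt_two_pow (hm.trans_le (Nat.pow_le_pow_right (by norm_num) hx))
  rw [val] at h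
  split_ifs at h with h1 h2 h2
  · rw [hbig _ (by omega)] at h; exact Bool.noConfusion h
  · rw [hbig _ (by omega)] at h; exact Bool.noConfusion h
  · rw [hbig _ (by omega)] at h; exact Bool.noConfusion h
  · exact ⟨h1, h2, h⟩

/-- **The number of the class `i0`.** -/
theorem surv8 (h : EX t p f L G K S .e8 v f' tabE8 (kE8 (v ^ f')))
    (hgd : ∀ i ∈ cls3 t, ∃ y, Gd t (p ^ f) (Nat.card ↥K) S.index i y) {i0 : ℕ} (hi : 3 ≤ i0) (hm : mem t i0)
    (hbig : ∀ y, In t (p ^ f) i0 y → Gd t (p ^ f) (Nat.card ↥K) S.index i0 y ∧ (¬ y ∣ Nat.card ↥K → ¬ y ∣ S.index))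
    (hk : (dat tabE8.tbl t (cls3 t)).go (cls3 t).length (st0 tabE8.tbl (cls3 t) (tabE8.domX i0 129344)) 0 = false)
    {M : ℕ} (hM : M ∣ tnum t (p ^ f) i0) (hodd : Odd M) (hin : ∀ r : ℕ, r.Prime → r ∣ M → In t (p ^ f) i0 r) :
    M ≤ (v ^ f') ^ 8 + (v ^ f') ^ 7 := by
  obtain ⟨g, hg⟩ := exists_tor h.ls h.is hi hm hodd hM hin
  have key : ∀ y : ℕ, y.Prime → y ∣ M → y ≠ v ∧ ¬ y ∣ Nat.card ↥K ∧ (129344 : ℕ).testBit (kE8 (v ^ f') y) = true :=
    fun y hy hd => val_mask (T := tabE8) (by decide) (h.row_val hgd hk (hbig y (hin y hy hd)).1)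
  refine numA8_le h.ef.vp h.frm.is hg (fun y hy hd => (key y hy hd).2.1)
    (fun y hy hd => (hbig y (hin y hy hd)).2 (key y hy hd).2.1)
    (fun y hy hd => ⟨(hin y hy hd).five, (key y hy hd).1⟩) (fun y hy hd => mask_A8 (key y hy hd).2.2)

/-- the size of the class number -/
theorem size8' (h : EX t p f L G K S .e8 v f' tabE8 (kE8 (v ^ f')))
    (hgd : ∀ i ∈ cls3 t, ∃ y, Gd t (p ^ f) (Nat.card ↥K) S.index i y) {i0 : ℕ} (hi : 3 ≤ i0) (hm : mem t i0)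
    (hbig : ∀ y, In t (p ^ f) i0 y → Gd t (p ^ f) (Nat.card ↥K) S.index i0 y ∧ (¬ y ∣ Nat.card ↥K → ¬ y ∣ S.index))
    (hk : (dat tabE8.tbl t (cls3 t)).go (cls3 t).length (st0 tabE8.tbl (cls3 t) (tabE8.domX i0 129344)) 0 = false)
    {l : ℕ} (hl : ∀ r : ℕ, r.Prime → r ∣ idx t i0 → r ≤ l) (hl1 : 1 ≤ l) :
    Ph (idx t i0) (p ^ f) ≤ l * ((v ^ f') ^ 8 + (v ^ f') ^ 7) := by
  obtain ⟨hq, hq3⟩ := q_odd h.ls h.p2
  obtain ⟨M, h1, h2, h3, h4⟩ := class_num6 h.ls.cla hq hq3 hi hm hl hl1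
  exact h4.trans (Nat.mul_le_mul_left l (surv8 h hgd hi hm hbig hk h1 h2 h3))

/-- the kernel fact: the values of the class `i0` are large classes of `E₈` -/
def KF8 (t : Fam) (i0 : ℕ) : Prop :=
  (dat tabE8.tbl t (cls3 t)).go (cls3 t).length (st0 tabE8.tbl (cls3 t) (tabE8.domX i0 129344)) 0 = false

/-- the size of the class number, for a big class -/
theorem big8_rk (h : EX t p f L G K S .e8 v f' tabE8 (kE8 (v ^ f'))) (h5 : Five t) {i0 : ℕ} (hb : Big t i0)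
    (hr : rk t ≤ 18 ∨ ((∀ i, wt t i = i) ∧ rk t ≤ 24)) (hk : KF8 t i0) {l : ℕ}
    (hl : ∀ r : ℕ, r.Prime → r ∣ idx t i0 → r ≤ l) (hl1 : 1 ≤ l) :
    Ph (idx t i0) (p ^ f) ≤ l * ((v ^ f') ^ 8 + (v ^ f') ^ 7) :=
  size8' h (h.gd_all fun M hM5 hM => flt8 h.ls h.is h.p2 h.frm.is hr hM5 hM) hb.1 hb.2.1
    (fun y hy => ⟨h.gd_big h5 hy hb, fun hyK => h.big_index h5 hy hb hyK⟩) hk hl hl1

theorem prime_le {n l : ℕ} (hn : 0 < n) (h : ∀ r ∈ List.range (n + 1), r ∣ n → l < r → ¬ r.Prime) (r : ℕ) (hr : r.Prime)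
    (hd : r ∣ n) : r ≤ l := by
  by_contra hcon
  exact h r (List.mem_range.2 (by have := Nat.le_of_dvd hn hd; omega)) hd (by omega) hr

/-- **The classes 7, 14.** -/
theorem kill8a (h : EX t p f L G K S .e8 v f' tabE8 (kE8 (v ^ f'))) (h5 : Five t) {i0 : ℕ} (hb : Big t i0)
    (hr : rk t ≤ 18 ∨ ((∀ i, wt t i = i) ∧ rk t ≤ 24)) (hk : KF8 t i0) (hi : idx t i0 = 7 ∨ idx t i0 = 14)
    (hr10 : rk t ≤ 10) {R : ℕ} (hB : (v ^ f') ^ 78 ≤ 1260 * (2 * rk t * p ^ f * R)) (hR : R ≤ 3 * (p ^ f) ^ 36) :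
    False := by
  obtain ⟨hq, hq3⟩ := q_odd h.ls h.p2
  have hu := field_two (Or.inl rfl) h.frm.is
  have h1 := big8_rk h h5 hb hr hk (l := 7) (by
    rcases hi with h0 | h0 <;> rw [h0] <;> exact prime_le (by norm_num) (by decide)) (by norm_num)
  refine n1 hq3 hu ?_ (hB.trans ?_)
  · refine (Ph_six_le hi (by omega)).trans ?_
    exact_mod_cast h1
  · exact Nat.mul_le_mul_left _ (Nat.mul_le_mul (Nat.mul_le_mul_right _ (Nat.mul_le_mul_left _ hr10)) hR)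

/-- **The class 16.** -/
theorem kill8b (h : EX t p f L G K S .e8 v f' tabE8 (kE8 (v ^ f'))) (h5 : Five t) (hb : Big t 16)
    (hk : KF8 t 16) (hi : idx t 16 = 16) (hr10 : rk t ≤ 10) (hR : RR t (p ^ f) ≤ 2 * (p ^ f) ^ 64) :
    False := by
  obtain ⟨hq, hq3⟩ := q_odd h.ls h.p2
  have hu := field_two (Or.inl rfl) h.frm.is
  have h1 := big8_rk h h5 hb (Or.inl (by omega)) hk (l := 2) (by
    rw [hi]; exact prime_le (by norm_num) (by decide)) (by norm_num)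
  rw [hi, Ph_sixteen (by omega)] at h1
  exact n2 hq3 hq hu h1 ((bigB8 h.ls h.is h.p2 h.frm.is).trans
    (Nat.mul_le_mul_left _ (Nat.mul_le_mul (Nat.mul_le_mul_right _ (Nat.mul_le_mul_left _ hr10)) hR)))

/-- **The classes 13, 26.** -/
theorem kill8c (h : EX t p f L G K S .e8 v f' tabE8 (kE8 (v ^ f'))) (h5 : Five t) (hb : Big t 13)
    (hw : ∀ i, wt t i = i) (hk : KF8 t 13) (hi : idx t 13 = 13 ∨ idx t 13 = 26) (hr13 : rk t ≤ 13)
    (hR : RR t (p ^ f) ≤ 4 * (p ^ f) ^ 58) :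
    False := by
  obtain ⟨hq, hq3⟩ := q_odd h.ls h.p2
  have hu := field_two (Or.inl rfl) h.frm.is
  have h1 := big8_rk h h5 hb (Or.inr ⟨hw, by omega⟩) hk (l := 13) (by
    rcases hi with h0 | h0 <;> rw [h0] <;> exact prime_le (by norm_num) (by decide)) (by norm_num)
  refine n3 hq3 hu ?_ ((bigB8 h.ls h.is h.p2 h.frm.is).trans ?_)
  · refine (Ph_twelve_le hi (by omega)).trans ?_
    exact_mod_cast h1
  · exact Nat.mul_le_mul_left _ (Nat.mul_le_mul (Nat.mul_le_mul_right _ (Nat.mul_le_mul_left _ hr13)) hR)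

end main

/-! ### the rows -/

section rows

variable {p f : ℕ} {L : Type w} [Group L] [Finite L] {G : Type u} [Group G] [Finite G]
  {K : Subgroup G} [K.Normal] {S : Subgroup (G ⧸ K)} [S.Normal] {v f' : ℕ}

theorem pw {q a b c d : ℕ} (hq : 3 ≤ q) (hab : a ≤ b) (hcd : c ≤ d) : a * q ^ c ≤ b * q ^ d :=
  Nat.mul_le_mul hab (Nat.pow_le_pow_right (by omega) hcd)

theorem s8_psl9 (h : EX (.psl 9) p f L G K S .e8 v f' tabE8 (kE8 (v ^ f'))) (hk : KF8 (.psl 9) 7) : False :=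
  kill8a h (show 9 ≤ 9 by omega) ⟨by omega, show 7 ≤ 9 by omega, show 9 < 2 * 7 by omega⟩
    (Or.inl (show 9 ≤ 18 by omega)) hk (Or.inl rfl) (show 9 ≤ 10 by omega) (bigB8 h.ls h.is h.p2 h.frm.is)
    ((RR_psl9 (q_odd h.ls h.p2).2).trans (pw (q_odd h.ls h.p2).2 le_rfl (by norm_num)))

theorem s8_psu9 (h : EX (.psu 9) p f L G K S .e8 v f' tabE8 (kE8 (v ^ f'))) (hk : KF8 (.psu 9) 7) : False :=
  kill8a h (show 9 ≤ 9 by omega) ⟨by omega, show 7 ≤ 9 by omega, show 9 < 2 * 7 by omega⟩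
    (Or.inl (show 9 ≤ 18 by omega)) hk (Or.inr rfl) (show 9 ≤ 10 by omega) (bigB8 h.ls h.is h.p2 h.frm.is)
    ((RR_psu9 (q_odd h.ls h.p2).2).trans ((one_mul _).symm.trans_le (pw (q_odd h.ls h.p2).2 (by norm_num) (by norm_num))))

theorem s8_psl10 (h : EX (.psl 10) p f L G K S .e8 v f' tabE8 (kE8 (v ^ f'))) (hk : KF8 (.psl 10) 7) : False :=
  kill8a h (show 9 ≤ 10 by omega) ⟨by omega, show 7 ≤ 10 by omega, show 10 < 2 * 7 by omega⟩
    (Or.inl (show 10 ≤ 18 by omega)) hk (Or.inl rfl) (show 10 ≤ 10 by omega) (bigB8 h.ls h.is h.p2 h.frm.is)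
    ((RR_psl10 (q_odd h.ls h.p2).2).trans (pw (q_odd h.ls h.p2).2 (by norm_num) (by norm_num)))

theorem s8_psu10 (h : EX (.psu 10) p f L G K S .e8 v f' tabE8 (kE8 (v ^ f'))) (hk : KF8 (.psu 10) 7) : False :=
  kill8a h (show 9 ≤ 10 by omega) ⟨by omega, show 7 ≤ 10 by omega, show 10 < 2 * 7 by omega⟩
    (Or.inl (show 10 ≤ 18 by omega)) hk (Or.inr rfl) (show 10 ≤ 10 by omega) (bigB8 h.ls h.is h.p2 h.frm.is)
    ((RR_psu10 (q_odd h.ls h.p2).2).trans ((one_mul _).symm.trans_le (pw (q_odd h.ls h.p2).2 (by norm_num) (by norm_num))))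

theorem s8_psl13 (h : EX (.psl 13) p f L G K S .e8 v f' tabE8 (kE8 (v ^ f'))) (hk : KF8 (.psl 13) 13) : False :=
  kill8c h (show 9 ≤ 13 by omega) ⟨by omega, show 13 ≤ 13 by omega, show 13 < 2 * 13 by omega⟩
    (fun _ => rfl) hk (Or.inl rfl) (show 13 ≤ 13 by omega) (RR_psl13 (q_odd h.ls h.p2).2)

theorem s8_psu13 (h : EX (.psu 13) p f L G K S .e8 v f' tabE8 (kE8 (v ^ f'))) (hk : KF8 (.psu 13) 13) : False :=
  kill8c h (show 9 ≤ 13 by omega) ⟨by omega, show 13 ≤ 13 by omega, show 13 < 2 * 13 by omega⟩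
    (fun _ => rfl) hk (Or.inr rfl) (show 13 ≤ 13 by omega)
    ((RR_psu13 (q_odd h.ls h.p2).2).trans ((one_mul _).symm.trans_le (pw (q_odd h.ls h.p2).2 (by norm_num) le_rfl)))

theorem eta16 : eta 16 = 8 := by decide

theorem s8_psp8 (h : EX (.psp 8) p f L G K S .e8 v f' tabE8 (kE8 (v ^ f'))) (hk : KF8 (.psp 8) 16) : False :=
  kill8b h (show 7 ≤ 8 by omega) ⟨by omega, show eta 16 ≤ 8 by decide, show 8 < 2 * eta 16 by decide⟩ hk rfl
    (show 8 ≤ 10 by omega) ((RR_psp8 (q_odd h.ls h.p2).2).trans (pw (q_odd h.ls h.p2).2 le_rfl (by norm_num)))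

theorem s8_oodd8 (h : EX (.oodd 8) p f L G K S .e8 v f' tabE8 (kE8 (v ^ f'))) (hk : KF8 (.oodd 8) 16) : False :=
  kill8b h (show 7 ≤ 8 by omega) ⟨by omega, show eta 16 ≤ 8 by decide, show 8 < 2 * eta 16 by decide⟩ hk rfl
    (show 8 ≤ 10 by omega) ((RR_oodd8 (q_odd h.ls h.p2).2).trans (pw (q_odd h.ls h.p2).2 le_rfl (by norm_num)))

theorem s8_psp10 (h : EX (.psp 10) p f L G K S .e8 v f' tabE8 (kE8 (v ^ f'))) (hk : KF8 (.psp 10) 16) : False :=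
  kill8b h (show 7 ≤ 10 by omega) ⟨by omega, show eta 16 ≤ 10 by decide, show 10 < 2 * eta 16 by decide⟩ hk rfl
    (show 10 ≤ 10 by omega) (RR_psp10 (q_odd h.ls h.p2).2)

theorem s8_oodd10 (h : EX (.oodd 10) p f L G K S .e8 v f' tabE8 (kE8 (v ^ f'))) (hk : KF8 (.oodd 10) 16) : False :=
  kill8b h (show 7 ≤ 10 by omega) ⟨by omega, show eta 16 ≤ 10 by decide, show 10 < 2 * eta 16 by decide⟩ hk rfl
    (show 10 ≤ 10 by omega) (RR_oodd10 (q_odd h.ls h.p2).2)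

theorem s8_oplus8 (h : EX (.oplus 8) p f L G K S .e8 v f' tabE8 (kE8 (v ^ f'))) (hk : KF8 (.oplus 8) 7) : False :=
  kill8a h (show 7 ≤ 8 by omega) ⟨by omega, Or.inl (show eta 7 + 1 ≤ 8 by decide), show 8 < 2 * eta 7 by decide⟩
    (Or.inl (show 8 ≤ 18 by omega)) hk (Or.inl rfl) (show 8 ≤ 10 by omega) (bigB8M h.ls h.is h.p2 nb_oplus8 h.frm.is)
    ((RM_oplus8 (q_odd h.ls h.p2).2).trans (pw (q_odd h.ls h.p2).2 (by norm_num) le_rfl))

theorem s8_oplus8' (h : EX (.oplus 8) p f L G K S .e8 v f' tabE8 (kE8 (v ^ f'))) (hk : KF8 (.oplus 8) 14) : False :=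
  kill8a h (show 7 ≤ 8 by omega) ⟨by omega, Or.inl (show eta 14 + 1 ≤ 8 by decide), show 8 < 2 * eta 14 by decide⟩
    (Or.inl (show 8 ≤ 18 by omega)) hk (Or.inr rfl) (show 8 ≤ 10 by omega) (bigB8M h.ls h.is h.p2 nb_oplus8 h.frm.is)
    ((RM_oplus8 (q_odd h.ls h.p2).2).trans (pw (q_odd h.ls h.p2).2 (by norm_num) le_rfl))

theorem s8_oplus9 (h : EX (.oplus 9) p f L G K S .e8 v f' tabE8 (kE8 (v ^ f'))) (hk : KF8 (.oplus 9) 16) : False :=
  kill8b h (show 7 ≤ 9 by omega) ⟨by omega, Or.inl (show eta 16 + 1 ≤ 9 by decide), show 9 < 2 * eta 16 by decide⟩ hk rfl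
    (show 9 ≤ 10 by omega) ((RR_oplus9 (q_odd h.ls h.p2).2).trans (pw (q_odd h.ls h.p2).2 le_rfl (by norm_num)))

theorem s8_ominus8 (h : EX (.ominus 8) p f L G K S .e8 v f' tabE8 (kE8 (v ^ f'))) (hk : KF8 (.ominus 8) 16) : False :=
  kill8b h (show 7 ≤ 8 by omega) ⟨by omega, Or.inr (show 16 = 2 * 8 by norm_num), show 8 < 2 * eta 16 by decide⟩ hk rfl
    (show 8 ≤ 10 by omega) ((RR_ominus8 (q_odd h.ls h.p2).2).trans (pw (q_odd h.ls h.p2).2 le_rfl (by norm_num)))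

theorem s8_ominus9 (h : EX (.ominus 9) p f L G K S .e8 v f' tabE8 (kE8 (v ^ f'))) (hk : KF8 (.ominus 9) 16) : False :=
  kill8b h (show 7 ≤ 9 by omega) ⟨by omega, Or.inl (show eta 16 + 1 ≤ 9 by decide), show 9 < 2 * eta 16 by decide⟩ hk rfl
    (show 9 ≤ 10 by omega) ((RR_ominus9 (q_odd h.ls h.p2).2).trans (pw (q_odd h.ls h.p2).2 le_rfl (by norm_num)))

theorem s8_ominus10 (h : EX (.ominus 10) p f L G K S .e8 v f' tabE8 (kE8 (v ^ f'))) (hk : KF8 (.ominus 10) 16) : False :=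
  kill8b h (show 7 ≤ 10 by omega) ⟨by omega, Or.inl (show eta 16 + 1 ≤ 10 by decide), show 10 < 2 * eta 16 by decide⟩ hk rfl
    (show 10 ≤ 10 by omega) (RR_ominus10 (q_odd h.ls h.p2).2)

end rows

end Cfsg.Agent.R2.Spec.EE
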