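import Cfsg.Agent.R2.Spec.EE.Csp
import Cfsg.Agent.R2.Spec.F1.Comb
import Cfsg.Agent.R2.Spec.F1.LSide

/-!
# Masks (helper13)

`na_iff_naB`; `msk V P` : the mask of the `j ∈ V` with `P j`; `vars t V D` : the variables for the classes `V` of the
family `t`, domain `D`.
-/

set_option autoImplicit false

namespace Cfsg.Agent.R2.Spec.EE

open Cfsg Cfsg.Agent.H426.LieFam Cfsg.Agent.R2.Spec Cfsg.Agent.R2.Spec.F1

theorem oddMul_of_oddB {i j : ℕ} (h : oddB i j = true) : OddMul i j := by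
  rw [oddB, Bool.and_eq_true, beq_iff_eq, beq_iff_eq] at h
  exact ⟨j / i, h.2, (Nat.mul_div_cancel' (Nat.dvd_of_mod_eq_zero h.1)).symm⟩

theorem naB_of_na {t : Fam} {i j : ℕ} (h : na t i j) : naB t i j = true := by
  have ho : ∀ {i j : ℕ}, ¬ OddMul i j → (!(oddB i j)) = true := fun h => by
    cases h1 : oddB _ _
    · rfl
    · exact absurd (oddMul_of_oddB h1) h
  have hd : ∀ {P : Prop} [Decidable P], ¬ P → (!(decide P)) = true := fun h => by
    rw [decide_eq_false h]; rfl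
  cases t with
  | psl n =>
    simp only [naB, Bool.and_eq_true, decide_eq_true_eq]
    exact ⟨⟨h.1, hd h.2.1⟩, hd h.2.2⟩
  | psu n =>
    simp only [naB, Bool.and_eq_true, decide_eq_true_eq]
    exact ⟨⟨h.1, hd h.2.1⟩, hd h.2.2⟩
  | psp n =>
    simp only [naB, Bool.and_eq_true, decide_eq_true_eq]
    exact ⟨⟨h.1, ho h.2.1⟩, ho h.2.2⟩
  | oodd n =>
    simp only [naB, Bool.and_eq_true, decide_eq_true_eq]
    exact ⟨⟨h.1, ho h.2.1⟩, ho h.2.2⟩
  | oplus n =>
    simp only [naB, Bool.and_eq_true, decide_eq_true_eq]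
    exact ⟨⟨⟨⟨h.1, ho h.2.1⟩, ho h.2.2.1⟩, hd h.2.2.2.1⟩, hd h.2.2.2.2⟩
  | ominus n =>
    simp only [naB, Bool.and_eq_true, decide_eq_true_eq]
    exact ⟨⟨h.1, ho h.2.1⟩, ho h.2.2⟩
  | _ => exact h.elim

theorem na_iff_naB {t : Fam} {i j : ℕ} (hi : 0 < i) (hj : 0 < j) : na t i j ↔ naB t i j = true :=
  ⟨naB_of_na, na_of_naB hi hj⟩

/-- the mask of the elements of `V` with `P` -/
def msk (V : List ℕ) (P : ℕ → Bool) : ℕ := V.foldr (fun j m => bif P j then m ||| 2 ^ j else m) 0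

theorem testBit_msk (V : List ℕ) (P : ℕ → Bool) (j : ℕ) : (msk V P).testBit j = (V.any fun k => k == j && P k) := by
  induction V with
  | nil => simp [msk]
  | cons k V ih =>
    rw [msk, List.foldr_cons, ← msk, List.any_cons, ← ih]
    cases h : P k
    · simp
    · simp only [cond_true, Nat.testBit_or, Nat.testBit_two_pow, Bool.and_true]
      rw [Bool.or_comm]
      congr 1

theorem testBit_msk_of_mem {V : List ℕ} {P : ℕ → Bool} {j : ℕ} (hj : j ∈ V) : (msk V P).testBit j = P j := by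
  rw [testBit_msk]
  cases h : P j
  · rw [List.any_eq_false]
    intro k hk hc
    rw [Bool.and_eq_true, beq_iff_eq] at hc
    obtain ⟨rfl, hc⟩ := hc
    rw [h] at hc
    exact Bool.noConfusion hc
  · rw [List.any_eq_true]
    exact ⟨j, hj, by simp [h]⟩

/-- the variables -/
def vars (t : Fam) (V : List ℕ) (D : ℕ) : List Var :=
  V.map fun i => ⟨i, msk V fun j => naB t i j, msk V fun j => !(naB t i j), D⟩

theorem mask_vars (T : Tbl) {t : Fam} {V : List ℕ} {D i j a : ℕ} (hj : j ∈ V) :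
    T.mask ⟨i, msk V fun j => naB t i j, msk V fun j => !(naB t i j), D⟩ j a =
      bif naB t i j then T.m1.getD a 0 else T.m0.getD a 0 := by
  simp only [Tbl.mask, testBit_msk_of_mem hj]
  cases naB t i j <;> rfl

/-- **A solution for the variables of `V`.** -/
theorem sol_vars (T : Tbl) {t : Fam} {V : List ℕ} (hV : V.Nodup) {D : ℕ} {f : ℕ → ℕ}
    (hd : ∀ i ∈ V, D.testBit (f i) = true ∧ f i < T.n)
    (h1 : ∀ i ∈ V, ∀ j ∈ V, i ≠ j → naB t i j = true → (T.m1.getD (f i) 0).testBit (f j) = true)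
    (h0 : ∀ i ∈ V, ∀ j ∈ V, i ≠ j → naB t i j = false → (T.m0.getD (f i) 0).testBit (f j) = true) :
    Sol T f (vars t V D) := by
  have key : ∀ i ∈ V, ∀ j ∈ V, i ≠ j →
      (T.mask ⟨i, msk V fun j => naB t i j, msk V fun j => !(naB t i j), D⟩ j (f i)).testBit (f j) = true := by
    intro i hi j hj hij
    rw [mask_vars T hj]
    cases h : naB t i j
    · exact h0 i hi j hj hij h
    · exact h1 i hi j hj hij h
  refine ⟨?_, ?_⟩
  · intro x hx
    obtain ⟨i, hi, rfl⟩ := List.mem_map.1 hx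
    exact hd i hi
  · rw [vars, List.pairwise_map]
    refine List.Pairwise.imp_of_mem ?_ hV
    intro i j hi hj hij
    exact ⟨key i hi j hj hij, key j hj i hi (Ne.symm hij)⟩

end Cfsg.Agent.R2.Spec.EE
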