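import Cfsg.Agent.R2.Spec.EE.NumBS
import Cfsg.Agent.R2.Spec.EE.OrdTF4
import Cfsg.Agent.R2.Spec.EE.SokTF4

/-!
# S3435, EE, small rank: the sharp form of the bound (B) for `²F₄`, `²G₂` (helper15)

* `bigSTF4` : `96 (u ^ 6 + 1) (u ^ 2 + 1 - u) ≤ max 169 (p ^ f) * RR t (p ^ f)`, `S = ²F₄(u)`;
* `bigSRee` : `36 (u ^ 2 - 1) (u ^ 2 + 1 - u) ≤ max 169 (p ^ f) * RR t (p ^ f)`, `S = ²G₂(u)`.
-/

set_option autoImplicit false
set_option linter.unusedSectionVars false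
set_option linter.unusedVariables false
set_option maxHeartbeats 400000

namespace Cfsg.Agent.R2.Spec.EE

open Cfsg Cfsg.Lie Cfsg.Agent.H426.LieFam Cfsg.Agent.R2.Spec Cfsg.Agent.R2.Spec.P1 Cfsg.Agent.R2.Spec.F1
open Cfsg.Agent.H493.PGF4T

universe u w

theorem cop6_of {n : ℕ} (h2 : ¬ 2 ∣ n) (h3 : ¬ 3 ∣ n) : Nat.Coprime n 6 := by
  rw [show (6 : ℕ) = 2 * 3 by norm_num]
  exact Nat.Coprime.mul_right ((Nat.Prime.coprime_iff_not_dvd Nat.prime_two).2 h2).symm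
    ((Nat.Prime.coprime_iff_not_dvd Nat.prime_three).2 h3).symm

theorem five_of {n r : ℕ} (h6 : Nat.Coprime n 6) (hr : r.Prime) (hd : r ∣ n) : 5 ≤ r := by
  have h1 := h6.coprime_dvd_left hd
  have h2 := hr.two_le
  by_contra hcon
  interval_cases r
  · norm_num at h1
  · norm_num at h1
  · exact absurd hr (by norm_num)

theorem cop_of_prime {a b : ℕ} (h : ∀ r : ℕ, r.Prime → r ∣ a → r ∣ b → False) : Nat.Coprime a b :=
  Nat.coprime_of_dvd fun r hr h1 h2 => h r hr h1 h2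

/-! ### `²F₄` -/

/-- the numbers -/
def NT (b : ℕ) : ℕ → ℕ
  | 0 => 2 * b ^ 2 + 2 * b + 1
  | 1 => 2 * b ^ 2 + 1 - 2 * b
  | 2 => (4 * b ^ 4 + 1 - 2 * b ^ 2) / 3
  | 3 => 4 * b ^ 4 + 4 * b ^ 3 + 2 * b ^ 2 + 2 * b + 1
  | _ => 4 * b ^ 4 + 2 * b ^ 2 + 1 - (4 * b ^ 3 + 2 * b)

/-- the value -/
def FT (b : ℤ) : ℕ → ℤ
  | 0 => fp b
  | 1 => fm b
  | 2 => f6 b
  | 3 => fP b
  | _ => fM b

def cI : ℕ → ℕ
  | 0 => 2
  | 1 => 2
  | 2 => 3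
  | 3 => 4
  | _ => 5

section tf4

variable {m : ℕ}

theorem z3_2 (m : ℕ) : ((2 : ZMod 3) ^ m) ^ 2 = 1 := by
  rw [← pow_mul, mul_comm, pow_mul, show (2 : ZMod 3) ^ 2 = 1 by decide, one_pow]

theorem z9_2 (m : ℕ) : ((2 : ZMod 9) ^ m) ^ 6 = 1 := by
  rw [← pow_mul, mul_comm, pow_mul, show (2 : ZMod 9) ^ 6 = 1 by decide, one_pow]

theorem f6_three (m : ℕ) : (3 : ℤ) ∣ f6 (2 ^ m) := by
  have h1 : ((f6 (2 ^ m) : ℤ) : ZMod 3) = 0 := by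
    unfold f6
    push_cast
    have h2 := z3_2 m
    generalize (2 : ZMod 3) ^ m = x at h2 ⊢
    revert h2 x
    decide
  exact (ZMod.intCast_zmod_eq_zero_iff_dvd _ 3).1 h1

theorem f6_nine (m : ℕ) : ¬ (9 : ℤ) ∣ f6 (2 ^ m) := by
  intro h
  have h1 : ((f6 (2 ^ m) : ℤ) : ZMod 9) = 0 := (ZMod.intCast_zmod_eq_zero_iff_dvd _ 9).2 h
  unfold f6 at h1
  push_cast at h1
  have h2 := z9_2 m
  generalize (2 : ZMod 9) ^ m = x at h1 h2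
  revert h1 h2 x
  decide

theorem FT_three (m : ℕ) {i : ℕ} (hi : i ≠ 2) : ¬ (3 : ℤ) ∣ FT (2 ^ m) i := by
  intro h
  have h1 : ((FT (2 ^ m) i : ℤ) : ZMod 3) = 0 := (ZMod.intCast_zmod_eq_zero_iff_dvd _ 3).2 h
  have h2 := z3_2 m
  have key : ∀ x : ZMod 3, x ^ 2 = 1 → 2 * x ^ 2 + 2 * x + 1 ≠ 0 ∧ 2 * x ^ 2 - 2 * x + 1 ≠ 0 ∧
      4 * x ^ 4 + 4 * x ^ 3 + 2 * x ^ 2 + 2 * x + 1 ≠ 0 ∧ 4 * x ^ 4 - 4 * x ^ 3 + 2 * x ^ 2 - 2 * x + 1 ≠ 0 := by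
    decide
  obtain ⟨k1, k2, k3, k4⟩ := key _ h2
  match i with
  | 0 => simp only [FT, fp] at h1; push_cast at h1; exact k1 h1
  | 1 => simp only [FT, fm] at h1; push_cast at h1; exact k2 h1
  | 2 => exact hi rfl
  | 3 => simp only [FT, fP] at h1; push_cast at h1; exact k3 h1
  | n + 4 => simp only [FT, fM] at h1; push_cast at h1; exact k4 h1

theorem FT_odd (b : ℤ) (i : ℕ) : ¬ (2 : ℤ) ∣ FT b i := by
  intro h
  obtain ⟨c, hc⟩ := h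
  match i with
  | 0 =>
    simp only [FT, fp] at hc
    have : (1 : ℤ) = 2 * (c - b ^ 2 - b) := by linear_combination hc
    omega
  | 1 =>
    simp only [FT, fm] at hc
    have : (1 : ℤ) = 2 * (c - b ^ 2 + b) := by linear_combination hc
    omega
  | 2 =>
    simp only [FT, f6] at hc
    have : (1 : ℤ) = 2 * (c - 2 * b ^ 4 + b ^ 2) := by linear_combination hc
    omega
  | 3 =>
    simp only [FT, fP] at hc
    have : (1 : ℤ) = 2 * (c - 2 * b ^ 4 - 2 * b ^ 3 - b ^ 2 - b) := by linear_combination hc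
    omega
  | n + 4 =>
    simp only [FT, fM] at hc
    have : (1 : ℤ) = 2 * (c - 2 * b ^ 4 + 2 * b ^ 3 - b ^ 2 + b) := by linear_combination hc
    omega

theorem le_sq' {b : ℕ} (hb : 1 ≤ b) : b ≤ b ^ 2 ∧ b ^ 2 ≤ b ^ 3 ∧ b ^ 3 ≤ b ^ 4 := by
  refine ⟨Nat.le_self_pow two_ne_zero b, Nat.pow_le_pow_right hb (by norm_num), Nat.pow_le_pow_right hb (by norm_num)⟩

theorem NT_cast {b : ℕ} (hb : 1 ≤ b) {i : ℕ} (hi : i ≠ 2) : ((NT b i : ℕ) : ℤ) = FT (b : ℤ) i := by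
  obtain ⟨h1, h2, h3⟩ := le_sq' hb
  match i with
  | 0 => simp only [NT, FT, fp]; push_cast; ring
  | 1 =>
    simp only [NT, FT, fm]
    rw [Nat.cast_sub (by omega)]
    push_cast
    ring
  | 2 => exact absurd rfl hi
  | 3 => simp only [NT, FT, fP]; push_cast; ring
  | n + 4 =>
    simp only [NT, FT, fM]
    rw [Nat.cast_sub (by nlinarith [Nat.zero_le ((b - 1) * b ^ 3)])]
    push_cast
    ring

theorem NT_two (m : ℕ) : 3 * ((NT (2 ^ m) 2 : ℕ) : ℤ) = FT (2 ^ m) 2 := by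
  have hb : 1 ≤ 2 ^ m := Nat.one_le_two_pow
  obtain ⟨h1, h2, h3⟩ := le_sq' hb
  have h4 : (((4 * (2 ^ m) ^ 4 + 1 - 2 * (2 ^ m) ^ 2 : ℕ)) : ℤ) = f6 (2 ^ m) := by
    rw [Nat.cast_sub (by omega)]
    unfold f6
    push_cast
    ring
  have h5 : 3 ∣ 4 * (2 ^ m) ^ 4 + 1 - 2 * (2 ^ m) ^ 2 := by
    have h6 := f6_three m
    rw [← h4] at h6
    exact_mod_cast h6
  show 3 * (((4 * (2 ^ m) ^ 4 + 1 - 2 * (2 ^ m) ^ 2) / 3 : ℕ) : ℤ) = f6 (2 ^ m)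
  rw [← h4]
  obtain ⟨c, hc⟩ := h5
  rw [hc, Nat.mul_div_cancel_left _ (by norm_num)]
  push_cast
  ring

theorem NT_dvd (m : ℕ) {i d : ℕ} (h : d ∣ NT (2 ^ m) i) : (d : ℤ) ∣ FT (2 ^ m) i := by
  have hb : 1 ≤ 2 ^ m := Nat.one_le_two_pow
  by_cases hi : i = 2
  · subst hi
    rw [← NT_two]
    exact (Int.natCast_dvd_natCast.2 h).mul_left _
  · have h1 := NT_cast hb hi
    push_cast at h1
    rw [← h1]
    exact Int.natCast_dvd_natCast.2 h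

theorem NT_cop6 (m : ℕ) (i : ℕ) : Nat.Coprime (NT (2 ^ m) i) 6 := by
  refine cop6_of (fun h => FT_odd (2 ^ m) i (NT_dvd m h)) fun h => ?_
  by_cases hi : i = 2
  · subst hi
    apply f6_nine m
    have h1 := NT_two m
    simp only [FT] at h1
    rw [← h1, show (9 : ℤ) = 3 * 3 by norm_num]
    exact mul_dvd_mul_left 3 (Int.natCast_dvd_natCast.2 h)
  · exact FT_three m hi (NT_dvd m h)

theorem FT_NTF {b : ℤ} {i r : ℕ} (h : (r : ℤ) ∣ FT b i) : (r : ℤ) ∣ NTF b (cI i) := by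
  match i with
  | 0 =>
    simp only [FT, cI, NTF, fp] at h ⊢
    rw [show 4 * b ^ 4 + 1 = (2 * b ^ 2 + 2 * b + 1) * (2 * b ^ 2 - 2 * b + 1) by ring]
    exact h.mul_right _
  | 1 =>
    simp only [FT, cI, NTF, fm] at h ⊢
    rw [show 4 * b ^ 4 + 1 = (2 * b ^ 2 - 2 * b + 1) * (2 * b ^ 2 + 2 * b + 1) by ring]
    exact h.mul_right _
  | 2 => exact h
  | 3 => exact h
  | n + 4 => exact h

theorem cI_lt (i : ℕ) : cI i < 6 := by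
  match i with
  | 0 => decide
  | 1 => decide
  | 2 => decide
  | 3 => decide
  | n + 4 => exact (by norm_num : 5 < 6)

theorem NT_cop (m : ℕ) : [0, 1, 2, 3, 4].Pairwise (fun a b => Nat.Coprime (NT (2 ^ m) a) (NT (2 ^ m) b)) := by
  have key : ∀ i j : ℕ, cI i ≠ cI j → Nat.Coprime (NT (2 ^ m) i) (NT (2 ^ m) j) := fun i j hij =>
    cop_of_prime fun r hr h1 h2 => hij (NTF_uniq hr (five_of (NT_cop6 m i) hr h1) (cI_lt i) (cI_lt j)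
      (FT_NTF (NT_dvd m h1)) (FT_NTF (NT_dvd m h2)))
  have k01 : Nat.Coprime (NT (2 ^ m) 0) (NT (2 ^ m) 1) := by
    refine cop_of_prime fun r hr h1 h2 => ?_
    have h5 := five_of (NT_cop6 m 0) hr h1
    have h3 := dvd_sub (NT_dvd m h1) (NT_dvd m h2)
    simp only [FT, fp, fm] at h3
    rw [show 2 * ((2 : ℤ) ^ m) ^ 2 + 2 * 2 ^ m + 1 - (2 * (2 ^ m) ^ 2 - 2 * 2 ^ m + 1) = ((2 ^ (m + 2) : ℕ) : ℤ) by
      push_cast; ring] at h3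
    have h4 := hr.dvd_of_dvd_pow (Int.natCast_dvd_natCast.1 h3)
    have := Nat.le_of_dvd (by norm_num) h4
    omega
  simp only [List.pairwise_cons, List.mem_cons, List.not_mem_nil, or_false, List.Pairwise.nil, and_true]
  refine ⟨?_, ?_, ?_, ?_, fun _ h => h.elim⟩
  · rintro b (rfl | rfl | rfl | rfl)
    · exact k01
    · exact key _ _ (by decide)
    · exact key _ _ (by decide)
    · exact key _ _ (by decide)
  · rintro b (rfl | rfl | rfl)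
    · exact key _ _ (by decide)
    · exact key _ _ (by decide)
    · exact key _ _ (by decide)
  · rintro b (rfl | rfl)
    · exact key _ _ (by decide)
    · exact key _ _ (by decide)
  · rintro b rfl
    exact key _ _ (by decide)

theorem NT_prod (m : ℕ) : 3 * (([0, 1, 2, 3, 4].map (NT (2 ^ m))).prod : ℕ) =
    ((2 ^ (2 * m + 1)) ^ 6 + 1) * ((2 ^ (2 * m + 1)) ^ 2 + 1 - 2 ^ (2 * m + 1)) := by
  have hb : 1 ≤ 2 ^ m := Nat.one_le_two_pow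
  have h0 := NT_cast hb (i := 0) (by norm_num)
  have h1 := NT_cast hb (i := 1) (by norm_num)
  have h2 := NT_two m
  have h3 := NT_cast hb (i := 3) (by norm_num)
  have h4 := NT_cast hb (i := 4) (by norm_num)
  simp only [FT, fp, fm, f6, fP, fM] at h0 h1 h2 h3 h4
  push_cast at h0 h1 h3 h4
  have hu : (2 : ℤ) ^ (2 * m + 1) = 2 * (2 ^ m) ^ 2 := two_pow_f m
  have hsub : 2 ^ (2 * m + 1) ≤ (2 ^ (2 * m + 1)) ^ 2 + 1 := (Nat.le_self_pow two_ne_zero _).trans (Nat.le_succ _)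
  zify [hsub]
  simp only [List.map_cons, List.map_nil, List.prod_cons, List.prod_nil, mul_one]
  push_cast
  rw [hu]
  generalize (2 : ℤ) ^ m = b at *
  generalize ((NT (2 ^ m) 2 : ℕ) : ℤ) = n2 at *
  rw [h0, h1, h3, h4]
  calc 3 * ((2 * b ^ 2 + 2 * b + 1) * ((2 * b ^ 2 - 2 * b + 1) * (n2 * ((4 * b ^ 4 + 4 * b ^ 3 + 2 * b ^ 2 + 2 * b + 1) *
        (4 * b ^ 4 - 4 * b ^ 3 + 2 * b ^ 2 - 2 * b + 1)))))
      = (2 * b ^ 2 + 2 * b + 1) * ((2 * b ^ 2 - 2 * b + 1) * ((3 * n2) * ((4 * b ^ 4 + 4 * b ^ 3 + 2 * b ^ 2 + 2 * b + 1) *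
        (4 * b ^ 4 - 4 * b ^ 3 + 2 * b ^ 2 - 2 * b + 1)))) := by ring
    _ = _ := by rw [h2]; ring

end tf4

section main

variable {t : Fam} {p f : ℕ} {L : Type w} [Group L] [Finite L] {G : Type u} [Group G] [Finite G]
  {K : Subgroup G} [K.Normal] {S : Subgroup (G ⧸ K)} [S.Normal] {v f' : ℕ}

/-- the orders of `²F₄` -/
theorem tf4_ord {X : Type u} [Group X] (hS : Fam.Is v f' X .tf4) :
    v = 2 ∧ ∃ m, 1 ≤ m ∧ f' = 2 * m + 1 ∧ ∀ i d : ℕ, (d : ℤ) ∣ FT (2 ^ m) i → ∃ x : X, orderOf x = d := by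
  obtain ⟨rfl, m, hm, rfl, F, _, _, hF, ⟨e⟩⟩ := hS
  refine ⟨rfl, m, hm, rfl, fun i d hd => ?_⟩
  have key : ∃ x : ↥(twistedF4 F (2 ^ m)), orderOf x = d := by
    match i with
    | 0 => exact OTF4.ord_fp hF hd
    | 1 => exact OTF4.ord_fm hF hd
    | 2 => exact OTF4.ord_f6 hF hd
    | 3 => exact OTF4.ord_fP hF hd
    | n + 4 => exact OTF4.ord_fM hF hd
  obtain ⟨x, hx⟩ := key
  exact ⟨e.symm x, by rw [MulEquiv.orderOf_eq, hx]⟩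

/-- **`²F₄(u)`** -/
theorem bigSTF4 (h : LS t p f L G) (hI : Fam.Is p f L t) (hp2 : p ≠ 2) (hrk : rk t ≤ 8) (hw8 : wt t 8 ≤ rk t)
    (hw6 : wt t 6 ≤ rk t) (hS : Fam.Is v f' ↥S .tf4) :
    96 * (((v ^ f') ^ 6 + 1) * ((v ^ f') ^ 2 + 1 - v ^ f')) ≤ max 169 (p ^ f) * RR t (p ^ f) := by
  obtain ⟨rfl, m, hm, rfl, ho⟩ := tf4_ord hS
  have h1 := prod_leS h hI hp2 hrk hw8 hw6 (A := [0, 1, 2, 3, 4]) (N := NT (2 ^ m)) (NT_cop m) (fun a _ h0 => by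
      have h1 := NT_cop6 m a
      rw [h0] at h1
      norm_num at h1) (fun a _ => NT_cop6 m a)
    (fun a _ y e _ _ hd => exists_of_S (S := S) (ho a (y ^ e) (NT_dvd m hd)))
  calc 96 * (((2 ^ (2 * m + 1)) ^ 6 + 1) * ((2 ^ (2 * m + 1)) ^ 2 + 1 - 2 ^ (2 * m + 1))) =
      96 * (3 * (([0, 1, 2, 3, 4].map (NT (2 ^ m))).prod : ℕ)) := by rw [NT_prod]
    _ = 288 * ([0, 1, 2, 3, 4].map (NT (2 ^ m))).prod := by ring
    _ ≤ _ := h1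

end main

/-! ### `²G₂` -/

/-- the numbers -/
def NR (b : ℕ) : ℕ → ℕ
  | 0 => (3 * b ^ 2 - 1) / 2
  | 1 => (3 * b ^ 2 + 1) / 4
  | 2 => 3 * b ^ 2 + 3 * b + 1
  | _ => 3 * b ^ 2 + 1 - 3 * b

section ree

variable {m : ℕ}

theorem sq_mod8 (m : ℕ) : (3 ^ m) ^ 2 % 8 = 1 := by
  rw [← pow_mul, mul_comm, pow_mul, show 3 ^ 2 = 9 by norm_num, Nat.pow_mod, show 9 % 8 = 1 by norm_num, one_pow]
  rfl

theorem NR_0 (m : ℕ) : 2 * NR (3 ^ m) 0 + 1 = 3 * (3 ^ m) ^ 2 := by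
  have := sq_mod8 m
  show 2 * ((3 * (3 ^ m) ^ 2 - 1) / 2) + 1 = _
  omega

theorem NR_1 (m : ℕ) : 4 * NR (3 ^ m) 1 = 3 * (3 ^ m) ^ 2 + 1 := by
  have := sq_mod8 m
  show 4 * ((3 * (3 ^ m) ^ 2 + 1) / 4) = _
  omega

theorem NR_3 (m : ℕ) : NR (3 ^ m) 3 + 3 * 3 ^ m = 3 * (3 ^ m) ^ 2 + 1 := by
  have hb : 1 ≤ 3 ^ m := Nat.one_le_pow _ _ (by norm_num)
  have := (le_sq' hb).1
  show 3 * (3 ^ m) ^ 2 + 1 - 3 * 3 ^ m + 3 * 3 ^ m = _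
  omega

theorem odd_three (m : ℕ) : 3 ^ m % 2 = 1 := by
  rw [Nat.pow_mod, show 3 % 2 = 1 by norm_num, one_pow]
  rfl

theorem NR_cop6 (m : ℕ) (i : ℕ) : Nat.Coprime (NR (3 ^ m) i) 6 := by
  have h8 := sq_mod8 m
  have h0 := NR_0 m
  have h1 := NR_1 m
  have h3 := NR_3 m
  have ho := odd_three m
  match i with
  | 0 => exact cop6_of (by omega) (by omega)
  | 1 => exact cop6_of (by omega) (by omega)
  | 2 =>
    have h2 : NR (3 ^ m) 2 = 3 * (3 ^ m) ^ 2 + 3 * 3 ^ m + 1 := rfl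
    exact cop6_of (by omega) (by omega)
  | n + 3 =>
    have h4 : NR (3 ^ m) (n + 3) = NR (3 ^ m) 3 := rfl
    rw [h4]
    exact cop6_of (by omega) (by omega)

theorem two_half (m : ℕ) : (2 * m + 1 + 1) / 2 = m + 1 := by omega

theorem three_pow_f (m : ℕ) : (3 : ℤ) ^ (2 * m + 1) = 3 * (3 ^ m) ^ 2 := by rw [← pow_mul]; ring

theorem NR_dvd (m : ℕ) {i d : ℕ} (h : d ∣ NR (3 ^ m) i) (hi : i < 4) : (d : ℤ) ∣ NRee (2 * m + 1) i := by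
  have h0 := NR_0 m
  have h1 := NR_1 m
  have h3 := NR_3 m
  have h5 : (d : ℤ) ∣ ((NR (3 ^ m) i : ℕ) : ℤ) := Int.natCast_dvd_natCast.2 h
  interval_cases i
  · show (d : ℤ) ∣ 3 ^ (2 * m + 1) - 1
    have h6 : ((2 * NR (3 ^ m) 0 + 1 : ℕ) : ℤ) = ((3 * (3 ^ m) ^ 2 : ℕ) : ℤ) := by rw [h0]
    push_cast at h6
    rw [three_pow_f, ← h6, show (2 * ((NR (3 ^ m) 0 : ℕ) : ℤ) + 1 - 1) = 2 * ((NR (3 ^ m) 0 : ℕ) : ℤ) by ring]
    exact h5.mul_left _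
  · show (d : ℤ) ∣ 3 ^ (2 * m + 1) + 1
    have h6 : ((4 * NR (3 ^ m) 1 : ℕ) : ℤ) = ((3 * (3 ^ m) ^ 2 + 1 : ℕ) : ℤ) := by rw [h1]
    push_cast at h6
    rw [three_pow_f, ← h6]
    exact h5.mul_left _
  · show (d : ℤ) ∣ 3 ^ (2 * m + 1) + 3 ^ ((2 * m + 1 + 1) / 2) + 1
    rw [three_pow_f, two_half]
    have h6 : ((NR (3 ^ m) 2 : ℕ) : ℤ) = 3 * (3 ^ m) ^ 2 + 3 * 3 ^ m + 1 := by
      show ((3 * (3 ^ m) ^ 2 + 3 * 3 ^ m + 1 : ℕ) : ℤ) = _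
      push_cast
      ring
    rw [h6] at h5
    rwa [show (3 : ℤ) * (3 ^ m) ^ 2 + 3 ^ (m + 1) + 1 = 3 * (3 ^ m) ^ 2 + 3 * 3 ^ m + 1 by ring]
  · show (d : ℤ) ∣ 3 ^ (2 * m + 1) - 3 ^ ((2 * m + 1 + 1) / 2) + 1
    rw [three_pow_f, two_half]
    have h6 : ((NR (3 ^ m) 3 + 3 * 3 ^ m : ℕ) : ℤ) = ((3 * (3 ^ m) ^ 2 + 1 : ℕ) : ℤ) := by rw [h3]
    push_cast at h6
    rwa [show (3 : ℤ) * (3 ^ m) ^ 2 - 3 ^ (m + 1) + 1 = ((NR (3 ^ m) 3 : ℕ) : ℤ) by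
      rw [pow_succ]
      linear_combination -h6]

theorem NR_prod (m : ℕ) : 8 * (([0, 1, 2, 3].map (NR (3 ^ m))).prod : ℕ) =
    ((3 ^ (2 * m + 1)) ^ 2 - 1) * ((3 ^ (2 * m + 1)) ^ 2 + 1 - 3 ^ (2 * m + 1)) := by
  have h0 := NR_0 m
  have h1 := NR_1 m
  have h3 := NR_3 m
  have hu : (3 : ℤ) ^ (2 * m + 1) = 3 * (3 ^ m) ^ 2 := three_pow_f m
  have hsub : 3 ^ (2 * m + 1) ≤ (3 ^ (2 * m + 1)) ^ 2 + 1 := (Nat.le_self_pow two_ne_zero _).trans (Nat.le_succ _)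
  have hsub1 : 1 ≤ (3 ^ (2 * m + 1)) ^ 2 := Nat.one_le_pow _ _ (Nat.pos_of_ne_zero (by positivity))
  have h2 : NR (3 ^ m) 2 = 3 * (3 ^ m) ^ 2 + 3 * 3 ^ m + 1 := rfl
  zify [hsub, hsub1]
  zify at h0 h1 h2 h3
  simp only [List.map_cons, List.map_nil, List.prod_cons, List.prod_nil, mul_one]
  push_cast
  rw [hu]
  generalize (3 : ℤ) ^ m = b at *
  generalize ((NR (3 ^ m) 0 : ℕ) : ℤ) = n0 at *
  generalize ((NR (3 ^ m) 1 : ℕ) : ℤ) = n1 at *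
  generalize ((NR (3 ^ m) 2 : ℕ) : ℤ) = n2 at *
  generalize ((NR (3 ^ m) 3 : ℕ) : ℤ) = n3 at *
  have e0 : 2 * n0 = 3 * b ^ 2 - 1 := by linear_combination h0
  have e3 : n3 = 3 * b ^ 2 - 3 * b + 1 := by linear_combination h3
  calc 8 * (n0 * (n1 * (n2 * n3))) = (2 * n0) * ((4 * n1) * (n2 * n3)) := by ring
    _ = _ := by rw [e0, h1, h2, e3]; ring

end ree

section main

variable {t : Fam} {p f : ℕ} {L : Type w} [Group L] [Finite L] {G : Type u} [Group G] [Finite G]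
  {K : Subgroup G} [K.Normal] {S : Subgroup (G ⧸ K)} [S.Normal] {v f' : ℕ}

/-- the orders of `²G₂` -/
theorem ree_ord {X : Type u} [Group X] (hS : Fam.Is v f' X .ree) :
    v = 3 ∧ ∃ m, 1 ≤ m ∧ f' = 2 * m + 1 ∧ (∀ i d : ℕ, i < 4 → d ∣ NR (3 ^ m) i → ∃ x : X, orderOf x = d) ∧
      ∀ x : X, (orderOf x).Coprime 6 → ∃ i < 4, orderOf x ∣ NR (3 ^ m) i := by
  obtain ⟨rfl, m, hm, rfl, F, _, _, hF, ⟨e⟩⟩ := hS
  have hR := fun d => Cfsg.Agent.S1159.result hm hF d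
  have e0 := NR_0 m
  have e1 := NR_1 m
  have e3 := NR_3 m
  have e2 : NR (3 ^ m) 2 = 3 * (3 ^ m) ^ 2 + 3 * 3 ^ m + 1 := rfl
  have hu : 3 ^ (2 * m + 1) = 3 * (3 ^ m) ^ 2 := by rw [← pow_mul]; ring
  have hv : 3 ^ (m + 1) = 3 * 3 ^ m := by ring
  have c0 : 3 ^ (2 * m + 1) - 1 = 2 * NR (3 ^ m) 0 := by omega
  have c1 : (3 ^ (2 * m + 1) + 1) / 2 = 2 * NR (3 ^ m) 1 := by omega
  have c2 : 3 ^ (2 * m + 1) + 3 ^ (m + 1) + 1 = NR (3 ^ m) 2 := by omega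
  have c3 : 3 ^ (2 * m + 1) - 3 ^ (m + 1) + 1 = NR (3 ^ m) 3 := by
    have hb : 1 ≤ 3 ^ m := Nat.one_le_pow _ _ (by norm_num)
    have := (le_sq' hb).1
    omega
  refine ⟨rfl, m, hm, rfl, fun i d hi hd => ?_, fun x hx => ?_⟩
  · have key : ∃ g : ↥(Cfsg.Lie.twistedG2 F (3 ^ m)), orderOf g = d := by
      rw [hR, c0, c1, c2, c3]
      interval_cases i
      · exact Or.inr (Or.inr (Or.inl (hd.mul_left _)))
      · exact Or.inr (Or.inr (Or.inr (Or.inl (hd.mul_left _))))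
      · exact Or.inr (Or.inr (Or.inr (Or.inr (Or.inr hd))))
      · exact Or.inr (Or.inr (Or.inr (Or.inr (Or.inl hd))))
    obtain ⟨x, hx⟩ := key
    exact ⟨e.symm x, by rw [MulEquiv.orderOf_eq, hx]⟩
  · have h1 : ∃ g : ↥(Cfsg.Lie.twistedG2 F (3 ^ m)), orderOf g = orderOf x := ⟨e x, MulEquiv.orderOf_eq e x⟩
    rw [hR, c0, c1, c2, c3] at h1
    have hc2 : Nat.Coprime (orderOf x) 2 := hx.coprime_dvd_right (by norm_num)
    have h61 : ∀ n : ℕ, (orderOf x).Coprime n → orderOf x ∣ n → orderOf x ∣ NR (3 ^ m) 0 := by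
      intro n hn hd
      have h2 : orderOf x = 1 := by
        have h3 := Nat.Coprime.gcd_eq_one hn
        rwa [Nat.gcd_eq_left hd] at h3
      rw [h2]
      exact one_dvd _
    rcases h1 with h | h | h | h | h | h
    · exact ⟨0, by norm_num, h61 6 hx h⟩
    · exact ⟨0, by norm_num, h61 9 (by
        rw [show (9 : ℕ) = 3 ^ 2 by norm_num]
        exact Nat.Coprime.pow_right 2 (hx.coprime_dvd_right (by norm_num))) h⟩
    · exact ⟨0, by norm_num, hc2.dvd_of_dvd_mul_left h⟩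
    · exact ⟨1, by norm_num, hc2.dvd_of_dvd_mul_left h⟩
    · exact ⟨3, by norm_num, h⟩
    · exact ⟨2, by norm_num, h⟩

/-- **`²G₂(u)`** -/
theorem bigSRee (h : LS t p f L G) (hI : Fam.Is p f L t) (hp2 : p ≠ 2) (hrk : rk t ≤ 8) (hw8 : wt t 8 ≤ rk t)
    (hw6 : wt t 6 ≤ rk t) (hS : Fam.Is v f' ↥S .ree) :
    36 * (((v ^ f') ^ 2 - 1) * ((v ^ f') ^ 2 + 1 - v ^ f')) ≤ max 169 (p ^ f) * RR t (p ^ f) := by
  obtain ⟨rfl, m, hm, rfl, ho, -⟩ := ree_ord hS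
  have key : ∀ i j : ℕ, i < 4 → j < 4 → i ≠ j → Nat.Coprime (NR (3 ^ m) i) (NR (3 ^ m) j) := fun i j hi hj hij =>
    cop_of_prime fun r hr h1 h2 => hij (NRee_uniq rfl hr (five_of (NR_cop6 m i) hr h1) hi hj
      (NR_dvd m h1 hi) (NR_dvd m h2 hj))
  have h1 := prod_leS h hI hp2 hrk hw8 hw6 (A := [0, 1, 2, 3]) (N := NR (3 ^ m)) (by
      simp only [List.pairwise_cons, List.mem_cons, List.not_mem_nil, or_false, List.Pairwise.nil, and_true]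
      refine ⟨?_, ?_, ?_, fun _ h => h.elim⟩
      · rintro b (rfl | rfl | rfl) <;> exact key _ _ (by norm_num) (by norm_num) (by norm_num)
      · rintro b (rfl | rfl) <;> exact key _ _ (by norm_num) (by norm_num) (by norm_num)
      · rintro b rfl
        exact key _ _ (by norm_num) (by norm_num) (by norm_num)) (fun a _ h0 => by
      have h1 := NR_cop6 m a
      rw [h0] at h1
      norm_num at h1) (fun a _ => NR_cop6 m a)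
    (fun a ha y e _ _ hd => exists_of_S (S := S) (ho a (y ^ e) ((by decide : ∀ a ∈ [0, 1, 2, 3], a < 4) a ha) hd))
  calc 36 * (((3 ^ (2 * m + 1)) ^ 2 - 1) * ((3 ^ (2 * m + 1)) ^ 2 + 1 - 3 ^ (2 * m + 1))) =
      36 * (8 * (([0, 1, 2, 3].map (NR (3 ^ m))).prod : ℕ)) := by rw [NR_prod]
    _ = 288 * ([0, 1, 2, 3].map (NR (3 ^ m))).prod := by ring
    _ ≤ _ := h1

end main

end Cfsg.Agent.R2.Spec.EE
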