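import Cfsg.Agent.R2.Spec.EE.NumM

/-!
# The numbers of the regular classes, exact form (helper15, after helper8's `NumM`)

* `class_big7` : `M * e = Φ_n(q)`, `e = 1` or `e` is a prime dividing `n`, all primes of `M` have `n` as order of `q`;
* `class_num7` : the same for the class `i` of a classical family, `e` a divisor of `l`.
-/

set_option autoImplicit false
set_option linter.unusedSectionVars false

namespace Cfsg.Agent.R2.Spec.EE

open Cfsg Polynomial
open Cfsg.Agent.H426.LieFam Cfsg.Agent.R2.Spec Cfsg.Agent.R2.Spec.P1 Cfsg.Agent.R2.Spec.F1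
open Cfsg.Agent.H365.Zsig

/-- the primitive part of `Φ_n(q)` -/
theorem class_big7 {n q : ℕ} (hn : 3 ≤ n) (hq : 3 ≤ q) :
    ∃ M e : ℕ, M * e = Ph n q ∧ (e = 1 ∨ (e.Prime ∧ e ∣ n)) ∧ (∀ r : ℕ, r.Prime → r ∣ M → orderOf (q : ZMod r) = n) := by
  have hPh1 : 1 < Ph n q := Ph_gt_one (by omega) (by omega)
  by_cases hex : ∃ r : ℕ, r.Prime ∧ r ∣ Ph n q ∧ orderOf (q : ZMod r) ≠ n
  · obtain ⟨r, hr, hrd, hro⟩ := hex
    obtain ⟨k, m, hnk, hrm, hord, hmr, hm0⟩ := (prime_dvd_Ph (by omega) (by omega) hr hrd).resolve_left hro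
    have hsq := sq_not_dvd hn (by omega) hr hnk hrm hord hmr hm0
    obtain ⟨M, hM⟩ := hrd
    have hrn : r ∣ n := by rw [hnk]; exact (dvd_pow_self r (Nat.succ_ne_zero k)).mul_right m
    have hprim : ∀ s : ℕ, s.Prime → s ∣ M → orderOf (q : ZMod s) = n := by
      intro s hs hsM
      have hsd : s ∣ Ph n q := by rw [hM]; exact hsM.mul_left r
      rcases prime_dvd_Ph (by omega) (by omega) hs hsd with h | ⟨k', m', hnk', hrm', hord', hmr', hm0'⟩
      · exact h
      · exfalso
        have hsn : s ∣ n := by rw [hnk']; exact (dvd_pow_self s (Nat.succ_ne_zero k')).mul_right m'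
        -- `s = r`
        have h1 : ∀ {a b e c : ℕ}, a.Prime → b.Prime → n = a ^ (e + 1) * c → c ∣ a - 1 → b ∣ n → b ≤ a := by
          intro a b e c ha hb hn' hc hbn
          rw [hn'] at hbn
          rcases hb.dvd_mul.1 hbn with h | h
          · exact ((Nat.prime_dvd_prime_iff_eq hb ha).1 (hb.dvd_of_dvd_pow h)).le
          · have := Nat.le_of_dvd (by have := ha.two_le; omega) (h.trans hc)
            omega
        have hsr : s = r := le_antisymm (h1 hr hs hnk hmr hsn) (h1 hs hr hnk' hmr' hrn)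
        subst hsr
        apply hsq
        rw [hM, pow_two]
        exact Nat.mul_dvd_mul_left s hsM
    exact ⟨M, r, by rw [hM, mul_comm], Or.inr ⟨hr, hrn⟩, hprim⟩
  · push Not at hex
    exact ⟨Ph n q, 1, mul_one _, Or.inl rfl, hex⟩

theorem class_num7 {t : Fam} (ht : Classical t) {q i : ℕ} (hq : q % 2 = 1) (hq3 : 3 ≤ q) (hi : 3 ≤ i) (hm : mem t i) :
    ∃ M e : ℕ, M * e = Ph (idx t i) q ∧ (e = 1 ∨ (e.Prime ∧ e ∣ idx t i)) ∧ M ∣ tnum t q i ∧ Odd M ∧
      (∀ r : ℕ, r.Prime → r ∣ M → In t q i r) := by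
  -- the common part
  have fin : ∀ M e n : ℕ, 3 ≤ n → (∀ r : ℕ, r.Prime → r ∣ M → orderOf (q : ZMod r) = n) →
      (∀ r : ℕ, r.Prime → r ≠ 2 → orderOf (q : ZMod r) = n → cls t q r = i) → M ∣ tnum t q i →
      M * e = Ph (idx t i) q → (e = 1 ∨ (e.Prime ∧ e ∣ idx t i)) →
      ∃ M e : ℕ, M * e = Ph (idx t i) q ∧ (e = 1 ∨ (e.Prime ∧ e ∣ idx t i)) ∧ M ∣ tnum t q i ∧ Odd M ∧
        (∀ r : ℕ, r.Prime → r ∣ M → In t q i r) := by
    intro M e n hn hM2 hcl hMt hMq he
    have h2 : ¬ 2 ∣ M := by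
      intro h2
      have h3 := hM2 2 Nat.prime_two h2
      have h4 : orderOf ((q : ℕ) : ZMod 2) ∣ 2 - 1 := by
        have := Fact.mk Nat.prime_two
        apply ZMod.orderOf_dvd_card_sub_one
        rw [Ne, ZMod.natCast_eq_zero_iff]
        omega
      rw [h3] at h4
      have := Nat.le_of_dvd (by norm_num) h4
      omega
    have hin : ∀ r : ℕ, r.Prime → r ∣ M → In t q i r := fun r hr hrM =>
      ⟨hr, hcl r hr (fun h => h2 (h ▸ hrM)) (hM2 r hr hrM), hi, hm⟩
    exact ⟨M, e, hMq, he, hMt, Nat.odd_iff.2 (by omega), hin⟩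
  have hnpsu : ∀ {n r : ℕ}, (∀ m, t ≠ .psu m) → orderOf (q : ZMod r) = n → cls t q r = n := by
    intro n r h1 h2
    rw [cls_eq_co h1, ← h2]
    rfl
  by_cases hpsu : ∀ m, t ≠ .psu m
  · have hidx : idx t i = i := by
      cases t with
      | psu n => exact absurd rfl (hpsu n)
      | _ => rfl
    obtain ⟨M, e, hM1, he, hM3⟩ := class_big7 (n := i) hi hq3
    have hMd : M ∣ q ^ i - 1 := (Dvd.intro e hM1).trans (Ph_dvd (by omega) (by omega))
    refine fin M e i hi hM3 (fun r _ _ h => hnpsu hpsu h) ?_ (by rw [hidx]; exact hM1) (by rw [hidx]; exact he)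
    by_cases hpsl : ∀ m, t ≠ .psl m
    · rw [tnum_tn hpsl hpsu]
      unfold Cfsg.Agent.H72.AdjOrth.tn
      split_ifs with he
      · obtain ⟨j, hj⟩ := he
        have hj' : i / 2 = j := by omega
        rw [hj']
        have hij : i = 2 * j := by omega
        rw [hij] at hMd hM3
        exact dvd_plus (by omega) (by omega) hMd hM3
      · exact hMd
    · push Not at hpsl
      obtain ⟨m, rfl⟩ := hpsl
      exact hMd
  · push Not at hpsu
    obtain ⟨m, rfl⟩ := hpsu
    obtain ⟨M, e, hM1, he, hM3⟩ := class_big7 (n := dl i) (dl_three hi) hq3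
    have hMd : M ∣ q ^ dl i - 1 := (Dvd.intro e hM1).trans (Ph_dvd (by have := dl_three hi; omega) (by omega))
    refine fin M e (dl i) (dl_three hi) hM3 (fun r hr hr2 h => ?_) ?_ hM1 he
    · rw [cls, sg]
      push_cast
      exact neg_order hr hr2 hi h
    · unfold tnum
      simp only
      split_ifs with he
      · refine hMd.trans ?_
        have h1 : dl i ∣ i := by
          unfold dl
          split_ifs with h2 h3
          · exact dvd_rfl
          · exact Nat.div_dvd_of_dvd (Nat.dvd_of_mod_eq_zero h3)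
          · exact absurd (Nat.even_iff.1 he) h3
        exact Nat.pow_sub_one_dvd_pow_sub_one q h1
      · have h1 : dl i = 2 * i := by
          unfold dl
          rw [if_neg (by rw [Nat.even_iff] at he; omega), if_neg (by rw [Nat.even_iff] at he; omega)]
        rw [h1] at hMd hM3
        exact dvd_plus (by omega) (by omega) hMd hM3

end Cfsg.Agent.R2.Spec.EE
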