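import Cfsg.Agent.R2.Spec.EE.TabDef
import Cfsg.Agent.R2.Spec.EE.CertTab
import Cfsg.Agent.H168.ExcE6

/-!
# S3435, EE, packet ORD (helper8): elements of order `m ∣ Φ_a(q)` in `E₈(q)`, `E₇(q)`, `E₆(q)`

* `exists_order_of_dvd` : an element of order `m` in the cokernel of `w - q`, every `m ∣ f(q)`;
* `ord_of_eig`, `ord2_of_eig` : elements of `D.group F`;
* `ord8`, `ord7`, `ord6`.
-/

set_option autoImplicit false
set_option linter.unusedSectionVars false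

namespace Cfsg.Agent.R2.Spec.EE

open CoxeterSystem Subgroup Cfsg Cfsg.Lie Cfsg.Lie.ChevalleyDatum
open Cfsg.Agent.ChevalleyStructure Cfsg.Agent.ChevalleyStructure.Elts Cfsg.Agent.ChevalleyStructure.CoxeterGeom
  Cfsg.Agent.ChevalleyStructure.CoxeterGeomTypes Cfsg.Agent.ChevalleyStructure.NPerm
open Cfsg.Agent.Tits.Roots Cfsg.Agent.Tits.Core Cfsg.Agent.Nodes.Reps Cfsg.Agent.Nodes.BNOf
  Cfsg.Agent.Nodes.RGDChev Cfsg.Agent.Nodes.Bruhat
open Cfsg.Agent.KFacts.RgdField Cfsg.Agent.KFacts.RgdChevCoord Cfsg.Agent.BpExc.TorCent Cfsg.Agent.BpExc.TorChev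
open Cfsg.Agent.BpExc.Tow Cfsg.Agent.BpExc.TowChev Cfsg.Agent.BpExc.FamExt Cfsg.Agent.BpExc.FamUntw
  Cfsg.Agent.BpExc.FamInst Cfsg.Agent.BpExc.LangFr Cfsg.Agent.BpExc.FamField
open Cfsg.Agent.H378.TorDual Cfsg.Agent.H378.TorChar Cfsg.Agent.H378.TorFin
open Cfsg.Agent.H493 Cfsg.Agent.H493.PGTorus Cfsg.Agent.H493.PGCyc

universe u

section

variable {l : ℕ} {w : Module.End ℤ (Fin l → ℤ)} {Th : Fin l → Fin l → ℤ}

/-- **An element of order `m` in the cokernel.** -/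
theorem exists_order_of_dvd (hw : ∀ (x : Fin l → ℤ) (m : Fin l), w x m = ∑ j, x j * Th j m) {n : ℕ} (hn : 0 < n)
    (hwn : w ^ n = 1) {f : ℕ} {c : Fin (f + 1) → ℤ} {V : Fin (f + 1) → Fin l → ℤ} {U : Fin l → ℤ}
    (h : EigOK Th c V U) {q : ℤ} (hq : 2 ≤ q) {m : ℕ} (hd : (m : ℤ) ∣ pv c q) :
    ∃ y : Multiplicative ((Fin l → ℤ) ⧸ LinearMap.range (w - q • (1 : Module.End ℤ (Fin l → ℤ)))),
      orderOf y = m := by
  obtain ⟨N, hN⟩ := hd
  have h1 := eig_apply hw h q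
  have h2 := eig_unit h q
  set v := vval V q
  let u : Fin l → ℤ := -N • V (Fin.last f)
  have hu : (w - q • (1 : Module.End ℤ (Fin l → ℤ))) v = (m : ℤ) • u := by
    rw [h1, hN]
    show _ = (m : ℤ) • (-N • V (Fin.last f))
    rw [smul_smul]
    congr 1
    ring
  -- `m ≠ 0`
  have hm0 : m ≠ 0 := by
    rintro rfl
    have h3 : v = 0 := sub_injective hn hwn hq (by rw [hu]; simp)
    rw [h3] at h2
    simp at h2
  refine ⟨Multiplicative.ofAdd (Submodule.Quotient.mk u), ?_⟩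
  have hpow : ∀ k : ℕ, (Multiplicative.ofAdd (Submodule.Quotient.mk u :
      (Fin l → ℤ) ⧸ LinearMap.range (w - q • (1 : Module.End ℤ (Fin l → ℤ))))) ^ k = 1 ↔
      ∃ v', (w - q • (1 : Module.End ℤ (Fin l → ℤ))) v' = (k : ℤ) • u := by
    intro k
    rw [← ofAdd_nsmul]
    constructor
    · intro h0
      have h3 := Multiplicative.ofAdd.injective (h0.trans ofAdd_zero.symm)
      rw [← Submodule.Quotient.mk_smul, Submodule.Quotient.mk_eq_zero] at h3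
      obtain ⟨v', hv'⟩ := h3
      exact ⟨v', by rw [hv', natCast_zsmul]⟩
    · rintro ⟨v', hv'⟩
      apply Multiplicative.toAdd.injective
      rw [toAdd_ofAdd, toAdd_one, ← Submodule.Quotient.mk_smul, Submodule.Quotient.mk_eq_zero]
      exact ⟨v', by rw [hv', natCast_zsmul]⟩
  obtain ⟨j, hj⟩ := orderOf_dvd_of_pow_eq_one ((hpow m).2 ⟨v, hu⟩)
  obtain ⟨v', hv'⟩ := (hpow _).1 (pow_orderOf_eq_one (Multiplicative.ofAdd (Submodule.Quotient.mk u :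
      (Fin l → ℤ) ⧸ LinearMap.range (w - q • (1 : Module.End ℤ (Fin l → ℤ))))))
  have h4 : (w - q • (1 : Module.End ℤ (Fin l → ℤ))) (v - (j : ℤ) • v') = 0 := by
    have h5 : (m : ℤ) • u = (j : ℤ) • ((w - q • (1 : Module.End ℤ (Fin l → ℤ))) v') := by
      have h6 : ∀ o : ℕ, m = o * j → (m : ℤ) • u = (j : ℤ) • ((o : ℤ) • u) := by
        intro o ho
        rw [ho, Nat.cast_mul, mul_comm, mul_smul]
      rw [hv']
      exact h6 _ hj
    rw [map_sub, map_smul, hu, h5, sub_self]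
  have h6 : v = (j : ℤ) • v' := sub_eq_zero.mp (sub_injective hn hwn hq h4)
  rw [h6] at h2
  have h7 : (j : ℤ) ∣ 1 := by
    rw [← h2]
    refine Finset.dvd_sum fun i _ => ?_
    show (j : ℤ) ∣ U i * ((j : ℤ) * v' i)
    exact ⟨U i * v' i, by ring⟩
  have h8 : j = 1 := by
    have h9 : (j : ℤ) ∣ ((1 : ℕ) : ℤ) := by simpa using h7
    exact Nat.dvd_one.1 (Int.natCast_dvd_natCast.1 h9)
  rw [hj, h8, mul_one]

end

/-- the order of an image -/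
theorem orderOf_hom {A B : Type*} [Group A] [Group B] (φ : A →* B) {d : ℕ} (hφ : ∀ x, φ x = 1 → x ^ d = 1) {x : A}
    {m : ℕ} (hx : orderOf x = m) (hm : Nat.Coprime m d) : orderOf (φ x) = m := by
  have h1 : orderOf (φ x) ∣ m := by
    rw [← hx]
    exact orderOf_map_dvd φ x
  apply Nat.dvd_antisymm h1
  have h2 : x ^ (orderOf (φ x) * d) = 1 := by
    rw [pow_mul]
    apply hφ
    rw [map_pow, pow_orderOf_eq_one]
  have h3 := orderOf_dvd_of_pow_eq_one h2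
  rw [hx] at h3
  exact hm.dvd_of_dvd_mul_right h3

section

variable {D : ChevalleyDatum} {l : ℕ} {M : CoxeterMatrix (Fin l)} (hp : IsType D l M) {W : Type*} [Group W] [Finite W]
  (cs : CoxeterSystem M W)

/-- **Elements of order `m ∣ f(q)`.** -/
theorem ord_of_eig {d : ℕ} {B : Fin l → Fin l → ℤ} (hB : InvC D l d B) (hd : d ≠ 0) {F : Type u} [Field F] [Finite F]
    {w : W} {Th : Fin l → Fin l → ℤ} (hw : ∀ j, rep cs hp.isCartan w (sr j) = Th j)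
    {f : ℕ} {c : Fin (f + 1) → ℤ} {V : Fin (f + 1) → Fin l → ℤ} {U : Fin l → ℤ} (h : EigOK Th c V U)
    {m : ℕ} (hm : Nat.Coprime m d) (h1 : (m : ℤ) ∣ pv c (Nat.card F)) : ∃ x : D.group F, orderOf x = m := by
  obtain ⟨φ, hφ⟩ := exists_hom hp cs hB hd (F := F) w
  have hq : (2 : ℤ) ≤ (Nat.card F : ℤ) := by
    exact_mod_cast Finite.one_lt_card
  have hwn : (rep cs hp.isCartan w) ^ Nat.card W = 1 := by
    rw [← map_pow, pow_card_eq_one', map_one]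
  obtain ⟨x, hx⟩ := exists_order_of_dvd (rep_apply_eq hp cs hw) Nat.card_pos hwn h hq h1
  exact ⟨φ x, orderOf_hom φ hφ hx hm⟩

end

/-- **Elements of order `m ∣ Φ_a(q)` in `chevE8`.** -/
theorem ord8 {F : Type u} [Field F] [Finite F] {a m : ℕ} (ha : a ∈ clE8)
    (hm : (m : ℤ) ∣ CertTab.cyc a (Nat.card F)) : ∃ x : chevE8.group F, orderOf x = m := by
  have := PGE8.finW
  simp only [clE8, List.mem_cons, List.not_mem_nil, or_false] at ha
  rcases ha with rfl | rfl | rfl | rfl | rfl | rfl | rfl | rfl | rfl | rfl | rfl | rfl | rfl | rfl | rfl | rfl | rfl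
  · exact ord_of_eig PGE8.hp CoxeterMatrix.E₈.toCoxeterSystem H129.TorusChar.invC_E8 one_ne_zero
      (H129.WData.chain_rep PGE8.hp CoxeterMatrix.E₈.toCoxeterSystem PGE8.hA Cfsg.Agent.H168.ExcE8.ch1_ok) Cfsg.Agent.H168.ExcE8.eig_1 (Nat.coprime_one_right m) hm
  · exact ord_of_eig PGE8.hp CoxeterMatrix.E₈.toCoxeterSystem H129.TorusChar.invC_E8 one_ne_zero
      (H129.WData.chain_rep PGE8.hp CoxeterMatrix.E₈.toCoxeterSystem PGE8.hA Cfsg.Agent.H168.ExcE8.ch2_ok) Cfsg.Agent.H168.ExcE8.eig_2 (Nat.coprime_one_right m) hm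
  · exact ord_of_eig PGE8.hp CoxeterMatrix.E₈.toCoxeterSystem H129.TorusChar.invC_E8 one_ne_zero
      (H129.WData.chain_rep PGE8.hp CoxeterMatrix.E₈.toCoxeterSystem PGE8.hA Cfsg.Agent.H168.ExcE8.ch3_ok) Cfsg.Agent.H168.ExcE8.eig_3 (Nat.coprime_one_right m) hm
  · exact ord_of_eig PGE8.hp CoxeterMatrix.E₈.toCoxeterSystem H129.TorusChar.invC_E8 one_ne_zero
      (H129.WData.chain_rep PGE8.hp CoxeterMatrix.E₈.toCoxeterSystem PGE8.hA Cfsg.Agent.H168.ExcE8.ch4_ok) Cfsg.Agent.H168.ExcE8.eig_4 (Nat.coprime_one_right m) hm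
  · exact ord_of_eig PGE8.hp CoxeterMatrix.E₈.toCoxeterSystem H129.TorusChar.invC_E8 one_ne_zero
      (H129.WData.chain_rep PGE8.hp CoxeterMatrix.E₈.toCoxeterSystem PGE8.hA Cfsg.Agent.H168.ExcE8.ch5_ok) Cfsg.Agent.H168.ExcE8.eig_5 (Nat.coprime_one_right m) hm
  · exact ord_of_eig PGE8.hp CoxeterMatrix.E₈.toCoxeterSystem H129.TorusChar.invC_E8 one_ne_zero
      (H129.WData.chain_rep PGE8.hp CoxeterMatrix.E₈.toCoxeterSystem PGE8.hA Cfsg.Agent.H168.ExcE8.ch6_ok) Cfsg.Agent.H168.ExcE8.eig_6 (Nat.coprime_one_right m) hm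
  · exact ord_of_eig PGE8.hp CoxeterMatrix.E₈.toCoxeterSystem H129.TorusChar.invC_E8 one_ne_zero
      (H129.WData.chain_rep PGE8.hp CoxeterMatrix.E₈.toCoxeterSystem PGE8.hA Cfsg.Agent.H168.ExcE8.ch7_ok) Cfsg.Agent.H168.ExcE8.eig_7 (Nat.coprime_one_right m) hm
  · exact ord_of_eig PGE8.hp CoxeterMatrix.E₈.toCoxeterSystem H129.TorusChar.invC_E8 one_ne_zero
      (H129.WData.chain_rep PGE8.hp CoxeterMatrix.E₈.toCoxeterSystem PGE8.hA Cfsg.Agent.H168.ExcE8.ch8_ok) Cfsg.Agent.H168.ExcE8.eig_8 (Nat.coprime_one_right m) hm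
  · exact ord_of_eig PGE8.hp CoxeterMatrix.E₈.toCoxeterSystem H129.TorusChar.invC_E8 one_ne_zero
      (H129.WData.chain_rep PGE8.hp CoxeterMatrix.E₈.toCoxeterSystem PGE8.hA Cfsg.Agent.H168.ExcE8.ch9_ok) Cfsg.Agent.H168.ExcE8.eig_9 (Nat.coprime_one_right m) hm
  · exact ord_of_eig PGE8.hp CoxeterMatrix.E₈.toCoxeterSystem H129.TorusChar.invC_E8 one_ne_zero
      (H129.WData.chain_rep PGE8.hp CoxeterMatrix.E₈.toCoxeterSystem PGE8.hA Cfsg.Agent.H168.ExcE8.ch10_ok) Cfsg.Agent.H168.ExcE8.eig_10 (Nat.coprime_one_right m) hm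
  · exact ord_of_eig PGE8.hp CoxeterMatrix.E₈.toCoxeterSystem H129.TorusChar.invC_E8 one_ne_zero
      (H129.WData.chain_rep PGE8.hp CoxeterMatrix.E₈.toCoxeterSystem PGE8.hA Cfsg.Agent.H168.ExcE8.ch12_ok) Cfsg.Agent.H168.ExcE8.eig_12 (Nat.coprime_one_right m) hm
  · exact ord_of_eig PGE8.hp CoxeterMatrix.E₈.toCoxeterSystem H129.TorusChar.invC_E8 one_ne_zero
      (H129.WData.chain_rep PGE8.hp CoxeterMatrix.E₈.toCoxeterSystem PGE8.hA Cfsg.Agent.H168.ExcE8.ch14_ok) Cfsg.Agent.H168.ExcE8.eig_14 (Nat.coprime_one_right m) hm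
  · exact ord_of_eig PGE8.hp CoxeterMatrix.E₈.toCoxeterSystem H129.TorusChar.invC_E8 one_ne_zero
      (H129.WData.chain_rep PGE8.hp CoxeterMatrix.E₈.toCoxeterSystem PGE8.hA Cfsg.Agent.H168.ExcE8.ch15_ok) Cfsg.Agent.H168.ExcE8.eig_15 (Nat.coprime_one_right m) hm
  · exact ord_of_eig PGE8.hp CoxeterMatrix.E₈.toCoxeterSystem H129.TorusChar.invC_E8 one_ne_zero
      (H129.WData.chain_rep PGE8.hp CoxeterMatrix.E₈.toCoxeterSystem PGE8.hA Cfsg.Agent.H168.ExcE8.ch18_ok) Cfsg.Agent.H168.ExcE8.eig_18 (Nat.coprime_one_right m) hm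
  · exact ord_of_eig PGE8.hp CoxeterMatrix.E₈.toCoxeterSystem H129.TorusChar.invC_E8 one_ne_zero
      (H129.WData.chain_rep PGE8.hp CoxeterMatrix.E₈.toCoxeterSystem PGE8.hA Cfsg.Agent.H168.ExcE8.ch20_ok) Cfsg.Agent.H168.ExcE8.eig_20 (Nat.coprime_one_right m) hm
  · exact ord_of_eig PGE8.hp CoxeterMatrix.E₈.toCoxeterSystem H129.TorusChar.invC_E8 one_ne_zero
      (H129.WData.chain_rep PGE8.hp CoxeterMatrix.E₈.toCoxeterSystem PGE8.hA Cfsg.Agent.H168.ExcE8.ch24_ok) Cfsg.Agent.H168.ExcE8.eig_24 (Nat.coprime_one_right m) hm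
  · exact ord_of_eig PGE8.hp CoxeterMatrix.E₈.toCoxeterSystem H129.TorusChar.invC_E8 one_ne_zero
      (H129.WData.chain_rep PGE8.hp CoxeterMatrix.E₈.toCoxeterSystem PGE8.hA Cfsg.Agent.H168.ExcE8.ch30_ok) Cfsg.Agent.H168.ExcE8.eig_30 (Nat.coprime_one_right m) hm

/-- **Elements of order `m ∣ Φ_a(q)` in `chevE7`.** -/
theorem ord7 {F : Type u} [Field F] [Finite F] {a m : ℕ} (ha : a ∈ clE7) (ho : Odd m)
    (hm : (m : ℤ) ∣ CertTab.cyc a (Nat.card F)) : ∃ x : chevE7.group F, orderOf x = m := by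
  have := PGE7.finW
  simp only [clE7, List.mem_cons, List.not_mem_nil, or_false] at ha
  rcases ha with rfl | rfl | rfl | rfl | rfl | rfl | rfl | rfl | rfl | rfl | rfl | rfl | rfl
  · exact ord_of_eig PGE7.hp CoxeterMatrix.E₇.toCoxeterSystem H129.TorusChar.invC_E7 two_ne_zero
      (H129.WData.chain_rep PGE7.hp CoxeterMatrix.E₇.toCoxeterSystem PGE7.hA Cfsg.Agent.H168.ExcE7.ch1_ok) Cfsg.Agent.H168.ExcE7.eig_1 (Nat.coprime_two_right.2 ho) hm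
  · exact ord_of_eig PGE7.hp CoxeterMatrix.E₇.toCoxeterSystem H129.TorusChar.invC_E7 two_ne_zero
      (H129.WData.chain_rep PGE7.hp CoxeterMatrix.E₇.toCoxeterSystem PGE7.hA Cfsg.Agent.H168.ExcE7.ch2_ok) Cfsg.Agent.H168.ExcE7.eig_2 (Nat.coprime_two_right.2 ho) hm
  · exact ord_of_eig PGE7.hp CoxeterMatrix.E₇.toCoxeterSystem H129.TorusChar.invC_E7 two_ne_zero
      (H129.WData.chain_rep PGE7.hp CoxeterMatrix.E₇.toCoxeterSystem PGE7.hA Cfsg.Agent.H168.ExcE7.ch3_ok) Cfsg.Agent.H168.ExcE7.eig_3 (Nat.coprime_two_right.2 ho) hm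
  · exact ord_of_eig PGE7.hp CoxeterMatrix.E₇.toCoxeterSystem H129.TorusChar.invC_E7 two_ne_zero
      (H129.WData.chain_rep PGE7.hp CoxeterMatrix.E₇.toCoxeterSystem PGE7.hA Cfsg.Agent.H168.ExcE7.ch4_ok) Cfsg.Agent.H168.ExcE7.eig_4 (Nat.coprime_two_right.2 ho) hm
  · exact ord_of_eig PGE7.hp CoxeterMatrix.E₇.toCoxeterSystem H129.TorusChar.invC_E7 two_ne_zero
      (H129.WData.chain_rep PGE7.hp CoxeterMatrix.E₇.toCoxeterSystem PGE7.hA Cfsg.Agent.H168.ExcE7.ch5_ok) Cfsg.Agent.H168.ExcE7.eig_5 (Nat.coprime_two_right.2 ho) hm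
  · exact ord_of_eig PGE7.hp CoxeterMatrix.E₇.toCoxeterSystem H129.TorusChar.invC_E7 two_ne_zero
      (H129.WData.chain_rep PGE7.hp CoxeterMatrix.E₇.toCoxeterSystem PGE7.hA Cfsg.Agent.H168.ExcE7.ch6_ok) Cfsg.Agent.H168.ExcE7.eig_6 (Nat.coprime_two_right.2 ho) hm
  · exact ord_of_eig PGE7.hp CoxeterMatrix.E₇.toCoxeterSystem H129.TorusChar.invC_E7 two_ne_zero
      (H129.WData.chain_rep PGE7.hp CoxeterMatrix.E₇.toCoxeterSystem PGE7.hA Cfsg.Agent.H168.ExcE7.ch7_ok) Cfsg.Agent.H168.ExcE7.eig_7 (Nat.coprime_two_right.2 ho) hm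
  · exact ord_of_eig PGE7.hp CoxeterMatrix.E₇.toCoxeterSystem H129.TorusChar.invC_E7 two_ne_zero
      (H129.WData.chain_rep PGE7.hp CoxeterMatrix.E₇.toCoxeterSystem PGE7.hA Cfsg.Agent.H168.ExcE7.ch8_ok) Cfsg.Agent.H168.ExcE7.eig_8 (Nat.coprime_two_right.2 ho) hm
  · exact ord_of_eig PGE7.hp CoxeterMatrix.E₇.toCoxeterSystem H129.TorusChar.invC_E7 two_ne_zero
      (H129.WData.chain_rep PGE7.hp CoxeterMatrix.E₇.toCoxeterSystem PGE7.hA Cfsg.Agent.H168.ExcE7.ch9_ok) Cfsg.Agent.H168.ExcE7.eig_9 (Nat.coprime_two_right.2 ho) hm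
  · exact ord_of_eig PGE7.hp CoxeterMatrix.E₇.toCoxeterSystem H129.TorusChar.invC_E7 two_ne_zero
      (H129.WData.chain_rep PGE7.hp CoxeterMatrix.E₇.toCoxeterSystem PGE7.hA Cfsg.Agent.H168.ExcE7.ch10_ok) Cfsg.Agent.H168.ExcE7.eig_10 (Nat.coprime_two_right.2 ho) hm
  · exact ord_of_eig PGE7.hp CoxeterMatrix.E₇.toCoxeterSystem H129.TorusChar.invC_E7 two_ne_zero
      (H129.WData.chain_rep PGE7.hp CoxeterMatrix.E₇.toCoxeterSystem PGE7.hA Cfsg.Agent.H168.ExcE7.ch12_ok) Cfsg.Agent.H168.ExcE7.eig_12 (Nat.coprime_two_right.2 ho) hm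
  · exact ord_of_eig PGE7.hp CoxeterMatrix.E₇.toCoxeterSystem H129.TorusChar.invC_E7 two_ne_zero
      (H129.WData.chain_rep PGE7.hp CoxeterMatrix.E₇.toCoxeterSystem PGE7.hA Cfsg.Agent.H168.ExcE7.ch14_ok) Cfsg.Agent.H168.ExcE7.eig_14 (Nat.coprime_two_right.2 ho) hm
  · exact ord_of_eig PGE7.hp CoxeterMatrix.E₇.toCoxeterSystem H129.TorusChar.invC_E7 two_ne_zero
      (H129.WData.chain_rep PGE7.hp CoxeterMatrix.E₇.toCoxeterSystem PGE7.hA Cfsg.Agent.H168.ExcE7.ch18_ok) Cfsg.Agent.H168.ExcE7.eig_18 (Nat.coprime_two_right.2 ho) hm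

/-- **Elements of order `m ∣ Φ_a(q)` in `chevE6`.** -/
theorem ord6 {F : Type u} [Field F] [Finite F] {a m : ℕ} (ha : a ∈ clE6) (h3 : Nat.Coprime m 3)
    (hm : (m : ℤ) ∣ CertTab.cyc a (Nat.card F)) : ∃ x : chevE6.group F, orderOf x = m := by
  have := PGE6.finW
  simp only [clE6, List.mem_cons, List.not_mem_nil, or_false] at ha
  rcases ha with rfl | rfl | rfl | rfl | rfl | rfl | rfl | rfl | rfl
  · exact ord_of_eig PGE6.hp CoxeterMatrix.E₆.toCoxeterSystem H129.TorusChar.invC_E6 three_ne_zero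
      (H129.WData.chain_rep PGE6.hp CoxeterMatrix.E₆.toCoxeterSystem PGE6.hA Cfsg.Agent.H168.ExcE6.ch1_ok) Cfsg.Agent.H168.ExcE6.eig_1 h3 hm
  · exact ord_of_eig PGE6.hp CoxeterMatrix.E₆.toCoxeterSystem H129.TorusChar.invC_E6 three_ne_zero
      (H129.WData.chain_rep PGE6.hp CoxeterMatrix.E₆.toCoxeterSystem PGE6.hA Cfsg.Agent.H168.ExcE6.ch2_ok) Cfsg.Agent.H168.ExcE6.eig_2 h3 hm
  · exact ord_of_eig PGE6.hp CoxeterMatrix.E₆.toCoxeterSystem H129.TorusChar.invC_E6 three_ne_zero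
      (H129.WData.chain_rep PGE6.hp CoxeterMatrix.E₆.toCoxeterSystem PGE6.hA Cfsg.Agent.H168.ExcE6.ch3_ok) Cfsg.Agent.H168.ExcE6.eig_3 h3 hm
  · exact ord_of_eig PGE6.hp CoxeterMatrix.E₆.toCoxeterSystem H129.TorusChar.invC_E6 three_ne_zero
      (H129.WData.chain_rep PGE6.hp CoxeterMatrix.E₆.toCoxeterSystem PGE6.hA Cfsg.Agent.H168.ExcE6.ch4_ok) Cfsg.Agent.H168.ExcE6.eig_4 h3 hm
  · exact ord_of_eig PGE6.hp CoxeterMatrix.E₆.toCoxeterSystem H129.TorusChar.invC_E6 three_ne_zero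
      (H129.WData.chain_rep PGE6.hp CoxeterMatrix.E₆.toCoxeterSystem PGE6.hA Cfsg.Agent.H168.ExcE6.ch5_ok) Cfsg.Agent.H168.ExcE6.eig_5 h3 hm
  · exact ord_of_eig PGE6.hp CoxeterMatrix.E₆.toCoxeterSystem H129.TorusChar.invC_E6 three_ne_zero
      (H129.WData.chain_rep PGE6.hp CoxeterMatrix.E₆.toCoxeterSystem PGE6.hA Cfsg.Agent.H168.ExcE6.ch6_ok) Cfsg.Agent.H168.ExcE6.eig_6 h3 hm
  · exact ord_of_eig PGE6.hp CoxeterMatrix.E₆.toCoxeterSystem H129.TorusChar.invC_E6 three_ne_zero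
      (H129.WData.chain_rep PGE6.hp CoxeterMatrix.E₆.toCoxeterSystem PGE6.hA Cfsg.Agent.H168.ExcE6.ch8_ok) Cfsg.Agent.H168.ExcE6.eig_8 h3 hm
  · exact ord_of_eig PGE6.hp CoxeterMatrix.E₆.toCoxeterSystem H129.TorusChar.invC_E6 three_ne_zero
      (H129.WData.chain_rep PGE6.hp CoxeterMatrix.E₆.toCoxeterSystem PGE6.hA Cfsg.Agent.H168.ExcE6.ch9_ok) Cfsg.Agent.H168.ExcE6.eig_9 h3 hm
  · exact ord_of_eig PGE6.hp CoxeterMatrix.E₆.toCoxeterSystem H129.TorusChar.invC_E6 three_ne_zero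
      (H129.WData.chain_rep PGE6.hp CoxeterMatrix.E₆.toCoxeterSystem PGE6.hA Cfsg.Agent.H168.ExcE6.ch12_ok) Cfsg.Agent.H168.ExcE6.eig_12 h3 hm

end Cfsg.Agent.R2.Spec.EE
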