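import Mathlib

/-!
# The Ree groups against the isolated classes: numbers (helper29)

`3 u = w ^ 2`, the four numbers `u - 1`, `u + 1`, `u + w + 1`, `u - w + 1`.
-/

set_option autoImplicit false

namespace Cfsg.Agent.R2.Spec.EE.ReeNum

/-- one of the four numbers -/
def RX (u w X : ℤ) : Prop := X = u - 1 ∨ X = u + 1 ∨ X = u + w + 1 ∨ X = u - w + 1

theorem RX.size {u w X : ℤ} (h : RX u w X) (hw : 9 ≤ w) (hu : 3 * u = w ^ 2) : 2 * w ^ 2 ≤ 9 * X ∧ 2 * X ≤ w ^ 2 := by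
  have h1 : 0 ≤ w * (w - 9) := mul_nonneg (by omega) (by omega)
  have h2 : w * (w - 9) = 3 * u - 9 * w := by rw [hu]; ring
  rcases h with rfl | rfl | rfl | rfl <;> constructor <;> rw [← hu] <;> linarith

theorem RX.diff {u w X Y : ℤ} (h : RX u w X) (h' : RX u w Y) (hw : 9 ≤ w) : |Y - X| ≤ 2 * w := by
  rw [abs_le]
  rcases h with rfl | rfl | rfl | rfl <;> rcases h' with rfl | rfl | rfl | rfl <;> constructor <;> linarith

/-- the bracket -/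
theorem brk {u w X Y Z a h P b B : ℤ} (hX : RX u w X) (hY : RX u w Y) (hw : 9 ≤ w) (hu : 3 * u = w ^ 2)
    (hZ : Z ≠ 0) (ha : 0 ≤ a) (hh : 0 ≤ h) (hP : h * Y = P) (he : X * Z = a * h * (Y - X) + b ∨ X * Z = -(a * h * (Y - X)) + b)
    (hb : |b| ≤ B) : 2 * w ^ 3 ≤ 81 * (a * P) + 9 * B * w := by
  have hd := hX.diff hY hw
  obtain ⟨x1, -⟩ := hX.size hw hu
  obtain ⟨y1, -⟩ := hY.size hw hu
  have hX0 : 0 < X := by nlinarith
  have h1 : X ≤ |X * Z| := by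
    rw [abs_mul, abs_of_pos hX0]
    exact le_mul_of_one_le_right hX0.le (Int.one_le_abs hZ)
  have h2 : |X * Z| ≤ a * h * (2 * w) + B := by
    have h3 : |a * h * (Y - X)| ≤ a * h * (2 * w) := by
      rw [abs_mul, abs_of_nonneg (mul_nonneg ha hh)]
      exact mul_le_mul_of_nonneg_left hd (mul_nonneg ha hh)
    rcases he with he | he
    · rw [he]
      exact (abs_add_le _ _).trans (add_le_add h3 hb)
    · rw [he]
      refine (abs_add_le _ _).trans (add_le_add ?_ hb)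
      rw [abs_neg]
      exact h3
  have h3 : h * (2 * w ^ 2) ≤ 9 * P := by
    rw [← hP]
    nlinarith
  have h4 : a * (h * (2 * w ^ 2)) ≤ a * (9 * P) := mul_le_mul_of_nonneg_left h3 ha
  have h5 : 2 * w ^ 2 ≤ 9 * (a * h * (2 * w) + B) := by linarith
  have h6 : 2 * w ^ 2 * w ≤ 9 * (a * h * (2 * w) + B) * w := mul_le_mul_of_nonneg_right h5 (by omega)
  nlinarith

/-- `L_8`, `U_8` : large `q` -/
theorem big8 {q w a P B : ℤ} (hq : 1200 ≤ q) (hw : 9 ≤ w) (hc : 2 * w ^ 3 ≤ 81 * (a * P) + 9 * B * w)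
    (hP : a * P ≤ 2 * q ^ 8) (hB : B ≤ 2 * (q + 1)) (hs : 4 * q ^ 6 ≤ 21 * w ^ 2) : False := by
  have hq6 : (378 : ℤ) * (q + 1) ≤ q ^ 6 := by
    have h1 : (1200 : ℤ) ^ 5 ≤ q ^ 5 := pow_le_pow_left₀ (by norm_num) hq 5
    have h2 : q ^ 6 = q ^ 5 * q := by ring
    rw [h2]
    nlinarith
  have h1 : 42 * w ^ 3 ≤ 3402 * q ^ 8 + 378 * (q + 1) * w := by nlinarith
  have h2 : 8 * q ^ 6 * w ≤ 42 * w ^ 3 := by
    have := mul_le_mul_of_nonneg_right hs (show (0 : ℤ) ≤ 2 * w by omega)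
    nlinarith
  have h3 : 378 * (q + 1) * w ≤ q ^ 6 * w := mul_le_mul_of_nonneg_right hq6 (by omega)
  have h4 : 7 * q ^ 6 * w ≤ 3402 * q ^ 8 := by linarith
  have h5 : w ≤ 486 * q ^ 2 := by
    have h6 : q ^ 6 * (7 * w) ≤ q ^ 6 * (3402 * q ^ 2) := by
      have : q ^ 6 * (3402 * q ^ 2) = 3402 * q ^ 8 := by ring
      rw [this]; linarith
    have := le_of_mul_le_mul_left h6 (by positivity)
    linarith
  have h6 : w ^ 2 ≤ (486 * q ^ 2) ^ 2 := pow_le_pow_left₀ (by omega) h5 2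
  have h7 : q ^ 4 * (4 * q ^ 2) ≤ q ^ 4 * (21 * 486 ^ 2) := by
    have e1 : q ^ 4 * (4 * q ^ 2) = 4 * q ^ 6 := by ring
    have e2 : q ^ 4 * (21 * 486 ^ 2) = 21 * (486 * q ^ 2) ^ 2 := by ring
    rw [e1, e2]; linarith
  have h8 := le_of_mul_le_mul_left h7 (by positivity)
  nlinarith

/-- `PΩ⁺₁₂` : large `q` -/
theorem big6 {q w a P B : ℤ} (hq : 500 ≤ q) (hw : 9 ≤ w) (hc : 2 * w ^ 3 ≤ 81 * (a * P) + 9 * B * w)
    (hP : a * P ≤ 2 * (q ^ 5 + 1)) (hB : B ≤ 4) (hs : 2 * q ^ 4 ≤ 5 * w ^ 2) : False := by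
  have hq4 : (180 : ℤ) ≤ q ^ 4 := by
    have h1 : (500 : ℤ) ^ 4 ≤ q ^ 4 := pow_le_pow_left₀ (by norm_num) hq 4
    linarith
  have h1 : 10 * w ^ 3 ≤ 810 * (q ^ 5 + 1) + 180 * w := by nlinarith
  have h2 : 4 * q ^ 4 * w ≤ 10 * w ^ 3 := by
    have := mul_le_mul_of_nonneg_right hs (show (0 : ℤ) ≤ 2 * w by omega)
    nlinarith
  have h3 : 180 * w ≤ q ^ 4 * w := mul_le_mul_of_nonneg_right hq4 (by omega)
  have hq5 : (810 : ℤ) ≤ q ^ 5 := by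
    have h1 : (500 : ℤ) ^ 5 ≤ q ^ 5 := pow_le_pow_left₀ (by norm_num) hq 5
    linarith
  have h4 : 3 * q ^ 4 * w ≤ 811 * q ^ 5 := by linarith
  have h5 : 3 * w ≤ 811 * q := by
    have h6 : q ^ 4 * (3 * w) ≤ q ^ 4 * (811 * q) := by
      have : q ^ 4 * (811 * q) = 811 * q ^ 5 := by ring
      rw [this]; linarith
    exact le_of_mul_le_mul_left h6 (by positivity)
  have h6 : (3 * w) ^ 2 ≤ (811 * q) ^ 2 := pow_le_pow_left₀ (by omega) h5 2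
  have h7 : q ^ 2 * (18 * q ^ 2) ≤ q ^ 2 * (5 * 811 ^ 2) := by
    have e1 : q ^ 2 * (18 * q ^ 2) = 18 * q ^ 4 := by ring
    have e2 : q ^ 2 * (5 * 811 ^ 2) = 5 * (811 * q) ^ 2 := by ring
    rw [e1, e2]; nlinarith
  have h8 := le_of_mul_le_mul_left h7 (by positivity)
  nlinarith

/-- `PΩ^±₁₀` : the bound of `w` -/
theorem bound5 {q w a P B : ℤ} (hq : 5 ≤ q) (hc : 2 * w ^ 3 ≤ 81 * (a * P) + 9 * B * w)
    (hP : a * P ≤ 2 * (q * (q + 1) * (q ^ 4 + 1))) (hB : B ≤ 2 * (q + 1) ^ 2) : w < 5 * q ^ 2 := by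
  by_contra hcon
  push_neg at hcon
  have hw : 0 < w := by nlinarith
  have h1 : w * (2 * w ^ 2 - 18 * (q + 1) ^ 2) ≤ 162 * (q * (q + 1) * (q ^ 4 + 1)) := by nlinarith
  have h2 : (5 * q ^ 2) ^ 2 ≤ w ^ 2 := pow_le_pow_left₀ (by positivity) hcon 2
  have h3 : 50 * q ^ 4 - 18 * (q + 1) ^ 2 ≤ 2 * w ^ 2 - 18 * (q + 1) ^ 2 := by nlinarith
  have h4 : 0 ≤ 50 * q ^ 4 - 18 * (q + 1) ^ 2 := by
    have : (q + 1) ^ 2 ≤ (2 * q) ^ 2 := pow_le_pow_left₀ (by omega) (by omega) 2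
    nlinarith [sq_nonneg (q ^ 2), mul_pos (show (0:ℤ) < q by omega) (show (0:ℤ) < q by omega)]
  have h5 : 5 * q ^ 2 * (50 * q ^ 4 - 18 * (q + 1) ^ 2) ≤ w * (2 * w ^ 2 - 18 * (q + 1) ^ 2) :=
    mul_le_mul hcon h3 h4 hw.le
  have h6 : 5 * q ^ 2 * (50 * q ^ 4 - 18 * (q + 1) ^ 2) ≤ 162 * (q * (q + 1) * (q ^ 4 + 1)) := h5.trans h1
  obtain ⟨d, rfl⟩ : ∃ d, q = d + 5 := ⟨q - 5, by ring⟩
  have hd : 0 ≤ d := by omega
  have : 0 < 5 * (d + 5) ^ 2 * (50 * (d + 5) ^ 4 - 18 * (d + 5 + 1) ^ 2) - 162 * ((d + 5) * (d + 5 + 1) * ((d + 5) ^ 4 + 1)) := by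
    ring_nf
    positivity
  linarith

end Cfsg.Agent.R2.Spec.EE.ReeNum
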