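import Cfsg.Agent.R2.Spec.EE.SmCl
import Cfsg.Agent.R2.Spec.EE.NumBS

/-!
# Rank 5: the inequality (B) for `oplus 5`, `ominus 5` (helper28)

* `Pm_ge` : `Φ_n(q) ≤ l Pm n q`, `l` the largest prime of `n`;
* `prod_NNR`, `bigR6`, `bigRT6`, `bigRF4` : the sharp bounds (helper15) for a general number `R`;
* `R5_oplus`, `R5_ominus` : `R = 5 RM`.
-/

set_option autoImplicit false
set_option linter.unusedSectionVars false
set_option linter.unusedVariables false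
set_option maxHeartbeats 400000

namespace Cfsg.Agent.R2.Spec.EE

open Subgroup Cfsg Polynomial
open Cfsg.Agent Cfsg.Agent.H426.LieFam Cfsg.Agent.R2.Spec Cfsg.Agent.R2.Spec.P1 Cfsg.Agent.R2.Spec.F1
open Cfsg.Agent.H365.Zsig
open Cfsg.Agent.H493 Cfsg.Agent.H493.PGCyc
open NumPoly

universe u w

/-! ### the primitive part -/

theorem Pm_ge {n q l : ℕ} (hn : 3 ≤ n) (hq : 3 ≤ q) (hl : ∀ r : ℕ, r.Prime → r ∣ n → r ≤ l) (hl1 : 1 ≤ l) :
    Ph n q ≤ l * Pm n q := by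
  obtain ⟨M, hM, hMo, hMl⟩ := class_big hn hq hl hl1
  have h1 : M ∣ Pm n q := by
    have h2 : Nat.Coprime M (Nat.gcd (Ph n q) n) := by
      refine Nat.coprime_of_dvd fun r hr hrM hrn => ?_
      have h3 : r ∣ n := hrn.trans (Nat.gcd_dvd_right _ _)
      have h4 := hMo r hr hrM
      have := Fact.mk hr
      have h5 : orderOf (q : ZMod r) ∣ r - 1 := by
        apply ZMod.orderOf_dvd_card_sub_one
        intro h6
        rw [h6, orderOf_zero] at h4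
        omega
      rw [h4] at h5
      have h6 := Nat.le_of_dvd (by have := hr.two_le; omega) (h3.trans h5)
      have := hr.two_le
      omega
    refine h2.dvd_of_dvd_mul_left ?_
    rw [← Ph_eq_mul]
    exact hM
  have h2 : 0 < Pm n q := by
    rcases Nat.eq_zero_or_pos (Pm n q) with h3 | h3
    · have h4 := Ph_eq_mul n q
      rw [h3, mul_zero] at h4
      have := Ph_gt_one (n := n) (q := q) (by omega) (by omega)
      omega
    · exact h3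
  exact hMl.trans (Nat.mul_le_mul_left _ (Nat.le_of_dvd h2 h1))

theorem ge5 {q : ℕ} (hq : 3 ≤ q) : q ^ 4 ≤ 7 * Pm 5 q := by
  have h1 := Pm_ge (n := 5) (q := q) (l := 5) (by norm_num) hq (prime_le (by norm_num) (by decide)) (by norm_num)
  have h2 := low5 (q := q)
  omega

theorem ge8 {q : ℕ} (hq : 3 ≤ q) : q ^ 4 ≤ 7 * Pm 8 q := by
  have h1 := Pm_ge (n := 8) (q := q) (l := 2) (by norm_num) hq (prime_le (by norm_num) (by decide)) (by norm_num)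
  have h2 := low8 (q := q)
  omega

theorem low10' {q : ℕ} (hq : 3 ≤ q) : 3 * q ^ 4 ≤ 4 * Ph 10 q := by
  rw [Ph_pc (by decide), pc]
  zify
  obtain ⟨t, ht⟩ : ∃ t : ℤ, (q : ℤ) = t + 3 := ⟨q - 3, by ring⟩
  have ht0 : 0 ≤ t := by have : (3 : ℤ) ≤ q := by exact_mod_cast hq
                         linarith
  refine le_trans ?_ (mul_le_mul_of_nonneg_left (le_abs_self _) (by norm_num))
  simp only [NumPoly.cl, ev]
  rw [ht]
  apply sub_nonneg.1
  ring_nf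
  positivity

theorem ge10 {q : ℕ} (hq : 3 ≤ q) : q ^ 4 ≤ 7 * Pm 10 q := by
  have h1 := Pm_ge (n := 10) (q := q) (l := 5) (by norm_num) hq (prime_le (by norm_num) (by decide)) (by norm_num)
  have h2 := low10' hq
  omega

theorem ge46 {q : ℕ} (hq : 3 ≤ q) : q ^ 4 ≤ 7 * (Pm 4 q * Pm 6 q) := by
  have h1 := Pm_ge (n := 4) (q := q) (l := 2) (by norm_num) hq (prime_le (by norm_num) (by decide)) (by norm_num)
  have h2 := Pm_ge (n := 6) (q := q) (l := 3) (by norm_num) hq (prime_le (by norm_num) (by decide)) (by norm_num)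
  have h3 : Ph 4 q * Ph 6 q ≤ 6 * (Pm 4 q * Pm 6 q) := by
    calc Ph 4 q * Ph 6 q ≤ (2 * Pm 4 q) * (3 * Pm 6 q) := Nat.mul_le_mul h1 h2
      _ = _ := by ring
  have h4 : 6 * q ^ 4 ≤ 7 * (Ph 4 q * Ph 6 q) := by
    rw [Ph_four, Ph_six (by omega)]
    obtain ⟨x, rfl⟩ : ∃ x : ℕ, q = x + 3 := ⟨q - 3, by omega⟩
    have h5 : (x + 3) ^ 2 - (x + 3) + 1 = x ^ 2 + 5 * x + 7 := by
      have : (x + 3) ^ 2 = (x ^ 2 + 5 * x + 6) + (x + 3) := by ring
      omega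
    rw [h5]
    zify
    nlinarith [sq_nonneg ((x : ℤ) - 2), sq_nonneg (x : ℤ), Int.natCast_nonneg x, pow_nonneg (Int.natCast_nonneg x) 3,
      pow_nonneg (Int.natCast_nonneg x) 4]
  omega

theorem ge34 {q : ℕ} (hq : 3 ≤ q) : q ^ 4 ≤ 7 * (Pm 3 q * Pm 4 q) := by
  have h1 := Pm_ge (n := 4) (q := q) (l := 2) (by norm_num) hq (prime_le (by norm_num) (by decide)) (by norm_num)
  have h2 := Pm_ge (n := 3) (q := q) (l := 3) (by norm_num) hq (prime_le (by norm_num) (by decide)) (by norm_num)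
  have h3 : Ph 3 q * Ph 4 q ≤ 6 * (Pm 3 q * Pm 4 q) := by
    calc Ph 3 q * Ph 4 q ≤ (3 * Pm 3 q) * (2 * Pm 4 q) := Nat.mul_le_mul h2 h1
      _ = _ := by ring
  have h4 : q ^ 4 ≤ Ph 3 q * Ph 4 q := by
    rw [Ph_four, Ph_three]
    nlinarith [Nat.zero_le (q ^ 3), Nat.zero_le (q ^ 2)]
  omega

/-! ### the sharp bounds, general `R` -/

section main

variable {t : Fam} {p f : ℕ} {L : Type w} [Group L] [Finite L] {G : Type u} [Group G] [Finite G]

/-- the conditions for `R` -/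
structure ROk (L : Type w) [Group L] (p R : ℕ) : Prop where
  ne : R ≠ 0
  dv : ∀ y e : ℕ, y.Prime → 5 ≤ y → y ≠ p → 1 ≤ e → (∃ x : L, orderOf x = y ^ e) → y ^ e ∣ R
  h32 : 32 ∣ R
  h9 : p ≠ 3 → 9 ∣ R

/-- the product of the values -/
theorem prod_NNR (h : LS t p f L G) (hI : Fam.Is p f L t) (hp2 : p ≠ 2) (hrk : rk t ≤ 8) {R : ℕ} (hR : ROk L p R)
    {A : List ℕ} (hn : A.Nodup) (hA : ∀ a ∈ A, a ∈ clE8 ∧ 3 ≤ a) {u : ℕ} (hu : 2 ≤ u)
    (hord : ∀ a ∈ A, ∀ m : ℕ, Nat.Coprime m 6 → (m : ℤ) ∣ CertTab.cyc a (u : ℤ) → ∃ g : G, orderOf g = m) :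
    288 * (A.map (NN u)).prod ≤ max 169 (p ^ f) * R := by
  refine gen_leS h hI hp2 hrk hR.ne hR.dv hR.h32 hR.h9 ?_ (fun a ha => NN_ne hu (hA a ha).1 (hA a ha).2)
    (fun a ha => NN_cop6 hu (hA a ha).1 (hA a ha).2 dvd_rfl) ?_
  · refine List.Pairwise.imp_of_mem ?_ hn
    intro a b ha hb hab
    exact NN_cop hu (hA a ha).1 (hA a ha).2 (hA b hb).1 (hA b hb).2 hab
  · intro a ha y e _ _ hm
    exact hord a ha _ (NN_cop6 hu (hA a ha).1 (hA a ha).2 hm) (cast_dvd (hm.trans ⟨GG u a, (NN_mul u a).symm⟩))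

variable {K : Subgroup G} [K.Normal] {S : Subgroup (G ⧸ K)} [S.Normal] {v f' : ℕ}

/-- **`E₆(u)`** -/
theorem bigR6 (h : LS t p f L G) (hI : Fam.Is p f L t) (hp2 : p ≠ 2) (hrk : rk t ≤ 8) {R : ℕ} (hR : ROk L p R)
    (hS : Fam.Is v f' ↥S .e6) : 288 * (v ^ f') ^ 24 ≤ 180 * (max 169 (p ^ f) * R) := by
  obtain ⟨F, _, _, _, hF, ⟨E⟩⟩ := hS
  have hu : 2 ≤ v ^ f' := by rw [← hF]; exact Fintype.one_lt_card
  refine comb_S (ZZ6 hu) (GB6 _) (prod_NNR h hI hp2 hrk hR (by decide) (by decide) hu ?_)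
  intro a ha m h6 hm
  refine exists_of_S (S := S) ?_
  obtain ⟨x, hx⟩ := ord6 (F := F) (a := a) (m := m)
    ((by decide : ∀ b ∈ [3, 4, 6, 5, 8, 9, 12], b ∈ clE6) a ha) (h6.coprime_dvd_right (by norm_num))
    (by rw [Nat.card_eq_fintype_card, hF]; exact hm)
  exact ⟨E.symm x, by rw [MulEquiv.orderOf_eq, hx]⟩

/-- **`²E₆(u)`** -/
theorem bigRT6 (h : LS t p f L G) (hI : Fam.Is p f L t) (hp2 : p ≠ 2) (hrk : rk t ≤ 8) {R : ℕ} (hR : ROk L p R)
    (hv : v.Prime) (hS : Fam.Is v f' ↥S .te6) : 288 * (v ^ f') ^ 24 ≤ 360 * (max 169 (p ^ f) * R) := by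
  obtain ⟨hu, hf'⟩ := te6_two hv hS
  obtain ⟨F, _, _, _, hF, ⟨E⟩⟩ := hS
  have hpp : IsPrimePow (v ^ f') := hv.isPrimePow.pow (by omega)
  have h1 := prod_NNR h hI hp2 hrk hR (A := [6, 4, 3, 10, 8, 18, 12]) (by decide) (by decide) hu (by
    intro a ha m h6 hm
    refine exists_of_S (S := S) ?_
    obtain ⟨x, hx⟩ := ordT6 (K := F) (q := v ^ f') hpp hF (a := a) (m := m)
      ((by decide : ∀ b ∈ [6, 4, 3, 10, 8, 18, 12], b ∈ clTE6) a ha) (h6.coprime_dvd_right (by norm_num)) hm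
    exact ⟨E.symm x, by rw [MulEquiv.orderOf_eq, hx]⟩)
  have h2 := ZZT6 hu
  rw [prod_map_NN] at h2
  calc 288 * (v ^ f') ^ 24 ≤ 288 * _ := Nat.mul_le_mul_left _ h2
    _ = 2 * ((288 * ([6, 4, 3, 10, 8, 18, 12].map (NN (v ^ f'))).prod) *
        ([6, 4, 3, 10, 8, 18, 12].map (GG (v ^ f'))).prod) := by ring
    _ ≤ 2 * ((max 169 (p ^ f) * R) * 180) := Nat.mul_le_mul_left _ (Nat.mul_le_mul h1 (GBT6 _))
    _ = _ := by ring

/-- **`F₄(u)`** -/
theorem bigRF4 (h : LS t p f L G) (hI : Fam.Is p f L t) (hp2 : p ≠ 2) (hrk : rk t ≤ 8) {R : ℕ} (hR : ROk L p R)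
    (hS : Fam.Is v f' ↥S .f4) : 288 * (v ^ f') ^ 14 ≤ 12 * (max 169 (p ^ f) * R) := by
  obtain ⟨F, _, _, _, hF, ⟨E⟩⟩ := hS
  have hu : 2 ≤ v ^ f' := by rw [← hF]; exact Fintype.one_lt_card
  refine comb_S (ZZF4 hu) (GBF4 _) (prod_NNR h hI hp2 hrk hR (by decide) (by decide) hu ?_)
  intro a ha m _ hm
  refine exists_of_S (S := S) ?_
  obtain ⟨x, hx⟩ := ordF4 (F := F) (a := a) (m := m)
    ((by decide : ∀ b ∈ [3, 4, 6, 8, 12], b ∈ clF4) a ha) (by rw [Nat.card_eq_fintype_card, hF]; exact hm)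
  exact ⟨E.symm x, by rw [MulEquiv.orderOf_eq, hx]⟩

/-! ### `oplus 5`, `ominus 5` -/

/-- `X` is prime to 6 and not divisible by 25 -/
theorem c25 {q : ℕ} (hq : q % 2 = 1) {X : ℤ}
    (hX : X = (q : ℤ) ^ 4 + (q : ℤ) ^ 3 + (q : ℤ) ^ 2 + q + 1 ∨ X = (q : ℤ) ^ 4 - (q : ℤ) ^ 3 + (q : ℤ) ^ 2 - q + 1) :
    ¬ (2 : ℤ) ∣ X ∧ ¬ (3 : ℤ) ∣ X ∧ ¬ (25 : ℤ) ∣ X := by
  have z3 : ∀ a : ZMod 3, a ^ 4 + a ^ 3 + a ^ 2 + a + 1 ≠ 0 ∧ a ^ 4 - a ^ 3 + a ^ 2 - a + 1 ≠ 0 := by decide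
  have z25 : ∀ a : ZMod 25, a ^ 4 + a ^ 3 + a ^ 2 + a + 1 ≠ 0 ∧ a ^ 4 - a ^ 3 + a ^ 2 - a + 1 ≠ 0 := by decide +kernel
  have z2 : ((q : ℕ) : ZMod 2) = 1 := by
    have : ((q : ℕ) : ZMod 2) = ((1 : ℕ) : ZMod 2) := by
      rw [ZMod.natCast_eq_natCast_iff]
      exact hq
    rw [this, Nat.cast_one]
  have e2 : (2 : ℤ) = ((2 : ℕ) : ℤ) := rfl
  have e3 : (3 : ℤ) = ((3 : ℕ) : ℤ) := rfl
  have e25 : (25 : ℤ) = ((25 : ℕ) : ℤ) := rfl
  refine ⟨fun h => ?_, fun h => ?_, fun h => ?_⟩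
  · rw [e2, ← ZMod.intCast_zmod_eq_zero_iff_dvd] at h
    rcases hX with rfl | rfl
    · push_cast at h
      rw [z2] at h
      revert h; decide
    · push_cast at h
      rw [z2] at h
      revert h; decide
  · rw [e3, ← ZMod.intCast_zmod_eq_zero_iff_dvd] at h
    rcases hX with rfl | rfl
    · push_cast at h
      exact (z3 _).1 h
    · push_cast at h
      exact (z3 _).2 h
  · rw [e25, ← ZMod.intCast_zmod_eq_zero_iff_dvd] at h
    rcases hX with rfl | rfl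
    · push_cast at h
      exact (z25 _).1 h
    · push_cast at h
      exact (z25 _).2 h

/-- **The number `R = 5 RM`.** -/
theorem rok5 (h : LS t p f L G) (hI : Fam.Is p f L t) (hp2 : p ≠ 2) (hw8 : wt t 8 ≤ rk t) (hw6 : wt t 6 ≤ rk t)
    (hnm : ∀ d ∈ cycs t, memb t d = false → d = 5 ∨ d = 10)
    (hRN : ∃ X : ℤ, RN t (p ^ f) = X.natAbs ∧ (X = ((p ^ f : ℕ) : ℤ) ^ 4 + ((p ^ f : ℕ) : ℤ) ^ 3 + ((p ^ f : ℕ) : ℤ) ^ 2 + ((p ^ f : ℕ) : ℤ) + 1 ∨
      X = ((p ^ f : ℕ) : ℤ) ^ 4 - ((p ^ f : ℕ) : ℤ) ^ 3 + ((p ^ f : ℕ) : ℤ) ^ 2 - ((p ^ f : ℕ) : ℤ) + 1)) :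
    ROk L p (5 * RM t (p ^ f)) := by
  have hp := h.prime
  obtain ⟨hq, hq3⟩ := q_odd h hp2
  obtain ⟨X, hX, hX'⟩ := hRN
  obtain ⟨x2, x3, x25⟩ := c25 hq hX'
  have y2 : ¬ 2 ∣ RN t (p ^ f) := by
    rw [hX]; exact fun h1 => x2 (Int.natCast_dvd.2 h1)
  have y3 : ¬ 3 ∣ RN t (p ^ f) := by
    rw [hX]; exact fun h1 => x3 (Int.natCast_dvd.2 h1)
  have y25 : ¬ 25 ∣ RN t (p ^ f) := by
    rw [hX]; exact fun h1 => x25 (Int.natCast_dvd.2 h1)
  have hRM := RM_ne_zero h.cla (by omega : 2 ≤ p ^ f)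
  refine ⟨by positivity, ?_, ?_, ?_⟩
  · intro y e hy h5 hyp he hx
    obtain ⟨i, hi1, hi2, h3⟩ := lexp h.cla hp hp2 hI hy (by omega) hyp hx
    have hd := h3.trans (tnum_dvd_RR h.cla (by omega) hi1 hi2)
    rw [RR_split] at hd
    by_cases hy5 : y = 5
    · subst hy5
      obtain ⟨b, w, hw, hbw⟩ := Nat.exists_eq_pow_mul_and_not_dvd
        (show RN t (p ^ f) ≠ 0 from fun h0 => y2 (h0 ▸ dvd_zero 2)) 5 (by norm_num)
      have hb : b ≤ 1 := by
        by_contra hcon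
        exact y25 (by rw [hbw]; exact ((pow_dvd_pow 5 (by omega : 2 ≤ b)).mul_right w))
      rw [hbw, ← mul_assoc] at hd
      have h4 : 5 ^ e ∣ RM t (p ^ f) * 5 ^ b :=
        (Nat.Coprime.pow_left e ((Nat.Prime.coprime_iff_not_dvd Nat.prime_five).2 hw)).dvd_of_dvd_mul_right hd
      rw [mul_comm 5]
      exact h4.trans (Nat.mul_dvd_mul_left _ (pow_dvd_pow 5 hb))
    · refine Dvd.dvd.mul_left (Nat.Coprime.dvd_of_dvd_mul_right ?_ hd) 5
      apply Nat.Coprime.pow_left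
      rw [RN, Nat.coprime_list_prod_right_iff]
      intro z hz
      obtain ⟨d, hd1, rfl⟩ := List.mem_map.1 hz
      rw [List.mem_filter] at hd1
      have hd2 : memb t d = false := by simpa using hd1.2
      have hd5 := hnm d hd1.1 hd2
      rw [Nat.Prime.coprime_iff_not_dvd hy]
      apply sg_not_dvd hy
      · intro h6
        rcases hd5 with rfl | rfl
        · exact hy5 ((Nat.prime_dvd_prime_iff_eq hy Nat.prime_five).1 h6)
        · rcases hy.dvd_mul.1 (show y ∣ 2 * 5 from h6) with h7 | h7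
          · have := Nat.le_of_dvd (by norm_num) h7
            omega
          · exact hy5 ((Nat.prime_dvd_prime_iff_eq hy Nat.prime_five).1 h7)
      · intro h1
        have h2 : y ∣ Nat.card L := by
          obtain ⟨x, hx⟩ := hx
          have h3 := orderOf_dvd_natCard x
          rw [hx] at h3
          exact (dvd_pow_self y (by omega)).trans h3
        have h3 := (h.adj.dvd y hy (by omega) (by rw [Nat.prime_dvd_prime_iff_eq hy hp]; exact hyp) (by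
          rcases hd5 with rfl | rfl <;> omega)).1 h2
        rw [h1, ← memb_iff, hd2] at h3
        exact Bool.false_ne_true h3
  · refine Dvd.dvd.mul_left ?_ 5
    have h1 : 32 ∣ RR t (p ^ f) := by
      refine (odd_pow8 hq).trans ?_
      rw [← sg_pow_natAbs (t := t) (by omega) (by decide : Even 8)]
      exact natAbs_dvd_RR h.cla (by norm_num) hw8
    rw [RR_split] at h1
    refine Nat.Coprime.dvd_of_dvd_mul_right ?_ h1
    rw [show (32 : ℕ) = 2 ^ 5 by norm_num]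
    exact Nat.Coprime.pow_left 5 ((Nat.Prime.coprime_iff_not_dvd Nat.prime_two).2 y2)
  · intro hp3
    refine Dvd.dvd.mul_left ?_ 5
    have h0 : (p ^ f) % 3 ≠ 0 := fun h2 => by
      have h3 := (Nat.prime_three.dvd_of_dvd_pow (Nat.dvd_of_mod_eq_zero h2))
      exact hp3 ((Nat.prime_dvd_prime_iff_eq Nat.prime_three hp).1 h3).symm
    have h1 : 9 ∣ RR t (p ^ f) := by
      refine (pow6_nine h0).trans ?_
      rw [← sg_pow_natAbs (t := t) (by omega) (by decide : Even 6)]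
      exact natAbs_dvd_RR h.cla (by norm_num) hw6
    rw [RR_split] at h1
    refine Nat.Coprime.dvd_of_dvd_mul_right ?_ h1
    rw [show (9 : ℕ) = 3 ^ 2 by norm_num]
    exact Nat.Coprime.pow_left 2 ((Nat.Prime.coprime_iff_not_dvd Nat.prime_three).2 y3)

end main

theorem RM_oplus5 {q : ℕ} (hq : 3 ≤ q) : RM (.oplus 5) q ≤ 2 * q ^ 16 := by
  have h : cycm (.oplus 5) = [1, 2, 3, 4, 5, 6, 8] := by decide
  unfold RM
  rw [h]
  exact bound_pos (by decide) (by decide +kernel) hq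

theorem RM_ominus5 {q : ℕ} (hq : 3 ≤ q) : RM (.ominus 5) q ≤ 2 * q ^ 16 := by
  have h : cycm (.ominus 5) = [1, 2, 3, 4, 6, 8, 10] := by decide
  unfold RM
  rw [h]
  exact bound_pos (by decide) (by decide +kernel) hq

theorem RN_oplus5 (q : ℕ) : RN (.oplus 5) q = ((q : ℤ) ^ 4 - (q : ℤ) ^ 3 + (q : ℤ) ^ 2 - q + 1).natAbs := by
  have h : ((cycs (.oplus 5)).filter fun d => !memb (.oplus 5) d) = [10] := by decide
  unfold RN
  rw [h, List.map_singleton, List.prod_singleton, show sg (.oplus 5) q = (q : ℤ) from rfl, NumA.eval_10]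

theorem RN_ominus5 (q : ℕ) : RN (.ominus 5) q = ((q : ℤ) ^ 4 + (q : ℤ) ^ 3 + (q : ℤ) ^ 2 + q + 1).natAbs := by
  have h : ((cycs (.ominus 5)).filter fun d => !memb (.ominus 5) d) = [5] := by decide
  unfold RN
  rw [h, List.map_singleton, List.prod_singleton, show sg (.ominus 5) q = (q : ℤ) from rfl, NumA.eval_5]

section rows

variable {p f : ℕ} {L : Type w} [Group L] [Finite L] {G : Type u} [Group G] [Finite G]

theorem rok_oplus5 (h : LS (.oplus 5) p f L G) (hI : Fam.Is p f L (.oplus 5)) (hp2 : p ≠ 2) :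
    ROk L p (5 * RM (.oplus 5) (p ^ f)) :=
  rok5 h hI hp2 (by decide) (by decide) (by decide) ⟨_, RN_oplus5 _, Or.inr rfl⟩

theorem rok_ominus5 (h : LS (.ominus 5) p f L G) (hI : Fam.Is p f L (.ominus 5)) (hp2 : p ≠ 2) :
    ROk L p (5 * RM (.ominus 5) (p ^ f)) :=
  rok5 h hI hp2 (by decide) (by decide) (by decide) ⟨_, RN_ominus5 _, Or.inl rfl⟩

end rows

end Cfsg.Agent.R2.Spec.EE
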