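import Cfsg.Agent.R2.Spec.EE.SmN7

/-!
# Small rank, `S = E₇(u)`: the boxes (helper3)
-/

set_option autoImplicit false
set_option maxRecDepth 100000

namespace Cfsg.Agent.R2.Spec.EE

theorem bx_psl8 : bx 8 60480 23 11 64 = true := by decide +kernel
theorem bx_psu8 : bx 8 20160 23 10 55 = true := by decide +kernel
theorem bx_psp5 : bx 8 25200 21 6 23 = true := by decide +kernel
theorem bx_rk6 : bx 5 30240 25 19 136 = true := by decide +kernel
theorem bx_rk7 : bx 7 35280 37 20 30 = true := by decide +kernel
theorem bx_om7 : bx 14 35280 37 39 70 = true := by decide +kernel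

def z5 : List (ℕ × ℕ) := [(2, 11), (6, 17), (12, 26), (20, 35), (31, 46), (43, 57), (58, 70), (75, 85), (95, 100), (117, 117), (142, 
  142), (170, 170), (199, 199), (232, 232), (267, 267), (305, 305), (346, 346), (390, 390), (436, 436), (486, 
  486), (538, 538), (593, 593), (651, 651), (712, 712), (776, 776), (842, 842), (912, 912), (985, 985), (1061, 
  1061), (1140, 1140), (1222, 1222), (1308, 1308), (1396, 1396), (1488, 1488), (1582, 1582), (1680, 1680)]

theorem bz_5 : bz 5 25200 21 1 1 z5 2 = true := by decide +kernel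

def z8 : List (ℕ × ℕ) := [(2, 12), (6, 20), (12, 29), (20, 39), (31, 51), (43, 65), (58, 79), (75, 95), (95, 112), (117, 131), (142, 
  150), (170, 171), (199, 199), (232, 232), (267, 267), (305, 305), (346, 346), (390, 390), (436, 436), (486, 
  486), (538, 538), (593, 593), (651, 651), (712, 712), (776, 776), (842, 842), (912, 912), (985, 985), (1061, 
  1061), (1140, 1140), (1222, 1222), (1308, 1308), (1396, 1396), (1488, 1488), (1582, 1582), (1680, 1680), 
  (1781, 1781), (1886, 1886), (1993, 1993), (2104, 2104), (2218, 2218), (2336, 2336), (2456, 2456), (2580, 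
  2580), (2707, 2707), (2838, 2838), (2972, 2972)]

theorem bz_8 : bz 8 25200 21 1 1 z8 2 = true := by decide +kernel

def z10 : List (ℕ × ℕ) := [(2, 14), (6, 23), (12, 33), (20, 46), (31, 60), (43, 75), (58, 93), (75, 111), (95, 131), (117, 153), (142, 
  176), (170, 200), (199, 226), (232, 252), (267, 281), (305, 310), (346, 346), (390, 390), (436, 436), (486, 
  486), (538, 538), (593, 593), (651, 651), (712, 712), (776, 776), (842, 842), (912, 912), (985, 985), (1061, 
  1061), (1140, 1140), (1222, 1222), (1308, 1308), (1396, 1396), (1488, 1488), (1582, 1582), (1680, 1680), 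
  (1781, 1781), (1886, 1886), (1993, 1993), (2104, 2104), (2218, 2218), (2336, 2336), (2456, 2456), (2580, 
  2580), (2707, 2707), (2838, 2838), (2972, 2972), (3109, 3109), (3250, 3250), (3394, 3394), (3542, 3542), 
  (3693, 3693), (3847, 3847), (4005, 4005), (4166, 4166), (4331, 4331), (4499, 4499), (4671, 4671), (4846, 
  4846), (5024, 5024), (5207, 5207), (5392, 5392), (5582, 5582), (5775, 5775), (5971, 5971), (6171, 6171), 
  (6374, 6374), (6582, 6582)]

theorem bz_10 : bz 10 25200 21 3 2 z10 2 = true := by decide +kernel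

end Cfsg.Agent.R2.Spec.EE
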