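import Cfsg.Agent.R2.Spec.EE.SmCyc
import Cfsg.Agent.R2.Spec.F1.TwoTor

/-!
# EE, small ranks: `E₆`, `²E₆`, `F₄` (helper12)

* `KS` : the orders of `S`; `ks_e6`, `ks_te6`, `ks_f4`;
* `exists_expI` : a power of `y` divides `NN u a` and not `f'`;
* `EX.fwd` : `NN q i ∣ NN u a`;
* `EX.gd_of_pow` : a prime of `S` is available.
-/

set_option autoImplicit false
set_option linter.unusedSectionVars false
set_option linter.unusedVariables false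

namespace Cfsg.Agent.R2.Spec.EE

open Subgroup Cfsg
open Cfsg.Agent.H426.LieFam Cfsg.Agent.R2.Spec Cfsg.Agent.R2.Spec.P1 Cfsg.Agent.R2.Spec.F1
open Cfsg.Agent.H420.QR Cfsg.Agent.H365.Zsig Cfsg.Lie

universe u w

/-- the orders of the elements of `S` -/
structure KS (S : Type u) [Group S] (v u : ℕ) (TL : List (List ℕ)) (A : List ℕ) : Prop where
  two : 2 ≤ u
  tor : ∀ s : S, ¬ v ∣ orderOf s → ∃ T ∈ TL, orderOf s ∣ (T.map (ZZ u)).prod
  elt : ∀ a ∈ A, ∃ s : S, orderOf s = NN u a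

theorem nat_eq_of_om {v n b m : ℕ} (h : n = v ^ b * m) (hn : ¬ v ∣ n) : n = m := by
  rcases Nat.eq_zero_or_pos b with hb | hb
  · rw [h, hb, pow_zero, one_mul]
  · exact absurd ((dvd_pow_self v (by omega)).trans ⟨m, h⟩) hn

theorem NN_cop3 {u a : ℕ} (hu : 2 ≤ u) (ha : a ∈ clE8) (h3 : 3 ≤ a) : Nat.Coprime (NN u a) 3 := by
  rw [Nat.coprime_comm, Nat.Prime.coprime_iff_not_dvd Nat.prime_three]
  intro h
  have := NN_five hu ha h3 Nat.prime_three h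
  omega

theorem NN_cyc {u a : ℕ} : (NN u a : ℤ) ∣ CertTab.cyc a (u : ℤ) := Int.natCast_dvd.2 (NN_dvd u a)

theorem ks_e6 {v f : ℕ} (hv : v.Prime) {S : Type u} [Group S] [Finite S] (hS : Fam.Is v f S .e6) :
    KS S v (v ^ f) TL6 [3, 4, 5, 6, 8, 9, 12] := by
  obtain ⟨F, _, _, _, hc, ⟨e⟩⟩ := hS
  have := Fact.mk hv
  have hq : Nat.card F = v ^ f := by rw [Nat.card_eq_fintype_card, hc]
  have h2q : 2 ≤ v ^ f := by rw [← hq]; exact Finite.one_lt_card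
  refine ⟨h2q, fun s hs => ?_, fun a ha => ?_⟩
  · obtain ⟨b, m, hO⟩ := H378.OmE6.om_E6 (p := v) hq (e s)
    have h1 : orderOf s = m := by
      rw [← MulEquiv.orderOf_eq e s] at hs ⊢
      exact nat_eq_of_om hO.eq hs
    rw [h1]
    exact tor_E6 h2q hO
  · have ha6 : a ∈ clE6 ∧ a ∈ clE8 ∧ 3 ≤ a := by
      revert a; decide
    obtain ⟨x, hx⟩ := ord6 (F := F) ha6.1 (NN_cop3 h2q ha6.2.1 ha6.2.2) (by rw [hq]; exact NN_cyc)
    exact ⟨e.symm x, by rw [MulEquiv.orderOf_eq, hx]⟩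

theorem ks_te6 {v f : ℕ} (hv : v.Prime) {S : Type u} [Group S] [Finite S] (hS : Fam.Is v f S .te6) :
    KS S v (v ^ f) TLT6 [3, 4, 6, 8, 10, 12, 18] := by
  obtain ⟨F, _, _, _, hF, ⟨e⟩⟩ := hS
  have := Fact.mk hv
  have hu : 2 ≤ v ^ f := by
    have h1 := Fintype.one_lt_card (α := F)
    rw [hF] at h1
    by_contra hcon
    have : v ^ f ≤ 1 := by omega
    have := Nat.pow_le_pow_left this 2
    omega
  have hf' : f ≠ 0 := by
    rintro rfl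
    rw [pow_zero] at hu
    omega
  have hpp : IsPrimePow (v ^ f) := hv.isPrimePow.pow hf'
  have hF' : Nat.card F = (v ^ f) ^ 2 := by rw [Nat.card_eq_fintype_card, hF]
  refine ⟨hu, fun s hs => ?_, fun a ha => ?_⟩
  · obtain ⟨b, m, hO⟩ := H378.OmTE6.om_2E6 (p := v) hpp hF' (e s)
    have h1 : orderOf s = m := by
      rw [← MulEquiv.orderOf_eq e s] at hs ⊢
      exact nat_eq_of_om hO.eq hs
    rw [h1]
    exact tor_TE6 hu hO
  · have ha6 : a ∈ clTE6 ∧ a ∈ clE8 ∧ 3 ≤ a := by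
      revert a; decide
    obtain ⟨x, hx⟩ := ordT6 (K := F) (q := v ^ f) hpp hF ha6.1 (NN_cop3 hu ha6.2.1 ha6.2.2) NN_cyc
    exact ⟨e.symm x, by rw [MulEquiv.orderOf_eq, hx]⟩

theorem ks_f4 {v f : ℕ} (hv : v.Prime) {S : Type u} [Group S] [Finite S] (hS : Fam.Is v f S .f4) :
    KS S v (v ^ f) TLF4 [3, 4, 6, 8, 12] := by
  obtain ⟨F, _, _, _, hc, ⟨e⟩⟩ := hS
  have := Fact.mk hv
  have hq : Nat.card F = v ^ f := by rw [Nat.card_eq_fintype_card, hc]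
  have h2q : 2 ≤ v ^ f := by rw [← hq]; exact Finite.one_lt_card
  refine ⟨h2q, fun s hs => ?_, fun a ha => ?_⟩
  · obtain ⟨b, m, hO⟩ := H378.OmF4.om_F4 (p := v) hq (e s)
    have h1 : orderOf s = m := by
      rw [← MulEquiv.orderOf_eq e s] at hs ⊢
      exact nat_eq_of_om hO.eq hs
    rw [h1]
    exact tor_F4 h2q hO
  · have ha6 : a ∈ clF4 := by
      revert a; decide
    obtain ⟨x, hx⟩ := ordF4 (F := F) (m := NN (v ^ f) a) ha6 (by rw [hq]; exact NN_cyc)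
    exact ⟨e.symm x, by rw [MulEquiv.orderOf_eq, hx]⟩

/-! ### exponents -/

theorem pow_dvd_finset {y e a : ℕ} (hy : y.Prime) {N : ℕ → ℕ} {s : Finset ℕ} (ha : a ∈ s)
    (hc : ∀ c ∈ s, y ∣ N c → c = a) (h : y ^ e ∣ ∏ c ∈ s, N c) : y ^ e ∣ N a := by
  rw [← Finset.mul_prod_erase s N ha] at h
  refine Nat.Coprime.dvd_of_dvd_mul_right ?_ h
  apply Nat.Coprime.pow_left
  apply Nat.Coprime.prod_right
  intro c hcs
  rw [Finset.mem_erase] at hcs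
  rw [Nat.Prime.coprime_iff_not_dvd hy]
  exact fun h1 => hcs.1 (hc c hcs.2 h1)

theorem pow_dvd_ZZ {u a y e : ℕ} (hu : 2 ≤ u) (ha : a ∈ clE8) (h3 : 3 ≤ a) (hy : y.Prime)
    (hord : orderOf ((u : ℕ) : ZMod y) = a) (h : ((y ^ e : ℕ) : ℤ) ∣ (u : ℤ) ^ a - 1) : y ^ e ∣ ZZ u a := by
  rcases Nat.eq_zero_or_pos e with he | he
  · rw [he, pow_zero]; exact one_dvd _
  have hya := not_dvd_ord hy (by omega) hord
  have h1 : ((u : ℤ) ^ a - 1).natAbs = ∏ d ∈ a.divisors, Ph d u := by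
    rw [← prod_eval a (by omega)]
    simp only [Ph]
    exact map_prod Int.natAbsHom _ _
  have h2 : y ^ e ∣ ∏ d ∈ a.divisors, Ph d u := by
    rw [← h1]
    exact Int.natCast_dvd.1 h
  rw [ZZ_eq_Ph hu ha]
  refine pow_dvd_finset (N := fun c => Ph c u) hy (Nat.mem_divisors.2 ⟨dvd_rfl, by omega⟩) ?_ h2
  intro c hc hyc
  change y ∣ Ph c u at hyc
  have hca := (Nat.mem_divisors.1 hc).1
  rcases Nat.lt_or_ge c 2 with h4 | h4
  · exfalso
    have hc1 : c = 1 := by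
      have := Nat.pos_of_dvd_of_pos hca (by omega)
      omega
    rw [hc1] at hyc
    have h5 : Ph 1 u = u - 1 := by
      rw [Ph, Polynomial.cyclotomic_one]
      simp
      omega
    rw [h5] at hyc
    have h6 : ((u : ℕ) : ZMod y) = 1 := by
      have h5 : ((u - 1 : ℕ) : ZMod y) = 0 := (ZMod.natCast_eq_zero_iff _ _).2 hyc
      rw [Nat.cast_sub (by omega), Nat.cast_one, sub_eq_zero] at h5
      exact h5
    rw [h6, orderOf_one] at hord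
    omega
  · rcases prime_dvd_Ph h4 hu hy hyc with h5 | ⟨k, m, hk, -⟩
    · exact h5.symm.trans hord
    · exfalso
      apply hya
      refine Dvd.dvd.trans ?_ hca
      rw [hk, pow_succ, mul_assoc]
      exact (dvd_mul_right y m).mul_left _

/-- **A power of `y` divides the number and not `f'`.** -/
theorem exists_expI {v f a y : ℕ} (hu : 2 ≤ v ^ f) (hf : 1 ≤ f) (ha : a ∈ clE8) (h3 : 3 ≤ a) (hy : y.Prime)
    (hord : orderOf ((v ^ f : ℕ) : ZMod y) = a) : ∃ e, 1 ≤ e ∧ y ^ e ∣ NN (v ^ f) a ∧ ¬ y ^ e ∣ f := by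
  have := Fact.mk hy
  have hya := not_dvd_ord hy (by omega) hord
  have hZ0 : ZZ (v ^ f) a ≠ 0 := (ZZ_pos hu ha h3).ne'
  obtain ⟨e, m', hm', hZ⟩ := Nat.exists_eq_pow_mul_and_not_dvd hZ0 y hy.ne_one
  have hyZ : y ∣ ZZ (v ^ f) a := (dvd_NN ha h3 hy hord).trans (NN_dvd _ _)
  have he : 1 ≤ e := by
    by_contra hcon
    have : e = 0 := by omega
    rw [this, pow_zero, one_mul] at hZ
    exact hm' (hZ ▸ hyZ)
  refine ⟨e, he, pow_dvd_NN hy hya ⟨m', hZ⟩, fun hd => ?_⟩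
  obtain ⟨m, rfl⟩ := hd
  -- `x = v ^ m`
  have h1 : v ^ (y ^ e * m) = (v ^ m) ^ y ^ e := by rw [← pow_mul, mul_comm]
  have h2 : ((v ^ (y ^ e * m) : ℕ) : ZMod y) = ((v ^ m : ℕ) : ZMod y) := by
    rw [h1]
    push_cast
    exact ZMod.pow_card_pow _
  rw [h2] at hord
  have h4 : (y : ℤ) ∣ ((v ^ m : ℕ) : ℤ) ^ a - 1 := by
    rw [← ZMod.intCast_zmod_eq_zero_iff_dvd]
    push_cast
    have h5 := pow_orderOf_eq_one ((v ^ m : ℕ) : ZMod y)
    rw [hord] at h5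
    push_cast at h5
    rw [h5, sub_self]
  have h6 := dvd_sub_pow_of_dvd_sub (R := ℤ) (p := y) (a := ((v ^ m : ℕ) : ℤ) ^ a) (b := 1) h4 e
  rw [one_pow] at h6
  have h7 : y ^ (e + 1) ∣ ZZ (v ^ (y ^ e * m)) a := by
    refine pow_dvd_ZZ hu ha h3 hy (by rw [h2]; exact hord) ?_
    rw [h1]
    push_cast at h6 ⊢
    have h8 : ((v : ℤ) ^ m) ^ y ^ e ^ 1 = ((v : ℤ) ^ m) ^ y ^ e := by rw [pow_one]
    rw [← pow_mul ((v : ℤ) ^ m) (y ^ e) a, mul_comm (y ^ e) a, pow_mul]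
    exact h6
  rw [hZ, pow_succ] at h7
  exact hm' (Nat.dvd_of_mul_dvd_mul_left (pow_pos hy.pos e) h7)

/-! ### the exponents of the classes -/

theorem pow_dvd_down {x : ℤ} {i j y e : ℕ} (hy : y.Prime) (hj : orderOf ((x : ℤ) : ZMod y) = j) (hi : ¬ y ∣ i)
    (he : 1 ≤ e) (hd : ((y ^ e : ℕ) : ℤ) ∣ x ^ i - 1) : ((y ^ e : ℕ) : ℤ) ∣ x ^ j - 1 := by
  have := Fact.mk hy
  have h1 : ((x : ℤ) : ZMod y) ^ i = 1 := by
    have h2 : (y : ℤ) ∣ x ^ i - 1 := (Int.natCast_dvd_natCast.2 (dvd_pow_self y (by omega))).trans hd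
    rw [← ZMod.intCast_zmod_eq_zero_iff_dvd] at h2
    push_cast at h2
    exact sub_eq_zero.1 h2
  have h2 : j ∣ i := by rw [← hj]; exact orderOf_dvd_of_pow_eq_one h1
  obtain ⟨c, rfl⟩ := h2
  have h3 : x ^ (j * c) - 1 = (∑ k ∈ Finset.range c, (x ^ j) ^ k) * (x ^ j - 1) := by
    rw [geom_sum_mul, ← pow_mul]
  have h4 : ¬ (y : ℤ) ∣ ∑ k ∈ Finset.range c, (x ^ j) ^ k := by
    rw [← ZMod.intCast_zmod_eq_zero_iff_dvd]
    push_cast
    have h5 := pow_orderOf_eq_one ((x : ℤ) : ZMod y)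
    rw [hj] at h5
    simp only [h5, one_pow, Finset.sum_const, Finset.card_range, nsmul_eq_mul, mul_one]
    rw [ZMod.natCast_eq_zero_iff]
    exact fun h6 => hi (h6.mul_left j)
  rw [h3] at hd
  refine IsCoprime.dvd_of_dvd_mul_left ?_ hd
  push_cast
  apply IsCoprime.pow_left
  exact (Prime.coprime_iff_not_dvd (Nat.prime_iff_prime_int.1 hy)).2 h4

theorem tnum_even {t : Fam} (ht : Tn t) {q i : ℕ} (h : Even i) : tnum t q i = q ^ (i / 2) + 1 := by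
  rw [tnum_tn ht.1 ht.2]
  unfold Cfsg.Agent.H72.AdjOrth.tn
  rw [if_pos h]

theorem tnum_odd {t : Fam} (ht : Tn t) {q i : ℕ} (h : ¬ Even i) : tnum t q i = q ^ i - 1 := by
  rw [tnum_tn ht.1 ht.2]
  unfold Cfsg.Agent.H72.AdjOrth.tn
  rw [if_neg h]

theorem pow_dvd_tnum {t : Fam} (ht : Tn t) {q j y e : ℕ} (hq : 1 ≤ q) (hy : y.Prime) (hy2 : y ≠ 2)
    (hj : orderOf ((q : ℕ) : ZMod y) = j) (hj1 : 1 ≤ j) (he : 1 ≤ e) (hd : ((y ^ e : ℕ) : ℤ) ∣ (q : ℤ) ^ j - 1) :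
    y ^ e ∣ tnum t q j := by
  have := Fact.mk hy
  by_cases hev : Even j
  · rw [tnum_even ht hev]
    obtain ⟨c, rfl⟩ := hev
    rw [show (c + c) / 2 = c by omega]
    have h1 : (q : ℤ) ^ (c + c) - 1 = ((q : ℤ) ^ c - 1) * ((q : ℤ) ^ c + 1) := by ring
    rw [h1] at hd
    have h2 : ¬ (y : ℤ) ∣ (q : ℤ) ^ c - 1 := by
      rw [← ZMod.intCast_zmod_eq_zero_iff_dvd]
      push_cast
      rw [sub_eq_zero]
      intro h3
      have h4 := orderOf_dvd_of_pow_eq_one h3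
      rw [hj] at h4
      have := Nat.le_of_dvd (by omega) h4
      omega
    have h3 : ((y ^ e : ℕ) : ℤ) ∣ (q : ℤ) ^ c + 1 := by
      refine IsCoprime.dvd_of_dvd_mul_left ?_ hd
      push_cast
      apply IsCoprime.pow_left
      exact (Prime.coprime_iff_not_dvd (Nat.prime_iff_prime_int.1 hy)).2 h2
    exact_mod_cast h3
  · rw [tnum_odd ht hev]
    have h4 : ((q ^ j - 1 : ℕ) : ℤ) = (q : ℤ) ^ j - 1 := by
      rw [Nat.cast_sub (Nat.one_le_pow _ _ hq)]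
      push_cast
      ring
    rw [← h4] at hd
    exact_mod_cast hd

section

variable {t : Fam} {p f : ℕ} {L : Type w} [Group L] [Finite L] {G : Type u} [Group G] [Finite G]
  {K : Subgroup G} [K.Normal] {S : Subgroup (G ⧸ K)} [S.Normal] {t' : Fam} {v f' : ℕ} {T : Tab} {k : ℕ → ℕ}

/-- **The exponent of a prime of the class `j ≥ 1`** (`j ≤ 2` allowed). -/
theorem EX.exp_cls (h : EX t p f L G K S t' v f' T k) (ht : Tn t) {y e : ℕ} (hy : y.Prime) (h5 : 5 ≤ y) (hyp : y ≠ p)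
    (he : 1 ≤ e) (hx : ∃ g : G, orderOf g = y ^ e) (hi : 2 * rk t < y) :
    y ^ e ∣ tnum t (p ^ f) (orderOf ((p ^ f : ℕ) : ZMod y)) := by
  have := Fact.mk hy
  obtain ⟨hq, hq3⟩ := h.q_odd
  obtain ⟨i, hi1, hi2, hd⟩ := lexp h.ls.cla h.ls.prime h.p2 h.is hy (by omega) hyp ((h.ls.ord _).1 hx)
  have h1 : y ^ e ∣ ((sg t (p ^ f)) ^ i - 1).natAbs := hd.trans (tnum_dvd_natAbs h.ls.cla (by omega))
  have hsg : sg t (p ^ f) = ((p ^ f : ℕ) : ℤ) := by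
    unfold sg
    split
    · exact absurd rfl (ht.2 _)
    · rfl
  rw [hsg] at h1
  have h2 : ((y ^ e : ℕ) : ℤ) ∣ ((p ^ f : ℕ) : ℤ) ^ i - 1 := Int.natCast_dvd.2 h1
  have hyi : ¬ y ∣ i := fun h3 => by
    have h4 := Nat.le_of_dvd (by omega) h3
    have h5 := le_two_wt h.ls.cla i
    omega
  have h0 : ((p ^ f : ℕ) : ZMod y) ≠ 0 := by
    rw [Ne, ZMod.natCast_eq_zero_iff]
    exact fun h3 => hyp ((Nat.prime_dvd_prime_iff_eq hy h.ls.prime).1 (hy.dvd_of_dvd_pow h3))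
  have h3 := pow_dvd_down (x := ((p ^ f : ℕ) : ℤ)) hy (j := orderOf ((p ^ f : ℕ) : ZMod y)) (by rw [Int.cast_natCast]) hyi he h2
  refine pow_dvd_tnum ht (by omega) hy (by omega) rfl ?_ he h3
  rw [Nat.succ_le_iff, orderOf_pos_iff]
  exact isOfFinOrder_iff_pow_eq_one.2 ⟨y - 1, by omega, ZMod.pow_card_sub_one_eq_one h0⟩

/-- **A prime of `S` is available.** -/
theorem EX.gd_of_pow (h : EX t p f L G K S t' v f' T k) (ht : Tn t) {y e : ℕ} (hy : y.Prime) (h5 : 5 ≤ y)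
    (he : 1 ≤ e) (hx : ∃ g : G, orderOf g = y ^ e) (hi : 2 * rk t < y) (hidx : ¬ y ^ e ∣ f')
    (h3 : 3 ≤ orderOf ((p ^ f : ℕ) : ZMod y)) :
    Gd t (p ^ f) (Nat.card ↥K) S.index (orderOf ((p ^ f : ℕ) : ZMod y)) y := by
  have := Fact.mk hy
  have hcls : cls t (p ^ f) y = orderOf ((p ^ f : ℕ) : ZMod y) := cls_eq_co ht.2 _ _
  have hyp : y ≠ p := by
    rintro rfl
    have h0 : ((y ^ f : ℕ) : ZMod y) = 0 := by
      rw [ZMod.natCast_eq_zero_iff]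
      exact dvd_pow_self y (by have := h.ls.fpos; omega)
    rw [h0, orderOf_zero] at h3
    omega
  have hyL : y ∣ Nat.card L := by
    rw [← h.ls.dvd_iff hy]
    obtain ⟨g, hg⟩ := hx
    have h6 : y ∣ y ^ e := dvd_pow_self y (by omega)
    exact h6.trans (by rw [← hg]; exact orderOf_dvd_natCard g)
  have hyp' : ¬ y ∣ p := fun hd => hyp ((Nat.prime_dvd_prime_iff_eq hy h.ls.prime).1 hd)
  refine ⟨⟨hy, hcls, h3, ?_⟩, fun _ => ⟨e, h.exp_cls ht hy h5 hyp he hx hi, fun hd => hidx (h.ef.idx y e hy h5 hd)⟩⟩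
  rw [← hcls]
  exact (h.ls.adj.dvd y hy (by omega) hyp' (by rw [hcls]; exact h3)).1 hyL

/-- the quotient: an order prime to `|K|`, a power of `y` not dividing the index -/
theorem exists_mul_S {g : G} {y z e : ℕ} (hy : y.Prime) (hz : z.Prime) (hyz : y ≠ z) (hg : orderOf g = y ^ e * z)
    (hyK : ¬ y ∣ Nat.card ↥K) (hzK : ¬ z ∣ Nat.card ↥K) (hyI : ¬ y ^ e ∣ S.index) (hzI : ¬ z ∣ S.index) :
    ∃ s : S, orderOf s = y * z := by
  obtain ⟨s, hs⟩ := exists_pow_S (S := S) g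
  exact exists_mul_of_dvd hy hz hyz (hs y e hy (by rw [hg]; exact dvd_mul_right _ _) hyK hyI)
    (hs z 1 hz (by rw [hg, pow_one]; exact dvd_mul_left _ _) hzK (by rw [pow_one]; exact hzI))

/-- **`NN q i ∣ NN u a`.** -/
theorem EX.fwd (h : EX t p f L G K S t' v f' T k) (ht : Tn t) {u : ℕ} {TL : List (List ℕ)} {B : List ℕ}
    (hS : KS ↥S v u TL B) {i : ℕ} (hi : i ∈ clE8) (h3 : 3 ≤ i) (hm : mem t i) (A : List ℕ)
    (hTL : ∀ T ∈ TL, T.Nodup ∧ (∀ c ∈ T, c ∈ clS) ∧ ∀ a ∈ T, ∀ b ∈ T, a ∈ A → b ∈ A → a = b)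
    (hA : ∀ a ∈ A, 3 ≤ a) (hnix : ∀ r, In t (p ^ f) i r → ¬ r ∣ Nat.card ↥K → ¬ r ∣ S.index)
    (hval : ∀ y, In t (p ^ f) i y → y ≠ v ∧ ¬ y ∣ Nat.card ↥K ∧ orderOf ((u : ℕ) : ZMod y) ∈ A) :
    ∃ a ∈ A, NN (p ^ f) i ∣ NN u a ∧ ∀ y : ℕ, In t (p ^ f) i y → orderOf ((u : ℕ) : ZMod y) = a := by
  obtain ⟨hq, hq3⟩ := h.q_odd
  have hin : ∀ r : ℕ, r.Prime → r ∣ NN (p ^ f) i → In t (p ^ f) i r := fun r hr hd =>
    NN_in ht (by omega) hi h3 hm hr hd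
  obtain ⟨g, hg⟩ := exists_tor h.ls h.is h3 hm (NN_odd (by omega) hi h3) (NN_dvd_tnum ht (by omega) hi h3) hin
  obtain ⟨s, hs⟩ := exists_of_coprime (S := S) hg (fun y hy hd => (hval y (hin y hy hd)).2.1)
    (fun y hy hd => hnix y (hin y hy hd) (hval y (hin y hy hd)).2.1)
  have hv : ¬ v ∣ orderOf s := by
    rw [hs]
    intro hd
    exact (hval v (hin v h.ef.vp hd)).1 rfl
  obtain ⟨T, hT, hd⟩ := hS.tor s hv
  rw [hs] at hd
  obtain ⟨h4, h5, h6⟩ := hTL T hT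
  obtain ⟨z, hz⟩ := h.exists_in h3 hm
  have hz1 : z ∣ NN (p ^ f) i := dvd_NN hi h3 hz.prime (ord_of_in ht hz)
  obtain ⟨a, ha, h7, h8⟩ := fwd_ar hS.two A T hd h4 h5 h6 hA (NN_ne (by omega) hi h3)
    (fun h1 => hz.prime.one_lt.ne' (Nat.dvd_one.1 (h1 ▸ hz1)))
    (fun y hy hd => ⟨(hin y hy hd).five, (hval y (hin y hy hd)).2.2⟩)
  exact ⟨a, ha, h7, fun y hy => h8 y hy.prime (dvd_NN hi h3 hy.prime (ord_of_in ht hy))⟩

end

end Cfsg.Agent.R2.Spec.EE
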