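import Cfsg.Agent.R2.Spec.EE.SmC6N
import Cfsg.Agent.R2.Spec.EE.SmTool
import Cfsg.Agent.R2.Spec.EE.SmKcl
import Cfsg.Agent.R2.Spec.EE.SmE7

/-!
# EE, small ranks: `C₆`, `B₆` and `E₆`, `²E₆`: common part (helper8)

* `ord_of_mask8` : the order of `u` modulo `y` from the mask;
* `c6_caseI`, `c6_caseIII` : the numbers.
-/

set_option autoImplicit false
set_option linter.unusedSectionVars false
set_option linter.unusedVariables false

namespace Cfsg.Agent.R2.Spec.EE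

open Subgroup Cfsg
open Cfsg.Agent.H426.LieFam Cfsg.Agent.R2.Spec Cfsg.Agent.R2.Spec.P1 Cfsg.Agent.R2.Spec.F1
open Cfsg.Agent.H420.QR Cfsg.Agent.H365.Zsig

universe u w

/-- **The order from the mask.** -/
theorem ord_of_mask8 {cl A : List ℕ} {m u y : ℕ} (hm : m < 2 ^ cl.length)
    (hA : ∀ x < cl.length, m.testBit x = true → cl.getD x 0 ∈ A) (h : m.testBit (kcl cl u y) = true) :
    orderOf ((u : ℕ) : ZMod y) ∈ A := by
  have hx : kcl cl u y < cl.length := by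
    by_contra hcon
    rw [Nat.testBit_lt_two_pow (lt_of_lt_of_le hm (Nat.pow_le_pow_right (by norm_num) (not_lt.1 hcon)))] at h
    exact Bool.noConfusion h
  have h1 := hA _ hx h
  have h2 : cl.getD (kcl cl u y) 0 = orderOf ((u : ℕ) : ZMod y) := by
    unfold kcl at hx ⊢
    rw [List.getD_eq_getElem _ _ hx]
    exact List.getElem_idxOf hx
  rwa [h2] at h1

theorem gg_cases {u a l : ℕ} (hl : l.Prime) (h : pr a = l) : GG u a = 1 ∨ GG u a = l := by
  have h1 : GG u a ∣ l := by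
    rw [← h]
    exact Nat.gcd_dvd_right _ _
  exact (Nat.dvd_prime hl).1 h1

/-- one of the classes 5 and 10 -/
theorem c6_i (q : ℕ) : ∃ i, (i = 5 ∨ i = 10) ∧ NN q i = ZZ q i := by
  have key : ∀ a, GG q a = 1 → NN q a = ZZ q a := fun a h => by
    rw [← NN_mul q a, h, mul_one]
  rcases gg5 q with h | h | h
  · exact ⟨10, Or.inr rfl, key _ h.1⟩
  · exact ⟨5, Or.inl rfl, key _ h.1⟩
  · exact ⟨5, Or.inl rfl, key _ h.1⟩

theorem ttor_odd {q : ℕ} (hq : q % 2 = 1) : q ^ 6 + 1 = 2 * ((q ^ 6 + 1) / 2) ∧ (q ^ 6 + 1) / 2 % 2 = 1 := by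
  have h1 : q ^ 6 % 4 = 1 := by
    have h2 : q % 4 = 1 ∨ q % 4 = 3 := by omega
    rw [Nat.pow_mod]
    rcases h2 with h2 | h2 <;> rw [h2]
  omega

/-- **Case `c(12) = 9` or `18`.** -/
theorem c6_caseI {q u i a b : ℕ} (hq : q % 2 = 1) (hq3 : 3 ≤ q) (hu : 2 ≤ u) (hcop : Nat.Coprime u q)
    (hi : i = 5 ∨ i = 10) (hNi : NN q i = ZZ q i) (ha : a = 8 ∨ a = 12) (hd : NN q i ∣ NN u a)
    (hb : b = 9 ∨ b = 18) (hN : NN u b ∣ (q ^ 6 + 1) / 2) : False := by
  obtain ⟨e1, e2⟩ := ttor_odd hq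
  -- `P`
  obtain ⟨α, hα⟩ : ZZ q i ∣ ZZ u a := by
    rw [← hNi]
    exact hd.trans (NN_dvd u a)
  obtain ⟨j, hj⟩ := hN
  have hg : GG u b = 1 ∨ GG u b = 3 := by
    rcases hb with rfl | rfl
    · exact gg_cases Nat.prime_three rfl
    · exact gg_cases Nat.prime_three rfl
  have hR : 2 * j * ZZ u b = GG u b * (q ^ 6 + 1) := by
    rw [e1, hj, ← NN_mul u b]
    ring
  have hj2 : j % 2 = 1 := by
    rw [hj, Nat.mul_mod] at e2
    rcases Nat.mod_two_eq_zero_or_one j with h | h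
    · rw [h, mul_zero] at e2
      exact absurd e2 (by norm_num)
    · exact h
  -- bounds for `W`
  have hW : u ^ 4 ≤ ZZ u a + u ^ 2 ∧ ZZ u a ≤ u ^ 4 + 1 := by
    rcases ha with rfl | rfl
    · rw [ZZ_8 hu]; omega
    · have := ZZ_12 hu; omega
  -- bounds for `R`
  have hu3 : 8 * u ^ 3 ≤ u ^ 6 := by
    calc 8 * u ^ 3 = 2 ^ 3 * u ^ 3 := by norm_num
      _ ≤ u ^ 3 * u ^ 3 := Nat.mul_le_mul_right _ (Nat.pow_le_pow_left hu 3)
      _ = u ^ 6 := by ring
  have hRb : 7 * u ^ 6 ≤ 8 * ZZ u b ∧ ZZ u b ≤ u ^ 6 + u ^ 3 + 1 := by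
    rcases hb with rfl | rfl
    · rw [ZZ_9 hu]; omega
    · have := ZZ_18 hu; omega
  -- bounds for `P`
  have hu4 : 4 * u ^ 2 ≤ u ^ 4 := by
    calc 4 * u ^ 2 = 2 ^ 2 * u ^ 2 := by norm_num
      _ ≤ u ^ 2 * u ^ 2 := Nat.mul_le_mul_right _ (Nat.pow_le_pow_left hu 2)
      _ = u ^ 4 := by ring
  have hu20 : 4 ≤ u ^ 2 := by
    calc 4 = 2 ^ 2 := by norm_num
      _ ≤ u ^ 2 := Nat.pow_le_pow_left hu 2
  rcases Nat.lt_or_ge q 5 with hq5 | hq5
  · have hq' : q = 3 := by omega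
    subst hq'
    have hP : 61 ≤ ZZ 3 i := by
      rcases hi with rfl | rfl
      · rw [ZZ_5 (by norm_num)]; norm_num
      · have := ZZ_10 (u := 3) (by norm_num); omega
    have hα0 : 1 ≤ α := by
      rcases Nat.eq_zero_or_pos α with h | h
      · rw [h, mul_zero] at hα; omega
      · exact h
    have h1 : 61 ≤ u ^ 4 + 1 := by
      calc 61 ≤ ZZ 3 i := hP
        _ ≤ ZZ 3 i * α := Nat.le_mul_of_pos_right _ hα0
        _ = ZZ u a := hα.symm
        _ ≤ _ := hW.2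
    have hu3' : 3 ≤ u := by
      by_contra hcon
      have : u = 2 := by omega
      subst this
      norm_num at h1
    have h2 : 2 * ZZ u b ≤ 2190 := by
      calc 2 * ZZ u b = 2 * 1 * ZZ u b := by ring
        _ ≤ 2 * j * ZZ u b := Nat.mul_le_mul_right _ (Nat.mul_le_mul_left _ (by omega))
        _ = GG u b * 730 := by rw [hR]; norm_num
        _ ≤ 3 * 730 := Nat.mul_le_mul_right _ (by omega)
        _ = _ := by norm_num
    have h3 : u < 4 := by
      by_contra hcon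
      have h4 : 4 ^ 6 ≤ u ^ 6 := Nat.pow_le_pow_left (by omega) 6
      norm_num at h4
      omega
    have h5 : u = 3 := by omega
    rw [h5] at hcop
    exact absurd hcop (by norm_num)
  · refine c6_numI (P := ZZ q i) (W := ZZ u a) (α := α) (R := ZZ u b) hq5 hu hRb.1 hRb.2 ?_ ?_ hW.1 hW.2
      (by rw [hα]; ring) hR hg hj2
    · rcases hi with rfl | rfl
      · rw [ZZ_5 (by omega)]; omega
      · have h1 := ZZ_10 (u := q) (by omega)
        have h2 : 5 * q ^ 3 ≤ q ^ 4 := by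
          calc 5 * q ^ 3 ≤ q * q ^ 3 := Nat.mul_le_mul_right _ hq5
            _ = q ^ 4 := by ring
        have h3 : 5 * q ≤ q ^ 2 := by
          calc 5 * q ≤ q * q := Nat.mul_le_mul_right _ hq5
            _ = q ^ 2 := by ring
        omega
    · rcases hi with rfl | rfl
      · rw [ZZ_5 (by omega)]
      · have h1 := ZZ_10 (u := q) (by omega)
        have h2 : q ^ 2 ≤ q ^ 4 := Nat.pow_le_pow_right (by omega) (by norm_num)
        omega

/-- **Case `c(12) = 8`.** -/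
theorem c6_caseIII {q u n : ℕ} (hq : q % 2 = 1) (hq3 : 3 ≤ q) (hu : 2 ≤ u) (hcop : Nat.Coprime u q)
    (hd : NN q 12 ∣ NN u 8) (hX : (u ^ 2 - 1) * (u ^ 4 + 1) ∣ 3 * n) (hn : n ∣ (q ^ 6 + 1) / 2) : False := by
  obtain ⟨e1, e2⟩ := ttor_odd hq
  obtain ⟨m, hm⟩ : q ^ 4 + 1 - q ^ 2 ∣ u ^ 4 + 1 := by
    have h1 : ZZ q 12 = q ^ 4 + 1 - q ^ 2 := by
      have := ZZ_12 (u := q) (by omega)
      omega
    rw [← h1, ← NN_12, ← ZZ_8 hu]
    exact hd.trans (NN_dvd u 8)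
  obtain ⟨k, hk⟩ : (u ^ 2 - 1) * (u ^ 4 + 1) ∣ 3 * ((q ^ 6 + 1) / 2) := hX.trans (Nat.mul_dvd_mul_left 3 hn)
  refine c6_numIII (q := q) (u := u) (m := m) (k := k) hq3 hcop (by rw [hm]; ring) ?_
  calc 2 * k * ((u ^ 4 + 1) * (u ^ 2 - 1)) = 2 * ((u ^ 2 - 1) * (u ^ 4 + 1) * k) := by ring
    _ = 2 * (3 * ((q ^ 6 + 1) / 2)) := by rw [← hk]
    _ = 3 * (2 * ((q ^ 6 + 1) / 2)) := by ring
    _ = 3 * (q ^ 6 + 1) := by rw [← e1]

section main

variable {t : Fam} {p f : ℕ} {L : Type w} [Group L] [Finite L] {G : Type u} [Group G] [Finite G]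
  {K : Subgroup G} [K.Normal] {S : Subgroup (G ⧸ K)} [S.Normal] {t' : Fam} {v f' : ℕ} {T : Tab} {k : ℕ → ℕ}

/-- the two families -/
def PB6 (t : Fam) : Prop := t = .psp 6 ∨ t = .oodd 6

theorem PB6.tn (h : PB6 t) : Tn t := by
  rcases h with rfl | rfl
  · exact ⟨fun _ h => Fam.noConfusion h, fun _ h => Fam.noConfusion h⟩
  · exact ⟨fun _ h => Fam.noConfusion h, fun _ h => Fam.noConfusion h⟩

theorem PB6.rk (h : PB6 t) : rk t = 6 := by
  rcases h with rfl | rfl <;> rfl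

theorem PB6.mem (h : PB6 t) {i : ℕ} (hi : i = 3 ∨ i = 4 ∨ i = 5 ∨ i = 8 ∨ i = 10 ∨ i = 12) : mem t i := by
  rcases h with rfl | rfl
  · rcases hi with rfl | rfl | rfl | rfl | rfl | rfl <;> exact mem_of_memB (by decide)
  · rcases hi with rfl | rfl | rfl | rfl | rfl | rfl <;> exact mem_of_memB (by decide)

theorem PB6.kill5 (h : PB6 t) : Killer (KI t 5) 5 := by
  rcases h with rfl | rfl
  · exact kill8 10 (by norm_num) (by decide) (by norm_num) (by norm_num)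
  · exact kill8 10 (by norm_num) (by decide) (by norm_num) (by norm_num)

theorem PB6.kill10 (h : PB6 t) : Killer (KI t 10) 10 := by
  rcases h with rfl | rfl
  · exact kill8 5 (by norm_num) (by decide) (by norm_num) (by norm_num)
  · exact kill8 5 (by norm_num) (by decide) (by norm_num) (by norm_num)

theorem PB6.kill12 (h : PB6 t) : Killer (KI t 12) 12 := by
  rcases h with rfl | rfl
  · exact kill8 5 (by norm_num) (by decide) (by norm_num) (by norm_num)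
  · exact kill8 5 (by norm_num) (by decide) (by norm_num) (by norm_num)

theorem PB6.top (h : PB6 t) : top t 12 := by
  rcases h with rfl | rfl
  · exact Or.inl rfl
  · exact Or.inl rfl

theorem PB6.ttor (h : PB6 t) {q : ℕ} (hq : q % 2 = 1) : ttor t q 12 = (q ^ 6 + 1) / 2 := by
  have h1 : Nat.gcd 2 (q - 1) = 2 := Nat.gcd_eq_left (by omega)
  rcases h with rfl | rfl
  · show (if 12 = 2 * 6 then (q ^ 6 + 1) / Nat.gcd 2 (q - 1) else (q ^ 6 - 1) / Nat.gcd 2 (q - 1)) = _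
    rw [if_pos rfl, h1]
  · show (if 12 = 2 * 6 then (q ^ 6 + 1) / Nat.gcd 2 (q - 1) else (q ^ 6 - 1) / Nat.gcd 2 (q - 1)) = _
    rw [if_pos rfl, h1]

/-- **The orders of `S` divisible by a prime of the class 12.** -/
theorem EX.c6_ub (h : EX t p f L G K S t' v f' T k) (ht : PB6 t) {z m : ℕ} (hz : In t (p ^ f) 12 z)
    (hm : ∃ s : S, orderOf s = m) (hzm : z ∣ m) : m ∣ ((p ^ f) ^ 6 + 1) / 2 := by
  rw [← ht.ttor h.q_odd.1]
  exact h.top_ub hz ht.top (exists_of_S hm) hzm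

end main

end Cfsg.Agent.R2.Spec.EE
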