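import Mathlib.Tactic.Ring
import Mathlib.Tactic.Linarith
import Mathlib.Tactic.NormNum
import Mathlib.Tactic.IntervalCases
import Mathlib.Tactic.Positivity
import Mathlib.Data.Nat.Prime.Basic

/-!
# EE, small ranks: `C₆`, `B₆` and `E₆`, `²E₆`: the numbers (helper8)

* `c6_numI` : `2 j Φ₉(u) = g (q⁶ + 1)` and `α Φ₅(q) = Φ₈(u)` or `Φ₁₂(u)`;
* `c6_numIII` : `u⁴ + 1 = m Φ₁₂(q)` and `(u⁴ + 1) (u² - 1) ∣ 3 (q⁶ + 1) / 2`.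
-/

set_option autoImplicit false

namespace Cfsg.Agent.R2.Spec.EE

theorem c6_A {q u : ℕ} (hu : 2 ≤ u) (h1 : 4 * q ^ 4 ≤ 5 * (u ^ 4 + 1)) (h2 : 7 * u ^ 6 ≤ 4 * (q ^ 6 + 1)) : False := by
  obtain ⟨x, hx⟩ : ∃ x : ℤ, x = (u : ℤ) ^ 2 - 4 := ⟨_, rfl⟩
  have hx0 : 0 ≤ x := by
    have : (2 : ℤ) ≤ u := by exact_mod_cast hu
    nlinarith
  have hu2 : (u : ℤ) ^ 2 = x + 4 := by rw [hx]; ring
  have a1 : 4 * ((q : ℤ) ^ 4) ≤ 5 * ((x + 4) ^ 2 + 1) := by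
    rw [← hu2]
    have : 4 * (q : ℤ) ^ 4 ≤ 5 * ((u : ℤ) ^ 4 + 1) := by exact_mod_cast h1
    calc 4 * (q : ℤ) ^ 4 ≤ 5 * ((u : ℤ) ^ 4 + 1) := this
      _ = _ := by ring
  have a2 : 7 * (x + 4) ^ 3 - 4 ≤ 4 * ((q : ℤ) ^ 6) := by
    rw [← hu2]
    have : 7 * (u : ℤ) ^ 6 ≤ 4 * ((q : ℤ) ^ 6 + 1) := by exact_mod_cast h2
    have e : ((u : ℤ) ^ 2) ^ 3 = (u : ℤ) ^ 6 := by ring
    rw [e]
    linarith
  have b1 : (4 * ((q : ℤ) ^ 4)) ^ 3 ≤ (5 * ((x + 4) ^ 2 + 1)) ^ 3 := pow_le_pow_left₀ (by positivity) a1 3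
  have b0 : 0 ≤ 7 * (x + 4) ^ 3 - 4 := by
    have : (x + 4) ^ 3 = x ^ 3 + 12 * x ^ 2 + 48 * x + 64 := by ring
    rw [this]
    nlinarith [pow_nonneg hx0 3, pow_nonneg hx0 2]
  have b2 : (7 * (x + 4) ^ 3 - 4) ^ 2 ≤ (4 * ((q : ℤ) ^ 6)) ^ 2 := pow_le_pow_left₀ b0 a2 2
  have b3 : 4 * (7 * (x + 4) ^ 3 - 4) ^ 2 ≤ (5 * ((x + 4) ^ 2 + 1)) ^ 3 := by
    calc 4 * (7 * (x + 4) ^ 3 - 4) ^ 2 ≤ 4 * (4 * ((q : ℤ) ^ 6)) ^ 2 := by linarith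
      _ = (4 * ((q : ℤ) ^ 4)) ^ 3 := by ring
      _ ≤ _ := b1
  have b4 : 0 < 4 * (7 * (x + 4) ^ 3 - 4) ^ 2 - (5 * ((x + 4) ^ 2 + 1)) ^ 3 := by
    ring_nf
    positivity
  linarith

theorem c6_B {q u : ℕ} (hu : 2 ≤ u) (h1 : 8 * q ^ 4 ≤ 5 * (u ^ 4 + 1)) (h2 : 7 * u ^ 6 ≤ 12 * (q ^ 6 + 1)) : False := by
  obtain ⟨x, hx⟩ : ∃ x : ℤ, x = (u : ℤ) ^ 2 - 4 := ⟨_, rfl⟩
  have hx0 : 0 ≤ x := by
    have : (2 : ℤ) ≤ u := by exact_mod_cast hu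
    nlinarith
  have hu2 : (u : ℤ) ^ 2 = x + 4 := by rw [hx]; ring
  have a1 : 8 * ((q : ℤ) ^ 4) ≤ 5 * ((x + 4) ^ 2 + 1) := by
    rw [← hu2]
    have : 8 * (q : ℤ) ^ 4 ≤ 5 * ((u : ℤ) ^ 4 + 1) := by exact_mod_cast h1
    calc 8 * (q : ℤ) ^ 4 ≤ 5 * ((u : ℤ) ^ 4 + 1) := this
      _ = _ := by ring
  have a2 : 7 * (x + 4) ^ 3 - 12 ≤ 12 * ((q : ℤ) ^ 6) := by
    rw [← hu2]
    have : 7 * (u : ℤ) ^ 6 ≤ 12 * ((q : ℤ) ^ 6 + 1) := by exact_mod_cast h2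
    have e : ((u : ℤ) ^ 2) ^ 3 = (u : ℤ) ^ 6 := by ring
    rw [e]
    linarith
  have b1 : (8 * ((q : ℤ) ^ 4)) ^ 3 ≤ (5 * ((x + 4) ^ 2 + 1)) ^ 3 := pow_le_pow_left₀ (by positivity) a1 3
  have b0 : 0 ≤ 7 * (x + 4) ^ 3 - 12 := by
    have : (x + 4) ^ 3 = x ^ 3 + 12 * x ^ 2 + 48 * x + 64 := by ring
    rw [this]
    nlinarith [pow_nonneg hx0 3, pow_nonneg hx0 2]
  have b2 : (7 * (x + 4) ^ 3 - 12) ^ 2 ≤ (12 * ((q : ℤ) ^ 6)) ^ 2 := pow_le_pow_left₀ b0 a2 2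
  have b3 : 32 * (7 * (x + 4) ^ 3 - 12) ^ 2 ≤ 9 * (5 * ((x + 4) ^ 2 + 1)) ^ 3 := by
    calc 32 * (7 * (x + 4) ^ 3 - 12) ^ 2 ≤ 32 * (12 * ((q : ℤ) ^ 6)) ^ 2 := by linarith
      _ = 9 * (8 * ((q : ℤ) ^ 4)) ^ 3 := by ring
      _ ≤ _ := by linarith
  have b4 : 0 < 32 * (7 * (x + 4) ^ 3 - 12) ^ 2 - 9 * (5 * ((x + 4) ^ 2 + 1)) ^ 3 := by
    ring_nf
    positivity
  linarith

/-- **Case `c(12) = 9`.** -/
theorem c6_numI {q u R P W α j g : ℕ} (hq : 5 ≤ q) (hu : 2 ≤ u) (hR1 : 7 * u ^ 6 ≤ 8 * R) (hR2 : R ≤ u ^ 6 + u ^ 3 + 1)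
    (hP1 : 4 * q ^ 4 ≤ 5 * P) (hP2 : P ≤ q ^ 4 + q ^ 3 + q ^ 2 + q + 1) (hW1 : u ^ 4 ≤ W + u ^ 2) (hW2 : W ≤ u ^ 4 + 1)
    (hα : α * P = W) (hj : 2 * j * R = g * (q ^ 6 + 1)) (hg : g = 1 ∨ g = 3) (hj2 : j % 2 = 1) : False := by
  have hW0 : 0 < W := by
    have h1 : 4 * u ^ 2 ≤ u ^ 4 := by
      calc 4 * u ^ 2 = 2 ^ 2 * u ^ 2 := by norm_num
        _ ≤ u ^ 2 * u ^ 2 := Nat.mul_le_mul_right _ (Nat.pow_le_pow_left hu 2)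
        _ = u ^ 4 := by ring
    have h2 : 0 < u ^ 2 := Nat.pow_pos (by omega)
    omega
  have hα0 : 1 ≤ α := by
    rcases Nat.eq_zero_or_pos α with h1 | h1
    · rw [h1, zero_mul] at hα; omega
    · exact h1
  have hj0 : 1 ≤ j := by omega
  have hPW : P ≤ u ^ 4 + 1 := by
    calc P ≤ α * P := Nat.le_mul_of_pos_left _ hα0
      _ = W := hα
      _ ≤ _ := hW2
  rcases hg with rfl | rfl
  · -- `g = 1`
    have h1 : 2 * R ≤ q ^ 6 + 1 := by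
      calc 2 * R = 2 * 1 * R := by ring
        _ ≤ 2 * j * R := Nat.mul_le_mul_right _ (Nat.mul_le_mul_left _ hj0)
        _ = _ := by rw [hj, one_mul]
    exact c6_A (q := q) hu (by omega) (by omega)
  · by_cases hj3 : 3 ≤ j
    · have h1 : 6 * R ≤ 3 * (q ^ 6 + 1) := by
        calc 6 * R = 2 * 3 * R := by ring
          _ ≤ 2 * j * R := Nat.mul_le_mul_right _ (Nat.mul_le_mul_left _ hj3)
          _ = _ := hj
      exact c6_A (q := q) hu (by omega) (by omega)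
    · have hj1 : j = 1 := by omega
      subst hj1
      by_cases hα2 : 2 ≤ α
      · have h1 : 2 * P ≤ u ^ 4 + 1 := by
          calc 2 * P ≤ α * P := Nat.mul_le_mul_right _ hα2
            _ = W := hα
            _ ≤ _ := hW2
        exact c6_B (q := q) hu (by omega) (by omega)
      · have hα1 : α = 1 := by omega
        subst hα1
        rw [one_mul] at hα
        subst hα
        -- `q < u`
        have hqu : q < u := by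
          by_contra hcon
          have h1 : u ^ 6 ≤ q ^ 6 := Nat.pow_le_pow_left (by omega) 6
          have h2 : 2 * R = 3 * (q ^ 6 + 1) := by rw [← hj]
          have h3 : 2 * u ^ 3 ≤ u ^ 6 := by
            calc 2 * u ^ 3 ≤ u ^ 3 * u ^ 3 := Nat.mul_le_mul_right _ (by
                  calc 2 ≤ 2 ^ 3 := by norm_num
                    _ ≤ u ^ 3 := Nat.pow_le_pow_left hu 3)
              _ = u ^ 6 := by ring
          omega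
        obtain ⟨d, rfl⟩ := Nat.exists_eq_add_of_lt hqu
        have h1 : (q + d + 1) ^ 4 = (q + d + 1) ^ 2 * ((q + d + 1) ^ 2 - 1) + (q + d + 1) ^ 2 := by
          have h0 : 1 ≤ (q + d + 1) ^ 2 := Nat.one_le_pow _ _ (by omega)
          obtain ⟨e, he⟩ := Nat.exists_eq_add_of_le h0
          have h9 : (q + d + 1) ^ 4 = (q + d + 1) ^ 2 * (q + d + 1) ^ 2 := by ring
          rw [h9, he, Nat.add_sub_cancel_left]
          ring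
        have h2 : (q + d + 1) ^ 2 * ((q + d + 1) ^ 2 - 1) ≤ P := by omega
        have h3 : (q + 1) ^ 2 * ((q + 1) ^ 2 - 1) ≤ (q + d + 1) ^ 2 * ((q + d + 1) ^ 2 - 1) := by
          have : (q + 1) ^ 2 ≤ (q + d + 1) ^ 2 := Nat.pow_le_pow_left (by omega) 2
          exact Nat.mul_le_mul this (Nat.sub_le_sub_right this 1)
        have h4 : (q + 1) ^ 2 - 1 = q ^ 2 + 2 * q := by
          have : (q + 1) ^ 2 = q ^ 2 + 2 * q + 1 := by ring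
          omega
        rw [h4] at h3
        have h5 : (q + 1) ^ 2 * (q ^ 2 + 2 * q) = q ^ 4 + 4 * q ^ 3 + 5 * q ^ 2 + 2 * q := by ring
        have h6 : 1 ≤ q ^ 3 := Nat.one_le_pow _ _ (by omega)
        omega

/-- **Case `c(12) = 8`.** -/
theorem c6_numIII {q u m k : ℕ} (hq : 3 ≤ q) (hcop : Nat.Coprime u q) (hm : u ^ 4 + 1 = m * (q ^ 4 + 1 - q ^ 2))
    (hk : 2 * k * ((u ^ 4 + 1) * (u ^ 2 - 1)) = 3 * (q ^ 6 + 1)) : False := by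
  have hq2 : q ^ 2 ≤ q ^ 4 := Nat.pow_le_pow_right (by omega) (by norm_num)
  obtain ⟨M, hM⟩ : ∃ M, M = q ^ 4 + 1 - q ^ 2 := ⟨_, rfl⟩
  rw [← hM] at hm
  have hM' : M + q ^ 2 = q ^ 4 + 1 := by omega
  have hM0 : 0 < M := by omega
  have hq6 : q ^ 6 + 1 = M * (q ^ 2 + 1) := by
    have h1 : (M + q ^ 2) * (q ^ 2 + 1) = (q ^ 4 + 1) * (q ^ 2 + 1) := by rw [hM']
    have h2 : (q ^ 4 + 1) * (q ^ 2 + 1) = (q ^ 6 + 1) + q ^ 2 * (q ^ 2 + 1) := by ring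
    have h3 : (M + q ^ 2) * (q ^ 2 + 1) = M * (q ^ 2 + 1) + q ^ 2 * (q ^ 2 + 1) := by ring
    omega
  have h1 : 2 * k * m * (u ^ 2 - 1) = 3 * (q ^ 2 + 1) := by
    rw [hm, hq6] at hk
    have : M * (2 * k * m * (u ^ 2 - 1)) = M * (3 * (q ^ 2 + 1)) := by
      calc M * (2 * k * m * (u ^ 2 - 1)) = 2 * k * (m * M * (u ^ 2 - 1)) := by ring
        _ = _ := by rw [hk]; ring
    exact Nat.eq_of_mul_eq_mul_left hM0 this
  have hk0 : 1 ≤ k := by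
    rcases Nat.eq_zero_or_pos k with h2 | h2
    · rw [h2] at h1
      simp at h1
    · exact h2
  have hm0 : 1 ≤ m := by
    rcases Nat.eq_zero_or_pos m with h2 | h2
    · rw [h2, zero_mul] at hm
      omega
    · exact h2
  have hm2 : m ≠ 1 := by
    rintro rfl
    rw [one_mul] at hm
    have h2 : u ^ 4 + q ^ 2 = q ^ 4 := by omega
    have h3 : q ∣ u ^ 4 := by
      have h4 : q ∣ u ^ 4 + q ^ 2 := by rw [h2]; exact dvd_pow_self q (by norm_num)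
      exact (Nat.dvd_add_left (dvd_pow_self q (by norm_num))).1 h4
    have h5 : Nat.Coprime (u ^ 4) q := Nat.Coprime.pow_left 4 hcop
    have h6 := Nat.Coprime.eq_one_of_dvd h5.symm h3
    omega
  have hm3 : 2 ≤ m := by omega
  have h2 : 4 * (u ^ 2 - 1) ≤ 3 * (q ^ 2 + 1) := by
    rw [← h1]
    refine Nat.mul_le_mul_right _ ?_
    calc 4 = 2 * 1 * 2 := by norm_num
      _ ≤ 2 * k * m := Nat.mul_le_mul (Nat.mul_le_mul_left _ hk0) hm3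
  have h3 : 2 * M ≤ u ^ 4 + 1 := by
    rw [hm]
    exact Nat.mul_le_mul_right _ hm3
  have h4 : 4 * u ^ 2 ≤ 3 * q ^ 2 + 7 := by omega
  have h5 : (4 * u ^ 2) ^ 2 ≤ (3 * q ^ 2 + 7) ^ 2 := Nat.pow_le_pow_left h4 2
  have h6 : (4 * u ^ 2) ^ 2 = 16 * u ^ 4 := by ring
  have h7 : (3 * q ^ 2 + 7) ^ 2 = 9 * q ^ 4 + 42 * q ^ 2 + 49 := by ring
  have h8 : 9 * q ^ 2 ≤ q ^ 4 := by
    calc 9 * q ^ 2 = 3 ^ 2 * q ^ 2 := by norm_num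
      _ ≤ q ^ 2 * q ^ 2 := Nat.mul_le_mul_right _ (Nat.pow_le_pow_left hq 2)
      _ = q ^ 4 := by ring
  have h9 : 9 ≤ q ^ 2 := by
    calc 9 = 3 ^ 2 := by norm_num
      _ ≤ q ^ 2 := Nat.pow_le_pow_left hq 2
  omega

end Cfsg.Agent.R2.Spec.EE
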