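import Cfsg.Agent.R2.Spec.EE.SurvE8
import Cfsg.Agent.R2.Spec.EE.SmGdA
import Cfsg.Agent.R2.Spec.EE.SmDef
import Cfsg.Agent.R2.Spec.EE.NumD
import Cfsg.Agent.R2.Spec.EE.NumAr
import Cfsg.Agent.R2.Spec.EE.SokE7

/-!
# Small rank, `S = E₇(u)`: common part (helper3)

* `Pm n q` : the primitive part of `Φ_n(q)`;
* `EX.kill` : the primes of a class with a `Killer` do not divide the index;
* `sv7_one` : a class with all values in the large classes of `E₇`;
* `EX.two_out` : of two nonadjacent classes one has no prime dividing `|K|` or equal to `v`; `sv7_out`.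
-/

set_option autoImplicit false
set_option linter.unusedSectionVars false
set_option linter.unusedVariables false

namespace Cfsg.Agent.R2.Spec.EE

open Subgroup Cfsg Polynomial
open Cfsg.Agent.H426.LieFam Cfsg.Agent.R2.Spec Cfsg.Agent.R2.Spec.P1 Cfsg.Agent.R2.Spec.F1
open Cfsg.Agent.H365.Zsig

universe u w

/-! ### the primitive part -/

/-- the primitive part of `Φ_n(q)` -/
noncomputable def Pm (n q : ℕ) : ℕ := Ph n q / Nat.gcd (Ph n q) n

theorem Pm_dvd (n q : ℕ) : Pm n q ∣ Ph n q := Nat.div_dvd_of_dvd (Nat.gcd_dvd_left _ _)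

theorem Ph_eq_mul (n q : ℕ) : Ph n q = Nat.gcd (Ph n q) n * Pm n q :=
  (Nat.mul_div_cancel' (Nat.gcd_dvd_left _ _)).symm

theorem Pm_ord {n q r : ℕ} (hn : 3 ≤ n) (hq : 2 ≤ q) (hr : r.Prime) (hd : r ∣ Pm n q) : orderOf (q : ZMod r) = n := by
  have hrd : r ∣ Ph n q := hd.trans (Pm_dvd n q)
  by_contra hro
  obtain ⟨k, m, hnk, hrm, hord, hmr, hm0⟩ := (prime_dvd_Ph (by omega) hq hr hrd).resolve_left hro
  refine sq_not_dvd hn hq hr hnk hrm hord hmr hm0 ?_
  have h1 : r ∣ Nat.gcd (Ph n q) n := Nat.dvd_gcd hrd (by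
    rw [hnk]; exact (dvd_pow_self r (Nat.succ_ne_zero k)).mul_right m)
  rw [Ph_eq_mul n q, sq]
  exact Nat.mul_dvd_mul h1 hd

theorem Pm_odd {n q : ℕ} (hn : 3 ≤ n) (hq : 2 ≤ q) (hq2 : q % 2 = 1) : Odd (Pm n q) := by
  rw [Nat.odd_iff]
  by_contra h1
  have h2 : 2 ∣ Pm n q := by omega
  have h3 := Pm_ord hn hq Nat.prime_two h2
  have h4 : orderOf ((q : ℕ) : ZMod 2) ∣ 2 - 1 := by
    have := Fact.mk Nat.prime_two
    apply ZMod.orderOf_dvd_card_sub_one
    rw [Ne, ZMod.natCast_eq_zero_iff]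
    omega
  rw [h3] at h4
  have := Nat.le_of_dvd (by norm_num) h4
  omega

theorem Pm_le {n q : ℕ} (hn : 1 ≤ n) : Ph n q ≤ n * Pm n q := by
  conv_lhs => rw [Ph_eq_mul n q]
  exact Nat.mul_le_mul_right _ (Nat.le_of_dvd hn (Nat.gcd_dvd_right _ _))

/-- the primitive part and the torus number -/
theorem Pm_tor {t : Fam} (ht : Classical t) {q i : ℕ} (hq : q % 2 = 1) (hq3 : 3 ≤ q) (hi : 3 ≤ i) (hm : mem t i) :
    Pm (idx t i) q ∣ tnum t q i ∧ Odd (Pm (idx t i) q) ∧ ∀ r : ℕ, r.Prime → r ∣ Pm (idx t i) q → In t q i r := by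
  by_cases hpsu : ∀ m, t ≠ .psu m
  · have hidx : idx t i = i := by
      unfold idx
      cases t with
      | psu m => exact absurd rfl (hpsu m)
      | _ => rfl
    rw [hidx]
    have h : ∀ r : ℕ, r.Prime → r ∣ Pm i q → orderOf (q : ZMod r) = i := fun r hr hd => Pm_ord hi (by omega) hr hd
    have hMd : Pm i q ∣ q ^ i - 1 := (Pm_dvd i q).trans (Ph_dvd (by omega) (by omega))
    refine ⟨?_, Pm_odd hi (by omega) hq, fun r hr hrM => ⟨hr, ?_, hi, hm⟩⟩
    · by_cases hpsl : ∀ m, t ≠ .psl m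
      · rw [tnum_tn hpsl hpsu]
        unfold Cfsg.Agent.H72.AdjOrth.tn
        split_ifs with he
        · obtain ⟨j, hj⟩ := he
          have hj' : i / 2 = j := by omega
          rw [hj']
          have hij : i = 2 * j := by omega
          rw [hij] at hMd h ⊢
          exact dvd_plus (by omega) (by omega) hMd h
        · exact hMd
      · push Not at hpsl
        obtain ⟨m, rfl⟩ := hpsl
        exact hMd
    · rw [cls_eq_co hpsu]
      exact h r hr hrM
  · push Not at hpsu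
    obtain ⟨m, rfl⟩ := hpsu
    have hidx : idx (.psu m) i = dl i := rfl
    rw [hidx]
    have h : ∀ r : ℕ, r.Prime → r ∣ Pm (dl i) q → orderOf (q : ZMod r) = dl i := fun r hr hd =>
      Pm_ord (dl_three hi) (by omega) hr hd
    have hodd := Pm_odd (dl_three hi) (by omega) hq
    have hMd : Pm (dl i) q ∣ q ^ dl i - 1 := (Pm_dvd _ q).trans (Ph_dvd (by have := dl_three hi; omega) (by omega))
    refine ⟨?_, hodd, fun r hr hrM => ⟨hr, ?_, hi, hm⟩⟩
    · unfold tnum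
      simp only
      split_ifs with he
      · refine hMd.trans ?_
        have h1 : dl i ∣ i := by
          unfold dl
          split_ifs with h2 h3
          · exact dvd_rfl
          · exact Nat.div_dvd_of_dvd (Nat.dvd_of_mod_eq_zero h3)
          · exact absurd (Nat.even_iff.1 he) h3
        exact Nat.pow_sub_one_dvd_pow_sub_one q h1
      · have h1 : dl i = 2 * i := by
          unfold dl
          rw [if_neg (by rw [Nat.even_iff] at he; omega), if_neg (by rw [Nat.even_iff] at he; omega)]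
        rw [h1] at hMd h ⊢
        exact dvd_plus (by omega) (by omega) hMd h
    · rw [cls, sg]
      push_cast
      refine neg_order hr (fun h2 => ?_) hi (h r hr hrM)
      rw [h2] at hrM
      exact absurd (Nat.odd_iff.1 hodd) (by omega)

/-! ### the index -/

/-- the classes which give congruences for the class `i` -/
def KI (t : Fam) (i l : ℕ) : Prop :=
  3 ≤ l ∧ mem t l ∧ na t i l ∧ ∃ m, 3 ≤ m ∧ mem t m ∧ na t i m ∧ na t l m

section

variable {t : Fam} {p f : ℕ} {L : Type w} [Group L] [Finite L] {G : Type u} [Group G] [Finite G]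
  {K : Subgroup G} [K.Normal] {S : Subgroup (G ⧸ K)} [S.Normal] {t' : Fam} {v f' : ℕ} {T : Tab} {k : ℕ → ℕ}

theorem EX.kill (h : EX t p f L G K S t' v f' T k) {i r : ℕ} (hr : In t (p ^ f) i r) (hrK : ¬ r ∣ Nat.card ↥K)
    (hk : Killer (KI t i) i) : ¬ r ∣ S.index := by
  intro hd
  refine killer_false hr.prime hr.five (X := sg t (p ^ f)) hr.cls_eq hr.reg (I := KI t i) ?_ hk
  intro l hl hli
  obtain ⟨h3, hm, hna, m, hm3, hmm, h1, h2⟩ := hl
  obtain ⟨z, hz⟩ := h.exists_in hm3 hmm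
  exact h.ls.ehc h.red h.frm hr (hd.mul_left _) hrK h3 hm hna ⟨m, z, hz, h1, h2⟩

theorem EX.gd_of_kill (h : EX t p f L G K S t' v f' T k) {i y : ℕ} (hy : In t (p ^ f) i y)
    (hk : Killer (KI t i) i) : Gd t (p ^ f) (Nat.card ↥K) S.index i y := by
  refine ⟨hy, fun hyK => ⟨1, ?_, ?_⟩⟩
  · rw [pow_one]
    exact in_dvd_tnum h.ls.cla (by have := h.q_odd; omega) hy
  · rw [pow_one]
    exact h.kill hy hyK hk

/-- **Two nonadjacent classes are not both outside of `S`.** -/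
theorem EX.two_out (h : EX t p f L G K S t' v f' T k) (hkv : T.kv = true) {i j : ℕ} (hij : na t i j) :
    (∀ y, In t (p ^ f) i y → ¬ y ∣ Nat.card ↥K ∧ y ≠ v) ∨ (∀ z, In t (p ^ f) j z → ¬ z ∣ Nat.card ↥K ∧ z ≠ v) := by
  by_contra hcon
  rw [not_or] at hcon
  obtain ⟨h1, h2⟩ := hcon
  push Not at h1 h2
  obtain ⟨y, hy, hy1⟩ := h1
  obtain ⟨z, hz, hz1⟩ := h2
  have hne : y ≠ z := hy.ne hz (na_ne hij)
  have hno : ¬ ∃ g : G, orderOf g = y * z := fun hg => (h.ls.adj_iff hy hz hne).1 hg hij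
  by_cases hyK : y ∣ Nat.card ↥K
  · by_cases hzK : z ∣ Nat.card ↥K
    · exact hno (exists_mul_nil h.ef.nil hy.prime hz.prime hne hyK hzK)
    · have hzv := hz1 hzK
      have hyv : y ≠ v := fun h3 => hne (h3.trans hzv.symm)
      obtain ⟨g, hg⟩ := h.ef.kv hkv y hy.prime hyK hyv
      exact hno ⟨g, by rw [hg, hzv]⟩
  · have hyv := hy1 hyK
    by_cases hzK : z ∣ Nat.card ↥K
    · have hzv : z ≠ v := fun h3 => hne (hyv.trans h3.symm)
      obtain ⟨g, hg⟩ := h.ef.kv hkv z hz.prime hzK hzv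
      exact hno ⟨g, by rw [hg, hyv, mul_comm]⟩
    · exact hne (hyv.trans (hz1 hzK).symm)

end

/-! ### the elements -/

/-- the mask of the large classes -/
theorem mask_A7s {x : ℕ} (h : (8144 : ℕ).testBit x = true) : clE7.getD x 0 ∈ A7 := by
  have hx : x < 13 := by
    by_contra hcon
    rw [Nat.testBit_lt_two_pow (lt_of_lt_of_le (by norm_num : 8144 < 2 ^ 13)
      (Nat.pow_le_pow_right (by norm_num) (not_lt.1 hcon)))] at h
    exact Bool.noConfusion h
  exact (by decide : ∀ x < 13, (8144 : ℕ).testBit x = true → clE7.getD x 0 ∈ A7) x hx h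

theorem ord_le {X : Type*} [Group X] {x : X} {q l N J2 J3 : ℕ} (hO : H482.TwoCyc.Untw.Ords q l N J2 J3 x)
    (hM : ∀ r : ℕ, r.Prime → r ∣ orderOf x → ¬ r ∣ q) : orderOf x ≤ (q + 1) ^ l := by
  obtain ⟨p, e, m, j, hp, he, hq, ho, hm, hmp, h2, h3, ⟨S, hS, hSl, hmS⟩, -⟩ := hO
  have hq2 : 2 ≤ q := by rw [hq]; exact hp.two_le.trans (Nat.le_self_pow he.ne' p)
  have hj : j = 0 := by
    by_contra hj
    refine hM p hp ?_ (by rw [hq]; exact dvd_pow_self p he.ne')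
    rw [ho]
    exact (dvd_pow_self p hj).mul_left m
  rw [ho, hj, pow_zero, mul_one]
  have h4 := H482.TwoCyc.Untw.card_pos_eval q hq2 (c := 1) one_pos (m := m) (S := S) (by rwa [Nat.cast_one, one_mul])
  rw [one_mul] at h4
  exact h4.trans (Nat.pow_le_pow_right (by omega) hSl)

/-- the order of `E₇(u)` without the characteristic part -/
def E7n (u : ℕ) : ℕ := (u ^ 2 - 1) * (u ^ 6 - 1) * (u ^ 8 - 1) * (u ^ 10 - 1) * (u ^ 12 - 1) * (u ^ 14 - 1) * (u ^ 18 - 1)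

theorem dvd_E7n {F : Type u} [Field F] [Fintype F] {M : ℕ} (hM : Nat.Coprime M (Nat.card F))
    (hd : M ∣ Nat.card ↥(Cfsg.Lie.chevE7.group F)) : M ∣ E7n (Nat.card F) := by
  have h1 : M ∣ Nat.gcd 2 (Nat.card F - 1) * Nat.card ↥(Cfsg.Lie.chevE7.group F) := hd.mul_left _
  rw [Cfsg.Agent.S1064.result Nat.card_eq_fintype_card.symm] at h1
  have h2 : M ∣ (Nat.card F) ^ 63 * E7n (Nat.card F) := by
    refine h1.trans (dvd_of_eq ?_)
    unfold E7n
    ring
  exact (hM.pow_right 63).dvd_of_dvd_mul_left h2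

section main

variable {t : Fam} {p f : ℕ} {L : Type w} [Group L] [Finite L] {G : Type u} [Group G] [Finite G]
  {K : Subgroup G} [K.Normal] {S : Subgroup (G ⧸ K)} [S.Normal] {v f' : ℕ}

/-- **A class with all values in the large classes of `E₇`.** -/
theorem sv7_one (h : EX t p f L G K S .e7 v f' tabE7 (kcl clE7 (v ^ f'))) (hr : rk t ≤ 12) {i0 : ℕ} (hi : 3 ≤ i0)
    (hm : mem t i0) (hkl : Killer (KI t i0) i0)
    (hk : (dat tabE7.tbl t (cls3 t)).go (cls3 t).length (st0 tabE7.tbl (cls3 t) (tabE7.domX i0 8144)) 0 = false) :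
    ∃ a ∈ A7, (Pm (idx t i0) (p ^ f) : ℤ) ∣ (cyclotomic a ℤ).eval ((v ^ f' : ℕ) : ℤ) := by
  obtain ⟨hq, hq3⟩ := h.q_odd
  obtain ⟨hM, hodd, hin⟩ := Pm_tor h.ls.cla hq hq3 hi hm
  have hgd := h.gd_e7 (Or.inl hr)
  obtain ⟨g, hg⟩ := exists_tor h.ls h.is hi hm hodd hM hin
  have key : ∀ y : ℕ, y.Prime → y ∣ Pm (idx t i0) (p ^ f) →
      y ≠ v ∧ ¬ y ∣ Nat.card ↥K ∧ (8144 : ℕ).testBit (kcl clE7 (v ^ f') y) = true :=
    fun y hy hd => val_mask (T := tabE7) (by decide) (h.row_val hgd hk (h.gd_of_kill (hin y hy hd) hkl))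
  exact numA7 h.ef.vp h.frm.is hg (fun y hy hd => (key y hy hd).2.1)
    (fun y hy hd => h.kill (hin y hy hd) (key y hy hd).2.1 hkl)
    (fun y hy hd => ⟨(hin y hy hd).five, (key y hy hd).1⟩) (fun y hy hd => mask_A7s (key y hy hd).2.2)

/-- **A class without primes in `K ∪ {v}`.** -/
theorem sv7_out (h : EX t p f L G K S .e7 v f' tabE7 (kcl clE7 (v ^ f'))) {i0 : ℕ} (hi : 3 ≤ i0)
    (hm : mem t i0) (hkl : Killer (KI t i0) i0) (ho : ∀ y, In t (p ^ f) i0 y → ¬ y ∣ Nat.card ↥K ∧ y ≠ v) :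
    Pm (idx t i0) (p ^ f) ≤ (v ^ f' + 1) ^ 7 ∧ Pm (idx t i0) (p ^ f) ∣ E7n (v ^ f') := by
  obtain ⟨hq, hq3⟩ := h.q_odd
  obtain ⟨hM, hodd, hin⟩ := Pm_tor h.ls.cla hq hq3 hi hm
  obtain ⟨g, hg⟩ := exists_tor h.ls h.is hi hm hodd hM hin
  obtain ⟨s, hs⟩ := exists_of_coprime hg (fun y hy hd => (ho y (hin y hy hd)).1)
    (fun y hy hd => h.kill (hin y hy hd) (ho y (hin y hy hd)).1 hkl)
  obtain ⟨F, i1, i2, i3, hcF, ⟨e⟩⟩ := h.frm.is
  have hqF : Nat.card F = v ^ f' := by rw [Nat.card_eq_fintype_card, hcF]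
  have hnd : ∀ r : ℕ, r.Prime → r ∣ Pm (idx t i0) (p ^ f) → ¬ r ∣ v ^ f' := fun r hr hd h1 =>
    (ho r (hin r hr hd)).2 ((Nat.prime_dvd_prime_iff_eq hr h.ef.vp).1 (hr.dvd_of_dvd_pow h1))
  have he : orderOf (e s) = Pm (idx t i0) (p ^ f) := by rw [MulEquiv.orderOf_eq, hs]
  refine ⟨?_, ?_⟩
  · have h1 := ord_le (H482.TwoCyc.Untw.ords_E7 (e s)) (fun r hr hd => by
      rw [he] at hd
      rw [hqF]
      exact hnd r hr hd)
    rw [he, hqF] at h1
    exact h1
  · have h2 : Nat.Coprime (Pm (idx t i0) (p ^ f)) (Nat.card F) := by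
      rw [hqF]
      exact Nat.coprime_of_dvd fun r hr hd => hnd r hr hd
    have h3 : Pm (idx t i0) (p ^ f) ∣ Nat.card ↥(Cfsg.Lie.chevE7.group F) := by
      rw [← he]
      exact orderOf_dvd_natCard _
    rw [← hqF]
    exact dvd_E7n h2 h3

end main

end Cfsg.Agent.R2.Spec.EE
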