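import Cfsg.Agent.R2.Spec.EE.SmGp
import Cfsg.Agent.R2.Spec.EE.SurvE6
import Cfsg.Agent.R2.Spec.EE.SmN7

/-!
# The small ranks: the numbers of the small cliques of `S` (helper28)

* `clq` : the check that the cliques are in the list; `ord_list` : the order divides a product of cyclotomic numbers;
* `hB_e6`, `hB_te6`, `hB_f4`.
-/

set_option autoImplicit false
set_option linter.unusedSectionVars false
set_option linter.unusedVariables false

namespace Cfsg.Agent.R2.Spec.EE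

open Subgroup Cfsg Polynomial
open Cfsg.Agent Cfsg.Agent.H426.LieFam Cfsg.Agent.R2.Spec Cfsg.Agent.R2.Spec.P1 Cfsg.Agent.R2.Spec.F1
open Cfsg.Agent.H365.Zsig
open Cfsg.Agent.H378.ExcAdj (od)

universe u w

/-- the cliques are in the list -/
def clq (na : List ℕ) (n m c9 c12 c3 : ℕ) (C : List (ℕ × List ℕ)) : Bool :=
  (List.range (2 ^ n)).all fun M =>
    ((List.range n).any fun a => M.testBit a && (!(m.testBit a) || a == c9)) ||
    (((List.range n).any fun a => (List.range n).any fun b => M.testBit a && (M.testBit b && (!(a == b) &&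
      (na.getD a 0).testBit b))) ||
    ((M.testBit c12 && M.testBit c3) ||
    (C.any fun g => (List.range n).all fun a => !(M.testBit a) || g.1.testBit a)))

theorem clq_of {na : List ℕ} {n m c9 c12 c3 : ℕ} {C : List (ℕ × List ℕ)} (h : clq na n m c9 c12 c3 C = true)
    (h12 : c12 < n) (h3 : c3 < n) {P : ℕ → Prop}
    (h1 : ∀ a, P a → a < n ∧ m.testBit a = true ∧ a ≠ c9)
    (h2 : ∀ a b, P a → P b → a ≠ b → ¬ (na.getD a 0).testBit b = true) (h4 : ¬ (P c12 ∧ P c3)) :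
    ∃ g ∈ C, ∀ a, P a → g.1.testBit a = true := by
  classical
  rw [clq, List.all_eq_true] at h
  set M := msk (List.range n) fun a => decide (P a) with hM
  have hMn : M < 2 ^ n := msk_lt _
  have hb : ∀ a, a < n → M.testBit a = decide (P a) := fun a ha => testBit_msk_of_mem (List.mem_range.2 ha)
  have h5 := h M (List.mem_range.2 hMn)
  rw [Bool.or_eq_true, Bool.or_eq_true, Bool.or_eq_true] at h5
  rcases h5 with h5 | h5 | h5 | h5
  · exfalso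
    rw [List.any_eq_true] at h5
    obtain ⟨a, ha, h6⟩ := h5
    rw [Bool.and_eq_true, Bool.or_eq_true, hb a (List.mem_range.1 ha), decide_eq_true_iff] at h6
    obtain ⟨h7, h8, h9⟩ := h1 a h6.1
    rcases h6.2 with h10 | h10
    · rw [h8] at h10; exact Bool.noConfusion h10
    · exact h9 (beq_iff_eq.1 h10)
  · exfalso
    rw [List.any_eq_true] at h5
    obtain ⟨a, ha, h6⟩ := h5
    rw [List.any_eq_true] at h6
    obtain ⟨b, hb', h6⟩ := h6
    rw [Bool.and_eq_true, Bool.and_eq_true, Bool.and_eq_true, hb a (List.mem_range.1 ha), hb b (List.mem_range.1 hb'),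
      decide_eq_true_iff, decide_eq_true_iff] at h6
    refine h2 a b h6.1 h6.2.1 (fun h7 => ?_) h6.2.2.2
    rw [h7, beq_self_eq_true] at h6
    exact Bool.noConfusion h6.2.2.1
  · exfalso
    rw [Bool.and_eq_true, hb _ h12, hb _ h3, decide_eq_true_iff, decide_eq_true_iff] at h5
    exact h4 h5
  · rw [List.any_eq_true] at h5
    obtain ⟨g, hg, h6⟩ := h5
    refine ⟨g, hg, fun a ha => ?_⟩
    rw [List.all_eq_true] at h6
    have h7 := h6 a (List.mem_range.2 (h1 a ha).1)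
    rw [Bool.or_eq_true, hb a (h1 a ha).1, decide_eq_true ha] at h7
    rcases h7 with h8 | h8
    · exact Bool.noConfusion h8
    · exact h8

/-- **The order divides a product of cyclotomic numbers.** -/
theorem ord_list {X : Type*} [Group X] {x : X} {q l N J2 J3 : ℕ} (hO : H482.TwoCyc.Untw.Ords q l N J2 J3 x)
    (hq1 : 1 ≤ q) {A : List ℕ} (hnd : A.Nodup) (hA : ∀ a ∈ A, 0 < a ∧ l < 4 * a.totient)
    (hx : ∀ r : ℕ, r.Prime → r ∣ orderOf x → 5 ≤ r ∧ ¬ r ∣ q ∧ od q r ∈ A) :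
    orderOf x ∣ (A.map fun n => Ph n q).prod := by
  classical
  obtain ⟨p, e, m, j, hp, he, hq, ho, hm, hmp, -, -, ⟨S, hS, hSl, hmS⟩, -⟩ := hO
  have hj : j = 0 := by
    by_contra hj
    have h1 := (hx p hp (by rw [ho]; exact (dvd_pow_self p hj).mul_left m)).2.1
    exact h1 (by rw [hq]; exact dvd_pow_self p he.ne')
  rw [hj, pow_zero, mul_one] at ho
  rw [ho] at hx ⊢
  have key : ∀ r : ℕ, r.Prime → r ∣ m → ∀ n ∈ S, (r : ℤ) ∣ (cyclotomic n ℤ).eval ((q : ℕ) : ℤ) → n ∈ A := by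
    intro r hr hrm n hn hd
    obtain ⟨h5, -, hA'⟩ := hx r hr hrm
    have h3 : n.totient ≤ ∑ n ∈ S, n.totient := Finset.single_le_sum (fun i _ => Nat.zero_le (Nat.totient i)) hn
    obtain ⟨h6, h7⟩ := hA _ hA'
    rw [NumA.eq_cyc hr h5 (hS n hn) h6 (by omega) rfl hd]
    exact hA'
  have h1 : (m : ℤ) ∣ (∏ n ∈ S.filter (· ∈ A), cyclotomic n ℤ).eval (q : ℤ) := by
    rw [← Finset.prod_filter_mul_prod_filter_not S (· ∈ A), eval_mul] at hmS
    refine IsCoprime.dvd_of_dvd_mul_right ?_ hmS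
    rw [Int.isCoprime_iff_gcd_eq_one]
    by_contra hg
    obtain ⟨r, hr, hrg⟩ := Nat.exists_prime_and_dvd hg
    have h1 : (r : ℤ) ∣ (m : ℤ) := (Int.natCast_dvd_natCast.2 hrg).trans (Int.gcd_dvd_left _ _)
    have h2 : (r : ℤ) ∣ (∏ n ∈ S.filter (¬ · ∈ A), cyclotomic n ℤ).eval (q : ℤ) :=
      (Int.natCast_dvd_natCast.2 hrg).trans (Int.gcd_dvd_right _ _)
    have hrm : r ∣ m := Int.natCast_dvd_natCast.1 h1
    rw [eval_prod] at h2
    obtain ⟨n, hn, hd⟩ := (Nat.prime_iff_prime_int.1 hr).exists_mem_finset_dvd h2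
    rw [Finset.mem_filter] at hn
    exact hn.2 (key r hr hrm n hn.1 hd)
  have h2 : (m : ℤ) ∣ (∏ n ∈ A.toFinset, cyclotomic n ℤ).eval (q : ℤ) := by
    refine h1.trans ?_
    rw [eval_prod, eval_prod]
    refine Finset.prod_dvd_prod_of_subset _ _ _ fun n hn => ?_
    rw [Finset.mem_filter] at hn
    exact List.mem_toFinset.2 hn.2
  rw [eval_prod, List.prod_toFinset _ hnd] at h2
  have h3 : ((A.map fun n => Ph n q).prod : ℤ) = (A.map fun n => (cyclotomic n ℤ).eval (q : ℤ)).prod := by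
    rw [Nat.cast_list_prod, List.map_map]
    congr 1
    exact List.map_congr_left fun n _ => (Ph_cast hq1).symm
  rw [← h3] at h2
  exact_mod_cast h2

/-- the bound for the elements -/
def BdL (u : ℕ) (C : List (List ℕ)) (o : ℕ) : Prop := ∃ l ∈ C, o ∣ (l.map fun n => Ph n u).prod

/-- **The small elements.** -/
theorem hB_of {S : Type u} [Group S] [Finite S] {v u : ℕ} {T : Tab} {cl : List ℕ} (hn : T.n = cl.length)
    (hs : SOk T S v (kcl cl u)) (hu : 1 ≤ u) (hv : v.Prime) (huv : ∀ r : ℕ, r.Prime → r ∣ u → r = v) {l N J2 J3 m c9 c12 c3 : ℕ}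
    (hO : ∀ s : S, H482.TwoCyc.Untw.Ords u l N J2 J3 s) {C : List (ℕ × List ℕ)} (hC : clq T.na T.n m c9 c12 c3 C = true)
    (h12 : c12 < T.n) (h3 : c3 < T.n)
    (hC1 : ∀ g ∈ C, g.2.Nodup ∧ (∀ a ∈ g.2, 0 < a ∧ l < 4 * a.totient) ∧
      ∀ a < T.n, g.1.testBit a = true → cl.getD a 0 ∈ g.2)
    (s : S) (h1 : ∀ y : ℕ, y.Prime → y ∣ orderOf s →
      5 ≤ y ∧ y ≠ v ∧ m.testBit (kcl cl u y) = true ∧ kcl cl u y < T.n ∧ kcl cl u y ≠ c9)
    (h2 : ¬ (T9 v c12 (kcl cl u) (orderOf s) ∧ T9 v c3 (kcl cl u) (orderOf s))) :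
    BdL u (C.map Prod.snd) (orderOf s) := by
  obtain ⟨g, hg, hP⟩ := clq_of hC h12 h3 (P := fun a => ∃ y : ℕ, y.Prime ∧ y ∣ orderOf s ∧ kcl cl u y = a)
    (fun a ⟨y, hy, hd, ha⟩ => by
      obtain ⟨e1, e2, e3, e4, e5⟩ := h1 y hy hd
      rw [ha] at e3 e4 e5
      exact ⟨e4, e3, e5⟩)
    (fun a b ⟨y, hy, hyd, hya⟩ ⟨z, hz, hzd, hzb⟩ hab hna => by
      obtain ⟨e1, e2, -⟩ := h1 y hy hyd
      obtain ⟨e3, e4, -⟩ := h1 z hz hzd
      have hne : y ≠ z := fun h5 => hab (by rw [← hya, ← hzb, h5])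
      refine hs.na y z hy hz e1 e3 e2 e4 hne (hyd.trans (orderOf_dvd_natCard s)) (hzd.trans (orderOf_dvd_natCard s))
        (by rw [hya, hzb]; exact hna) (exists_mul_of_dvd hy hz hne hyd hzd))
    (fun ⟨⟨y, hy, hyd, hya⟩, ⟨z, hz, hzd, hza⟩⟩ => h2 ⟨⟨y, hy, (h1 y hy hyd).1, (h1 y hy hyd).2.1, hyd, hya⟩,
      ⟨z, hz, (h1 z hz hzd).1, (h1 z hz hzd).2.1, hzd, hza⟩⟩)
  obtain ⟨h4, h5, h6⟩ := hC1 g hg
  refine ⟨g.2, List.mem_map_of_mem hg, ord_list (hO s) hu h4 h5 fun r hr hd => ?_⟩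
  obtain ⟨e1, e2, e3, e4, e5⟩ := h1 r hr hd
  refine ⟨e1, fun h7 => e2 (huv r hr h7), ?_⟩
  have h7 := h6 _ e4 (hP _ ⟨r, hr, hd, rfl⟩)
  have h8 : cl.idxOf (orderOf ((u : ℕ) : ZMod r)) < cl.length := by rw [← hn]; exact e4
  rw [kcl, List.getD_eq_getElem _ _ h8, List.getElem_idxOf h8] at h7
  exact h7

section main

variable {t : Fam} {p f : ℕ} {L : Type w} [Group L] [Finite L] {G : Type u} [Group G] [Finite G]
  {K : Subgroup G} [K.Normal] {S : Subgroup (G ⧸ K)} [S.Normal] {v f' : ℕ}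

theorem prime_of_pow {v f' r : ℕ} (hv : v.Prime) (hr : r.Prime) (h : r ∣ v ^ f') : r = v :=
  (Nat.prime_dvd_prime_iff_eq hr hv).1 (hr.dvd_of_dvd_pow h)

/-- the small cliques of `E₆` -/
def C6 : List (ℕ × List ℕ) := [(16, [5]), (64, [8]), (256, [12]), (36, [3, 6]), (40, [4, 6])]

/-- the small cliques of `²E₆` -/
def CT6 : List (ℕ × List ℕ) := [(64, [10]), (32, [8]), (128, [12]), (20, [3, 6]), (12, [3, 4])]

/-- the small cliques of `F₄` -/
def CF4 : List (ℕ × List ℕ) := [(4, [3]), (8, [4]), (16, [6])]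

theorem clq6 : clq tabE6.na tabE6.n 2044 7 8 2 C6 = true := by decide +kernel

theorem clqT6 : clq tabTE6.na tabTE6.n 2044 8 7 4 CT6 = true := by decide +kernel

theorem clqF4 : clq tabF4.na tabF4.n 124 5 6 6 CF4 = true := by decide +kernel

theorem tot_all {l : ℕ} (h : l < 8) : ∀ a ∈ [3, 4, 5, 6, 8, 10, 12], 0 < a ∧ l < 4 * a.totient := by
  intro a ha
  simp only [List.mem_cons, List.not_mem_nil, or_false] at ha
  rcases ha with rfl | rfl | rfl | rfl | rfl | rfl | rfl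
  · exact ⟨by norm_num, h.trans_le (by decide)⟩
  · exact ⟨by norm_num, h.trans_le (by decide)⟩
  · exact ⟨by norm_num, h.trans_le (by decide)⟩
  · exact ⟨by norm_num, h.trans_le (by decide)⟩
  · exact ⟨by norm_num, h.trans_le (by decide)⟩
  · exact ⟨by norm_num, h.trans_le (by decide)⟩
  · exact ⟨by norm_num, h.trans_le (by decide)⟩

/-- **`E₆`** -/
theorem hB_e6 (h : EX t p f L G K S .e6 v f' tabE6 (kcl clE6 (v ^ f'))) (s : S) (h1 : ∀ y : ℕ, y.Prime → y ∣ orderOf s →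
      5 ≤ y ∧ y ≠ v ∧ (2044 : ℕ).testBit (kcl clE6 (v ^ f') y) = true ∧ kcl clE6 (v ^ f') y < tabE6.n ∧
        kcl clE6 (v ^ f') y ≠ 7)
    (h2 : ¬ (T9 v 8 (kcl clE6 (v ^ f')) (orderOf s) ∧ T9 v 2 (kcl clE6 (v ^ f')) (orderOf s))) :
    BdL (v ^ f') [[5], [8], [12], [3, 6], [4, 6]] (orderOf s) := by
  refine hB_of (l := 6) (N := 2) (J2 := 4) (J3 := 3) rfl h.ef.sok (Nat.one_le_pow _ _ h.ef.vp.pos) h.ef.vp (fun r hr hd => prime_of_pow h.ef.vp hr hd)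
    (fun s => ?_) clq6 (by decide) (by decide) (fun g hg => ⟨?_, ?_, ?_⟩) s h1 h2
  · obtain ⟨F, _, _, _, hcF, ⟨e⟩⟩ := h.frm.is
    have h3 := H482.TwoCyc.Untw.ords_E6 (e s)
    rw [Nat.card_eq_fintype_card, hcF] at h3
    obtain ⟨p', e', m, j, a1, a2, a3, a4, a5⟩ := h3
    exact ⟨p', e', m, j, a1, a2, a3, by rw [← a4, MulEquiv.orderOf_eq], a5⟩
  · exact (by decide : ∀ g ∈ C6, g.2.Nodup) g hg
  · intro a ha
    exact tot_all (by norm_num) a ((by decide : ∀ g ∈ C6, ∀ a ∈ g.2, a ∈ [3, 4, 5, 6, 8, 10, 12]) g hg a ha)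
  · exact (by decide : ∀ g ∈ C6, ∀ a < 9, g.1.testBit a = true → clE6.getD a 0 ∈ g.2) g hg

/-- **`²E₆`** -/
theorem hB_te6 (h : EX t p f L G K S .te6 v f' tabTE6 (kcl clTE6 (v ^ f'))) (s : S) (h1 : ∀ y : ℕ, y.Prime → y ∣ orderOf s →
      5 ≤ y ∧ y ≠ v ∧ (2044 : ℕ).testBit (kcl clTE6 (v ^ f') y) = true ∧ kcl clTE6 (v ^ f') y < tabTE6.n ∧
        kcl clTE6 (v ^ f') y ≠ 8)
    (h2 : ¬ (T9 v 7 (kcl clTE6 (v ^ f')) (orderOf s) ∧ T9 v 4 (kcl clTE6 (v ^ f')) (orderOf s))) :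
    BdL (v ^ f') [[10], [8], [12], [3, 6], [3, 4]] (orderOf s) := by
  refine hB_of (l := 6) (N := 2) (J2 := 4) (J3 := 3) rfl h.ef.sok (Nat.one_le_pow _ _ h.ef.vp.pos) h.ef.vp (fun r hr hd => prime_of_pow h.ef.vp hr hd)
    (fun s => ?_) clqT6 (by decide) (by decide) (fun g hg => ⟨?_, ?_, ?_⟩) s h1 h2
  · obtain ⟨F, _, _, _, hcF, ⟨e⟩⟩ := h.frm.is
    have h3 := H482.TwoCyc.Untw.ords_2E6 (q := v ^ f') (h.ef.vp.isPrimePow.pow (by have := h.frm.fpos; omega)) hcF (e s)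
    obtain ⟨p', e', m, j, a1, a2, a3, a4, a5⟩ := h3
    exact ⟨p', e', m, j, a1, a2, a3, by rw [← a4, MulEquiv.orderOf_eq], a5⟩
  · exact (by decide : ∀ g ∈ CT6, g.2.Nodup) g hg
  · intro a ha
    exact tot_all (by norm_num) a ((by decide : ∀ g ∈ CT6, ∀ a ∈ g.2, a ∈ [3, 4, 5, 6, 8, 10, 12]) g hg a ha)
  · exact (by decide : ∀ g ∈ CT6, ∀ a < 9, g.1.testBit a = true → clTE6.getD a 0 ∈ g.2) g hg

/-- **`F₄`** -/
theorem hB_f4 (h : EX t p f L G K S .f4 v f' tabF4 (kcl clF4 (v ^ f'))) (s : S) (h1 : ∀ y : ℕ, y.Prime → y ∣ orderOf s →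
      5 ≤ y ∧ y ≠ v ∧ (124 : ℕ).testBit (kcl clF4 (v ^ f') y) = true ∧ kcl clF4 (v ^ f') y < tabF4.n ∧
        kcl clF4 (v ^ f') y ≠ 5)
    (h2 : ¬ (T9 v 6 (kcl clF4 (v ^ f')) (orderOf s) ∧ T9 v 6 (kcl clF4 (v ^ f')) (orderOf s))) :
    BdL (v ^ f') [[3], [4], [6]] (orderOf s) := by
  refine hB_of (l := 4) (N := 4) (J2 := 4) (J3 := 3) rfl h.ef.sok (Nat.one_le_pow _ _ h.ef.vp.pos) h.ef.vp (fun r hr hd => prime_of_pow h.ef.vp hr hd)
    (fun s => ?_) clqF4 (by decide) (by decide) (fun g hg => ⟨?_, ?_, ?_⟩) s h1 h2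
  · obtain ⟨F, _, _, _, hcF, ⟨e⟩⟩ := h.frm.is
    have h3 := H482.TwoCyc.Untw.ords_F4 (e s)
    rw [Nat.card_eq_fintype_card, hcF] at h3
    obtain ⟨p', e', m, j, a1, a2, a3, a4, a5⟩ := h3
    exact ⟨p', e', m, j, a1, a2, a3, by rw [← a4, MulEquiv.orderOf_eq], a5⟩
  · exact (by decide : ∀ g ∈ CF4, g.2.Nodup) g hg
  · intro a ha
    exact tot_all (by norm_num) a ((by decide : ∀ g ∈ CF4, ∀ a ∈ g.2, a ∈ [3, 4, 5, 6, 8, 10, 12]) g hg a ha)
  · exact (by decide : ∀ g ∈ CF4, ∀ a < 7, g.1.testBit a = true → clF4.getD a 0 ∈ g.2) g hg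

end main

end Cfsg.Agent.R2.Spec.EE
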