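import Cfsg.Agent.R2.Spec.EE.SmTool
import Cfsg.Agent.R2.Spec.EE.SurvE8
import Cfsg.Agent.R2.Spec.EE.SokE8
import Cfsg.Agent.H378.OmTE6
import Cfsg.Agent.H378.OmF4
import Cfsg.Agent.H378.OmE6

/-!
# EE, small ranks: the numbers (helper12)

* `NN5`, `NN8`, ... : the values of `NN u a`;
* `dvd_NN` : a prime `y` with the order `a` of `u` divides `NN u a`;
* `NN_in`, `NN_dvd_tnum` : the numbers of `L`;
* `fwd_ar` : a number dividing a product of cyclotomic values, all of whose primes are of the classes `A`;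
* `torE6`, `torTE6`, `torF4` : the tori.
-/

set_option autoImplicit false
set_option linter.unusedSectionVars false
set_option linter.unusedVariables false

namespace Cfsg.Agent.R2.Spec.EE

open Subgroup Cfsg
open Cfsg.Agent.H426.LieFam Cfsg.Agent.R2.Spec Cfsg.Agent.R2.Spec.P1 Cfsg.Agent.R2.Spec.F1
open Cfsg.Agent.H420.QR Cfsg.Agent.H365.Zsig Cfsg.Agent.H493 Cfsg.Agent.H493.PGCyc

universe u w

theorem NN_dvd (u a : ℕ) : NN u a ∣ ZZ u a := ⟨GG u a, (NN_mul u a).symm⟩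

theorem ZZ_eq_Ph {u a : ℕ} (hu : 2 ≤ u) (ha : a ∈ clE8) : ZZ u a = Ph a u := by
  rw [ZZ, Ph, cyc_eq (by exact_mod_cast hu) ha]

theorem ZZ_1 {u : ℕ} (hu : 2 ≤ u) : ZZ u 1 = u - 1 := by
  rw [ZZ, CertTab.cyc, pv_c1]
  omega

theorem ZZ_2 {u : ℕ} : ZZ u 2 = u + 1 := by
  rw [ZZ, CertTab.cyc, pv_c2]
  omega

theorem ZZ_c {u a : ℕ} (hu : 2 ≤ u) (ha : a ∈ clE8) (h3 : 3 ≤ a) : (ZZ u a : ℤ) = CertTab.cyc a (u : ℤ) :=
  ZZ_cast hu ha h3

theorem ZZ_3 {u : ℕ} (hu : 2 ≤ u) : ZZ u 3 = u ^ 2 + u + 1 := by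
  have h := ZZ_c hu (a := 3) (by decide) (by norm_num)
  rw [CertTab.cyc, pv_c3] at h
  exact_mod_cast h

theorem ZZ_4 {u : ℕ} (hu : 2 ≤ u) : ZZ u 4 = u ^ 2 + 1 := by
  have h := ZZ_c hu (a := 4) (by decide) (by norm_num)
  rw [CertTab.cyc, pv_c4] at h
  exact_mod_cast h

theorem ZZ_5 {u : ℕ} (hu : 2 ≤ u) : ZZ u 5 = u ^ 4 + u ^ 3 + u ^ 2 + u + 1 := by
  have h := ZZ_c hu (a := 5) (by decide) (by norm_num)
  rw [CertTab.cyc, pv_c5] at h
  exact_mod_cast h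

theorem ZZ_6 {u : ℕ} (hu : 2 ≤ u) : ZZ u 6 + u = u ^ 2 + 1 := by
  have h := ZZ_c hu (a := 6) (by decide) (by norm_num)
  rw [CertTab.cyc, pv_c6] at h
  zify
  rw [h]
  ring

theorem ZZ_8 {u : ℕ} (hu : 2 ≤ u) : ZZ u 8 = u ^ 4 + 1 := by
  have h := ZZ_c hu (a := 8) (by decide) (by norm_num)
  rw [CertTab.cyc, pv_c8] at h
  exact_mod_cast h

theorem ZZ_9 {u : ℕ} (hu : 2 ≤ u) : ZZ u 9 = u ^ 6 + u ^ 3 + 1 := by
  have h := ZZ_c hu (a := 9) (by decide) (by norm_num)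
  rw [CertTab.cyc, pv_c9] at h
  exact_mod_cast h

theorem ZZ_10 {u : ℕ} (hu : 2 ≤ u) : ZZ u 10 + u ^ 3 + u = u ^ 4 + u ^ 2 + 1 := by
  have h := ZZ_c hu (a := 10) (by decide) (by norm_num)
  rw [CertTab.cyc, pv_c10] at h
  zify
  rw [h]
  ring

theorem ZZ_12 {u : ℕ} (hu : 2 ≤ u) : ZZ u 12 + u ^ 2 = u ^ 4 + 1 := by
  have h := ZZ_c hu (a := 12) (by decide) (by norm_num)
  rw [CertTab.cyc, pv_c12] at h
  zify
  rw [h]
  ring

theorem ZZ_18 {u : ℕ} (hu : 2 ≤ u) : ZZ u 18 + u ^ 3 = u ^ 6 + 1 := by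
  have h := ZZ_c hu (a := 18) (by decide) (by norm_num)
  rw [CertTab.cyc, pv_c18] at h
  zify
  rw [h]
  ring

theorem NN_cases {u a l : ℕ} (hl : l.Prime) (h : pr a = l) : NN u a = ZZ u a ∨ (l ∣ ZZ u a ∧ NN u a * l = ZZ u a) := by
  have h1 : GG u a ∣ l := by rw [← h]; exact Nat.gcd_dvd_right _ _
  rcases (Nat.dvd_prime hl).1 h1 with h2 | h2
  · left
    have := NN_mul u a
    rw [h2, mul_one] at this
    exact this
  · right
    have := NN_mul u a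
    rw [h2] at this
    exact ⟨⟨_, by rw [← this, mul_comm]⟩, this⟩

theorem NN_12 (u : ℕ) : NN u 12 = ZZ u 12 := by
  have h1 : GG u 12 = 1 := by
    rw [GG, show pr 12 = 1 from rfl, Nat.gcd_one_right]
  have := NN_mul u 12
  rwa [h1, mul_one] at this

theorem pr_dvd (a : ℕ) : pr a ∣ a := by
  unfold pr
  split_ifs with h1 h2 h3 h4
  · fin_cases h1 <;> norm_num
  · fin_cases h2 <;> norm_num
  · fin_cases h3 <;> norm_num
  · fin_cases h4 <;> norm_num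
  · exact one_dvd _

theorem pow_dvd_NN {u a y e : ℕ} (hy : y.Prime) (hya : ¬ y ∣ a) (h : y ^ e ∣ ZZ u a) : y ^ e ∣ NN u a := by
  rw [← NN_mul u a] at h
  refine Nat.Coprime.dvd_of_dvd_mul_right (Nat.Coprime.pow_left e ?_) h
  rw [Nat.Prime.coprime_iff_not_dvd hy]
  intro h1
  exact hya ((h1.trans (Nat.gcd_dvd_right _ _)).trans (pr_dvd a))

theorem not_dvd_ord {X : ℕ} {y a : ℕ} (hy : y.Prime) (ha : 2 ≤ a) (h : orderOf ((X : ℕ) : ZMod y) = a) : ¬ y ∣ a := by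
  intro hd
  have := Fact.mk hy
  have h0 : ((X : ℕ) : ZMod y) ≠ 0 := by
    intro h0
    rw [h0, orderOf_zero] at h
    omega
  have h1 : orderOf ((X : ℕ) : ZMod y) ∣ y - 1 := orderOf_dvd_of_pow_eq_one (ZMod.pow_card_sub_one_eq_one h0)
  rw [h] at h1
  have h2 := hy.two_le
  have := Nat.le_of_dvd (by omega) (hd.trans h1)
  omega

/-- a prime of the class divides the number -/
theorem dvd_NN {u a y : ℕ} (ha : a ∈ clE8) (h3 : 3 ≤ a) (hy : y.Prime)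
    (h : orderOf ((u : ℕ) : ZMod y) = a) : y ∣ NN u a := by
  have h1 := Sok.cyc_dvd hy ha h
  have h2 : y ∣ ZZ u a := Int.natCast_dvd.1 h1
  have := pow_dvd_NN (e := 1) hy (not_dvd_ord hy (by omega) h) (by rwa [pow_one])
  rwa [pow_one] at this

/-! ### the numbers of `L` -/

/-- the families with unsigned classes and `tnum = tn` -/
def Tn (t : Fam) : Prop := (∀ n, t ≠ .psl n) ∧ ∀ n, t ≠ .psu n

theorem NN_in {t : Fam} (ht : Tn t) {q i y : ℕ} (hq : 2 ≤ q) (hi : i ∈ clE8) (h3 : 3 ≤ i) (hm : mem t i) (hy : y.Prime)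
    (hd : y ∣ NN q i) : In t q i y :=
  ⟨hy, by rw [cls_eq_co ht.2]; exact NN_ord hq hi h3 hy hd, h3, hm⟩

theorem ord_of_in {t : Fam} (ht : Tn t) {q i y : ℕ} (h : In t q i y) : orderOf ((q : ℕ) : ZMod y) = i := by
  have h1 := h.cls_eq
  rw [cls_eq_co ht.2] at h1
  exact h1

theorem NN_dvd_tnum {t : Fam} (ht : Tn t) {q i : ℕ} (hq : 2 ≤ q) (hi : i ∈ clE8) (h3 : 3 ≤ i) : NN q i ∣ tnum t q i := by
  have h1 : NN q i ∣ q ^ i - 1 := by
    refine (NN_dvd q i).trans ?_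
    rw [ZZ_eq_Ph hq hi]
    exact Ph_dvd (by omega) (by omega)
  rw [tnum_tn ht.1 ht.2]
  unfold Cfsg.Agent.H72.AdjOrth.tn
  split_ifs with he
  · obtain ⟨j, hj⟩ := he
    have hj' : i / 2 = j := by omega
    have hij : i = 2 * j := by omega
    rw [hj']
    refine dvd_plus (by omega) (by omega) (by rw [← hij]; exact h1) ?_
    intro r hr hd
    rw [← hij]
    exact NN_ord hq hi h3 hr hd
  · exact h1

theorem NN_odd {q i : ℕ} (hq : 2 ≤ q) (hi : i ∈ clE8) (h3 : 3 ≤ i) : Odd (NN q i) := by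
  rw [← Nat.not_even_iff_odd, even_iff_two_dvd]
  intro h
  have := NN_five hq hi h3 Nat.prime_two h
  omega

/-! ### arithmetic of the tori -/

/-- the classes of the small groups -/
def clS : List ℕ := [1, 2, 3, 4, 5, 6, 8, 9, 10, 12, 18]

theorem cls_of_dvd {u y c b : ℕ} (hu : 2 ≤ u) (hy : y.Prime) (h5 : 5 ≤ y) (hc : c ∈ clS) (hd : y ∣ ZZ u c)
    (hb : orderOf ((u : ℕ) : ZMod y) = b) (h3 : 3 ≤ b) : c = b := by
  have hc8 : c ∈ clE8 := by
    revert c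
    intro c hc _
    revert hc
    unfold clS clE8
    simp only [List.mem_cons, List.not_mem_nil, or_false]
    omega
  rcases Nat.lt_or_ge c 2 with h2 | h2
  · have hc1 : c = 1 := by
      have : c ≠ 0 := by rintro rfl; revert hc; decide
      omega
    rw [hc1, ZZ_1 hu] at hd
    exfalso
    have h4 : ((u : ℕ) : ZMod y) = 1 := by
      have h5 : ((u - 1 : ℕ) : ZMod y) = 0 := (ZMod.natCast_eq_zero_iff _ _).2 hd
      rw [Nat.cast_sub (by omega), Nat.cast_one, sub_eq_zero] at h5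
      exact h5
    rw [h4, orderOf_one] at hb
    omega
  · rw [ZZ_eq_Ph hu hc8] at hd
    rcases prime_dvd_Ph h2 hu hy hd with h4 | ⟨k, m, hk, -, hm, -, -⟩
    · exact h4.symm.trans hb
    · exfalso
      rw [hb] at hm
      subst hm
      have h6 : y ∣ c := by
        rw [hk, pow_succ, mul_assoc]
        exact (dvd_mul_right y b).mul_left _
      have h7 : y ^ (k + 1) * b ≤ 18 := by
        rw [← hk]
        revert hc
        unfold clS
        simp only [List.mem_cons, List.not_mem_nil, or_false]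
        omega
      have h8 : y ≤ y ^ (k + 1) := Nat.le_self_pow (by omega) y
      have h9 : y * b ≤ 18 := (Nat.mul_le_mul_right b h8).trans h7
      have h10 : y * 3 ≤ 18 := (Nat.mul_le_mul_left y h3).trans h9
      have h11 : y = 5 := by
        have : y ≤ 6 := by omega
        interval_cases y
        · rfl
        · exact absurd hy (by norm_num)
      subst h11
      revert hc h6
      unfold clS
      simp only [List.mem_cons, List.not_mem_nil, or_false]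
      intro hc h6
      have h12 : 15 ≤ c := by
        rw [hk]
        have : 5 ^ 1 ≤ 5 ^ (k + 1) := Nat.pow_le_pow_right (by norm_num) (by omega)
        calc 15 = 5 ^ 1 * 3 := by norm_num
          _ ≤ _ := Nat.mul_le_mul this h3
      have h13 : c = 18 := by omega
      rw [h13] at h6
      omega

theorem pow_dvd_one {y e a : ℕ} (hy : y.Prime) {N : ℕ → ℕ} (he : 1 ≤ e) : ∀ {T : List ℕ}, T.Nodup →
    (∀ c ∈ T, y ∣ N c → c = a) → y ^ e ∣ (T.map N).prod → y ^ e ∣ N a := by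
  intro T
  induction T with
  | nil =>
    intro _ _ h
    rw [List.map_nil, List.prod_nil, Nat.dvd_one] at h
    exact absurd h (Nat.one_lt_pow (by omega) hy.one_lt).ne'
  | cons c T ih =>
    intro hn hc h
    rw [List.map_cons, List.prod_cons] at h
    rw [List.nodup_cons] at hn
    by_cases hya : y ∣ N c
    · have h1 := hc c List.mem_cons_self hya
      subst h1
      refine Nat.Coprime.dvd_of_dvd_mul_right ?_ h
      apply Nat.Coprime.pow_left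
      rw [Nat.coprime_list_prod_right_iff]
      intro x hx
      obtain ⟨b, hb, rfl⟩ := List.mem_map.1 hx
      rw [Nat.Prime.coprime_iff_not_dvd hy]
      intro hb'
      have := hc b (List.mem_cons_of_mem _ hb) hb'
      subst this
      exact hn.1 hb
    · exact ih hn.2 (fun b hb => hc b (List.mem_cons_of_mem _ hb))
        ((Nat.Coprime.pow_left e ((Nat.Prime.coprime_iff_not_dvd hy).2 hya)).dvd_of_dvd_mul_left h)

/-- **A divisor of a torus.** -/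
theorem fwd_ar {u M : ℕ} (hu : 2 ≤ u) (A T : List ℕ) (hT : M ∣ (T.map (ZZ u)).prod) (hTn : T.Nodup)
    (hTc : ∀ c ∈ T, c ∈ clS) (hTA : ∀ a ∈ T, ∀ b ∈ T, a ∈ A → b ∈ A → a = b) (hA : ∀ a ∈ A, 3 ≤ a) (hM0 : M ≠ 0)
    (hM : M ≠ 1) (hp : ∀ y : ℕ, y.Prime → y ∣ M → 5 ≤ y ∧ orderOf ((u : ℕ) : ZMod y) ∈ A) :
    ∃ a ∈ A, M ∣ NN u a ∧ ∀ y : ℕ, y.Prime → y ∣ M → orderOf ((u : ℕ) : ZMod y) = a := by
  have key : ∀ y : ℕ, y.Prime → y ∣ M → ∀ c ∈ T, y ∣ ZZ u c → c = orderOf ((u : ℕ) : ZMod y) := by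
    intro y hy hd c hc h
    obtain ⟨h1, h2⟩ := hp y hy hd
    exact cls_of_dvd hu hy h1 (hTc c hc) h rfl (hA _ h2)
  have mem : ∀ y : ℕ, y.Prime → y ∣ M → orderOf ((u : ℕ) : ZMod y) ∈ T := by
    intro y hy hd
    obtain ⟨x, hx, h1⟩ := (Prime.dvd_prod_iff hy.prime).1 (hd.trans hT)
    obtain ⟨c, hc, rfl⟩ := List.mem_map.1 hx
    rw [← key y hy hd c hc h1]
    exact hc
  obtain ⟨y0, hy0, hd0⟩ := Nat.exists_prime_and_dvd hM
  have all : ∀ y : ℕ, y.Prime → y ∣ M → orderOf ((u : ℕ) : ZMod y) = orderOf ((u : ℕ) : ZMod y0) := fun y hy hd =>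
    hTA _ (mem y hy hd) _ (mem y0 hy0 hd0) (hp y hy hd).2 (hp y0 hy0 hd0).2
  refine ⟨_, (hp y0 hy0 hd0).2, ?_, all⟩
  rw [Nat.dvd_iff_prime_pow_dvd_dvd]
  intro y e hy hd
  rcases Nat.eq_zero_or_pos e with he | he
  · rw [he, pow_zero]; exact one_dvd _
  have hyM : y ∣ M := (dvd_pow_self y (by omega)).trans hd
  have h1 : y ^ e ∣ ZZ u (orderOf ((u : ℕ) : ZMod y0)) := by
    refine pow_dvd_one hy he hTn ?_ (hd.trans hT)
    intro c hc h
    rw [key y hy hyM c hc h, all y hy hyM]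
  refine pow_dvd_NN hy ?_ h1
  rw [← all y hy hyM]
  exact not_dvd_ord hy (by have := hA _ (hp y hy hyM).2; omega) rfl

/-! ### the tori -/

/-- the tori of `E₆` -/
def TL6 : List (List ℕ) := [[8, 1, 2], [1, 5, 2], [1, 2, 4, 6], [1, 2, 3, 6], [12, 3], [9]]

/-- the tori of `²E₆` -/
def TLT6 : List (List ℕ) := [[8, 1, 2], [10, 2, 1], [1, 2, 4, 3], [1, 2, 3, 6], [12, 6], [18]]

/-- the tori of `F₄` -/
def TLF4 : List (List ℕ) := [[12], [8], [1, 2, 4], [1, 3, 2], [2, 6, 1]]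

theorem tor_E6 {u v n b m : ℕ} (hu : 2 ≤ u) (h : H378.OmE6.Om v u n b m) : ∃ T ∈ TL6, m ∣ (T.map (ZZ u)).prod := by
  have e1 := ZZ_1 hu
  have e2 := ZZ_2 (u := u)
  have e3 := ZZ_3 hu
  have e4 := ZZ_4 hu
  have e5 := ZZ_5 hu
  have e6 := ZZ_6 hu
  have e8 := ZZ_8 hu
  have e9 := ZZ_9 hu
  have e12 := ZZ_12 hu
  obtain ⟨x, rfl⟩ : ∃ x, u = x + 2 := ⟨u - 2, by omega⟩
  have f6 : ZZ (x + 2) 6 = x ^ 2 + 3 * x + 3 := by
    have : (x + 2) ^ 2 + 1 = (x ^ 2 + 3 * x + 3) + (x + 2) := by ring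
    omega
  have f12 : ZZ (x + 2) 12 = x ^ 4 + 8 * x ^ 3 + 23 * x ^ 2 + 28 * x + 13 := by
    have : (x + 2) ^ 4 + 1 = (x ^ 4 + 8 * x ^ 3 + 23 * x ^ 2 + 28 * x + 13) + (x + 2) ^ 2 := by ring
    omega
  have g2 : (x + 2) ^ 2 - 1 = x ^ 2 + 4 * x + 3 := by
    have : (x + 2) ^ 2 = (x ^ 2 + 4 * x + 3) + 1 := by ring
    omega
  have g4 : (x + 2) ^ 4 - 1 = (x + 1) * (x + 3) * ((x + 2) ^ 2 + 1) := by
    have : (x + 2) ^ 4 = (x + 1) * (x + 3) * ((x + 2) ^ 2 + 1) + 1 := by ring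
    omega
  have g5 : (x + 2) ^ 5 - 1 = (x + 1) * ((x + 2) ^ 4 + (x + 2) ^ 3 + (x + 2) ^ 2 + (x + 2) + 1) := by
    have : (x + 2) ^ 5 = (x + 1) * ((x + 2) ^ 4 + (x + 2) ^ 3 + (x + 2) ^ 2 + (x + 2) + 1) + 1 := by ring
    omega
  have g6 : (x + 2) ^ 6 - 1 = (x + 1) * (x + 3) * ((x + 2) ^ 2 + (x + 2) + 1) * (x ^ 2 + 3 * x + 3) := by
    have : (x + 2) ^ 6 = (x + 1) * (x + 3) * ((x + 2) ^ 2 + (x + 2) + 1) * (x ^ 2 + 3 * x + 3) + 1 := by ring
    omega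
  have h6 : (x + 2) ^ 2 - (x + 2) + 1 = x ^ 2 + 3 * x + 3 := by
    have : (x + 2) ^ 2 = (x ^ 2 + 3 * x + 2) + (x + 2) := by ring
    omega
  have h12 : (x + 2) ^ 4 - (x + 2) ^ 2 + 1 = x ^ 4 + 8 * x ^ 3 + 23 * x ^ 2 + 28 * x + 13 := by
    have : (x + 2) ^ 4 = (x ^ 4 + 8 * x ^ 3 + 23 * x ^ 2 + 28 * x + 12) + (x + 2) ^ 2 := by ring
    omega
  have e1' : ZZ (x + 2) 1 = x + 1 := by omega
  have e2' : ZZ (x + 2) 2 = x + 3 := by omega
  rcases h.s0 with h1 | h1 | h1 | h1 | h1 | h1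
  · refine ⟨[8, 1, 2], by decide, h1.trans (dvd_of_eq ?_)⟩
    simp only [List.map_cons, List.map_nil, List.prod_cons, List.prod_nil, e1', e2', e8, g2]
    ring
  · refine ⟨[1, 5, 2], by decide, h1.trans (dvd_of_eq ?_)⟩
    simp only [List.map_cons, List.map_nil, List.prod_cons, List.prod_nil, e1', e2', e5, g5]
    ring
  · refine ⟨[1, 2, 4, 6], by decide, h1.trans (dvd_of_eq ?_)⟩
    simp only [List.map_cons, List.map_nil, List.prod_cons, List.prod_nil, e1', e2', e4, f6, g4, h6]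
    ring
  · refine ⟨[1, 2, 3, 6], by decide, h1.trans (dvd_of_eq ?_)⟩
    simp only [List.map_cons, List.map_nil, List.prod_cons, List.prod_nil, e1', e2', e3, f6, g6]
    ring
  · refine ⟨[12, 3], by decide, h1.trans (dvd_of_eq ?_)⟩
    simp only [List.map_cons, List.map_nil, List.prod_cons, List.prod_nil, e3, f12, h12]
    ring
  · refine ⟨[9], by decide, h1.trans (dvd_of_eq ?_)⟩
    simp only [List.map_cons, List.map_nil, List.prod_cons, List.prod_nil, e9]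
    ring

theorem tor_TE6 {u v n b m : ℕ} (hu : 2 ≤ u) (h : H378.OmTE6.Om v u n b m) : ∃ T ∈ TLT6, m ∣ (T.map (ZZ u)).prod := by
  have e1 := ZZ_1 hu
  have e2 := ZZ_2 (u := u)
  have e3 := ZZ_3 hu
  have e4 := ZZ_4 hu
  have e6 := ZZ_6 hu
  have e8 := ZZ_8 hu
  have e10 := ZZ_10 hu
  have e12 := ZZ_12 hu
  have e18 := ZZ_18 hu
  obtain ⟨x, rfl⟩ : ∃ x, u = x + 2 := ⟨u - 2, by omega⟩
  have f6 : ZZ (x + 2) 6 = x ^ 2 + 3 * x + 3 := by
    have : (x + 2) ^ 2 + 1 = (x ^ 2 + 3 * x + 3) + (x + 2) := by ring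
    omega
  have f10 : ZZ (x + 2) 10 = x ^ 4 + 7 * x ^ 3 + 19 * x ^ 2 + 23 * x + 11 := by
    have : (x + 2) ^ 4 + (x + 2) ^ 2 + 1 = (x ^ 4 + 7 * x ^ 3 + 19 * x ^ 2 + 23 * x + 11) + (x + 2) ^ 3 + (x + 2) := by
      ring
    omega
  have f12 : ZZ (x + 2) 12 = x ^ 4 + 8 * x ^ 3 + 23 * x ^ 2 + 28 * x + 13 := by
    have : (x + 2) ^ 4 + 1 = (x ^ 4 + 8 * x ^ 3 + 23 * x ^ 2 + 28 * x + 13) + (x + 2) ^ 2 := by ring
    omega
  have g2 : (x + 2) ^ 2 - 1 = x ^ 2 + 4 * x + 3 := by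
    have : (x + 2) ^ 2 = (x ^ 2 + 4 * x + 3) + 1 := by ring
    omega
  have g1 : x + 2 - 1 = x + 1 := by omega
  have g4 : (x + 2) ^ 4 - 1 = (x + 1) * (x + 3) * ((x + 2) ^ 2 + 1) := by
    have : (x + 2) ^ 4 = (x + 1) * (x + 3) * ((x + 2) ^ 2 + 1) + 1 := by ring
    omega
  have g6 : (x + 2) ^ 6 - 1 = (x + 1) * (x + 3) * ((x + 2) ^ 2 + (x + 2) + 1) * (x ^ 2 + 3 * x + 3) := by
    have : (x + 2) ^ 6 = (x + 1) * (x + 3) * ((x + 2) ^ 2 + (x + 2) + 1) * (x ^ 2 + 3 * x + 3) + 1 := by ring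
    omega
  have h6 : (x + 2) ^ 2 - (x + 2) + 1 = x ^ 2 + 3 * x + 3 := by
    have : (x + 2) ^ 2 = (x ^ 2 + 3 * x + 2) + (x + 2) := by ring
    omega
  have h12 : (x + 2) ^ 4 - (x + 2) ^ 2 + 1 = x ^ 4 + 8 * x ^ 3 + 23 * x ^ 2 + 28 * x + 13 := by
    have : (x + 2) ^ 4 = (x ^ 4 + 8 * x ^ 3 + 23 * x ^ 2 + 28 * x + 12) + (x + 2) ^ 2 := by ring
    omega
  have h18 : (x + 2) ^ 6 - (x + 2) ^ 3 + 1 = ZZ (x + 2) 18 := by
    have h1 : (x + 2) ^ 3 ≤ (x + 2) ^ 6 := Nat.pow_le_pow_right (by omega) (by norm_num)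
    omega
  have e1' : ZZ (x + 2) 1 = x + 1 := by omega
  have e2' : ZZ (x + 2) 2 = x + 3 := by omega
  rcases h.s0 with h1 | h1 | h1 | h1 | h1 | h1
  · refine ⟨[8, 1, 2], by decide, h1.trans (dvd_of_eq ?_)⟩
    simp only [List.map_cons, List.map_nil, List.prod_cons, List.prod_nil, e1', e2', e8, g2]
    ring
  · refine ⟨[10, 2, 1], by decide, h1.trans (dvd_of_eq ?_)⟩
    simp only [List.map_cons, List.map_nil, List.prod_cons, List.prod_nil, e1', e2', f10, g1]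
    ring
  · refine ⟨[1, 2, 4, 3], by decide, h1.trans (dvd_of_eq ?_)⟩
    simp only [List.map_cons, List.map_nil, List.prod_cons, List.prod_nil, e1', e2', e4, e3, g4]
    ring
  · refine ⟨[1, 2, 3, 6], by decide, h1.trans (dvd_of_eq ?_)⟩
    simp only [List.map_cons, List.map_nil, List.prod_cons, List.prod_nil, e1', e2', e3, f6, g6]
    ring
  · refine ⟨[12, 6], by decide, h1.trans (dvd_of_eq ?_)⟩
    simp only [List.map_cons, List.map_nil, List.prod_cons, List.prod_nil, f6, f12, h12, h6]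
    ring
  · refine ⟨[18], by decide, h1.trans (dvd_of_eq ?_)⟩
    simp only [List.map_cons, List.map_nil, List.prod_cons, List.prod_nil, h18]
    ring

theorem tor_F4 {u v n b m : ℕ} (hu : 2 ≤ u) (h : H378.OmF4.Om v u n b m) : ∃ T ∈ TLF4, m ∣ (T.map (ZZ u)).prod := by
  have e1 := ZZ_1 hu
  have e2 := ZZ_2 (u := u)
  have e3 := ZZ_3 hu
  have e4 := ZZ_4 hu
  have e6 := ZZ_6 hu
  have e8 := ZZ_8 hu
  have e12 := ZZ_12 hu
  obtain ⟨x, rfl⟩ : ∃ x, u = x + 2 := ⟨u - 2, by omega⟩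
  have f6 : ZZ (x + 2) 6 = x ^ 2 + 3 * x + 3 := by
    have : (x + 2) ^ 2 + 1 = (x ^ 2 + 3 * x + 3) + (x + 2) := by ring
    omega
  have g1 : x + 2 - 1 = x + 1 := by omega
  have g3 : (x + 2) ^ 3 - 1 = (x + 1) * ((x + 2) ^ 2 + (x + 2) + 1) := by
    have : (x + 2) ^ 3 = (x + 1) * ((x + 2) ^ 2 + (x + 2) + 1) + 1 := by ring
    omega
  have g4 : (x + 2) ^ 4 - 1 = (x + 1) * (x + 3) * ((x + 2) ^ 2 + 1) := by
    have : (x + 2) ^ 4 = (x + 1) * (x + 3) * ((x + 2) ^ 2 + 1) + 1 := by ring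
    omega
  have h12 : (x + 2) ^ 4 - (x + 2) ^ 2 + 1 = ZZ (x + 2) 12 := by
    have h1 : (x + 2) ^ 2 ≤ (x + 2) ^ 4 := Nat.pow_le_pow_right (by omega) (by norm_num)
    omega
  have e1' : ZZ (x + 2) 1 = x + 1 := by omega
  have e2' : ZZ (x + 2) 2 = x + 3 := by omega
  rcases h.s0 with h1 | h1 | h1 | h1 | h1
  · refine ⟨[12], by decide, h1.trans (dvd_of_eq ?_)⟩
    simp only [List.map_cons, List.map_nil, List.prod_cons, List.prod_nil, h12]
    ring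
  · refine ⟨[8], by decide, h1.trans (dvd_of_eq ?_)⟩
    simp only [List.map_cons, List.map_nil, List.prod_cons, List.prod_nil, e8]
    ring
  · refine ⟨[1, 2, 4], by decide, h1.trans (dvd_of_eq ?_)⟩
    simp only [List.map_cons, List.map_nil, List.prod_cons, List.prod_nil, e1', e2', e4, g4]
    ring
  · refine ⟨[1, 3, 2], by decide, h1.trans (dvd_of_eq ?_)⟩
    simp only [List.map_cons, List.map_nil, List.prod_cons, List.prod_nil, e1', e2', e3, g3]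
    ring
  · refine ⟨[2, 6, 1], by decide, h1.trans (dvd_of_eq ?_)⟩
    simp only [List.map_cons, List.map_nil, List.prod_cons, List.prod_nil, e1', e2', f6, g1]
    ring

end Cfsg.Agent.R2.Spec.EE
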