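import Cfsg.Agent.R2.Spec.EE.SmC7
import Cfsg.Agent.R2.Spec.EE.Strong

/-!
# The small ranks: groups of classes (helper28)

* `EX.pow_el` : a power of `g` in `S`;
* `Gp` : a group of classes with its number `N` and an element of `S`; `EX.gp1`, `EX.gp1k`, `EX.gp2`;
* `EX.three` : of three pairwise nonadjacent groups one is small.
-/

set_option autoImplicit false
set_option linter.unusedSectionVars false
set_option linter.unusedVariables false

namespace Cfsg.Agent.R2.Spec.EE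

open Subgroup Cfsg Polynomial
open Cfsg.Agent.H426.LieFam Cfsg.Agent.R2.Spec Cfsg.Agent.R2.Spec.P1 Cfsg.Agent.R2.Spec.F1
open Cfsg.Agent.H365.Zsig

universe u w

/-- the primes of the order of a power -/
theorem exists_pow_of_dvd {X : Type*} [Group X] [Finite X] {x : X} {n y : ℕ} (hy : y.Prime)
    (hd : y ∣ orderOf (x ^ n)) : ∃ a, y ^ a ∣ orderOf x ∧ ¬ y ^ a ∣ n := by
  obtain ⟨a, w, hw, ho⟩ := Nat.exists_eq_pow_mul_and_not_dvd (orderOf_pos x).ne' y hy.ne_one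
  refine ⟨a, by rw [ho]; exact dvd_mul_right _ _, fun hn => hw ?_⟩
  refine hd.trans (orderOf_dvd_of_pow_eq_one ?_)
  rw [← pow_mul]
  apply orderOf_dvd_iff_pow_eq_one.1
  rw [ho]
  exact Nat.mul_dvd_mul_right hn w

/-- a group of classes, the number `N`, the element `s` -/
structure Gp (t : Fam) (q c m e : ℕ) {S : Type u} [Group S] (V : List ℕ) (N : ℕ) (s : S) : Prop where
  cls : ∀ y : ℕ, y.Prime → y ∣ N → ∃ i ∈ V, In t q i y
  gd : ∀ y : ℕ, y.Prime → y ∣ orderOf s → y ∣ N ∧ ∃ i ∈ V, Gd t q c m i y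
  big : (∀ y : ℕ, y.Prime → y ∣ N → ¬ y ∣ c) → N ∣ e * orderOf s

section

variable {t : Fam} {p f : ℕ} {L : Type w} [Group L] [Finite L] {G : Type u} [Group G] [Finite G]
  {K : Subgroup G} [K.Normal] {S : Subgroup (G ⧸ K)} [S.Normal] {t' : Fam} {v f' : ℕ} {T : Tab} {k : ℕ → ℕ}

/-- **A power of `g` in `S`.** -/
theorem EX.pow_el (h : EX t p f L G K S t' v f' T k) (g : G) : ∃ s : S,
    (∀ y : ℕ, y.Prime → y ∣ orderOf s → ∃ a, y ^ a ∣ orderOf g ∧ ¬ y ^ a ∣ S.index) ∧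
    ((∀ y : ℕ, y.Prime → y ∣ orderOf g → ¬ y ∣ Nat.card ↥K) → (∀ y : ℕ, y.Prime → y ∣ orderOf g → 5 ≤ y) →
      orderOf g ∣ f' * orderOf s) ∧
    ((∀ y : ℕ, y.Prime → y ∣ orderOf g → ¬ y ∣ Nat.card ↥K) → (∀ y : ℕ, y.Prime → y ∣ orderOf g → ¬ y ∣ S.index) →
      orderOf g ∣ 1 * orderOf s) := by
  set gb : G ⧸ K := QuotientGroup.mk' K g with hgb
  have hmem : gb ^ S.index ∈ S := Subgroup.pow_index_mem S gb
  have h4 : orderOf (⟨gb ^ S.index, hmem⟩ : S) = orderOf (gb ^ S.index) := by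
    rw [← Subgroup.orderOf_coe]
  have hgd : orderOf gb ∣ orderOf g := orderOf_map_dvd _ g
  have h1 : orderOf g ∣ orderOf gb * Nat.card ↥K := by
    apply orderOf_dvd_of_pow_eq_one
    have h2 : g ^ orderOf gb ∈ K := by
      rw [← QuotientGroup.eq_one_iff]
      have h3 := pow_orderOf_eq_one gb
      rw [hgb, ← map_pow] at h3
      exact h3
    rw [pow_mul]
    have h4 : (⟨g ^ orderOf gb, h2⟩ : K) ^ Nat.card ↥K = 1 := pow_card_eq_one'
    exact congrArg Subtype.val h4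
  have h3 : orderOf gb ∣ orderOf (gb ^ S.index) * S.index := by
    apply orderOf_dvd_of_pow_eq_one
    rw [mul_comm, pow_mul, pow_orderOf_eq_one]
  refine ⟨⟨gb ^ S.index, hmem⟩, ?_, ?_, ?_⟩
  · intro y hy hd
    rw [h4] at hd
    obtain ⟨a, h5, h6⟩ := exists_pow_of_dvd hy hd
    exact ⟨a, h5.trans hgd, h6⟩
  · intro hK h5
    have h2 : orderOf g ∣ orderOf gb :=
      (Nat.coprime_of_dvd fun y hy h2 h3 => hK y hy h2 h3).dvd_of_dvd_mul_right h1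
    rw [h4, Nat.dvd_iff_prime_pow_dvd_dvd]
    intro y e hy hd
    rcases Nat.eq_zero_or_pos e with he | he
    · rw [he, pow_zero]; exact one_dvd _
    have h5' := h5 y hy ((dvd_pow_self y (by omega)).trans hd)
    obtain ⟨b, w, hw, hbw⟩ := Nat.exists_eq_pow_mul_and_not_dvd (Subgroup.index_ne_zero_of_finite (H := S)) y hy.ne_one
    have h6 : y ^ e ∣ orderOf (gb ^ S.index) * y ^ b * w := by
      rw [mul_assoc, ← hbw]
      exact hd.trans (h2.trans h3)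
    have h7 : y ^ e ∣ orderOf (gb ^ S.index) * y ^ b :=
      (Nat.Coprime.pow_left e ((Nat.Prime.coprime_iff_not_dvd hy).2 hw)).dvd_of_dvd_mul_right h6
    rw [mul_comm f']
    exact h7.trans (Nat.mul_dvd_mul_left _ (h.ef.idx y b hy h5' ⟨w, hbw⟩))
  · intro hK hi
    have h2 : orderOf g ∣ orderOf gb :=
      (Nat.coprime_of_dvd fun y hy h2 h3 => hK y hy h2 h3).dvd_of_dvd_mul_right h1
    rw [h4, one_mul]
    exact (Nat.coprime_of_dvd fun y hy h2 h3 => hi y hy h2 h3).dvd_of_dvd_mul_right (h2.trans h3)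

/-- **One class.** -/
theorem EX.gp1 (h : EX t p f L G K S t' v f' T k) {i : ℕ} (hi : 3 ≤ i) (mi : mem t i) :
    ∃ s : S, Gp t (p ^ f) (Nat.card ↥K) S.index f' [i] (Pm (idx t i) (p ^ f)) s := by
  obtain ⟨hq, hq3⟩ := h.q_odd
  obtain ⟨hM, hodd, hin⟩ := Pm_tor h.ls.cla hq hq3 hi mi
  obtain ⟨g, hg⟩ := exists_tor h.ls h.is hi mi hodd hM hin
  obtain ⟨s, h1, h2, -⟩ := h.pow_el g
  rw [hg] at h1 h2
  refine ⟨s, fun y hy hd => ⟨i, List.mem_singleton_self i, hin y hy hd⟩, fun y hy hd => ?_,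
    fun hK => h2 hK fun y hy hd => (hin y hy hd).five⟩
  obtain ⟨a, h3, h4⟩ := h1 y hy hd
  have ha : a ≠ 0 := by
    rintro rfl
    exact h4 (by rw [pow_zero]; exact one_dvd _)
  exact ⟨(dvd_pow_self y ha).trans h3, i, List.mem_singleton_self i, hin y hy ((dvd_pow_self y ha).trans h3),
    fun _ => ⟨a, h3.trans hM, h4⟩⟩

/-- **One class with a killer.** -/
theorem EX.gp1k (h : EX t p f L G K S t' v f' T k) {i : ℕ} (hi : 3 ≤ i) (mi : mem t i) (hk : Killer (KI t i) i) :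
    ∃ s : S, Gp t (p ^ f) (Nat.card ↥K) S.index 1 [i] (Pm (idx t i) (p ^ f)) s := by
  obtain ⟨hq, hq3⟩ := h.q_odd
  obtain ⟨hM, hodd, hin⟩ := Pm_tor h.ls.cla hq hq3 hi mi
  obtain ⟨g, hg⟩ := exists_tor h.ls h.is hi mi hodd hM hin
  obtain ⟨s, h1, -, h2⟩ := h.pow_el g
  rw [hg] at h1 h2
  refine ⟨s, fun y hy hd => ⟨i, List.mem_singleton_self i, hin y hy hd⟩, fun y hy hd => ?_,
    fun hK => h2 hK fun y hy hd => h.kill (hin y hy hd) (hK y hy hd) hk⟩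
  obtain ⟨a, h3, h4⟩ := h1 y hy hd
  have ha : a ≠ 0 := by
    rintro rfl
    exact h4 (by rw [pow_zero]; exact one_dvd _)
  exact ⟨(dvd_pow_self y ha).trans h3, i, List.mem_singleton_self i, hin y hy ((dvd_pow_self y ha).trans h3),
    fun _ => ⟨a, h3.trans hM, h4⟩⟩

/-- **Two adjacent classes.** -/
theorem EX.gp2 (h : EX t p f L G K S t' v f' T k) {i j : ℕ} (hi : 3 ≤ i) (mi : mem t i) (hj : 3 ≤ j) (mj : mem t j)
    (hij : i ≠ j) (hna : ¬ na t i j) :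
    ∃ s : S, Gp t (p ^ f) (Nat.card ↥K) S.index f' [i, j] (Pm (idx t i) (p ^ f) * Pm (idx t j) (p ^ f)) s := by
  obtain ⟨hq, hq3⟩ := h.q_odd
  obtain ⟨hM, hodd, hin⟩ := Pm_tor h.ls.cla hq hq3 hi mi
  obtain ⟨hM', hodd', hin'⟩ := Pm_tor h.ls.cla hq hq3 hj mj
  have hcop : Nat.Coprime (Pm (idx t i) (p ^ f)) (Pm (idx t j) (p ^ f)) := Nat.coprime_of_dvd fun y hy h5 h6 =>
    hij ((hin y hy h5).cls_eq.symm.trans (hin' y hy h6).cls_eq)
  obtain ⟨g, hg⟩ : ∃ g : G, orderOf g = Pm (idx t i) (p ^ f) * Pm (idx t j) (p ^ f) := by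
    rw [h.ls.ord]
    exact strong h.ls.cla h.rk3 h.ls.prime h.is hi hj mi mj hna hodd hodd' hcop
      (fun r hr hd => by rw [(hin r hr hd).cls_eq]; exact hi) (fun r hr hd => by rw [(hin' r hr hd).cls_eq]; exact hj)
      hM hM'
  obtain ⟨s, h1, h2, -⟩ := h.pow_el g
  rw [hg] at h1 h2
  have hcl : ∀ y : ℕ, y.Prime → y ∣ Pm (idx t i) (p ^ f) * Pm (idx t j) (p ^ f) → ∃ l ∈ [i, j], In t (p ^ f) l y := by
    intro y hy hd
    rcases hy.dvd_mul.1 hd with h5 | h5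
    · exact ⟨i, by simp, hin y hy h5⟩
    · exact ⟨j, by simp, hin' y hy h5⟩
  refine ⟨s, hcl, fun y hy hd => ?_, fun hK => h2 hK fun y hy hd => ?_⟩
  · obtain ⟨a, h3, h4⟩ := h1 y hy hd
    have ha : a ≠ 0 := by
      rintro rfl
      exact h4 (by rw [pow_zero]; exact one_dvd _)
    have h5 : y ∣ Pm (idx t i) (p ^ f) * Pm (idx t j) (p ^ f) := (dvd_pow_self y ha).trans h3
    rcases hy.dvd_mul.1 h5 with h6 | h6
    · have h7 : ¬ y ∣ Pm (idx t j) (p ^ f) := fun h8 => hy.one_lt.ne' (Nat.Coprime.eq_one_of_dvd (hcop.coprime_dvd_left h6) h8)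
      have h8 : y ^ a ∣ Pm (idx t i) (p ^ f) :=
        (Nat.Coprime.pow_left a ((Nat.Prime.coprime_iff_not_dvd hy).2 h7)).dvd_of_dvd_mul_right h3
      exact ⟨h5, i, by simp, hin y hy h6, fun _ => ⟨a, h8.trans hM, h4⟩⟩
    · have h7 : ¬ y ∣ Pm (idx t i) (p ^ f) := fun h8 => hy.one_lt.ne' (Nat.Coprime.eq_one_of_dvd (hcop.coprime_dvd_left h8) h6)
      have h8 : y ^ a ∣ Pm (idx t j) (p ^ f) :=
        (Nat.Coprime.pow_left a ((Nat.Prime.coprime_iff_not_dvd hy).2 h7)).dvd_of_dvd_mul_left h3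
      exact ⟨h5, j, by simp, hin' y hy h6, fun _ => ⟨a, h8.trans hM', h4⟩⟩
  · obtain ⟨l, -, h3⟩ := hcl y hy hd
    exact h3.five

/-- the small case -/
def Sml (Bd : ℕ → Prop) (e N : ℕ) : Prop := ∃ m, Bd m ∧ N ∣ e * m

/-- a prime of the class `c` -/
def T9 (v c : ℕ) (k : ℕ → ℕ) (o : ℕ) : Prop := ∃ y : ℕ, y.Prime ∧ 5 ≤ y ∧ y ≠ v ∧ y ∣ o ∧ k y = c

/-- **One group** : the prime `v`, a prime of the class `c9`, primes of the classes `c12` and `c3`, or small. -/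
theorem EX.type_of (h : EX t p f L G K S t' v f' T k) {V : List ℕ} {N e m c9 c12 c3 : ℕ} {s : S}
    (g : Gp t (p ^ f) (Nat.card ↥K) S.index e V N s)
    (hm : ∀ i ∈ V, ∀ z, Gd t (p ^ f) (Nat.card ↥K) S.index i z → m.testBit (val T (Nat.card ↥K) v k z) = true)
    (hmK : m.testBit (T.n + 2) = false) {Bd : ℕ → Prop}
    (hB : ∀ s : S, (∀ y : ℕ, y.Prime → y ∣ orderOf s → 5 ≤ y ∧ y ≠ v ∧ m.testBit (k y) = true ∧ k y < T.n ∧ k y ≠ c9) →
      ¬ (T9 v c12 k (orderOf s) ∧ T9 v c3 k (orderOf s)) → Bd (orderOf s)) :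
    (∃ i ∈ V, Gd t (p ^ f) (Nat.card ↥K) S.index i v) ∨ T9 v c9 k (orderOf s) ∨
      (T9 v c12 k (orderOf s) ∧ T9 v c3 k (orderOf s)) ∨ Sml Bd e N := by
  by_cases h1 : ∃ i ∈ V, Gd t (p ^ f) (Nat.card ↥K) S.index i v
  · exact Or.inl h1
  have hK : ∀ y : ℕ, y.Prime → y ∣ N → ¬ y ∣ Nat.card ↥K := by
    intro y hy hd hyK
    obtain ⟨i, hi, hin⟩ := g.cls y hy hd
    have h2 : Gd t (p ^ f) (Nat.card ↥K) S.index i y := ⟨hin, fun h3 => (h3 hyK).elim⟩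
    have h3 := hm i hi y h2
    rw [val, if_neg (fun h4 : y = v => h1 ⟨i, hi, h4 ▸ h2⟩), if_pos hyK, hmK] at h3
    exact Bool.noConfusion h3
  have hs : ∀ y : ℕ, y.Prime → y ∣ orderOf s → 5 ≤ y ∧ y ≠ v ∧ m.testBit (k y) = true ∧ k y < T.n := by
    intro y hy hd
    obtain ⟨hyN, i, hi, hg⟩ := g.gd y hy hd
    have h2 := hm i hi y hg
    have h5 := hg.1.five
    have hyv : y ≠ v := fun h3 => h1 ⟨i, hi, h3 ▸ hg⟩
    have hyK := hK y hy hyN
    rw [val, if_neg hyv, if_neg hyK] at h2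
    exact ⟨h5, hyv, h2, h.ef.sok.lt y hy h5 hyv (hd.trans (orderOf_dvd_natCard s))⟩
  by_cases h9 : T9 v c9 k (orderOf s)
  · exact Or.inr (Or.inl h9)
  by_cases h12 : T9 v c12 k (orderOf s) ∧ T9 v c3 k (orderOf s)
  · exact Or.inr (Or.inr (Or.inl h12))
  · refine Or.inr (Or.inr (Or.inr ⟨orderOf s, hB s (fun y hy hd => ?_) h12, g.big hK⟩))
    obtain ⟨e1, e2, e3, e4⟩ := hs y hy hd
    exact ⟨e1, e2, e3, e4, fun h5 => h9 ⟨y, hy, e1, e2, hd, h5⟩⟩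

/-- nonadjacent groups -/
def NaG (t : Fam) (V W : List ℕ) : Prop := ∀ i ∈ V, ∀ j ∈ W, na t i j

/-- primes of nonadjacent groups -/
theorem EX.no_adj (h : EX t p f L G K S t' v f' T k) {V W : List ℕ} (hVW : NaG t V W) {y z i j : ℕ} (hi : i ∈ V)
    (hj : j ∈ W) (hy : In t (p ^ f) i y) (hz : In t (p ^ f) j z) : y ≠ z ∧ ¬ ∃ g : G, orderOf g = y * z := by
  have hne : y ≠ z := hy.ne hz (na_ne (hVW i hi j hj))
  exact ⟨hne, fun hg => (h.ls.adj_iff hy hz hne).1 hg (hVW i hi j hj)⟩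

/-- two primes of the same class of `S` -/
theorem EX.t9_ne (h : EX t p f L G K S t' v f' T k) {V W : List ℕ} {N M e e' c : ℕ} {s s' : S}
    (g : Gp t (p ^ f) (Nat.card ↥K) S.index e V N s) (g' : Gp t (p ^ f) (Nat.card ↥K) S.index e' W M s')
    (hVW : NaG t V W) (hc : (T.adj.getD c 0).testBit c = true) (h1 : T9 v c k (orderOf s))
    (h2 : T9 v c k (orderOf s')) : False := by
  obtain ⟨y, hy, hy5, hyv, hyd, hyc⟩ := h1
  obtain ⟨z, hz, hz5, hzv, hzd, hzc⟩ := h2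
  obtain ⟨-, i, hi, hgi⟩ := g.gd y hy hyd
  obtain ⟨-, j, hj, hgj⟩ := g'.gd z hz hzd
  obtain ⟨hne, hno⟩ := h.no_adj hVW hi hj hgi.1 hgj.1
  exact hno (exists_of_S (h.ef.sok.adj y z hy hz hy5 hz5 hyv hzv hne (hyd.trans (orderOf_dvd_natCard s))
    (hzd.trans (orderOf_dvd_natCard s')) (by rw [hyc, hzc]; exact hc)))

/-- `v` and a prime of a class adjacent to `v` -/
theorem EX.tv_ne (h : EX t p f L G K S t' v f' T k) {V W : List ℕ} {M e' c : ℕ} {s' : S}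
    (g' : Gp t (p ^ f) (Nat.card ↥K) S.index e' W M s')
    (hVW : NaG t V W) (hc : T.nt.testBit c = true) (h1 : ∃ i ∈ V, Gd t (p ^ f) (Nat.card ↥K) S.index i v)
    (h2 : T9 v c k (orderOf s')) : False := by
  obtain ⟨i, hi, hgi⟩ := h1
  obtain ⟨z, hz, hz5, hzv, hzd, hzc⟩ := h2
  obtain ⟨-, j, hj, hgj⟩ := g'.gd z hz hzd
  obtain ⟨hne, hno⟩ := h.no_adj hVW hi hj hgi.1 hgj.1
  obtain ⟨x, hx⟩ := exists_of_S (h.ef.sok.nt z hz hz5 hzv (hzd.trans (orderOf_dvd_natCard s')) (by rw [hzc]; exact hc))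
  exact hno ⟨x, by rw [hx, mul_comm]⟩

theorem EX.vv_ne (h : EX t p f L G K S t' v f' T k) {V W : List ℕ}
    (hVW : NaG t V W) (h1 : ∃ i ∈ V, Gd t (p ^ f) (Nat.card ↥K) S.index i v)
    (h2 : ∃ i ∈ W, Gd t (p ^ f) (Nat.card ↥K) S.index i v) : False := by
  obtain ⟨i, hi, hgi⟩ := h1
  obtain ⟨j, hj, hgj⟩ := h2
  exact (h.no_adj hVW hi hj hgi.1 hgj.1).1 rfl

theorem NaG.symm {t : Fam} {V W : List ℕ} (h : NaG t V W) : NaG t W V := fun i hi j hj => na_symm (h j hj i hi)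

/-- **Three pairwise nonadjacent groups.** -/
theorem EX.three (h : EX t p f L G K S t' v f' T k) {V1 V2 V3 : List ℕ} {N1 N2 N3 e m c9 c12 c3 : ℕ} {s1 s2 s3 : S}
    (g1 : Gp t (p ^ f) (Nat.card ↥K) S.index e V1 N1 s1) (g2 : Gp t (p ^ f) (Nat.card ↥K) S.index e V2 N2 s2)
    (g3 : Gp t (p ^ f) (Nat.card ↥K) S.index e V3 N3 s3) (n12 : NaG t V1 V2) (n13 : NaG t V1 V3) (n23 : NaG t V2 V3)
    (hm1 : ∀ i ∈ V1, ∀ z, Gd t (p ^ f) (Nat.card ↥K) S.index i z → m.testBit (val T (Nat.card ↥K) v k z) = true)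
    (hm2 : ∀ i ∈ V2, ∀ z, Gd t (p ^ f) (Nat.card ↥K) S.index i z → m.testBit (val T (Nat.card ↥K) v k z) = true)
    (hm3 : ∀ i ∈ V3, ∀ z, Gd t (p ^ f) (Nat.card ↥K) S.index i z → m.testBit (val T (Nat.card ↥K) v k z) = true)
    (hmK : m.testBit (T.n + 2) = false) (a9 : (T.adj.getD c9 0).testBit c9 = true)
    (a12 : (T.adj.getD c12 0).testBit c12 = true)
    (hV : T.nt.testBit c3 = true ∨ (m.testBit T.n = false ∧ m.testBit (T.n + 1) = false)) {Bd : ℕ → Prop}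
    (hB : ∀ s : S, (∀ y : ℕ, y.Prime → y ∣ orderOf s → 5 ≤ y ∧ y ≠ v ∧ m.testBit (k y) = true ∧ k y < T.n ∧ k y ≠ c9) →
      ¬ (T9 v c12 k (orderOf s) ∧ T9 v c3 k (orderOf s)) → Bd (orderOf s)) :
    Sml Bd e N1 ∨ Sml Bd e N2 ∨ Sml Bd e N3 := by
  -- `v` and the pair of classes
  have key : ∀ {V W : List ℕ} {N M : ℕ} {s s' : S}, Gp t (p ^ f) (Nat.card ↥K) S.index e V N s →
      Gp t (p ^ f) (Nat.card ↥K) S.index e W M s' → NaG t V W →
      (∀ i ∈ V, ∀ z, Gd t (p ^ f) (Nat.card ↥K) S.index i z → m.testBit (val T (Nat.card ↥K) v k z) = true) →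
      (∃ i ∈ V, Gd t (p ^ f) (Nat.card ↥K) S.index i v) → T9 v c3 k (orderOf s') → False := by
    intro V W N M s s' g g' hVW hmV hv h3
    rcases hV with h4 | h4
    · exact h.tv_ne g' hVW h4 hv h3
    · obtain ⟨i, hi, hgi⟩ := hv
      have h5 := hmV i hi v hgi
      rw [val, if_pos rfl] at h5
      split_ifs at h5
      · rw [h4.2] at h5; exact Bool.noConfusion h5
      · rw [h4.1] at h5; exact Bool.noConfusion h5
  rcases h.type_of g1 hm1 hmK hB with x1 | x1 | x1 | x1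
  · rcases h.type_of g2 hm2 hmK hB with x2 | x2 | x2 | x2
    · exact (h.vv_ne n12 x1 x2).elim
    · rcases h.type_of g3 hm3 hmK hB with x3 | x3 | x3 | x3
      · exact (h.vv_ne n13 x1 x3).elim
      · exact (h.t9_ne g2 g3 n23 a9 x2 x3).elim
      · exact (key g1 g3 n13 hm1 x1 x3.2).elim
      · exact Or.inr (Or.inr x3)
    · exact (key g1 g2 n12 hm1 x1 x2.2).elim
    · exact Or.inr (Or.inl x2)
  · rcases h.type_of g2 hm2 hmK hB with x2 | x2 | x2 | x2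
    · rcases h.type_of g3 hm3 hmK hB with x3 | x3 | x3 | x3
      · exact (h.vv_ne n23 x2 x3).elim
      · exact (h.t9_ne g1 g3 n13 a9 x1 x3).elim
      · exact (key g2 g3 n23 hm2 x2 x3.2).elim
      · exact Or.inr (Or.inr x3)
    · exact (h.t9_ne g1 g2 n12 a9 x1 x2).elim
    · rcases h.type_of g3 hm3 hmK hB with x3 | x3 | x3 | x3
      · exact (key g3 g2 n23.symm hm3 x3 x2.2).elim
      · exact (h.t9_ne g1 g3 n13 a9 x1 x3).elim
      · exact (h.t9_ne g2 g3 n23 a12 x2.1 x3.1).elim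
      · exact Or.inr (Or.inr x3)
    · exact Or.inr (Or.inl x2)
  · rcases h.type_of g2 hm2 hmK hB with x2 | x2 | x2 | x2
    · exact (key g2 g1 n12.symm hm2 x2 x1.2).elim
    · rcases h.type_of g3 hm3 hmK hB with x3 | x3 | x3 | x3
      · exact (key g3 g1 n13.symm hm3 x3 x1.2).elim
      · exact (h.t9_ne g2 g3 n23 a9 x2 x3).elim
      · exact (h.t9_ne g1 g3 n13 a12 x1.1 x3.1).elim
      · exact Or.inr (Or.inr x3)
    · exact (h.t9_ne g1 g2 n12 a12 x1.1 x2.1).elim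
    · exact Or.inr (Or.inl x2)
  · exact Or.inl x1

end

end Cfsg.Agent.R2.Spec.EE
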