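import Cfsg.Agent.R2.Spec.EE.SmR6J

/-!
# EE, rank 6: `S ≠ E₆(u), ²E₆(u), F₄(u)` (helper12)
-/

set_option autoImplicit false
set_option linter.unusedSectionVars false
set_option linter.unusedVariables false

namespace Cfsg.Agent.R2.Spec.EE

open Subgroup Cfsg
open Cfsg.Agent.H426.LieFam Cfsg.Agent.R2.Spec Cfsg.Agent.R2.Spec.P1 Cfsg.Agent.R2.Spec.F1
open Cfsg.Agent.H420.QR Cfsg.Agent.H365.Zsig

universe u w

section

variable {t : Fam} {p f : ℕ} {L : Type w} [Group L] [Finite L] {G : Type u} [Group G] [Finite G]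
  {K : Subgroup G} [K.Normal] {S : Subgroup (G ⧸ K)} [S.Normal] {v f' : ℕ}

theorem EX.m6_e6 (h : EX (.ominus 6) p f L G K S .e6 v f' tabE6 (kcl clE6 (v ^ f'))) : False := by
  have hgd := h.gd_e6 (Or.inl (by rw [rk6 m6_R6]; norm_num))
  refine h.m6_E (ks_e6 h.ef.vp h.frm.is) xm_e6 ⟨?_, ?_, ?_, ?_, ?_, ?_, ?_, ?_⟩
  · exact h.va m6_R6 hgd (by norm_num) _ r6e_ominus_5 rfl (by decide) (by decide)
  · exact h.va m6_R6 hgd (by norm_num) _ r6e_ominus_8 rfl (by decide) (by decide)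
  · exact h.va m6_R6 hgd (by norm_num) _ r6e_ominus_10 rfl (by decide) (by decide)
  · exact h.va m6_R6 hgd (by norm_num) _ r6e_ominus_3 rfl (by decide) (by decide)
  · exact h.va m6_R6 hgd (by norm_num) _ r6e_ominus_6 rfl (by decide) (by decide)
  · exact h.va m6_R6 hgd (by norm_num) _ r6e_ominus_12 rfl (by decide) (by decide)
  · exact fun y hy hyv => h.valK hgd r6e_ominus_4 (by decide) hy hyv
  · exact fun y hy hyv hyK hm => h.valB hgd [3, 6] r6e_ominus_4 rfl (by decide) hy hyv hyK rfl hm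

theorem EX.m6_te6 (h : EX (.ominus 6) p f L G K S .te6 v f' tabTE6 (kcl clTE6 (v ^ f'))) : False := by
  have hgd := h.gd_te6 (Or.inl (by rw [rk6 m6_R6]; norm_num))
  refine h.m6_E (ks_te6 h.ef.vp h.frm.is) xm_te6 ⟨?_, ?_, ?_, ?_, ?_, ?_, ?_, ?_⟩
  · exact h.va m6_R6 hgd (by norm_num) _ r6te_ominus_5 rfl (by decide) (by decide)
  · exact h.va m6_R6 hgd (by norm_num) _ r6te_ominus_8 rfl (by decide) (by decide)
  · exact h.va m6_R6 hgd (by norm_num) _ r6te_ominus_10 rfl (by decide) (by decide)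
  · exact h.va m6_R6 hgd (by norm_num) _ r6te_ominus_3 rfl (by decide) (by decide)
  · exact h.va m6_R6 hgd (by norm_num) _ r6te_ominus_6 rfl (by decide) (by decide)
  · exact h.va m6_R6 hgd (by norm_num) _ r6te_ominus_12 rfl (by decide) (by decide)
  · exact fun y hy hyv => h.valK hgd r6te_ominus_4 (by decide) hy hyv
  · exact fun y hy hyv hyK hm => h.valB hgd [3, 6] r6te_ominus_4 rfl (by decide) hy hyv hyK rfl hm

/-- **Rank 6, `E₆(u)`** -/
theorem sm_r6_e6 (h : EX t p f L G K S .e6 v f' tabE6 (kcl clE6 (v ^ f'))) (ht : t ∈ R6L) : False := by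
  simp only [R6L, List.mem_cons, List.not_mem_nil, or_false] at ht
  rcases ht with rfl | rfl | rfl | rfl
  · exact h.cb6_e6 (Or.inl rfl)
  · exact h.cb6_e6 (Or.inr rfl)
  · exact h.p6_e6
  · exact h.m6_e6

/-- **Rank 6, `²E₆(u)`** -/
theorem sm_r6_te6 (h : EX t p f L G K S .te6 v f' tabTE6 (kcl clTE6 (v ^ f'))) (ht : t ∈ R6L) : False := by
  simp only [R6L, List.mem_cons, List.not_mem_nil, or_false] at ht
  rcases ht with rfl | rfl | rfl | rfl
  · exact h.cb6_te6 (Or.inl rfl)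
  · exact h.cb6_te6 (Or.inr rfl)
  · exact h.p6_te6
  · exact h.m6_te6

/-- **Rank 6, `F₄(u)`**, `t ≠ ominus 6` -/
theorem sm_r6_f4 (h : EX t p f L G K S .f4 v f' tabF4 (kcl clF4 (v ^ f'))) (ht : t ∈ [Fam.psp 6, .oodd 6, .oplus 6]) :
    False := by
  simp only [List.mem_cons, List.not_mem_nil, or_false] at ht
  rcases ht with rfl | rfl | rfl
  · exact h.cb6_f4 (Or.inl rfl)
  · exact h.cb6_f4 (Or.inr rfl)
  · exact h.p6_f4

end

end Cfsg.Agent.R2.Spec.EE
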