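import Cfsg.Agent.R2.Spec.EE.SmR6N

/-!
# EE, rank 6: the group part (helper12)

* `SP S v u a y` : `y` is a prime of the class `a` of `S`;
* `EX.valA` : the values of a class of `L` are in a list of classes of `S`;
* `EX.nix6`, `mem6L`.
-/

set_option autoImplicit false
set_option linter.unusedSectionVars false
set_option linter.unusedVariables false

namespace Cfsg.Agent.R2.Spec.EE

open Subgroup Cfsg
open Cfsg.Agent.H426.LieFam Cfsg.Agent.R2.Spec Cfsg.Agent.R2.Spec.P1 Cfsg.Agent.R2.Spec.F1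
open Cfsg.Agent.H420.QR Cfsg.Agent.H365.Zsig

universe u w

/-- a prime of the class `a` of `S` -/
structure SP (S : Type u) (v u a y : ℕ) : Prop where
  prime : y.Prime
  five : 5 ≤ y
  ne : y ≠ v
  dvd : y ∣ Nat.card S
  ord : orderOf ((u : ℕ) : ZMod y) = a

/-- the families of rank 6 -/
def R6L : List Fam := [.psp 6, .oodd 6, .oplus 6, .ominus 6]

theorem tn6 {t : Fam} (ht : t ∈ R6L) : Tn t := by
  simp only [R6L, List.mem_cons, List.not_mem_nil, or_false] at ht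
  rcases ht with rfl | rfl | rfl | rfl <;> exact ⟨fun n => Fam.noConfusion, fun n => Fam.noConfusion⟩

theorem rk6 {t : Fam} (ht : t ∈ R6L) : rk t = 6 := by
  simp only [R6L, List.mem_cons, List.not_mem_nil, or_false] at ht
  rcases ht with rfl | rfl | rfl | rfl <;> rfl

theorem mem6L {t : Fam} (ht : t ∈ R6L) {i : ℕ} (h3 : 3 ≤ i) (hm : mem t i) : i ∈ [3, 4, 5, 6, 8, 10, 12] := by
  have key : eta i ≤ 6 → i ∈ [3, 4, 5, 6, 8, 10, 12] := by
    intro h
    simp only [List.mem_cons, List.not_mem_nil, or_false]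
    unfold eta at h
    split_ifs at h with h1 <;> omega
  simp only [R6L, List.mem_cons, List.not_mem_nil, or_false] at ht
  rcases ht with rfl | rfl | rfl | rfl
  · exact key hm
  · exact key hm
  · rcases hm with h | h
    · exact key (by omega)
    · omega
  · rcases hm with h | h
    · exact key (by omega)
    · exact key (by rw [h]; decide)

theorem ord_of_mask {cl : List ℕ} {u y m : ℕ} {A : List ℕ} (hlt : m < 2 ^ cl.length)
    (hA : ∀ x < cl.length, m.testBit x = true → cl.getD x 0 ∈ A) (hm : m.testBit (kcl cl u y) = true) :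
    orderOf ((u : ℕ) : ZMod y) ∈ A := by
  have h1 : kcl cl u y < cl.length := by
    by_contra hcon
    rw [Nat.testBit_lt_two_pow (lt_of_lt_of_le hlt (Nat.pow_le_pow_right (by norm_num) (not_lt.1 hcon)))] at hm
    exact Bool.noConfusion hm
  have h2 := hA _ h1 hm
  rw [kcl] at h1
  rw [kcl, List.getD_eq_getElem _ _ h1, List.getElem_idxOf h1] at h2
  exact h2

section

variable {t : Fam} {p f : ℕ} {L : Type w} [Group L] [Finite L] {G : Type u} [Group G] [Finite G]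
  {K : Subgroup G} [K.Normal] {S : Subgroup (G ⧸ K)} [S.Normal] {t' : Fam} {v f' : ℕ} {T : Tab} {cl : List ℕ}

/-- **The values of a class of `L`.** -/
theorem EX.valA (h : EX t p f L G K S t' v f' T (kcl cl (v ^ f')))
    (hgd : ∀ i ∈ cls3 t, ∃ y, Gd t (p ^ f) (Nat.card ↥K) S.index i y) {i0 m : ℕ} (A : List ℕ)
    (hk : (dat T.tbl t (cls3 t)).go (cls3 t).length (st0 T.tbl (cls3 t) (T.domX i0 m)) 0 = false)
    (hn : T.n = cl.length) (hlt : m < 2 ^ cl.length)
    (hA : ∀ x < cl.length, m.testBit x = true → cl.getD x 0 ∈ A) {y : ℕ}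
    (hy : Gd t (p ^ f) (Nat.card ↥K) S.index i0 y) :
    y ≠ v ∧ ¬ y ∣ Nat.card ↥K ∧ orderOf ((v ^ f' : ℕ) : ZMod y) ∈ A := by
  obtain ⟨h1, h2, h3⟩ := val_mask (by rw [hn]; exact hlt) (h.row_val hgd hk hy)
  exact ⟨h1, h2, ord_of_mask hlt hA h3⟩

/-- the values of a class of `L`, `K`, `v`, `w` allowed -/
theorem EX.valB (h : EX t p f L G K S t' v f' T (kcl cl (v ^ f')))
    (hgd : ∀ i ∈ cls3 t, ∃ y, Gd t (p ^ f) (Nat.card ↥K) S.index i y) {i0 m : ℕ} (A : List ℕ)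
    (hk : (dat T.tbl t (cls3 t)).go (cls3 t).length (st0 T.tbl (cls3 t) (T.domX i0 m)) 0 = false)
    (hn : T.n = cl.length)
    (hA : ∀ x < cl.length, m.testBit x = true → cl.getD x 0 ∈ A) {y : ℕ}
    (hy : Gd t (p ^ f) (Nat.card ↥K) S.index i0 y) (hyv : y ≠ v) (hyK : ¬ y ∣ Nat.card ↥K) {a : ℕ}
    (ha : orderOf ((v ^ f' : ℕ) : ZMod y) = a) (hac : a ∈ cl) : a ∈ A := by
  have h1 := h.row_val hgd hk hy
  rw [val, if_neg hyv, if_neg hyK, kcl, ha] at h1
  have h2 : cl.idxOf a < cl.length := List.idxOf_lt_length_iff.2 hac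
  have h3 := hA _ h2 h1
  rw [List.getD_eq_getElem _ _ h2, List.getElem_idxOf h2] at h3
  exact h3

/-- `K` is excluded -/
theorem EX.valK (h : EX t p f L G K S t' v f' T (kcl cl (v ^ f')))
    (hgd : ∀ i ∈ cls3 t, ∃ y, Gd t (p ^ f) (Nat.card ↥K) S.index i y) {i0 m : ℕ}
    (hk : (dat T.tbl t (cls3 t)).go (cls3 t).length (st0 T.tbl (cls3 t) (T.domX i0 m)) 0 = false)
    (hb : m.testBit (T.n + 2) = false) {y : ℕ} (hy : In t (p ^ f) i0 y) (hyv : y ≠ v) : ¬ y ∣ Nat.card ↥K := by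
  intro hyK
  have h1 := h.row_val hgd hk (z := y) ⟨hy, fun h2 => (h2 hyK).elim⟩
  rw [val, if_neg hyv, if_pos hyK, hb] at h1
  exact Bool.noConfusion h1

theorem EX.adjS (h : EX t p f L G K S t' v f' T (kcl cl (v ^ f'))) {a b y z : ℕ} (hy : SP ↥S v (v ^ f') a y)
    (hz : SP ↥S v (v ^ f') b z) (hyz : y ≠ z) (hbit : (T.adj.getD (cl.idxOf a) 0).testBit (cl.idxOf b) = true) :
    ∃ s : S, orderOf s = y * z := by
  refine h.ef.sok.adj y z hy.prime hz.prime hy.five hz.five hy.ne hz.ne hyz hy.dvd hz.dvd ?_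
  rw [kcl, kcl, hy.ord, hz.ord]
  exact hbit

theorem EX.naS (h : EX t p f L G K S t' v f' T (kcl cl (v ^ f'))) {a b y z : ℕ} (hy : SP ↥S v (v ^ f') a y)
    (hz : SP ↥S v (v ^ f') b z) (hyz : y ≠ z) (hbit : (T.na.getD (cl.idxOf a) 0).testBit (cl.idxOf b) = true) :
    ¬ ∃ s : S, orderOf s = y * z := by
  refine h.ef.sok.na y z hy.prime hz.prime hy.five hz.five hy.ne hz.ne hyz hy.dvd hz.dvd ?_
  rw [kcl, kcl, hy.ord, hz.ord]
  exact hbit

theorem EX.kadS (h : EX t p f L G K S t' v f' T (kcl cl (v ^ f'))) {a y r : ℕ} (hy : SP ↥S v (v ^ f') a y)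
    (hr : r.Prime) (hrK : r ∣ Nat.card ↥K) (hrv : r ≠ v) (hyr : y ≠ r) (hbit : T.mv.testBit (cl.idxOf a) = true) :
    ∃ g : G, orderOf g = r * y := by
  refine h.ef.kad r y hr hrK hrv hy.prime hy.five hy.ne hyr hy.dvd ?_
  rw [kcl, hy.ord]
  exact hbit

/-- a prime of `L` in `S` -/
theorem EX.sp_of (h : EX t p f L G K S t' v f' T (kcl cl (v ^ f'))) {i a y : ℕ} (hy : In t (p ^ f) i y) (hv : y ≠ v)
    (hK : ¬ y ∣ Nat.card ↥K) (hI : ¬ y ∣ S.index) (ha : orderOf ((v ^ f' : ℕ) : ZMod y) = a) :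
    SP ↥S v (v ^ f') a y := by
  have := Fact.mk hy.prime
  obtain ⟨g, hg⟩ := exists_prime_orderOf_dvd_card' (G := G) y (In.dvd h.ls hy)
  obtain ⟨s, hs⟩ := exists_of_coprime (S := S) hg
    (fun z hz hd => by rwa [(Nat.prime_dvd_prime_iff_eq hz hy.prime).1 hd])
    (fun z hz hd => by rwa [(Nat.prime_dvd_prime_iff_eq hz hy.prime).1 hd])
  exact ⟨hy.prime, hy.five, hv, by rw [← hs]; exact orderOf_dvd_natCard s, ha⟩

/-- a prime of a number of `S` -/
theorem sp_of_NN {S' : Type u} [Group S'] [Finite S'] {u : ℕ} (hu : 2 ≤ u) {v a y : ℕ} (hvu : v ∣ u)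
    (he : ∃ s : S', orderOf s = NN u a) (ha : a ∈ clE8) (h3 : 3 ≤ a) (hy : y.Prime) (hd : y ∣ NN u a) : SP S' v u a y := by
  have := Fact.mk hy
  have ho := NN_ord hu ha h3 hy hd
  refine ⟨hy, NN_five hu ha h3 hy hd, ?_, ?_, ho⟩
  · rintro rfl
    have h0 : ((u : ℕ) : ZMod y) = 0 := (ZMod.natCast_eq_zero_iff _ _).2 hvu
    rw [h0, orderOf_zero] at ho
    omega
  · obtain ⟨s, hs⟩ := he
    exact hd.trans (by rw [← hs]; exact orderOf_dvd_natCard s)

theorem kl510' : Killer (fun l => l ∈ [5, 10]) 8 :=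
  Or.inr (Or.inr (Or.inr (Or.inr (Or.inr (Or.inr (Or.inl ⟨rfl, by simp, by simp⟩))))))

/-- **The primes of the classes `≠ 4` do not divide the index**, rank 6. -/
theorem EX.nix6 {k : ℕ → ℕ} (h : EX t p f L G K S t' v f' T k) (ht : t ∈ R6L) {i r : ℕ} (hr : In t (p ^ f) i r)
    (h4 : i ≠ 4) (hrK : ¬ r ∣ Nat.card ↥K) : ¬ r ∣ S.index := by
  have hi := mem6L ht hr.reg hr.mem
  simp only [List.mem_cons, List.not_mem_nil, or_false] at hi
  have hm := hr.mem
  simp only [R6L, List.mem_cons, List.not_mem_nil, or_false] at ht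
  rcases hi with rfl | rfl | rfl | rfl | rfl | rfl | rfl
  · refine h.nix [8] (fun l hl => ⟨5, ?_⟩) (kl8 (by norm_num) (by norm_num)) hr hrK
    rw [List.mem_singleton.1 hl]
    rcases ht with rfl | rfl | rfl | rfl <;> decide
  · exact absurd rfl h4
  · refine h.nix [8] (fun l hl => ⟨10, ?_⟩) (kl8 (by norm_num) (by norm_num)) hr hrK
    rw [List.mem_singleton.1 hl]
    rcases ht with rfl | rfl | rfl | rfl <;> decide
  · refine h.nix [8] (fun l hl => ⟨5, ?_⟩) (kl8 (by norm_num) (by norm_num)) hr hrK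
    rw [List.mem_singleton.1 hl]
    rcases ht with rfl | rfl | rfl | rfl <;> decide
  · refine h.nix [5, 10] (fun l hl => ⟨15 - l, ?_⟩) kl510' hr hrK
    simp only [List.mem_cons, List.not_mem_nil, or_false] at hl
    rcases hl with rfl | rfl <;> rcases ht with rfl | rfl | rfl | rfl <;> decide
  · refine h.nix [8] (fun l hl => ⟨5, ?_⟩) (kl8 (by norm_num) (by norm_num)) hr hrK
    rw [List.mem_singleton.1 hl]
    rcases ht with rfl | rfl | rfl | rfl <;> decide
  · refine h.nix [8] (fun l hl => ⟨5, ?_⟩) (kl8 (by norm_num) (by norm_num)) hr hrK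
    rw [List.mem_singleton.1 hl]
    rcases ht with rfl | rfl | rfl | rfl
    · decide
    · decide
    · exfalso
      rcases hm with h | h
      · revert h; decide
      · omega
    · decide

/-- the primes of the large classes -/
theorem big12r {u a y : ℕ} (hy : y.Prime) (ha : a = 8 ∨ a = 9 ∨ a = 12 ∨ a = 18)
    (ho : orderOf ((u : ℕ) : ZMod y) = a) : 12 < y := by
  have := Fact.mk hy
  have h0 : ((u : ℕ) : ZMod y) ≠ 0 := by
    intro h0
    rw [h0, orderOf_zero] at ho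
    omega
  have h1 : orderOf ((u : ℕ) : ZMod y) ∣ y - 1 := orderOf_dvd_of_pow_eq_one (ZMod.pow_card_sub_one_eq_one h0)
  rw [ho] at h1
  have h2 := hy.two_le
  by_contra hcon
  have h3 : y ≤ 12 := by omega
  interval_cases y <;> rcases ha with rfl | rfl | rfl | rfl <;> first | omega | (revert hy; norm_num)

/-- **The reverse divisibility.** -/
theorem EX.rev {k : ℕ → ℕ} (h : EX t p f L G K S t' v f' T k) (ht : Tn t) {u a i : ℕ} (hu : 2 ≤ u)
    (he : ∃ s : S, orderOf s = NN u a) (ha : a ∈ clE8) (h3 : 3 ≤ a) (hi : i ∈ clE8) (hi3 : 3 ≤ i)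
    (hall : ∀ y : ℕ, y.Prime → y ∣ NN u a → orderOf ((p ^ f : ℕ) : ZMod y) = i ∧ 2 * rk t < y) : NN u a ∣ NN (p ^ f) i := by
  obtain ⟨hq, hq3⟩ := h.q_odd
  rw [Nat.dvd_iff_prime_pow_dvd_dvd]
  intro y e hy hd
  rcases Nat.eq_zero_or_pos e with he0 | he0
  · rw [he0, pow_zero]; exact one_dvd _
  have := Fact.mk hy
  have hyd : y ∣ NN u a := (dvd_pow_self y (by omega)).trans hd
  obtain ⟨h1, h2⟩ := hall y hy hyd
  have h5 := NN_five hu ha h3 hy hyd
  have hyp : y ≠ p := by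
    rintro rfl
    have h0 : ((y ^ f : ℕ) : ZMod y) = 0 := by
      rw [ZMod.natCast_eq_zero_iff]
      exact dvd_pow_self y (by have := h.ls.fpos; omega)
    rw [h0, orderOf_zero] at h1
    omega
  have hx : ∃ g : G, orderOf g = y ^ e := order_dvd (exists_of_S he) hd
  have h6 := h.exp_cls ht hy h5 hyp he0 hx h2
  rw [h1] at h6
  have h7 : tnum t (p ^ f) i ∣ ((sg t (p ^ f)) ^ i - 1).natAbs := tnum_dvd_natAbs h.ls.cla (by omega)
  have hsg : sg t (p ^ f) = ((p ^ f : ℕ) : ℤ) := by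
    unfold sg
    split
    · exact absurd rfl (ht.2 _)
    · rfl
  rw [hsg] at h7
  have h8 : ((y ^ e : ℕ) : ℤ) ∣ ((p ^ f : ℕ) : ℤ) ^ i - 1 := Int.natCast_dvd.2 (h6.trans h7)
  exact pow_dvd_NN hy (not_dvd_ord hy (by omega) h1) (pow_dvd_ZZ (by omega) hi hi3 hy h1 h8)

/-- different values -/
theorem EX.ne_val (h : EX t p f L G K S t' v f' T (kcl cl (v ^ f'))) {i j a b y z : ℕ} (hy : In t (p ^ f) i y)
    (hz : In t (p ^ f) j z) (hn : na t i j) (hsy : SP ↥S v (v ^ f') a y) (hsz : SP ↥S v (v ^ f') b z)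
    (hbit : (T.adj.getD (cl.idxOf a) 0).testBit (cl.idxOf a) = true) : a ≠ b := by
  rintro rfl
  have hne := hy.ne hz (na_ne hn)
  exact (h.ls.adj_iff hy hz hne).1 (exists_of_S (h.adjS hsy hsz hne hbit)) hn

end

end Cfsg.Agent.R2.Spec.EE
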