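import Cfsg.Agent.R2.Spec.EE.SmR6A

/-!
# EE, `PSp₁₂(q)`, `Ω₁₃(q)` (helper12)
-/

set_option autoImplicit false
set_option linter.unusedSectionVars false
set_option linter.unusedVariables false

namespace Cfsg.Agent.R2.Spec.EE

open Subgroup Cfsg
open Cfsg.Agent.H426.LieFam Cfsg.Agent.R2.Spec Cfsg.Agent.R2.Spec.P1 Cfsg.Agent.R2.Spec.F1
open Cfsg.Agent.H420.QR Cfsg.Agent.H365.Zsig

universe u w

/-- the class of a prime of `G` -/
theorem EX.in_of {t : Fam} {p f : ℕ} {L : Type w} [Group L] [Finite L] {G : Type u} [Group G] [Finite G]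
    {K : Subgroup G} [K.Normal] {S : Subgroup (G ⧸ K)} [S.Normal] {t' : Fam} {v f' : ℕ} {T : Tab} {k : ℕ → ℕ}
    (h : EX t p f L G K S t' v f' T k) (ht : Tn t) {y : ℕ} (hy : y.Prime) (h5 : 5 ≤ y) (hd : y ∣ Nat.card G)
    (h3 : 3 ≤ orderOf ((p ^ f : ℕ) : ZMod y)) : In t (p ^ f) (orderOf ((p ^ f : ℕ) : ZMod y)) y := by
  have := Fact.mk hy
  have hcls : cls t (p ^ f) y = orderOf ((p ^ f : ℕ) : ZMod y) := cls_eq_co ht.2 _ _
  have hyp : y ≠ p := by
    rintro rfl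
    have h0 : ((y ^ f : ℕ) : ZMod y) = 0 := by
      rw [ZMod.natCast_eq_zero_iff]
      exact dvd_pow_self y (by have := h.ls.fpos; omega)
    rw [h0, orderOf_zero] at h3
    omega
  have hyp' : ¬ y ∣ p := fun hd => hyp ((Nat.prime_dvd_prime_iff_eq hy h.ls.prime).1 hd)
  refine ⟨hy, hcls, h3, ?_⟩
  rw [← hcls]
  exact (h.ls.adj.dvd y hy (by omega) hyp' (by rw [hcls]; exact h3)).1 ((h.ls.dvd_iff hy).1 hd)

theorem sp_cardG {G : Type u} [Group G] [Finite G] {K : Subgroup G} [K.Normal] {S : Subgroup (G ⧸ K)} [S.Normal]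
    {v u a y : ℕ} (hy : SP ↥S v u a y) : y ∣ Nat.card G := by
  have := Fact.mk hy.prime
  obtain ⟨s, hs⟩ := exists_prime_orderOf_dvd_card' (G := S) y hy.dvd
  obtain ⟨g, hg⟩ := exists_of_S (G := G) ⟨s, hs⟩
  rw [← hg]
  exact orderOf_dvd_natCard g

/-- `psp 6`, `oodd 6` -/
def CB6 (t : Fam) : Prop := t = .psp 6 ∨ t = .oodd 6

theorem cb6_mem {t : Fam} (ht : CB6 t) : t ∈ R6L := by
  rcases ht with rfl | rfl <;> simp [R6L]

theorem cb6_na {t : Fam} (ht : CB6 t) {i j : ℕ} (hi : 3 ≤ i) (hj : 3 ≤ j) (h : naB (.psp 6) i j = true) : na t i j := by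
  rcases ht with rfl | rfl
  · exact na_of_naB (by omega) (by omega) h
  · exact na_of_naB (t := .oodd 6) (by omega) (by omega) h

theorem cb6_nap {t : Fam} (ht : CB6 t) {j : ℕ} (hj : j = 5 ∨ j = 10) : ¬ nap t j := by
  rcases ht with rfl | rfl <;> rcases hj with rfl | rfl
  · show ¬ 6 < eta 5 + 1
    decide
  · show ¬ 6 < eta 10 + 1
    decide
  · show ¬ 6 < eta 5 + 1
    decide
  · show ¬ 6 < eta 10 + 1
    decide

section

variable {t : Fam} {p f : ℕ} {L : Type w} [Group L] [Finite L] {G : Type u} [Group G] [Finite G]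
  {K : Subgroup G} [K.Normal] {S : Subgroup (G ⧸ K)} [S.Normal] {t' : Fam} {v f' : ℕ} {T : Tab} {cl : List ℕ}

/-- an irregular prime is adjacent to the classes 5, 10 -/
theorem EX.irr_cb (h : EX t p f L G K S t' v f' T (kcl cl (v ^ f'))) (ht : CB6 t) {j w : ℕ} (hj : j = 5 ∨ j = 10)
    (hw : In t (p ^ f) j w) {y e : ℕ} (hy : y.Prime) (hy12 : 12 < y) (he : 1 ≤ e) (hx : ∃ g : G, orderOf g = y ^ e)
    (h2 : orderOf ((p ^ f : ℕ) : ZMod y) ≤ 2) (hyw : y ≠ w) : ∃ g : G, orderOf g = y ^ e * w := by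
  have := Fact.mk hy
  have htn := tn6 (cb6_mem ht)
  have hrk := rk6 (cb6_mem ht)
  obtain ⟨hq, hq3⟩ := h.q_odd
  by_cases hyp : y = p
  · -- the characteristic
    subst hyp
    obtain ⟨x, hx'⟩ := (h.ls.ord _).1 hx
    obtain ⟨e', rfl⟩ : ∃ e', e = e' + 1 := ⟨e - 1, by omega⟩
    have h1 := pexp h.ls.cla h.ls.prime h.p2 h.is ⟨x, hx'⟩
    rw [hrk] at h1
    have h3 : e' = 0 := by
      by_contra hcon
      have : y ≤ y ^ e' := Nat.le_self_pow hcon y
      omega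
    rw [h3, zero_add, pow_one, mul_comm]
    exact (h.ls.adjp_iff hw).2 (cb6_nap ht hj)
  · have h1 := h.exp_cls htn hy (by omega) hyp he hx (by rw [hrk]; omega)
    have h0 : ((p ^ f : ℕ) : ZMod y) ≠ 0 := by
      rw [Ne, ZMod.natCast_eq_zero_iff]
      exact fun h3 => hyp ((Nat.prime_dvd_prime_iff_eq hy h.ls.prime).1 (hy.dvd_of_dvd_pow h3))
    have h3 : 1 ≤ orderOf ((p ^ f : ℕ) : ZMod y) := by
      rw [Nat.succ_le_iff, orderOf_pos_iff]
      exact isOfFinOrder_iff_pow_eq_one.2 ⟨y - 1, by omega, ZMod.pow_card_sub_one_eq_one h0⟩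
    have h4 : eta (orderOf ((p ^ f : ℕ) : ZMod y)) + eta j ≤ rk t := by
      rw [hrk]
      generalize orderOf ((p ^ f : ℕ) : ZMod y) = o at *
      have ho : o = 1 ∨ o = 2 := by omega
      rcases ho with rfl | rfl <;> rcases hj with rfl | rfl <;> decide
    have hor : (∃ n, t = .psp n) ∨ ∃ n, t = .oodd n := by
      rcases ht with rfl | rfl
      · exact Or.inl ⟨6, rfl⟩
      · exact Or.inr ⟨6, rfl⟩
    obtain ⟨x, hx'⟩ := two_tor hor h.is h3 (by omega : 1 ≤ j) h4 ((hy.odd_of_ne_two (by omega)).pow (n := e))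
      (hw.prime.odd_of_ne_two hw.ne_two) h1 (in_dvd_tnum h.ls.cla (by omega) hw)
    refine (h.ls.ord _).2 ⟨x, ?_⟩
    rw [hx']
    exact Nat.Coprime.lcm_eq_mul (Nat.Coprime.pow_left e ((Nat.coprime_primes hy hw.prime).2 hyw))

/-- **The primes of the number of the class `a` are in the class `i`.** -/
theorem EX.place_cb (h : EX t p f L G K S t' v f' T (kcl cl (v ^ f'))) (ht : CB6 t) (hu : 2 ≤ v ^ f')
    {i j a b z w : ℕ} (hij : (i = 5 ∧ j = 10) ∨ (i = 10 ∧ j = 5)) (ha : a = 8 ∨ a = 9 ∨ a = 12 ∨ a = 18)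
    (hea : ∃ s : S, orderOf s = NN (v ^ f') a) (hz : In t (p ^ f) i z) (hsz : SP ↥S v (v ^ f') a z)
    (hw : In t (p ^ f) j w) (hsw : SP ↥S v (v ^ f') b w) (hwK : ¬ w ∣ Nat.card ↥K) (hwI : ¬ w ∣ S.index) (hab : a ≠ b)
    (badj : (T.adj.getD (cl.idxOf a) 0).testBit (cl.idxOf a) = true)
    (bna : (T.na.getD (cl.idxOf a) 0).testBit (cl.idxOf b) = true)
    (hK : ∀ r : ℕ, r.Prime → 5 ≤ r → r ≠ v → r ∣ Nat.card ↥K → 3 ≤ orderOf ((p ^ f : ℕ) : ZMod r)) :
    ∀ y : ℕ, y.Prime → y ∣ NN (v ^ f') a → orderOf ((p ^ f : ℕ) : ZMod y) = i ∧ 2 * rk t < y := by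
  intro y hy hd
  have htn := tn6 (cb6_mem ht)
  have hrk := rk6 (cb6_mem ht)
  have ha8 : a ∈ clE8 := by rcases ha with rfl | rfl | rfl | rfl <;> decide
  have ha3 : 3 ≤ a := by omega
  have hvu : v ∣ v ^ f' := dvd_pow_self v (by have := h.frm.fpos; omega)
  have hsy := sp_of_NN hu hvu hea ha8 ha3 hy hd
  have hy12 : 12 < y := big12r hy ha hsy.ord
  refine ⟨?_, by rw [hrk]; omega⟩
  by_cases hyz : y = z
  · rw [hyz]
    exact ord_of_in htn hz
  by_cases h3 : 3 ≤ orderOf ((p ^ f : ℕ) : ZMod y)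
  · have hin := h.in_of htn hy (by omega) (sp_cardG hsy) h3
    have hg := exists_of_S (h.adjS hsy hsz hyz badj)
    have h4 := (h.ls.adj_iff hin hz hyz).1 hg
    by_contra hne
    apply h4
    have h5 := mem6L (cb6_mem ht) h3 hin.mem
    generalize orderOf ((p ^ f : ℕ) : ZMod y) = o at *
    refine cb6_na ht h3 (by omega) ?_
    simp only [List.mem_cons, List.not_mem_nil, or_false] at h5
    rcases hij with ⟨rfl, rfl⟩ | ⟨rfl, rfl⟩ <;> rcases h5 with rfl | rfl | rfl | rfl | rfl | rfl | rfl <;>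
      first | exact absurd rfl hne | decide
  · exfalso
    have hyK : ¬ y ∣ Nat.card ↥K := fun hyK => h3 (hK y hy (by omega) hsy.ne hyK)
    obtain ⟨e, he, hde, hef⟩ := exists_expI hu (by have := h.frm.fpos; omega) ha8 ha3 hy hsy.ord
    have hyw : y ≠ w := by
      rintro rfl
      exact hab (hsy.ord.symm.trans hsw.ord)
    obtain ⟨g, hg⟩ := h.irr_cb ht (by omega : j = 5 ∨ j = 10) hw hy hy12 he (order_dvd (exists_of_S hea) hde)
      (by omega) hyw
    exact h.naS hsy hsw hyw bna (exists_mul_S hy hw.prime hyw hg hyK hwK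
      (fun hd => hef (h.ef.idx y e hy (by omega) hd)) hwI)

end

end Cfsg.Agent.R2.Spec.EE
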