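import Cfsg.Agent.R2.Spec.EE.SmR6C
import Cfsg.Agent.R2.Spec.EE.SmR6V
import Cfsg.Agent.R2.Spec.EE.SmGdA

/-!
# EE, `PSp₁₂(q)`, `Ω₁₃(q)`, `S = E₆, ²E₆, F₄` (helper12)
-/

set_option autoImplicit false
set_option linter.unusedSectionVars false
set_option linter.unusedVariables false

namespace Cfsg.Agent.R2.Spec.EE

open Subgroup Cfsg
open Cfsg.Agent.H426.LieFam Cfsg.Agent.R2.Spec Cfsg.Agent.R2.Spec.P1 Cfsg.Agent.R2.Spec.F1
open Cfsg.Agent.H420.QR Cfsg.Agent.H365.Zsig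

universe u w

/-- the data of `S` -/
structure XC (T : Tab) (cl : List ℕ) (TL : List (List ℕ)) (B A : List ℕ) : Prop where
  n : T.n = cl.length
  A8 : ∀ a ∈ A, a ∈ [8, 9, 12, 18]
  A9 : 9 ∈ A → 18 ∈ A → False
  Acl : ∀ a ∈ A, a ∈ cl
  B : ∀ a ∈ A, a ∈ B
  tl : ∀ T ∈ TL, T.Nodup ∧ (∀ c ∈ T, c ∈ clS) ∧ ∀ a ∈ T, ∀ b ∈ T, a ∈ A → b ∈ A → a = b
  adj : ∀ a ∈ A, (T.adj.getD (cl.idxOf a) 0).testBit (cl.idxOf a) = true
  na : ∀ a ∈ A, ∀ b ∈ A, a ≠ b → (T.na.getD (cl.idxOf a) 0).testBit (cl.idxOf b) = true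

theorem xc_e6 : XC tabE6 clE6 TL6 [3, 4, 5, 6, 8, 9, 12] [8, 9, 12] := by
  constructor <;> decide

theorem xc_te6 : XC tabTE6 clTE6 TLT6 [3, 4, 6, 8, 10, 12, 18] [8, 12, 18] := by
  constructor <;> decide

theorem xc_f4 : XC tabF4 clF4 TLF4 [3, 4, 6, 8, 12] [8, 12] := by
  constructor <;> decide

/-- the values of a class -/
def VA (t : Fam) (q i v u : ℕ) (nK : ℕ) (A : List ℕ) : Prop :=
  ∀ y, In t q i y → y ≠ v ∧ ¬ y ∣ nK ∧ orderOf ((u : ℕ) : ZMod y) ∈ A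

section

variable {t : Fam} {p f : ℕ} {L : Type w} [Group L] [Finite L] {G : Type u} [Group G] [Finite G]
  {K : Subgroup G} [K.Normal] {S : Subgroup (G ⧸ K)} [S.Normal] {t' : Fam} {v f' : ℕ} {T : Tab} {cl : List ℕ}
  {TL : List (List ℕ)} {B A : List ℕ}

theorem EX.va (h : EX t p f L G K S t' v f' T (kcl cl (v ^ f'))) (ht : t ∈ R6L)
    (hgd : ∀ i ∈ cls3 t, ∃ y, Gd t (p ^ f) (Nat.card ↥K) S.index i y) {i0 m : ℕ} (h4 : i0 ≠ 4) (A : List ℕ)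
    (hk : (dat T.tbl t (cls3 t)).go (cls3 t).length (st0 T.tbl (cls3 t) (T.domX i0 m)) 0 = false)
    (hn : T.n = cl.length) (hlt : m < 2 ^ cl.length)
    (hA : ∀ x < cl.length, m.testBit x = true → cl.getD x 0 ∈ A) : VA t (p ^ f) i0 v (v ^ f') (Nat.card ↥K) A :=
  fun y hy => h.valA hgd A hk hn hlt hA (h.gd_of hy (h.nix6 ht hy h4))

theorem EX.sp_va (h : EX t p f L G K S t' v f' T (kcl cl (v ^ f'))) (ht : t ∈ R6L) {i : ℕ} (h4 : i ≠ 4)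
    (hv : VA t (p ^ f) i v (v ^ f') (Nat.card ↥K) A) {z : ℕ} (hz : In t (p ^ f) i z) :
    SP ↥S v (v ^ f') (orderOf ((v ^ f' : ℕ) : ZMod z)) z :=
  h.sp_of hz (hv z hz).1 (hv z hz).2.1 (h.nix6 ht hz h4 (hv z hz).2.1) rfl

/-- `NN q i ∣ NN u a` -/
theorem EX.fw (h : EX t p f L G K S t' v f' T (kcl cl (v ^ f'))) (ht : t ∈ R6L) (hS : KS ↥S v (v ^ f') TL B)
    {i : ℕ} (h4 : i ≠ 4) (h3 : 3 ≤ i) (hm : mem t i)
    (hTL : ∀ T ∈ TL, T.Nodup ∧ (∀ c ∈ T, c ∈ clS) ∧ ∀ a ∈ T, ∀ b ∈ T, a ∈ A → b ∈ A → a = b)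
    (hA : ∀ a ∈ A, 3 ≤ a) (hv : VA t (p ^ f) i v (v ^ f') (Nat.card ↥K) A) :
    ∃ a ∈ A, NN (p ^ f) i ∣ NN (v ^ f') a ∧ ∀ y : ℕ, In t (p ^ f) i y → orderOf ((v ^ f' : ℕ) : ZMod y) = a := by
  refine h.fwd (tn6 ht) hS ?_ h3 hm A hTL hA (fun r hr hrK => h.nix6 ht hr h4 hrK) hv
  have := mem6L ht h3 hm
  simp only [List.mem_cons, List.not_mem_nil, or_false] at this
  rcases this with rfl | rfl | rfl | rfl | rfl | rfl | rfl <;> decide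

theorem cb6_m {t : Fam} (ht : CB6 t) {i : ℕ} (h : i ∈ [3, 4, 5, 6, 8, 10, 12]) : mem t i := by
  have h1 : eta i ≤ 6 := by
    revert h; revert i; decide
  rcases ht with rfl | rfl <;> exact h1

/-- **Case II**: no irregular prime divides `|K|`. -/
theorem EX.case2 (h : EX t p f L G K S t' v f' T (kcl cl (v ^ f'))) (ht : CB6 t) (hS : KS ↥S v (v ^ f') TL B)
    (hx : XC T cl TL B A) (h5 : VA t (p ^ f) 5 v (v ^ f') (Nat.card ↥K) A)
    (h10 : VA t (p ^ f) 10 v (v ^ f') (Nat.card ↥K) A)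
    (hK : ∀ r : ℕ, r.Prime → 5 ≤ r → r ≠ v → r ∣ Nat.card ↥K → 3 ≤ orderOf ((p ^ f : ℕ) : ZMod r)) : False := by
  have htl := cb6_mem ht
  have htn := tn6 htl
  obtain ⟨hq, hq3⟩ := h.q_odd
  have hA3 : ∀ a ∈ A, 3 ≤ a := fun a ha => by
    have := hx.A8 a ha
    simp only [List.mem_cons, List.not_mem_nil, or_false] at this
    omega
  have hA8 : ∀ a ∈ A, a ∈ clE8 := fun a ha => by
    have := hx.A8 a ha
    simp only [List.mem_cons, List.not_mem_nil, or_false] at this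
    rcases this with rfl | rfl | rfl | rfl <;> decide
  obtain ⟨a5, ha5, hd5, ho5⟩ := h.fw htl hS (by norm_num) (by norm_num) (cb6_m ht (by decide)) hx.tl hA3 h5
  obtain ⟨a10, ha10, hd10, ho10⟩ := h.fw htl hS (by norm_num) (by norm_num) (cb6_m ht (by decide)) hx.tl hA3 h10
  obtain ⟨z5, hz5⟩ := h.exists_in (i := 5) (by norm_num) (cb6_m ht (by decide))
  obtain ⟨z10, hz10⟩ := h.exists_in (i := 10) (by norm_num) (cb6_m ht (by decide))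
  have s5 := h.sp_va htl (by norm_num) h5 hz5
  rw [ho5 z5 hz5] at s5
  have s10 := h.sp_va htl (by norm_num) h10 hz10
  rw [ho10 z10 hz10] at s10
  have hne : a5 ≠ a10 := h.ne_val hz5 hz10 (cb6_na ht (by norm_num) (by norm_num) (by decide)) s5 s10 (hx.adj a5 ha5)
  have e5 : ∃ s : S, orderOf s = NN (v ^ f') a5 := hS.elt a5 (hx.B a5 ha5)
  have e10 : ∃ s : S, orderOf s = NN (v ^ f') a10 := hS.elt a10 (hx.B a10 ha10)
  have hor : ∀ a ∈ A, a = 8 ∨ a = 9 ∨ a = 12 ∨ a = 18 := fun a ha => by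
    have := hx.A8 a ha
    simpa only [List.mem_cons, List.not_mem_nil, or_false] using this
  have p5 := h.place_cb ht hS.two (Or.inl ⟨rfl, rfl⟩) (hor a5 ha5) e5 hz5 s5 hz10 s10 (h10 z10 hz10).2.1
    (h.nix6 htl hz10 (by norm_num) (h10 z10 hz10).2.1) hne (hx.adj a5 ha5) (hx.na a5 ha5 a10 ha10 hne) hK
  have p10 := h.place_cb ht hS.two (Or.inr ⟨rfl, rfl⟩) (hor a10 ha10) e10 hz10 s10 hz5 s5 (h5 z5 hz5).2.1
    (h.nix6 htl hz5 (by norm_num) (h5 z5 hz5).2.1) hne.symm (hx.adj a10 ha10) (hx.na a10 ha10 a5 ha5 hne.symm) hK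
  have q5 : NN (v ^ f') a5 = NN (p ^ f) 5 := Nat.dvd_antisymm
    (h.rev htn hS.two e5 (hA8 a5 ha5) (hA3 a5 ha5) (by decide) (by norm_num) p5) hd5
  have q10 : NN (v ^ f') a10 = NN (p ^ f) 10 := Nat.dvd_antisymm
    (h.rev htn hS.two e10 (hA8 a10 ha10) (hA3 a10 ha10) (by decide) (by norm_num) p10) hd10
  have hcop : Nat.Coprime (v ^ f') (p ^ f) := Nat.Coprime.pow _ _ ((Nat.coprime_primes h.ef.vp h.ls.prime).2 h.vp)
  have hu := hS.two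
  have hq2 : p ^ f % 2 = 1 := by
    have := hq
    first | exact this | (rw [Nat.odd_iff] at this; exact this)
  have hb5 : NN (p ^ f) 5 ≤ (p ^ f) ^ 4 + (p ^ f) ^ 3 + (p ^ f) ^ 2 + p ^ f + 1 := by
    rcases R6.n5 (u := p ^ f) (by omega) with h1 | ⟨-, h1⟩ <;> omega
  have hb10 : NN (p ^ f) 10 ≤ (p ^ f) ^ 4 + (p ^ f) ^ 3 + (p ^ f) ^ 2 + p ^ f + 1 := by
    rcases R6.n10 (u := p ^ f) (by omega) with h1 | ⟨-, h1⟩ <;> omega
  have hb8 : NN (v ^ f') 8 ≤ (v ^ f') ^ 4 + 1 := by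
    rcases R6.n8 hu with h1 | h1 <;> omega
  have hb12 : NN (v ^ f') 12 ≤ (v ^ f') ^ 4 + 1 := by
    have := R6.n12 hu
    omega
  have h99 := hx.A9
  rcases hor a5 ha5 with h1 | h1 | h1 | h1 <;> rcases hor a10 ha10 with h2 | h2 | h2 | h2 <;> subst h1 <;> subst h2 <;>
    first
    | exact absurd rfl hne
    | exact h99 ha5 ha10
    | exact h99 ha10 ha5
    | exact R6.eq_a hu hq3 hq2 hcop q5 q10
    | exact R6.eq_b hu hq3 hq2 q5 q10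
    | exact R6.exo_a hu hq3 hq2 (Or.inl rfl) (q5.le.trans hb5) (q10.symm.le.trans (by assumption))
    | exact R6.exo_a hu hq3 hq2 (Or.inr rfl) (q5.le.trans hb5) (q10.symm.le.trans (by assumption))
    | exact R6.exo_b hu hq3 (Or.inl rfl) (q10.le.trans hb10) (q5.symm.le.trans (by assumption))
    | exact R6.exo_b hu hq3 (Or.inr rfl) (q10.le.trans hb10) (q5.symm.le.trans (by assumption))

end

end Cfsg.Agent.R2.Spec.EE
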