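import Cfsg.Agent.R2.Spec.EE.SmR6D

/-!
# EE, `PSp₁₂(q)`, `Ω₁₃(q)`, `S = E₆, ²E₆, F₄`: an irregular prime divides `|K|` (helper12)
-/

set_option autoImplicit false
set_option linter.unusedSectionVars false
set_option linter.unusedVariables false

namespace Cfsg.Agent.R2.Spec.EE

open Subgroup Cfsg
open Cfsg.Agent.H426.LieFam Cfsg.Agent.R2.Spec Cfsg.Agent.R2.Spec.P1 Cfsg.Agent.R2.Spec.F1
open Cfsg.Agent.H420.QR Cfsg.Agent.H365.Zsig

universe u w

theorem cb6_top {t : Fam} (ht : CB6 t) : top t 12 := by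
  rcases ht with rfl | rfl <;> exact Or.inl rfl

theorem cb6_ttor {t : Fam} (ht : CB6 t) {q : ℕ} (hq : q % 2 = 1) : ttor t q 12 ∣ q ^ 6 + 1 := by
  have h1 : Nat.gcd 2 (q - 1) ∣ q ^ 6 + 1 := by
    refine (Nat.gcd_dvd_left _ _).trans ?_
    rw [Nat.dvd_iff_mod_eq_zero, Nat.add_mod, Nat.pow_mod, hq]
  have h2 : (q ^ 6 + 1) / Nat.gcd 2 (q - 1) ∣ q ^ 6 + 1 := Nat.div_dvd_of_dvd h1
  rcases ht with rfl | rfl
  · exact h2
  · exact h2

theorem ord_412 {q y : ℕ} (hy : y.Prime) (h3 : 3 ≤ y) (hd : y ∣ q ^ 6 + 1) :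
    orderOf ((q : ℕ) : ZMod y) = 4 ∨ orderOf ((q : ℕ) : ZMod y) = 12 := by
  have := Fact.mk hy
  have h1 : ((q : ℕ) : ZMod y) ^ 6 = -1 := by
    have h2 := (ZMod.natCast_eq_zero_iff (q ^ 6 + 1) y).2 hd
    push_cast at h2
    exact eq_neg_of_add_eq_zero_left h2
  have h2 : ((q : ℕ) : ZMod y) ^ 12 = 1 := by
    rw [show 12 = 6 * 2 by norm_num, pow_mul, h1]
    ring
  have hne : (-1 : ZMod y) ≠ 1 := by
    have := Fact.mk (show 2 < y by omega)
    exact ZMod.neg_one_ne_one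
  have h3 := orderOf_dvd_of_pow_eq_one h2
  have h4 : ¬ orderOf ((q : ℕ) : ZMod y) ∣ 6 := fun h4 => hne (by rw [← h1, orderOf_dvd_iff_pow_eq_one.1 h4])
  have h5 := Nat.le_of_dvd (by norm_num) h3
  generalize orderOf ((q : ℕ) : ZMod y) = o at *
  interval_cases o <;> first | omega | (exfalso; revert h3 h4; decide) | simp

section

variable {t : Fam} {p f : ℕ} {L : Type w} [Group L] [Finite L] {G : Type u} [Group G] [Finite G]
  {K : Subgroup G} [K.Normal] {S : Subgroup (G ⧸ K)} [S.Normal] {t' : Fam} {v f' : ℕ} {T : Tab} {cl : List ℕ}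
  {TL : List (List ℕ)} {B A : List ℕ}

/-- a prime adjacent to the class 12 -/
theorem EX.adj12 {k : ℕ → ℕ} (h : EX t p f L G K S t' v f' T k) (ht : CB6 t) {y z : ℕ} (hz : In t (p ^ f) 12 z)
    (hy : y.Prime) (h3 : 3 ≤ y) (hg : ∃ g : G, orderOf g = y * z) :
    orderOf ((p ^ f : ℕ) : ZMod y) = 4 ∨ orderOf ((p ^ f : ℕ) : ZMod y) = 12 := by
  obtain ⟨hq, hq3⟩ := h.q_odd
  have hq2 : p ^ f % 2 = 1 := by
    have := hq
    first | exact this | (rw [Nat.odd_iff] at this; exact this)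
  have h1 := h.top_ub hz (cb6_top ht) hg (dvd_mul_left _ _)
  exact ord_412 hy h3 ((dvd_mul_right _ _).trans (h1.trans (cb6_ttor ht hq2)))

/-- the data of `E₆`, `²E₆` -/
structure XI (T : Tab) (cl A A12 : List ℕ) (c9 : ℕ) : Prop where
  c : c9 = 9 ∨ c9 = 18
  mv : ∀ a ∈ A12, a ≠ c9 → a ≠ 12 → T.mv.testBit (cl.idxOf a) = true
  mv5 : ∀ a ∈ A, a ≠ c9 → a ≠ 12 → T.mv.testBit (cl.idxOf a) = true
  mem9 : c9 ∈ A
  mem12 : 12 ∈ A
  only : ∀ a ∈ A, a = 8 ∨ a = 12 ∨ a = c9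

theorem xi_e6 : XI tabE6 clE6 [8, 9, 12] [3, 4, 5, 6, 8, 9, 12] 9 := by
  constructor <;> decide

theorem xi_te6 : XI tabTE6 clTE6 [8, 12, 18] [3, 4, 6, 8, 10, 12, 18] 18 := by
  constructor <;> decide

/-- **Case I**: an irregular prime divides `|K|`. -/
theorem EX.case1 (h : EX t p f L G K S t' v f' T (kcl cl (v ^ f'))) (ht : CB6 t) (hS : KS ↥S v (v ^ f') TL B)
    {A12 : List ℕ} {c9 : ℕ}
    (hx : XC T cl TL B A) (hi : XI T cl A A12 c9) (h5 : VA t (p ^ f) 5 v (v ^ f') (Nat.card ↥K) A)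
    (h10 : VA t (p ^ f) 10 v (v ^ f') (Nat.card ↥K) A)
    (h12 : VA t (p ^ f) 12 v (v ^ f') (Nat.card ↥K) A12)
    (h4 : ∀ y, Gd t (p ^ f) (Nat.card ↥K) S.index 4 y → y ≠ v → ¬ y ∣ Nat.card ↥K →
      orderOf ((v ^ f' : ℕ) : ZMod y) ∈ A → False)
    {r : ℕ} (hr : r.Prime) (hr5 : 5 ≤ r) (hrv : r ≠ v) (hrK : r ∣ Nat.card ↥K)
    (hro : orderOf ((p ^ f : ℕ) : ZMod r) < 3) : False := by
  have htl := cb6_mem ht
  have htn := tn6 htl
  have hrk := rk6 htl
  obtain ⟨hq, hq3⟩ := h.q_odd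
  have hu := hS.two
  have hvu : v ∣ v ^ f' := dvd_pow_self v (by have := h.frm.fpos; omega)
  have hA3 : ∀ a ∈ A, 3 ≤ a := fun a ha => by
    have := hx.A8 a ha
    simp only [List.mem_cons, List.not_mem_nil, or_false] at this
    omega
  have hA8 : ∀ a ∈ A, a ∈ clE8 := fun a ha => by
    have := hx.A8 a ha
    simp only [List.mem_cons, List.not_mem_nil, or_false] at this
    rcases this with rfl | rfl | rfl | rfl <;> decide
  have hor : ∀ a ∈ A, a = 8 ∨ a = 9 ∨ a = 12 ∨ a = 18 := fun a ha => by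
    have := hx.A8 a ha
    simpa only [List.mem_cons, List.not_mem_nil, or_false] using this
  obtain ⟨a5, ha5, hd5, ho5⟩ := h.fw htl hS (by norm_num) (by norm_num) (cb6_m ht (by decide)) hx.tl hA3 h5
  obtain ⟨a10, ha10, hd10, ho10⟩ := h.fw htl hS (by norm_num) (by norm_num) (cb6_m ht (by decide)) hx.tl hA3 h10
  obtain ⟨z5, hz5⟩ := h.exists_in (i := 5) (by norm_num) (cb6_m ht (by decide))
  obtain ⟨z10, hz10⟩ := h.exists_in (i := 10) (by norm_num) (cb6_m ht (by decide))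
  obtain ⟨z12, hz12⟩ := h.exists_in (i := 12) (by norm_num) (cb6_m ht (by decide))
  have s5 := h.sp_va htl (by norm_num) h5 hz5
  rw [ho5 z5 hz5] at s5
  have s10 := h.sp_va htl (by norm_num) h10 hz10
  rw [ho10 z10 hz10] at s10
  have hne : a5 ≠ a10 := h.ne_val hz5 hz10 (cb6_na ht (by norm_num) (by norm_num) (by decide)) s5 s10 (hx.adj a5 ha5)
  -- the values of the class 12
  have hn12 : ∀ z, In t (p ^ f) 12 z → orderOf ((v ^ f' : ℕ) : ZMod z) = c9 ∨ orderOf ((v ^ f' : ℕ) : ZMod z) = 12 := by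
    intro z hz
    by_contra hcon
    rw [not_or] at hcon
    have s := h.sp_va htl (by norm_num) h12 hz
    have hzr : z ≠ r := fun h1 => by
      have h2 := ord_of_in htn hz
      rw [h1] at h2
      omega
    have h6 := h.kadS s hr hrK hrv hzr (hi.mv _ (h12 z hz).2.2 hcon.1 hcon.2)
    rcases h.adj12 ht hz hr (by omega) h6 with h7 | h7 <;> omega
  have hv12 : VA t (p ^ f) 12 v (v ^ f') (Nat.card ↥K) A := fun y hy => by
    refine ⟨(h12 y hy).1, (h12 y hy).2.1, ?_⟩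
    rcases hn12 y hy with h1 | h1
    · rw [h1]; exact hi.mem9
    · rw [h1]; exact hi.mem12
  obtain ⟨a12, ha12, hd12, ho12⟩ := h.fw htl hS (by norm_num) (by norm_num) (cb6_m ht (by decide)) hx.tl hA3 hv12
  have s12 := h.sp_va htl (by norm_num) hv12 hz12
  rw [ho12 z12 hz12] at s12
  have hc12 : a12 = c9 ∨ a12 = 12 := by
    have := hn12 z12 hz12
    rwa [ho12 z12 hz12] at this
  have hne5 : a5 ≠ a12 := h.ne_val hz5 hz12 (cb6_na ht (by norm_num) (by norm_num) (by decide)) s5 s12 (hx.adj a5 ha5)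
  have hne10 : a10 ≠ a12 := h.ne_val hz10 hz12 (cb6_na ht (by norm_num) (by norm_num) (by decide)) s10 s12
    (hx.adj a10 ha10)
  -- the class 4
  have hK4 : ∀ y, In t (p ^ f) 4 y → y ≠ v → ¬ y ∣ Nat.card ↥K := by
    intro y hy hyv hyK
    have key : ∀ i z a, In t (p ^ f) i z → na t 4 i → SP ↥S v (v ^ f') a z → a ∈ A → ¬ (a ≠ c9 ∧ a ≠ 12) := by
      intro i z a hz hna s ha hcon
      have hzy : z ≠ y := hz.ne hy (na_ne hna).symm
      have h6 := h.kadS s hy.prime hyK hyv hzy (hi.mv5 _ ha hcon.1 hcon.2)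
      exact (h.ls.adj_iff hy hz hzy.symm).1 h6 hna
    have k5 := key 5 z5 a5 hz5 (cb6_na ht (by norm_num) (by norm_num) (by decide)) s5 ha5
    have k10 := key 10 z10 a10 hz10 (cb6_na ht (by norm_num) (by norm_num) (by decide)) s10 ha10
    rcases hc12 with h1 | h1 <;> omega
  -- the primes of the number of the class of 12
  have e12 : ∃ s : S, orderOf s = NN (v ^ f') a12 := hS.elt a12 (hx.B a12 ha12)
  have hall : ∀ y : ℕ, y.Prime → y ∣ NN (v ^ f') a12 → orderOf ((p ^ f : ℕ) : ZMod y) = 12 ∧ 2 * rk t < y := by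
    intro y hy hd
    have sy := sp_of_NN hu hvu e12 (hA8 a12 ha12) (hA3 a12 ha12) hy hd
    have hy12 : 12 < y := big12r hy (hor a12 ha12) sy.ord
    refine ⟨?_, by rw [hrk]; omega⟩
    by_cases hyz : y = z12
    · rw [hyz]
      exact ord_of_in htn hz12
    · rcases h.adj12 ht hz12 hy (by omega) (exists_of_S (h.adjS sy s12 hyz (hx.adj a12 ha12))) with h7 | h7
      · exfalso
        obtain ⟨e, he, hde, hef⟩ := exists_expI hu (by have := h.frm.fpos; omega) (hA8 a12 ha12) (hA3 a12 ha12) hy sy.ord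
        have hin := h.in_of htn hy (by omega) (sp_cardG sy) (by omega)
        rw [h7] at hin
        have hyK := hK4 y hin sy.ne
        have hgd := h.gd_of_pow htn hy (by omega) he (order_dvd (exists_of_S e12) hde) (by rw [hrk]; omega) hef
          (by omega)
        rw [h7] at hgd
        exact h4 y hgd sy.ne hyK (by rw [sy.ord]; exact ha12)
      · exact h7
  have q12 : NN (v ^ f') a12 = NN (p ^ f) 12 := Nat.dvd_antisymm
    (h.rev htn hu e12 (hA8 a12 ha12) (hA3 a12 ha12) (by decide) (by norm_num) hall) hd12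
  rcases hc12 with h1 | h1
  · -- the exotic class
    subst h1
    have hb : NN (p ^ f) 12 ≤ (p ^ f) ^ 4 + (p ^ f) ^ 3 + (p ^ f) ^ 2 + p ^ f + 1 := by
      have := R6.n12 (u := p ^ f) (by omega)
      omega
    have h2 : NN (p ^ f) 5 ≤ (v ^ f') ^ 4 + 1 := by
      have h3 : NN (v ^ f') a5 ≤ (v ^ f') ^ 4 + 1 := by
        rcases hi.only a5 ha5 with h6 | h6 | h6
        · rw [h6]
          rcases R6.n8 hu with h1 | h1 <;> omega
        · rw [h6]
          have := R6.n12 hu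
          omega
        · exact absurd h6 hne5
      exact (Nat.le_of_dvd (Nat.pos_of_ne_zero (NN_ne hu (hA8 a5 ha5) (hA3 a5 ha5))) hd5).trans h3
    exact R6.exo_b hu hq3 hi.c (q12.le.trans hb) h2
  · subst h1
    have h1 := R6.eq_c hu hq3 q12
    have h2 : v ∣ p ^ f := by rw [← h1]; exact hvu
    exact h.vp ((Nat.prime_dvd_prime_iff_eq h.ef.vp h.ls.prime).1 (h.ef.vp.dvd_of_dvd_pow h2))

end

end Cfsg.Agent.R2.Spec.EE
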