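import Cfsg.Agent.R2.Spec.EE.SmR6E

/-!
# EE, `PSp₁₂(q)`, `Ω₁₃(q)` : `S ≠ E₆(u), ²E₆(u), F₄(u)` (helper12)
-/

set_option autoImplicit false
set_option linter.unusedSectionVars false
set_option linter.unusedVariables false

namespace Cfsg.Agent.R2.Spec.EE

open Subgroup Cfsg
open Cfsg.Agent.H426.LieFam Cfsg.Agent.R2.Spec Cfsg.Agent.R2.Spec.P1 Cfsg.Agent.R2.Spec.F1
open Cfsg.Agent.H420.QR Cfsg.Agent.H365.Zsig

universe u w

section

variable {t : Fam} {p f : ℕ} {L : Type w} [Group L] [Finite L] {G : Type u} [Group G] [Finite G]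
  {K : Subgroup G} [K.Normal] {S : Subgroup (G ⧸ K)} [S.Normal] {v f' : ℕ}

theorem EX.cb6_e6 (h : EX t p f L G K S .e6 v f' tabE6 (kcl clE6 (v ^ f'))) (ht : CB6 t) : False := by
  have htl := cb6_mem ht
  have hgd := h.gd_e6 (Or.inl (by rw [rk6 htl]; norm_num))
  have hS : KS ↥S v (v ^ f') TL6 [3, 4, 5, 6, 8, 9, 12] := ks_e6 h.ef.vp h.frm.is
  have h5 : VA t (p ^ f) 5 v (v ^ f') (Nat.card ↥K) [8, 9, 12] := by
    rcases ht with rfl | rfl
    · exact h.va htl hgd (by norm_num) _ r6e_psp_5 rfl (by decide) (by decide)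
    · exact h.va htl hgd (by norm_num) _ r6e_oodd_5 rfl (by decide) (by decide)
  have h10 : VA t (p ^ f) 10 v (v ^ f') (Nat.card ↥K) [8, 9, 12] := by
    rcases ht with rfl | rfl
    · exact h.va htl hgd (by norm_num) _ r6e_psp_10 rfl (by decide) (by decide)
    · exact h.va htl hgd (by norm_num) _ r6e_oodd_10 rfl (by decide) (by decide)
  have h12 : VA t (p ^ f) 12 v (v ^ f') (Nat.card ↥K) [3, 4, 5, 6, 8, 9, 12] := by
    rcases ht with rfl | rfl
    · exact h.va htl hgd (by norm_num) _ r6e_psp_12 rfl (by decide) (by decide)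
    · exact h.va htl hgd (by norm_num) _ r6e_oodd_12 rfl (by decide) (by decide)
  have h4 : ∀ y, Gd t (p ^ f) (Nat.card ↥K) S.index 4 y → y ≠ v → ¬ y ∣ Nat.card ↥K →
      orderOf ((v ^ f' : ℕ) : ZMod y) ∈ [8, 9, 12] → False := by
    intro y hy hyv hyK hm
    have key : orderOf ((v ^ f' : ℕ) : ZMod y) ∈ [1, 2] := by
      rcases ht with rfl | rfl
      · exact h.valB hgd [1, 2] r6e_psp_4 rfl (by decide) hy hyv hyK rfl (xc_e6.Acl _ hm)
      · exact h.valB hgd [1, 2] r6e_oodd_4 rfl (by decide) hy hyv hyK rfl (xc_e6.Acl _ hm)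
    simp only [List.mem_cons, List.not_mem_nil, or_false] at key hm
    omega
  refine h.case2 ht hS xc_e6 h5 h10 fun r hr hr5 hrv hrK => ?_
  by_contra hcon
  exact h.case1 ht hS xc_e6 xi_e6 h5 h10 h12 h4 hr hr5 hrv hrK (not_le.1 hcon)

theorem EX.cb6_te6 (h : EX t p f L G K S .te6 v f' tabTE6 (kcl clTE6 (v ^ f'))) (ht : CB6 t) : False := by
  have htl := cb6_mem ht
  have hgd := h.gd_te6 (Or.inl (by rw [rk6 htl]; norm_num))
  have hS : KS ↥S v (v ^ f') TLT6 [3, 4, 6, 8, 10, 12, 18] := ks_te6 h.ef.vp h.frm.is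
  have h5 : VA t (p ^ f) 5 v (v ^ f') (Nat.card ↥K) [8, 12, 18] := by
    rcases ht with rfl | rfl
    · exact h.va htl hgd (by norm_num) _ r6te_psp_5 rfl (by decide) (by decide)
    · exact h.va htl hgd (by norm_num) _ r6te_oodd_5 rfl (by decide) (by decide)
  have h10 : VA t (p ^ f) 10 v (v ^ f') (Nat.card ↥K) [8, 12, 18] := by
    rcases ht with rfl | rfl
    · exact h.va htl hgd (by norm_num) _ r6te_psp_10 rfl (by decide) (by decide)
    · exact h.va htl hgd (by norm_num) _ r6te_oodd_10 rfl (by decide) (by decide)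
  have h12 : VA t (p ^ f) 12 v (v ^ f') (Nat.card ↥K) [3, 4, 6, 8, 10, 12, 18] := by
    rcases ht with rfl | rfl
    · exact h.va htl hgd (by norm_num) _ r6te_psp_12 rfl (by decide) (by decide)
    · exact h.va htl hgd (by norm_num) _ r6te_oodd_12 rfl (by decide) (by decide)
  have h4 : ∀ y, Gd t (p ^ f) (Nat.card ↥K) S.index 4 y → y ≠ v → ¬ y ∣ Nat.card ↥K →
      orderOf ((v ^ f' : ℕ) : ZMod y) ∈ [8, 12, 18] → False := by
    intro y hy hyv hyK hm
    have key : orderOf ((v ^ f' : ℕ) : ZMod y) ∈ [1, 2] := by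
      rcases ht with rfl | rfl
      · exact h.valB hgd [1, 2] r6te_psp_4 rfl (by decide) hy hyv hyK rfl (xc_te6.Acl _ hm)
      · exact h.valB hgd [1, 2] r6te_oodd_4 rfl (by decide) hy hyv hyK rfl (xc_te6.Acl _ hm)
    simp only [List.mem_cons, List.not_mem_nil, or_false] at key hm
    omega
  refine h.case2 ht hS xc_te6 h5 h10 fun r hr hr5 hrv hrK => ?_
  by_contra hcon
  exact h.case1 ht hS xc_te6 xi_te6 h5 h10 h12 h4 hr hr5 hrv hrK (not_le.1 hcon)

theorem EX.cb6_f4 (h : EX t p f L G K S .f4 v f' tabF4 (kcl clF4 (v ^ f'))) (ht : CB6 t) : False := by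
  have htl := cb6_mem ht
  have hgd := h.gd_f4 (Or.inl (by rw [rk6 htl]; norm_num))
  have hS : KS ↥S v (v ^ f') TLF4 [3, 4, 6, 8, 12] := ks_f4 h.ef.vp h.frm.is
  have h5 : VA t (p ^ f) 5 v (v ^ f') (Nat.card ↥K) [8, 12] := by
    rcases ht with rfl | rfl
    · exact h.va htl hgd (by norm_num) _ r6f_psp_5 rfl (by decide) (by decide)
    · exact h.va htl hgd (by norm_num) _ r6f_oodd_5 rfl (by decide) (by decide)
  have h10 : VA t (p ^ f) 10 v (v ^ f') (Nat.card ↥K) [8, 12] := by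
    rcases ht with rfl | rfl
    · exact h.va htl hgd (by norm_num) _ r6f_psp_10 rfl (by decide) (by decide)
    · exact h.va htl hgd (by norm_num) _ r6f_oodd_10 rfl (by decide) (by decide)
  have h12 : VA t (p ^ f) 12 v (v ^ f') (Nat.card ↥K) [3, 4, 6] := by
    rcases ht with rfl | rfl
    · exact h.va htl hgd (by norm_num) _ r6f_psp_12 rfl (by decide) (by decide)
    · exact h.va htl hgd (by norm_num) _ r6f_oodd_12 rfl (by decide) (by decide)
  refine h.case2 ht hS xc_f4 h5 h10 fun r hr hr5 hrv hrK => ?_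
  by_contra hcon
  -- the values of the class 12 are moved
  obtain ⟨z, hz⟩ := h.exists_in (i := 12) (by norm_num) (cb6_m ht (by decide))
  have s := h.sp_va htl (by norm_num) h12 hz
  have hzr : z ≠ r := fun h1 => by
    have h2 := ord_of_in (tn6 htl) hz
    rw [h1] at h2
    omega
  have hbit : ∀ a ∈ [3, 4, 6], tabF4.mv.testBit (clF4.idxOf a) = true := by decide
  have h6 := h.kadS s hr hrK hrv hzr (hbit _ (h12 z hz).2.2)
  rcases h.adj12 ht hz hr (by omega) h6 with h7 | h7 <;> omega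

end

end Cfsg.Agent.R2.Spec.EE
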