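import Cfsg.Agent.R2.Spec.EE.SmR6F

/-!
# EE, `PΩ₁₂⁺(q)`: numbers (helper12)
-/

set_option autoImplicit false
set_option linter.unusedSectionVars false
set_option linter.unusedVariables false
set_option maxHeartbeats 1000000
set_option maxRecDepth 100000

namespace Cfsg.Agent.R2.Spec.EE

open Cfsg Cfsg.Lie Cfsg.Agent.H426.LieFam Cfsg.Agent.R2.Spec Cfsg.Agent.R2.Spec.P1 Cfsg.Agent.R2.Spec.F1
open Cfsg.Agent.H365.Zsig NumPoly

theorem nb_oplus6 : Nb (.oplus 6) := by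
  intro d hd hm
  have h : d = 12 := by
    revert hd hm
    revert d
    decide
  subst h
  refine ⟨by norm_num, fun y hy h5 hd => ?_⟩
  have h1 := Nat.le_of_dvd (by norm_num) hd
  interval_cases y <;> first | omega | (revert hy; norm_num)

theorem RM_oplus6 {q : ℕ} (hq : 3 ≤ q) : RM (.oplus 6) q ≤ 2 * q ^ 20 := by
  have h : cycm (.oplus 6) = [1, 2, 3, 4, 5, 6, 8, 10] := by decide
  unfold RM
  rw [h]
  exact bound_pos (by decide) (by decide +kernel) hq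

namespace R6

variable {u q : ℕ}

/-- the test -/
def tst (u q : ℕ) : Bool :=
  [5, 8, 9, 10, 12, 18].all fun a => [5, 8, 9, 10, 12, 18].all fun b =>
    Nat.beq a b || !(Nat.beq (((q ^ 5 - 1) / 2) % NN u a) 0) || !(Nat.beq (((q ^ 5 + 1) / 2) % NN u b) 0)

def tsts : Bool := (List.range 21).all fun u => (List.range (2 * u + 2)).all fun q =>
  Nat.ble u 1 || Nat.ble q 2 || Nat.beq (q % 2) 0 || Nat.beq u q || tst u q

theorem tsts_true : tsts = true := by decide +kernel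

theorem box_d6 (hu : 2 ≤ u) (hu2 : u < 21) (hq : 3 ≤ q) (hq2 : q < 2 * u + 2) (ho : q % 2 = 1) (hne : u ≠ q)
    {a b : ℕ} (ha : a ∈ [5, 8, 9, 10, 12, 18]) (hb : b ∈ [5, 8, 9, 10, 12, 18]) (hab : a ≠ b)
    (h1 : NN u a ∣ (q ^ 5 - 1) / 2) (h2 : NN u b ∣ (q ^ 5 + 1) / 2) : False := by
  have h := tsts_true
  rw [tsts, List.all_eq_true] at h
  have h3 := h u (List.mem_range.2 hu2)
  rw [List.all_eq_true] at h3
  have h4 := h3 q (List.mem_range.2 hq2)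
  simp only [Bool.or_eq_true, Nat.ble_eq, Nat.beq_eq] at h4
  rcases h4 with (((h4 | h4) | h4) | h4) | h4
  · omega
  · omega
  · omega
  · exact hne h4
  · rw [tst, List.all_eq_true] at h4
    have h5 := h4 a ha
    rw [List.all_eq_true] at h5
    have h6 := h5 b hb
    simp only [Bool.or_eq_true, Bool.not_eq_true', Nat.beq_eq] at h6
    rcases h6 with (h6 | h6) | h6
    · exact hab h6
    · rw [Nat.mod_eq_zero_of_dvd h1] at h6
      exact Bool.noConfusion h6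
    · rw [Nat.mod_eq_zero_of_dvd h2] at h6
      exact Bool.noConfusion h6

/-- `Z₅(u)` bounds the numbers of degree 4 -/
theorem le_z5 (hu : 2 ≤ u) {a : ℕ} (ha : a ∈ [5, 8, 10, 12]) : NN u a ≤ u ^ 4 + u ^ 3 + u ^ 2 + u + 1 := by
  simp only [List.mem_cons, List.not_mem_nil, or_false] at ha
  rcases ha with rfl | rfl | rfl | rfl
  · rcases n5 hu with h | ⟨-, h⟩ <;> omega
  · rcases n8 hu with h | h <;> omega
  · rcases n10 hu with h | ⟨-, h⟩ <;> omega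
  · have := n12 hu
    omega

/-- `Φ₁₀(q) ≤ Z₅(u)` : `q ≤ u` -/
theorem q_le_u (hq : 3 ≤ q) (h : q ^ 4 + q ^ 2 + 1 ≤ u ^ 4 + u ^ 3 + u ^ 2 + u + 1 + (q ^ 3 + q)) (hu : 2 ≤ u) : q ≤ u := by
  by_contra hcon
  have h1 := mono10 (q := q) (a := u + 1) (by omega) (by omega)
  have h2 : u ^ 4 + u ^ 3 + u ^ 2 + u + 1 + ((u + 1) ^ 3 + (u + 1)) < (u + 1) ^ 4 + (u + 1) ^ 2 + 1 := by
    nlinarith [Nat.zero_le (u ^ 3), Nat.zero_le (u ^ 2)]
  omega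

/-- `Φ₁₀(q) ≤ 5 Z₅(u)` : `q ≤ 2 u + 1` -/
theorem q_le_2u (hq : 3 ≤ q) (h : q ^ 4 + q ^ 2 + 1 ≤ 5 * (u ^ 4 + u ^ 3 + u ^ 2 + u + 1) + (q ^ 3 + q)) : q < 2 * u + 2 := by
  by_contra hcon
  have h1 := mono10 (q := q) (a := 2 * u + 2) (by omega) (by omega)
  have h2 : 5 * (u ^ 4 + u ^ 3 + u ^ 2 + u + 1) + ((2 * u + 2) ^ 3 + (2 * u + 2)) < (2 * u + 2) ^ 4 + (2 * u + 2) ^ 2 + 1 := by
    nlinarith [Nat.zero_le (u ^ 4), Nat.zero_le (u ^ 3), Nat.zero_le (u ^ 2)]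
  omega

/-- `Φ₁₀(q) ≤ 5 Z₅(u)` : `3 q ≤ 5 u` for large `u` -/
theorem q_le_5u (hq : 3 ≤ q) (hu : 20 ≤ u) (h : q ^ 4 + q ^ 2 + 1 ≤ 5 * (u ^ 4 + u ^ 3 + u ^ 2 + u + 1) + (q ^ 3 + q)) :
    3 * q ≤ 5 * u := by
  by_contra hcon
  obtain ⟨P, hP⟩ : ∃ P, P = 3 * q := ⟨_, rfl⟩
  have h1 : 81 * (q ^ 4 + q ^ 2 + 1) = P ^ 4 + 9 * P ^ 2 + 81 := by rw [hP]; ring
  have h2 : 81 * (q ^ 3 + q) = 3 * P ^ 3 + 27 * P := by rw [hP]; ring
  have hPu : 5 * u ≤ P := by omega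
  have hP3 : P ≤ P ^ 3 := Nat.le_self_pow (by norm_num) _
  have h5 : 100 * P ^ 3 ≤ P ^ 4 := by
    calc 100 * P ^ 3 ≤ P * P ^ 3 := Nat.mul_le_mul_right _ (by omega)
      _ = P ^ 4 := by ring
  have h6 : 625 * u ^ 4 ≤ P ^ 4 := by
    calc 625 * u ^ 4 = (5 * u) ^ 4 := by ring
      _ ≤ P ^ 4 := Nat.pow_le_pow_left hPu 4
  have h7 : 20 * u ^ 3 ≤ u ^ 4 := by
    calc 20 * u ^ 3 ≤ u * u ^ 3 := Nat.mul_le_mul_right _ hu
      _ = u ^ 4 := by ring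
  have h8 : 20 * u ^ 2 ≤ u ^ 3 := by
    calc 20 * u ^ 2 ≤ u * u ^ 2 := Nat.mul_le_mul_right _ hu
      _ = u ^ 3 := by ring
  have h9 : 20 * u ≤ u ^ 2 := by
    calc 20 * u ≤ u * u := Nat.mul_le_mul_right _ hu
      _ = u ^ 2 := by ring
  omega

/-- the exotic class, `u` large -/
theorem exo_d6 (hq : 3 ≤ q) {c : ℕ} (hc : c = 9 ∨ c = 18)
    (h1 : 2 * NN u c ≤ q ^ 5 + 1) (h : q ^ 4 + q ^ 2 + 1 ≤ 5 * (u ^ 4 + u ^ 3 + u ^ 2 + u + 1) + (q ^ 3 + q)) : u < 20 := by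
  by_contra hcon
  have hu : 20 ≤ u := by omega
  have h2 := q_le_5u hq hu h
  have h3 := n_c9 (u := u) (by omega) hc
  have h4 : 243 * q ^ 5 ≤ 3125 * u ^ 5 := by
    calc 243 * q ^ 5 = (3 * q) ^ 5 := by ring
      _ ≤ (5 * u) ^ 5 := Nat.pow_le_pow_left h2 5
      _ = 3125 * u ^ 5 := by ring
  have h7 : 20 * u ^ 5 ≤ u ^ 6 := by
    calc 20 * u ^ 5 ≤ u * u ^ 5 := Nat.mul_le_mul_right _ hu
      _ = u ^ 6 := by ring
  have h8 : 400 * u ^ 3 ≤ u ^ 5 := by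
    calc 400 * u ^ 3 = 20 * 20 * u ^ 3 := by ring
      _ ≤ u * u * u ^ 3 := Nat.mul_le_mul_right _ (Nat.mul_le_mul hu hu)
      _ = u ^ 5 := by ring
  have h9 : 1 ≤ u ^ 3 := Nat.one_le_pow _ _ (by omega)
  omega

theorem num_d6 (hu : 2 ≤ u) (hq : 3 ≤ q) (ho : q % 2 = 1) (hne : u ≠ q) (hB : u ^ 24 ≤ 8640 * q ^ 21)
    {a5 a10 : ℕ} (ha5 : a5 ∈ [5, 8, 9, 10, 12, 18]) (ha10 : a10 ∈ [5, 8, 9, 10, 12, 18]) (hab : a5 ≠ a10)
    (h99 : ¬ ((a5 = 9 ∨ a5 = 18) ∧ (a10 = 9 ∨ a10 = 18)))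
    (h1 : NN u a5 ∣ (q ^ 5 - 1) / 2) (h2 : NN u a10 ∣ (q ^ 5 + 1) / 2) (h3 : NN q 5 ∣ NN u a5)
    (h4 : NN q 10 ∣ NN u a10) : False := by
  have hA8 : ∀ a ∈ [5, 8, 9, 10, 12, 18], a ∈ clE8 ∧ 3 ≤ a := by decide
  have p5 := Nat.le_of_dvd (Nat.pos_of_ne_zero (NN_ne hu (hA8 a5 ha5).1 (hA8 a5 ha5).2)) h3
  have p10 := Nat.le_of_dvd (Nat.pos_of_ne_zero (NN_ne hu (hA8 a10 ha10).1 (hA8 a10 ha10).2)) h4
  have hq5 : 243 ≤ q ^ 5 := by
    calc 243 = 3 ^ 5 := by norm_num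
      _ ≤ q ^ 5 := Nat.pow_le_pow_left hq 5
  have r5 := Nat.le_of_dvd (by omega) h1
  have r10 := Nat.le_of_dvd (by omega) h2
  have hA := A_le hq
  have key : u < 21 ∧ q < 2 * u + 2 := by
    by_cases c5 : a5 = 9 ∨ a5 = 18
    · have c10 : a10 ∈ [5, 8, 10, 12] := by
        simp only [List.mem_cons, List.not_mem_nil, or_false] at ha10 ⊢
        omega
      have h5 := le_z5 hu c10
      have h6 : q ^ 4 + q ^ 2 + 1 ≤ 5 * (u ^ 4 + u ^ 3 + u ^ 2 + u + 1) + (q ^ 3 + q) := by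
        rcases n10 (u := q) (by omega) with h7 | ⟨-, h7⟩ <;> omega
      refine ⟨?_, q_le_2u hq h6⟩
      have h7 := exo_d6 hq c5 (by omega) h6
      omega
    · by_cases c10 : a10 = 9 ∨ a10 = 18
      · have c5' : a5 ∈ [5, 8, 10, 12] := by
          simp only [List.mem_cons, List.not_mem_nil, or_false] at ha5 ⊢
          omega
        have h5 := le_z5 hu c5'
        have h6 : q ^ 4 + q ^ 2 + 1 ≤ 5 * (u ^ 4 + u ^ 3 + u ^ 2 + u + 1) + (q ^ 3 + q) := by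
          rcases n5 (u := q) (by omega) with h7 | ⟨-, h7⟩ <;> omega
        refine ⟨?_, q_le_2u hq h6⟩
        have h7 := exo_d6 hq c10 (by omega) h6
        omega
      · have c5' : a5 ∈ [5, 8, 10, 12] := by
          simp only [List.mem_cons, List.not_mem_nil, or_false] at ha5 ⊢
          omega
        have c10' : a10 ∈ [5, 8, 10, 12] := by
          simp only [List.mem_cons, List.not_mem_nil, or_false] at ha10 ⊢
          omega
        have h5 := le_z5 hu c5'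
        have h5' := le_z5 hu c10'
        have h6 : q ^ 4 + q ^ 2 + 1 ≤ u ^ 4 + u ^ 3 + u ^ 2 + u + 1 + (q ^ 3 + q) := by
          rcases n5 (u := q) (by omega) with h7 | ⟨h8, h7⟩
          · omega
          · obtain ⟨-, h8⟩ := five5 hq h8
            rcases n10 (u := q) (by omega) with h9 | ⟨h9, -⟩
            · omega
            · obtain ⟨-, h9⟩ := five10 hq ho h9
              omega
        have h7 := q_le_u hq h6 hu
        refine ⟨?_, by omega⟩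
        by_contra hcon
        have h8 : u ^ 24 ≤ 8640 * u ^ 21 := hB.trans (Nat.mul_le_mul_left _ (Nat.pow_le_pow_left h7 21))
        have h9 : 9261 * u ^ 21 ≤ u ^ 24 := by
          calc 9261 * u ^ 21 = 21 ^ 3 * u ^ 21 := by norm_num
            _ ≤ u ^ 3 * u ^ 21 := Nat.mul_le_mul_right _ (Nat.pow_le_pow_left (by omega) 3)
            _ = u ^ 24 := by ring
        have h10 : 1 ≤ u ^ 21 := Nat.one_le_pow _ _ (by omega)
        omega
  exact box_d6 hu key.1 hq key.2 ho hne ha5 ha10 hab h1 h2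

end R6

end Cfsg.Agent.R2.Spec.EE
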