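import Cfsg.Agent.R2.Spec.EE.SmR6G

/-!
# EE, `PΩ₁₂⁺(q)` : `S ≠ E₆(u), ²E₆(u), F₄(u)` (helper12)
-/

set_option autoImplicit false
set_option linter.unusedSectionVars false
set_option linter.unusedVariables false

namespace Cfsg.Agent.R2.Spec.EE

open Subgroup Cfsg
open Cfsg.Agent.H426.LieFam Cfsg.Agent.R2.Spec Cfsg.Agent.R2.Spec.P1 Cfsg.Agent.R2.Spec.F1
open Cfsg.Agent.H420.QR Cfsg.Agent.H365.Zsig

universe u w

theorem gcd2_odd {q : ℕ} (ho : q % 2 = 1) : Nat.gcd 2 (q - 1) = 2 :=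
  Nat.gcd_eq_left (Nat.dvd_of_mod_eq_zero (by omega))

section

variable {t : Fam} {p f : ℕ} {L : Type w} [Group L] [Finite L] {G : Type u} [Group G] [Finite G]
  {K : Subgroup G} [K.Normal] {S : Subgroup (G ⧸ K)} [S.Normal] {t' : Fam} {v f' : ℕ} {T : Tab} {cl : List ℕ}
  {TL : List (List ℕ)} {B A : List ℕ}

/-- the number of the class of an isolated prime divides the torus -/
theorem EX.tdvd {k : ℕ → ℕ} (h : EX t p f L G K S t' v f' T k) {i z a u : ℕ} (hz : In t (p ^ f) i z) (ht : top t i)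
    (ha : a ∈ clE8) (h3 : 3 ≤ a) (ho : orderOf ((u : ℕ) : ZMod z) = a) (he : ∃ s : S, orderOf s = NN u a) :
    NN u a ∣ ttor t (p ^ f) i :=
  h.top_ub hz ht (exists_of_S he) (dvd_NN ha h3 hz.prime ho)

/-- the data of `E₆`, `²E₆` -/
structure XD (T : Tab) (cl : List ℕ) (TL : List (List ℕ)) (B A : List ℕ) : Prop where
  A8 : ∀ a ∈ A, a ∈ [5, 8, 9, 10, 12, 18]
  A9 : 9 ∈ A → 18 ∈ A → False
  B : ∀ a ∈ A, a ∈ B
  tl : ∀ T ∈ TL, T.Nodup ∧ (∀ c ∈ T, c ∈ clS) ∧ ∀ a ∈ T, ∀ b ∈ T, a ∈ A → b ∈ A → a = b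
  adj : ∀ a ∈ A, (T.adj.getD (cl.idxOf a) 0).testBit (cl.idxOf a) = true

theorem xd_e6 : XD tabE6 clE6 TL6 [3, 4, 5, 6, 8, 9, 12] [5, 8, 9, 12] := by
  constructor <;> decide

theorem xd_te6 : XD tabTE6 clTE6 TLT6 [3, 4, 6, 8, 10, 12, 18] [8, 10, 12, 18] := by
  constructor <;> decide

theorem xd_f4 : XD tabF4 clF4 TLF4 [3, 4, 6, 8, 12] [8, 12] := by
  constructor <;> decide

theorem na_p5_10 : na (.oplus 6) 5 10 := na_of_naB (by norm_num) (by norm_num) (by decide)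

theorem top_p5 : top (.oplus 6) 5 := Or.inr (Or.inr ⟨rfl, rfl⟩)

theorem top_p10 : top (.oplus 6) 10 := Or.inr (Or.inl rfl)

/-- the classes 5, 10 of `PΩ₁₂⁺(q)` -/
theorem EX.p6 (h : EX (.oplus 6) p f L G K S t' v f' T (kcl cl (v ^ f'))) (hS : KS ↥S v (v ^ f') TL B)
    (hx : XD T cl TL B A) (h5 : VA (.oplus 6) (p ^ f) 5 v (v ^ f') (Nat.card ↥K) A)
    (h10 : VA (.oplus 6) (p ^ f) 10 v (v ^ f') (Nat.card ↥K) A) :
    ∃ a5 ∈ A, ∃ a10 ∈ A, a5 ≠ a10 ∧ NN (v ^ f') a5 ∣ ((p ^ f) ^ 5 - 1) / 2 ∧ NN (v ^ f') a10 ∣ ((p ^ f) ^ 5 + 1) / 2 ∧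
      NN (p ^ f) 5 ∣ NN (v ^ f') a5 ∧ NN (p ^ f) 10 ∣ NN (v ^ f') a10 := by
  have htl : Fam.oplus 6 ∈ R6L := by simp [R6L]
  obtain ⟨hq, hq3⟩ := h.q_odd
  have hA3 : ∀ a ∈ A, a ∈ clE8 ∧ 3 ≤ a := fun a ha =>
    (by decide : ∀ a ∈ [5, 8, 9, 10, 12, 18], a ∈ clE8 ∧ 3 ≤ a) a (hx.A8 a ha)
  have m5 : mem (.oplus 6) 5 := Or.inl (by decide)
  have m10 : mem (.oplus 6) 10 := Or.inl (by decide)
  obtain ⟨a5, ha5, hd5, ho5⟩ := h.fw htl hS (by norm_num) (by norm_num) m5 hx.tl (fun a ha => (hA3 a ha).2) h5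
  obtain ⟨a10, ha10, hd10, ho10⟩ := h.fw htl hS (by norm_num) (by norm_num) m10 hx.tl (fun a ha => (hA3 a ha).2) h10
  obtain ⟨z5, hz5⟩ := h.exists_in (i := 5) (by norm_num) m5
  obtain ⟨z10, hz10⟩ := h.exists_in (i := 10) (by norm_num) m10
  have s5 := h.sp_va htl (by norm_num) h5 hz5
  rw [ho5 z5 hz5] at s5
  have s10 := h.sp_va htl (by norm_num) h10 hz10
  rw [ho10 z10 hz10] at s10
  have hne : a5 ≠ a10 := h.ne_val hz5 hz10 na_p5_10 s5 s10 (hx.adj a5 ha5)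
  have q2 : p ^ f % 2 = 1 := by
    have := hq
    first | exact this | (rw [Nat.odd_iff] at this; exact this)
  have t5 := h.tdvd hz5 top_p5 (hA3 a5 ha5).1 (hA3 a5 ha5).2 s5.ord (hS.elt a5 (hx.B a5 ha5))
  have t10 := h.tdvd hz10 top_p10 (hA3 a10 ha10).1 (hA3 a10 ha10).2 s10.ord (hS.elt a10 (hx.B a10 ha10))
  have e5 : ttor (.oplus 6) (p ^ f) 5 = ((p ^ f) ^ 5 - 1) / 2 := by
    show ((p ^ f) ^ 5 - 1) / Nat.gcd 2 (p ^ f - 1) = _
    rw [gcd2_odd q2]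
  have e10 : ttor (.oplus 6) (p ^ f) 10 = ((p ^ f) ^ 5 + 1) / 2 := by
    show ((p ^ f) ^ 5 + 1) / Nat.gcd 2 (p ^ f - 1) = _
    rw [gcd2_odd q2]
  rw [e5] at t5
  rw [e10] at t10
  exact ⟨a5, ha5, a10, ha10, hne, t5, t10, hd5, hd10⟩

theorem EX.p6_E (h : EX (.oplus 6) p f L G K S t' v f' T (kcl cl (v ^ f'))) (hS : KS ↥S v (v ^ f') TL B)
    (hx : XD T cl TL B A) (h5 : VA (.oplus 6) (p ^ f) 5 v (v ^ f') (Nat.card ↥K) A)
    (h10 : VA (.oplus 6) (p ^ f) 10 v (v ^ f') (Nat.card ↥K) A)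
    (hB : (v ^ f') ^ 24 ≤ 360 * (2 * rk (.oplus 6) * p ^ f * RM (.oplus 6) (p ^ f))) : False := by
  obtain ⟨hq, hq3⟩ := h.q_odd
  obtain ⟨a5, ha5, a10, ha10, hne, t5, t10, hd5, hd10⟩ := h.p6 hS hx h5 h10
  have q2 : p ^ f % 2 = 1 := by
    have := hq
    first | exact this | (rw [Nat.odd_iff] at this; exact this)
  have huq : v ^ f' ≠ p ^ f := by
    intro h1
    have h2 : v ∣ p ^ f := by rw [← h1]; exact dvd_pow_self v (by have := h.frm.fpos; omega)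
    exact h.vp ((Nat.prime_dvd_prime_iff_eq h.ef.vp h.ls.prime).1 (h.ef.vp.dvd_of_dvd_pow h2))
  have hB' : (v ^ f') ^ 24 ≤ 8640 * (p ^ f) ^ 21 := by
    calc (v ^ f') ^ 24 ≤ 360 * (2 * rk (.oplus 6) * p ^ f * RM (.oplus 6) (p ^ f)) := hB
      _ ≤ 360 * (2 * rk (.oplus 6) * p ^ f * (2 * (p ^ f) ^ 20)) := by
        exact Nat.mul_le_mul_left _ (Nat.mul_le_mul_left _ (RM_oplus6 hq3))
      _ = 8640 * (p ^ f) ^ 21 := by
        show 360 * (2 * 6 * p ^ f * (2 * (p ^ f) ^ 20)) = _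
        ring
  refine R6.num_d6 hS.two hq3 q2 huq hB' (hx.A8 a5 ha5) (hx.A8 a10 ha10) hne ?_ t5 t10 hd5 hd10
  rintro ⟨h1 | h1, h2 | h2⟩
  · exact hne (h1.trans h2.symm)
  · exact hx.A9 (h1 ▸ ha5) (h2 ▸ ha10)
  · exact hx.A9 (h2 ▸ ha10) (h1 ▸ ha5)
  · exact hne (h1.trans h2.symm)

theorem EX.p6_e6 (h : EX (.oplus 6) p f L G K S .e6 v f' tabE6 (kcl clE6 (v ^ f'))) : False := by
  have htl : Fam.oplus 6 ∈ R6L := by simp [R6L]
  have hgd := h.gd_e6 (Or.inl (by rw [rk6 htl]; norm_num))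
  refine h.p6_E (ks_e6 h.ef.vp h.frm.is) xd_e6
    (h.va htl hgd (by norm_num) _ r6e_oplus_5 rfl (by decide) (by decide))
    (h.va htl hgd (by norm_num) _ r6e_oplus_10 rfl (by decide) (by decide)) ?_
  exact (bigB6M h.ls h.is h.p2 nb_oplus6 h.frm.is).trans (Nat.mul_le_mul_right _ (by norm_num))

theorem EX.p6_te6 (h : EX (.oplus 6) p f L G K S .te6 v f' tabTE6 (kcl clTE6 (v ^ f'))) : False := by
  have htl : Fam.oplus 6 ∈ R6L := by simp [R6L]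
  have hgd := h.gd_te6 (Or.inl (by rw [rk6 htl]; norm_num))
  exact h.p6_E (ks_te6 h.ef.vp h.frm.is) xd_te6
    (h.va htl hgd (by norm_num) _ r6te_oplus_5 rfl (by decide) (by decide))
    (h.va htl hgd (by norm_num) _ r6te_oplus_10 rfl (by decide) (by decide))
    (bigBT6M h.ls h.is h.p2 nb_oplus6 h.ef.vp h.frm.is)

theorem EX.p6_f4 (h : EX (.oplus 6) p f L G K S .f4 v f' tabF4 (kcl clF4 (v ^ f'))) : False := by
  have htl : Fam.oplus 6 ∈ R6L := by simp [R6L]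
  obtain ⟨hq, hq3⟩ := h.q_odd
  have hgd := h.gd_f4 (Or.inl (by rw [rk6 htl]; norm_num))
  have hS : KS ↥S v (v ^ f') TLF4 [3, 4, 6, 8, 12] := ks_f4 h.ef.vp h.frm.is
  obtain ⟨a5, ha5, a10, ha10, hne, t5, t10, hd5, hd10⟩ := h.p6 hS xd_f4
    (h.va htl hgd (by norm_num) _ r6f_oplus_5 rfl (by decide) (by decide))
    (h.va htl hgd (by norm_num) _ r6f_oplus_10 rfl (by decide) (by decide))
  have h8 : VA (.oplus 6) (p ^ f) 8 v (v ^ f') (Nat.card ↥K) [3, 4, 6] :=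
    h.va htl hgd (by norm_num) _ r6f_oplus_8 rfl (by decide) (by decide)
  obtain ⟨c, hc, hdc, -⟩ := h.fw htl hS (i := 8) (by norm_num) (by norm_num) (Or.inl (by decide)) (by decide)
    (by decide) h8
  have q2 : p ^ f % 2 = 1 := by
    have := hq
    first | exact this | (rw [Nat.odd_iff] at this; exact this)
  have hu := hS.two
  have hu8 : (v ^ f') ^ 4 + 1 ≤ (p ^ f) ^ 5 + 1 := by
    have hq5 : 243 ≤ (p ^ f) ^ 5 := by
      calc 243 = 3 ^ 5 := by norm_num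
        _ ≤ (p ^ f) ^ 5 := Nat.pow_le_pow_left hq3 5
    have h9 : NN (v ^ f') 8 ≤ ((p ^ f) ^ 5 + 1) / 2 := by
      simp only [List.mem_cons, List.not_mem_nil, or_false] at ha5 ha10
      rcases ha5 with rfl | rfl
      · have := Nat.le_of_dvd (by omega) t5
        omega
      · rcases ha10 with rfl | rfl
        · exact Nat.le_of_dvd (by omega) t10
        · exact absurd rfl hne
    rcases R6.n8 hu with h10 | h10 <;> omega
  have hq8 : (p ^ f) ^ 4 + 1 ≤ 2 * ((v ^ f') ^ 2 + v ^ f' + 1) := by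
    have h9 := R6.n8' q2 hq3
    have hc' : c ∈ clE8 ∧ 3 ≤ c := (by decide : ∀ a ∈ [3, 4, 6], a ∈ clE8 ∧ 3 ≤ a) c hc
    have h10 : NN (v ^ f') c ≤ (v ^ f') ^ 2 + v ^ f' + 1 := by
      have h12 := Nat.le_of_dvd (ZZ_pos hu hc'.1 hc'.2) (NN_dvd (v ^ f') c)
      simp only [List.mem_cons, List.not_mem_nil, or_false] at hc
      rcases hc with rfl | rfl | rfl
      · have := ZZ_3 (u := v ^ f') hu
        omega
      · have := ZZ_4 (u := v ^ f') hu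
        omega
      · have := ZZ_6 (u := v ^ f') hu
        omega
    have h11 := Nat.le_of_dvd (Nat.pos_of_ne_zero (NN_ne hu hc'.1 hc'.2)) hdc
    omega
  -- `q ^ 8 < 16 q ^ 5`
  generalize v ^ f' = U at *
  generalize p ^ f = Q at *
  have h1 : U ^ 2 + U + 1 ≤ 2 * U ^ 2 := by nlinarith
  have h2 : (Q ^ 4 + 1) * (Q ^ 4 + 1) ≤ (4 * U ^ 2) * (4 * U ^ 2) := Nat.mul_le_mul (by omega) (by omega)
  have h3 : (4 * U ^ 2) * (4 * U ^ 2) = 16 * U ^ 4 := by ring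
  have h4 : (Q ^ 4 + 1) * (Q ^ 4 + 1) = Q ^ 8 + 2 * Q ^ 4 + 1 := by ring
  have h5 : 27 * Q ^ 5 ≤ Q ^ 8 := by
    calc 27 * Q ^ 5 = 3 ^ 3 * Q ^ 5 := by norm_num
      _ ≤ Q ^ 3 * Q ^ 5 := Nat.mul_le_mul_right _ (Nat.pow_le_pow_left hq3 3)
      _ = Q ^ 8 := by ring
  have h6 : 1 ≤ Q ^ 5 := Nat.one_le_pow _ _ (by omega)
  omega

end

end Cfsg.Agent.R2.Spec.EE
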