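import Cfsg.Agent.R2.Spec.EE.SmR6H

/-!
# EE, `PΩ₁₂⁻(q)` : `S ≠ E₆(u), ²E₆(u)` (helper12)
-/

set_option autoImplicit false
set_option linter.unusedSectionVars false
set_option linter.unusedVariables false

namespace Cfsg.Agent.R2.Spec.EE

open Subgroup Cfsg
open Cfsg.Agent.H426.LieFam Cfsg.Agent.R2.Spec Cfsg.Agent.R2.Spec.P1 Cfsg.Agent.R2.Spec.F1
open Cfsg.Agent.H420.QR Cfsg.Agent.H365.Zsig

universe u w

theorem m6_R6 : Fam.ominus 6 ∈ R6L := by simp [R6L]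

theorem gcd4_m6 {q : ℕ} (ho : q % 2 = 1) : Nat.gcd 4 (q ^ 6 + 1) = 2 := by
  have h : (q ^ 6 + 1) % 4 = 2 := by
    have h1 : q % 4 = 1 ∨ q % 4 = 3 := by omega
    rcases h1 with h1 | h1 <;> rw [Nat.add_mod, Nat.pow_mod, h1]
  rw [Nat.gcd_rec, h]
  decide

theorem ttor_m6_12 (q : ℕ) : ttor (.ominus 6) q 12 ∣ q ^ 6 + 1 := by
  show (q ^ 6 + 1) / Nat.gcd 4 (q ^ 6 + 1) ∣ q ^ 6 + 1
  exact Nat.div_dvd_of_dvd (Nat.gcd_dvd_right _ _)

theorem ttor_m6_5 {q : ℕ} (ho : q % 2 = 1) : ttor (.ominus 6) q 5 = (q ^ 5 - 1) * ((q + 1) / 2) := by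
  show (q ^ 5 - 1) * (q + 1) / Nat.gcd 4 (q ^ 6 + 1) = _
  rw [gcd4_m6 ho]
  exact Nat.mul_div_assoc _ (by omega)

theorem ttor_m6_10 {q : ℕ} (ho : q % 2 = 1) : ttor (.ominus 6) q 10 = (q ^ 5 + 1) * ((q - 1) / 2) := by
  show (q ^ 5 + 1) * (q - 1) / Nat.gcd 4 (q ^ 6 + 1) = _
  rw [gcd4_m6 ho]
  exact Nat.mul_div_assoc _ (by omega)

theorem m6_mem {i : ℕ} (h : i ∈ [3, 4, 5, 6, 8, 10, 12]) : mem (.ominus 6) i := by
  have h1 : eta i + 1 ≤ 6 ∨ i = 12 := by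
    revert h; revert i; decide
  exact h1

theorem m6_na {i j : ℕ} (hi : 3 ≤ i) (hj : 3 ≤ j) (h : naB (.ominus 6) i j = true) : na (.ominus 6) i j :=
  na_of_naB (by omega) (by omega) h

/-- the data of `E₆`, `²E₆` -/
structure XM (T : Tab) (cl : List ℕ) (TL : List (List ℕ)) (B A A12 : List ℕ) (c9 : ℕ) : Prop where
  c : c9 = 9 ∨ c9 = 18
  A8 : ∀ a ∈ A, a ∈ [5, 8, 9, 10, 12, 18]
  only : ∀ a ∈ A, a ≠ c9 → a ∈ [5, 8, 10, 12]
  B : ∀ a ∈ A, a ∈ B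
  tl : ∀ T ∈ TL, T.Nodup ∧ (∀ c ∈ T, c ∈ clS) ∧ ∀ a ∈ T, ∀ b ∈ T, a ∈ A → b ∈ A → a = b
  adj : ∀ a ∈ A, (T.adj.getD (cl.idxOf a) 0).testBit (cl.idxOf a) = true
  na : ∀ a ∈ A, ∀ b ∈ A, a ≠ b → (T.na.getD (cl.idxOf a) 0).testBit (cl.idxOf b) = true
  mv : ∀ a ∈ A12, a ≠ 12 → T.mv.testBit (cl.idxOf a) = true
  mem9 : c9 ∈ A
  mem12 : 12 ∈ A
  n9 : c9 ∉ A12
  cl9 : c9 ∈ cl
  cl12 : 12 ∈ cl

theorem xm_e6 : XM tabE6 clE6 TL6 [3, 4, 5, 6, 8, 9, 12] [5, 8, 9, 12] [3, 4, 5, 6, 12] 9 := by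
  constructor <;> decide

theorem xm_te6 : XM tabTE6 clTE6 TLT6 [3, 4, 6, 8, 10, 12, 18] [8, 10, 12, 18] [3, 4, 6, 10, 12] 18 := by
  constructor <;> decide

/-- the values -/
structure VM (q v u : ℕ) (nK idx : ℕ) (A A12 cl : List ℕ) : Prop where
  v5 : VA (.ominus 6) q 5 v u nK A
  v8 : VA (.ominus 6) q 8 v u nK A
  v10 : VA (.ominus 6) q 10 v u nK A
  v3 : VA (.ominus 6) q 3 v u nK A12
  v6 : VA (.ominus 6) q 6 v u nK A12
  v12 : VA (.ominus 6) q 12 v u nK A12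
  k4 : ∀ y, In (.ominus 6) q 4 y → y ≠ v → ¬ y ∣ nK
  v4 : ∀ y, Gd (.ominus 6) q nK idx 4 y → y ≠ v → ¬ y ∣ nK → orderOf ((u : ℕ) : ZMod y) ∈ cl →
    orderOf ((u : ℕ) : ZMod y) ∈ [3, 6]

section

variable {p f : ℕ} {L : Type w} [Group L] [Finite L] {G : Type u} [Group G] [Finite G]
  {K : Subgroup G} [K.Normal] {S : Subgroup (G ⧸ K)} [S.Normal] {t' : Fam} {v f' : ℕ} {T : Tab} {cl : List ℕ}
  {TL : List (List ℕ)} {B A A12 : List ℕ} {c9 : ℕ}

/-- a prime adjacent to the class 12 -/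
theorem EX.adj12m {k : ℕ → ℕ} (h : EX (.ominus 6) p f L G K S t' v f' T k) {y z : ℕ} (hz : In (.ominus 6) (p ^ f) 12 z)
    (hy : y.Prime) (h3 : 3 ≤ y) (hg : ∃ g : G, orderOf g = y * z) :
    orderOf ((p ^ f : ℕ) : ZMod y) = 4 ∨ orderOf ((p ^ f : ℕ) : ZMod y) = 12 := by
  have h1 := h.top_ub hz (Or.inl rfl : top (.ominus 6) 12) hg (dvd_mul_left _ _)
  exact ord_412 hy h3 ((dvd_mul_right _ _).trans (h1.trans (ttor_m6_12 _)))

theorem EX.u_ne_q {t : Fam} {k : ℕ → ℕ} (h : EX t p f L G K S t' v f' T k) : v ^ f' ≠ p ^ f := by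
  intro h1
  have h2 : v ∣ p ^ f := by rw [← h1]; exact dvd_pow_self v (by have := h.frm.fpos; omega)
  exact h.vp ((Nat.prime_dvd_prime_iff_eq h.ef.vp h.ls.prime).1 (h.ef.vp.dvd_of_dvd_pow h2))

/-- **No irregular prime divides `|K|`.** -/
theorem EX.m6_K (h : EX (.ominus 6) p f L G K S t' v f' T (kcl cl (v ^ f'))) (hS : KS ↥S v (v ^ f') TL B)
    (hx : XM T cl TL B A A12 c9) (hv : VM (p ^ f) v (v ^ f') (Nat.card ↥K) S.index A A12 cl)
    {r : ℕ} (hr : r.Prime) (hr5 : 5 ≤ r) (hrv : r ≠ v) (hrK : r ∣ Nat.card ↥K)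
    (hro : orderOf ((p ^ f : ℕ) : ZMod r) < 3) : False := by
  have htn := tn6 m6_R6
  have hrk := rk6 m6_R6
  obtain ⟨hq, hq3⟩ := h.q_odd
  have hu := hS.two
  have hvu : v ∣ v ^ f' := dvd_pow_self v (by have := h.frm.fpos; omega)
  have hn12 : ∀ z, In (.ominus 6) (p ^ f) 12 z → orderOf ((v ^ f' : ℕ) : ZMod z) = 12 := by
    intro z hz
    by_contra hcon
    have s := h.sp_va m6_R6 (by norm_num) hv.v12 hz
    have hzr : z ≠ r := fun h1 => by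
      have h2 := ord_of_in htn hz
      rw [h1] at h2
      omega
    have h6 := h.kadS s hr hrK hrv hzr (hx.mv _ (hv.v12 z hz).2.2 hcon)
    rcases h.adj12m hz hr (by omega) h6 with h7 | h7 <;> omega
  have hv12 : VA (.ominus 6) (p ^ f) 12 v (v ^ f') (Nat.card ↥K) A := fun y hy =>
    ⟨(hv.v12 y hy).1, (hv.v12 y hy).2.1, by rw [hn12 y hy]; exact hx.mem12⟩
  have hA3 : ∀ a ∈ A, a ∈ clE8 ∧ 3 ≤ a := fun a ha =>
    (by decide : ∀ a ∈ [5, 8, 9, 10, 12, 18], a ∈ clE8 ∧ 3 ≤ a) a (hx.A8 a ha)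
  obtain ⟨a12, ha12, hd12, ho12⟩ := h.fw m6_R6 hS (by norm_num) (by norm_num) (m6_mem (by decide)) hx.tl
    (fun a ha => (hA3 a ha).2) hv12
  obtain ⟨z12, hz12⟩ := h.exists_in (i := 12) (by norm_num) (m6_mem (by decide))
  have hc12 : a12 = 12 := by rw [← ho12 z12 hz12, hn12 z12 hz12]
  subst hc12
  have s12 := h.sp_va m6_R6 (by norm_num) hv12 hz12
  rw [hn12 z12 hz12] at s12
  have e12 : ∃ s : S, orderOf s = NN (v ^ f') 12 := hS.elt 12 (hx.B 12 ha12)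
  have hall : ∀ y : ℕ, y.Prime → y ∣ NN (v ^ f') 12 → orderOf ((p ^ f : ℕ) : ZMod y) = 12 ∧ 2 * rk (.ominus 6) < y := by
    intro y hy hd
    have sy := sp_of_NN hu hvu e12 (by decide) (by norm_num) hy hd
    have hy12 : 12 < y := big12r hy (by norm_num) sy.ord
    refine ⟨?_, by rw [hrk]; omega⟩
    by_cases hyz : y = z12
    · rw [hyz]
      exact ord_of_in htn hz12
    · rcases h.adj12m hz12 hy (by omega) (exists_of_S (h.adjS sy s12 hyz (hx.adj 12 ha12))) with h7 | h7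
      · exfalso
        obtain ⟨e, he, hde, hef⟩ := exists_expI hu (by have := h.frm.fpos; omega) (by decide) (by norm_num) hy sy.ord
        have hin := h.in_of htn hy (by omega) (sp_cardG sy) (by omega)
        rw [h7] at hin
        have hyK := hv.k4 y hin sy.ne
        have hgd := h.gd_of_pow htn hy (by omega) he (order_dvd (exists_of_S e12) hde) (by rw [hrk]; omega) hef
          (by omega)
        rw [h7] at hgd
        have h8 := hv.v4 y hgd sy.ne hyK (by rw [sy.ord]; exact hx.cl12)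
        rw [sy.ord] at h8
        revert h8
        decide
      · exact h7
  have q12 : NN (v ^ f') 12 = NN (p ^ f) 12 := Nat.dvd_antisymm
    (h.rev htn hu e12 (by decide) (by norm_num) (by decide) (by norm_num) hall) hd12
  exact h.u_ne_q (R6.eq_c hu hq3 q12)

/-- an irregular prime is adjacent to the classes 5, 10 -/
theorem EX.irr_m6 {k : ℕ → ℕ} (h : EX (.ominus 6) p f L G K S t' v f' T k) {i w : ℕ} (hi : i = 5 ∨ i = 10)
    (hw : In (.ominus 6) (p ^ f) i w) {y e : ℕ} (hy : y.Prime) (hy12 : 12 < y) (he : 1 ≤ e)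
    (hx : ∃ g : G, orderOf g = y ^ e) (h2 : orderOf ((p ^ f : ℕ) : ZMod y) ≤ 2) (hyp : y ≠ p) :
    ∃ g : G, orderOf g = y ^ e * w := by
  have := Fact.mk hy
  have htn := tn6 m6_R6
  have hrk := rk6 m6_R6
  obtain ⟨hq, hq3⟩ := h.q_odd
  have q2 : p ^ f % 2 = 1 := by
    have := hq
    first | exact this | (rw [Nat.odd_iff] at this; exact this)
  have h1 := h.exp_cls htn hy (by omega) hyp he hx (by rw [hrk]; omega)
  have h0 : ((p ^ f : ℕ) : ZMod y) ≠ 0 := by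
    rw [Ne, ZMod.natCast_eq_zero_iff]
    exact fun h3 => hyp ((Nat.prime_dvd_prime_iff_eq hy h.ls.prime).1 (hy.dvd_of_dvd_pow h3))
  have h3 : 1 ≤ orderOf ((p ^ f : ℕ) : ZMod y) := by
    rw [Nat.succ_le_iff, orderOf_pos_iff]
    exact isOfFinOrder_iff_pow_eq_one.2 ⟨y - 1, by omega, ZMod.pow_card_sub_one_eq_one h0⟩
  have hy2 : Nat.Coprime (y ^ e) 2 :=
    Nat.Coprime.pow_left e ((Nat.coprime_primes hy Nat.prime_two).2 (by omega))
  have hor : orderOf ((p ^ f : ℕ) : ZMod y) = 1 ∨ orderOf ((p ^ f : ℕ) : ZMod y) = 2 := by omega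
  have hNw : w ∣ NN (p ^ f) i := by
    have hi' : i ∈ clE8 := by rcases hi with rfl | rfl <;> decide
    exact dvd_NN hi' (by omega) hw.prime (ord_of_in htn hw)
  have hZw := hNw.trans (NN_dvd _ _)
  generalize hQ : p ^ f = Q at *
  have hy1 : y ^ e ∣ Q - 1 ∨ y ^ e ∣ Q + 1 := by
    rcases hor with h4 | h4
    · left
      rw [h4, tnum_odd htn (by decide), pow_one] at h1
      exact h1
    · right
      rw [h4, tnum_even htn (by decide)] at h1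
      simpa using h1
  have em1 : Q - 1 = 2 * ((Q - 1) / 2) := by omega
  have ep1 : Q + 1 = 2 * ((Q + 1) / 2) := by omega
  have hm' : y ^ e ∣ Q - 1 → y ^ e ∣ (Q - 1) / 2 := fun h5 => by
    rw [em1] at h5
    exact hy2.dvd_of_dvd_mul_left h5
  have hp' : y ^ e ∣ Q + 1 → y ^ e ∣ (Q + 1) / 2 := fun h5 => by
    rw [ep1] at h5
    exact hy2.dvd_of_dvd_mul_left h5
  have hQ1 : 1 ≤ Q := by omega
  have key : y ^ e * w ∣ ttor (.ominus 6) Q i := by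
    rcases hi with rfl | rfl
    · rw [ttor_m6_5 q2]
      have h5 : Q ^ 5 - 1 = (Q - 1) * ZZ Q 5 := by
        rw [ZZ_5 (by omega)]
        zify [hQ1, Nat.one_le_pow 5 Q hQ1]
        ring
      rcases hy1 with h6 | h6
      · rw [h5]
        exact (Nat.mul_dvd_mul h6 hZw).mul_right _
      · rw [mul_comm (y ^ e) w]
        refine Nat.mul_dvd_mul ?_ (hp' h6)
        rw [h5]
        exact hZw.mul_left _
    · rw [ttor_m6_10 q2]
      have h5 : Q ^ 5 + 1 = (Q + 1) * ZZ Q 10 := by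
        have h6 := ZZ_10 (u := Q) (by omega)
        zify at h6 ⊢
        have h7 : (ZZ Q 10 : ℤ) = (Q : ℤ) ^ 4 + (Q : ℤ) ^ 2 + 1 - ((Q : ℤ) ^ 3 + Q) := by linarith
        rw [h7]
        ring
      rcases hy1 with h6 | h6
      · rw [mul_comm (y ^ e) w]
        refine Nat.mul_dvd_mul ?_ (hm' h6)
        rw [h5]
        exact hZw.mul_left _
      · rw [h5]
        exact (Nat.mul_dvd_mul h6 hZw).mul_right _
  subst hQ
  have htop : top (.ominus 6) i := by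
    rcases hi with rfl | rfl
    · exact Or.inr (Or.inr ⟨rfl, rfl⟩)
    · exact Or.inr (Or.inl rfl)
  exact h.top_elt htop key

end

end Cfsg.Agent.R2.Spec.EE
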