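import Cfsg.Agent.R2.Spec.EE.SmR6I

/-!
# EE, `PΩ₁₂⁻(q)` : `S ≠ E₆(u), ²E₆(u)`, the end (helper12)
-/

set_option autoImplicit false
set_option linter.unusedSectionVars false
set_option linter.unusedVariables false

namespace Cfsg.Agent.R2.Spec.EE

open Subgroup Cfsg
open Cfsg.Agent.H426.LieFam Cfsg.Agent.R2.Spec Cfsg.Agent.R2.Spec.P1 Cfsg.Agent.R2.Spec.F1
open Cfsg.Agent.H420.QR Cfsg.Agent.H365.Zsig

universe u w

namespace R6

variable {u q : ℕ}

theorem q_le_u2 (hu : 2 ≤ u) (hq : 3 ≤ q) (ho : q % 2 = 1) (h5 : NN q 5 ≤ u ^ 4 + u ^ 3 + u ^ 2 + u + 1)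
    (h10 : NN q 10 ≤ u ^ 4 + u ^ 3 + u ^ 2 + u + 1) : q ≤ u := by
  have hA := A_le hq
  refine q_le_u hq ?_ hu
  rcases n5 (u := q) (by omega) with h7 | ⟨h8, h7⟩
  · omega
  · obtain ⟨-, h8⟩ := five5 hq h8
    rcases n10 (u := q) (by omega) with h9 | ⟨h9, -⟩
    · omega
    · obtain ⟨-, h9⟩ := five10 hq ho h9
      omega

theorem num_m6a (hu : 2 ≤ u) (hq : 3 ≤ q) (ho : q % 2 = 1) {c : ℕ} (hc : c = 9 ∨ c = 18)
    (h1 : NN u c ≤ q ^ 4 + q ^ 3 + q ^ 2 + q + 1) (h2 : NN q 8 ≤ u ^ 4 + u ^ 3 + u ^ 2 + u + 1) : False := by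
  have h3 := n_c9 hu hc
  have h4 := n8' ho hq
  rcases Nat.lt_or_ge u 4 with h5 | h5
  · have hq4 : 81 ≤ q ^ 4 := by
      calc 81 = 3 ^ 4 := by norm_num
        _ ≤ q ^ 4 := Nat.pow_le_pow_left hq 4
    interval_cases u
    · omega
    · have h6 : q < 4 := by
        by_contra hcon
        have : 4 ^ 4 ≤ q ^ 4 := Nat.pow_le_pow_left (by omega) 4
        omega
      interval_cases q
      omega
  · have h6 : 2 * (q ^ 4 + q ^ 3 + q ^ 2 + q + 1) ≤ 3 * q ^ 4 := by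
      obtain ⟨x, rfl⟩ : ∃ x, q = x + 3 := ⟨q - 3, by omega⟩
      nlinarith [Nat.zero_le x, Nat.zero_le (x ^ 2), Nat.zero_le (x ^ 3), Nat.zero_le (x ^ 4)]
    have h7 : 2 * u ^ 6 ≤ 18 * (u ^ 4 + u ^ 3 + u ^ 2 + u + 1) + 2 * u ^ 3 := by omega
    obtain ⟨x, rfl⟩ : ∃ x, u = x + 4 := ⟨u - 4, by omega⟩
    nlinarith [Nat.zero_le x, Nat.zero_le (x ^ 2), Nat.zero_le (x ^ 3), Nat.zero_le (x ^ 4), Nat.zero_le (x ^ 5),
      Nat.zero_le (x ^ 6)]

theorem num_m6b (hq : 3 ≤ q) (ho : q % 2 = 1) (hlt : q < u) {c : ℕ} (hc : c = 9 ∨ c = 18)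
    (h1 : NN u c ≤ q * NN q 8) : False := by
  have h3 := n_c9 (u := u) (by omega) hc
  have h4 := n8' ho hq
  have h5 : 2 * NN u c ≤ u ^ 5 := by
    calc 2 * NN u c ≤ 2 * (q * NN q 8) := Nat.mul_le_mul_left _ h1
      _ = q * (q ^ 4 + 1) := by rw [← h4]; ring
      _ ≤ (q + 1) ^ 5 := by nlinarith [Nat.zero_le (q ^ 4), Nat.zero_le (q ^ 3), Nat.zero_le (q ^ 2)]
      _ ≤ u ^ 5 := Nat.pow_le_pow_left hlt 5
  have h6 : 4 * u ^ 5 ≤ u ^ 6 := by
    calc 4 * u ^ 5 ≤ u * u ^ 5 := Nat.mul_le_mul_right _ (by omega)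
      _ = u ^ 6 := by ring
  have h7 : 1 * u ^ 3 ≤ u ^ 5 := by
    calc 1 * u ^ 3 ≤ u ^ 2 * u ^ 3 := Nat.mul_le_mul_right _ (Nat.one_le_pow _ _ (by omega))
      _ = u ^ 5 := by ring
  omega

end R6

section

variable {p f : ℕ} {L : Type w} [Group L] [Finite L] {G : Type u} [Group G] [Finite G]
  {K : Subgroup G} [K.Normal] {S : Subgroup (G ⧸ K)} [S.Normal] {t' : Fam} {v f' : ℕ} {T : Tab} {cl : List ℕ}
  {TL : List (List ℕ)} {B A A12 : List ℕ} {c9 : ℕ}

theorem EX.rev_pow {t : Fam} {k : ℕ → ℕ} (h : EX t p f L G K S t' v f' T k) (ht : Tn t) {i y e : ℕ}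
    (hi : i ∈ clE8) (hi3 : 3 ≤ i) (hy : y.Prime) (h5 : 5 ≤ y) (he : 1 ≤ e) (hx : ∃ g : G, orderOf g = y ^ e)
    (h1 : orderOf ((p ^ f : ℕ) : ZMod y) = i) (h2 : 2 * rk t < y) : y ^ e ∣ NN (p ^ f) i := by
  obtain ⟨hq, hq3⟩ := h.q_odd
  have := Fact.mk hy
  have hyp : y ≠ p := by
    rintro rfl
    have h0 : ((y ^ f : ℕ) : ZMod y) = 0 := by
      rw [ZMod.natCast_eq_zero_iff]
      exact dvd_pow_self y (by have := h.ls.fpos; omega)
    rw [h0, orderOf_zero] at h1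
    omega
  have h6 := h.exp_cls ht hy h5 hyp he hx h2
  rw [h1] at h6
  have h7 : tnum t (p ^ f) i ∣ ((sg t (p ^ f)) ^ i - 1).natAbs := tnum_dvd_natAbs h.ls.cla (by omega)
  have hsg : sg t (p ^ f) = ((p ^ f : ℕ) : ℤ) := by
    unfold sg
    split
    · exact absurd rfl (ht.2 _)
    · rfl
  rw [hsg] at h7
  have h8 : ((y ^ e : ℕ) : ℤ) ∣ ((p ^ f : ℕ) : ℤ) ^ i - 1 := Int.natCast_dvd.2 (h6.trans h7)
  exact pow_dvd_NN hy (not_dvd_ord hy (by omega) h1) (pow_dvd_ZZ (by omega) hi hi3 hy h1 h8)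

/-- the exponent of `p > 12` -/
theorem EX.pexp1 {t : Fam} {k : ℕ → ℕ} (h : EX t p f L G K S t' v f' T k) (hrk : rk t = 6) {e : ℕ} (he : 1 ≤ e)
    (hp : 12 < p) (hx : ∃ g : G, orderOf g = p ^ e) : e = 1 := by
  obtain ⟨x, hx'⟩ := (h.ls.ord _).1 hx
  obtain ⟨e', rfl⟩ : ∃ e', e = e' + 1 := ⟨e - 1, by omega⟩
  have h1 := pexp h.ls.cla h.ls.prime h.p2 h.is ⟨x, hx'⟩
  rw [hrk] at h1
  have h3 : e' = 0 := by
    by_contra hcon
    have : p ≤ p ^ e' := Nat.le_self_pow hcon p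
    omega
  omega

theorem EX.m6_E (h : EX (.ominus 6) p f L G K S t' v f' T (kcl cl (v ^ f'))) (hS : KS ↥S v (v ^ f') TL B)
    (hx : XM T cl TL B A A12 c9) (hv : VM (p ^ f) v (v ^ f') (Nat.card ↥K) S.index A A12 cl) : False := by
  have htn := tn6 m6_R6
  have hrk := rk6 m6_R6
  obtain ⟨hq, hq3⟩ := h.q_odd
  have q2 : p ^ f % 2 = 1 := by
    have := hq
    first | exact this | (rw [Nat.odd_iff] at this; exact this)
  have hu := hS.two
  have hvu : v ∣ v ^ f' := dvd_pow_self v (by have := h.frm.fpos; omega)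
  have hA3 : ∀ a ∈ A, a ∈ clE8 ∧ 3 ≤ a := fun a ha =>
    (by decide : ∀ a ∈ [5, 8, 9, 10, 12, 18], a ∈ clE8 ∧ 3 ≤ a) a (hx.A8 a ha)
  obtain ⟨a5, ha5, hd5, ho5⟩ := h.fw m6_R6 hS (by norm_num) (by norm_num) (m6_mem (by decide)) hx.tl
    (fun a ha => (hA3 a ha).2) hv.v5
  obtain ⟨a8, ha8, hd8, ho8⟩ := h.fw m6_R6 hS (by norm_num) (by norm_num) (m6_mem (by decide)) hx.tl
    (fun a ha => (hA3 a ha).2) hv.v8
  obtain ⟨a10, ha10, hd10, ho10⟩ := h.fw m6_R6 hS (by norm_num) (by norm_num) (m6_mem (by decide)) hx.tl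
    (fun a ha => (hA3 a ha).2) hv.v10
  obtain ⟨z5, hz5⟩ := h.exists_in (i := 5) (by norm_num) (m6_mem (by decide))
  obtain ⟨z8, hz8⟩ := h.exists_in (i := 8) (by norm_num) (m6_mem (by decide))
  obtain ⟨z10, hz10⟩ := h.exists_in (i := 10) (by norm_num) (m6_mem (by decide))
  have s5 := h.sp_va m6_R6 (by norm_num) hv.v5 hz5
  rw [ho5 z5 hz5] at s5
  have s8 := h.sp_va m6_R6 (by norm_num) hv.v8 hz8
  rw [ho8 z8 hz8] at s8
  have s10 := h.sp_va m6_R6 (by norm_num) hv.v10 hz10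
  rw [ho10 z10 hz10] at s10
  have n58 : a5 ≠ a8 := h.ne_val hz5 hz8 (m6_na (by norm_num) (by norm_num) (by decide)) s5 s8 (hx.adj a5 ha5)
  have n510 : a5 ≠ a10 := h.ne_val hz5 hz10 (m6_na (by norm_num) (by norm_num) (by decide)) s5 s10 (hx.adj a5 ha5)
  have n810 : a8 ≠ a10 := h.ne_val hz8 hz10 (m6_na (by norm_num) (by norm_num) (by decide)) s8 s10 (hx.adj a8 ha8)
  have e9 : ∃ s : S, orderOf s = NN (v ^ f') c9 := hS.elt c9 (hx.B c9 hx.mem9)
  have hc8 := hA3 c9 hx.mem9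
  -- the primes of the number of the class `c9`
  have place : ∀ y : ℕ, y.Prime → y ∣ NN (v ^ f') c9 → 12 < y ∧
      ((orderOf ((p ^ f : ℕ) : ZMod y) = 5 ∧ a5 = c9) ∨ (orderOf ((p ^ f : ℕ) : ZMod y) = 8 ∧ a8 = c9) ∨
        (orderOf ((p ^ f : ℕ) : ZMod y) = 10 ∧ a10 = c9) ∨ (y = p ∧ a8 = c9)) := by
    intro y hy hd
    have sy := sp_of_NN hu hvu e9 hc8.1 hc8.2 hy hd
    have hy12 : 12 < y := big12r hy (by rcases hx.c with h1 | h1 <;> simp [h1]) sy.ord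
    refine ⟨hy12, ?_⟩
    have hin : 3 ≤ orderOf ((p ^ f : ℕ) : ZMod y) →
        In (.ominus 6) (p ^ f) (orderOf ((p ^ f : ℕ) : ZMod y)) y := fun h3 =>
      h.in_of htn hy (by omega) (sp_cardG sy) h3
    have hyK : ¬ y ∣ Nat.card ↥K := by
      intro hyK
      by_cases h3 : 3 ≤ orderOf ((p ^ f : ℕ) : ZMod y)
      · have hi := hin h3
        have h5 := mem6L m6_R6 h3 hi.mem
        simp only [List.mem_cons, List.not_mem_nil, or_false] at h5
        rcases h5 with h5 | h5 | h5 | h5 | h5 | h5 | h5 <;> rw [h5] at hi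
        · exact (hv.v3 y hi).2.1 hyK
        · exact hv.k4 y hi sy.ne hyK
        · exact (hv.v5 y hi).2.1 hyK
        · exact (hv.v6 y hi).2.1 hyK
        · exact (hv.v8 y hi).2.1 hyK
        · exact (hv.v10 y hi).2.1 hyK
        · exact (hv.v12 y hi).2.1 hyK
      · exact h.m6_K hS hx hv hy (by omega) sy.ne hyK (not_le.1 h3)
    obtain ⟨e, he, hde, hef⟩ := exists_expI hu (by have := h.frm.fpos; omega) hc8.1 hc8.2 hy sy.ord
    have hxe := order_dvd (exists_of_S e9) hde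
    have hidx : ¬ y ^ e ∣ S.index := fun hd => hef (h.ef.idx y e hy (by omega) hd)
    by_cases h3 : 3 ≤ orderOf ((p ^ f : ℕ) : ZMod y)
    · have hi := hin h3
      have h5 := mem6L m6_R6 h3 hi.mem
      simp only [List.mem_cons, List.not_mem_nil, or_false] at h5
      rcases h5 with h5 | h5 | h5 | h5 | h5 | h5 | h5
      · exfalso
        rw [h5] at hi
        have h6 := (hv.v3 y hi).2.2
        rw [sy.ord] at h6
        exact hx.n9 h6
      · exfalso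
        have hgd := h.gd_of_pow htn hy (by omega) he hxe (by rw [hrk]; omega) hef h3
        rw [h5] at hgd
        have h6 := hv.v4 y hgd sy.ne hyK (by rw [sy.ord]; exact hx.cl9)
        rw [sy.ord] at h6
        simp only [List.mem_cons, List.not_mem_nil, or_false] at h6
        have := hx.c
        omega
      · rw [h5] at hi
        left
        exact ⟨h5, (ho5 y hi).symm.trans sy.ord⟩
      · exfalso
        rw [h5] at hi
        have h6 := (hv.v6 y hi).2.2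
        rw [sy.ord] at h6
        exact hx.n9 h6
      · rw [h5] at hi
        right; left
        exact ⟨h5, (ho8 y hi).symm.trans sy.ord⟩
      · rw [h5] at hi
        right; right; left
        exact ⟨h5, (ho10 y hi).symm.trans sy.ord⟩
      · exfalso
        rw [h5] at hi
        have h6 := (hv.v12 y hi).2.2
        rw [sy.ord] at h6
        exact hx.n9 h6
    · by_cases hyp : y = p
      · right; right; right
        refine ⟨hyp, ?_⟩
        by_contra hcon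
        have he1 : e = 1 := h.pexp1 hrk he (by omega) (by rw [← hyp]; exact hxe)
        obtain ⟨g, hg⟩ := (h.ls.adjp_iff hz8).2 (by show ¬ 6 < eta 8 + 2; decide)
        have hne : y ≠ z8 := by
          rintro rfl
          exact hcon (s8.ord.symm.trans sy.ord)
        refine h.naS sy s8 hne (hx.na c9 hx.mem9 a8 ha8 (Ne.symm hcon))
          (exists_mul_S (e := 1) hy hz8.prime hne (g := g) (by rw [hg, pow_one, hyp, mul_comm]) hyK (hv.v8 z8 hz8).2.1 ?_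
            (h.nix6 m6_R6 hz8 (by norm_num) (hv.v8 z8 hz8).2.1))
        rw [← he1]
        exact hidx
      · exfalso
        have key : ∀ i z a, (i = 5 ∨ i = 10) → In (.ominus 6) (p ^ f) i z → SP ↥S v (v ^ f') a z → a ∈ A → a ≠ c9 →
            ¬ z ∣ Nat.card ↥K → False := by
          intro i z a hi hz sz ha hac hzK
          obtain ⟨g, hg⟩ := h.irr_m6 hi hz hy hy12 he hxe (by omega) hyp
          have hne : y ≠ z := by
            rintro rfl
            exact hac (sz.ord.symm.trans sy.ord)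
          exact h.naS sy sz hne (hx.na c9 hx.mem9 a ha (Ne.symm hac))
            (exists_mul_S hy hz.prime hne hg hyK hzK hidx (h.nix6 m6_R6 hz (by omega) hzK))
        by_cases h6 : a5 = c9
        · exact key 10 z10 a10 (Or.inr rfl) hz10 s10 ha10 (fun h7 => n510 (h6.trans h7.symm)) (hv.v10 z10 hz10).2.1
        · exact key 5 z5 a5 (Or.inl rfl) hz5 s5 ha5 h6 (hv.v5 z5 hz5).2.1
  have hb5 : NN (p ^ f) 5 ≤ (p ^ f) ^ 4 + (p ^ f) ^ 3 + (p ^ f) ^ 2 + p ^ f + 1 := by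
    rcases R6.n5 (u := p ^ f) (by omega) with h1 | ⟨-, h1⟩ <;> omega
  have hb10 : NN (p ^ f) 10 ≤ (p ^ f) ^ 4 + (p ^ f) ^ 3 + (p ^ f) ^ 2 + p ^ f + 1 := by
    rcases R6.n10 (u := p ^ f) (by omega) with h1 | ⟨-, h1⟩ <;> omega
  have pos : ∀ a ∈ A, 0 < NN (v ^ f') a := fun a ha => Nat.pos_of_ne_zero (NN_ne hu (hA3 a ha).1 (hA3 a ha).2)
  have le5 : ∀ a ∈ A, a ≠ c9 → ∀ m, m ∣ NN (v ^ f') a →
      m ≤ (v ^ f') ^ 4 + (v ^ f') ^ 3 + (v ^ f') ^ 2 + v ^ f' + 1 := fun a ha hac m hm =>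
    (Nat.le_of_dvd (pos a ha) hm).trans (R6.le_z5 hu (hx.only a ha hac))
  have posq : ∀ i, i ∈ clE8 → 3 ≤ i → 0 < NN (p ^ f) i := fun i hi h3 => Nat.pos_of_ne_zero (NN_ne (by omega) hi h3)
  by_cases c8 : a8 = c9
  · -- `c9` is the class 8
    have h5 := le5 a5 ha5 (fun h6 => n58 (h6.trans c8.symm)) _ hd5
    have h10 := le5 a10 ha10 (fun h6 => n810 (c8.trans h6.symm)) _ hd10
    have h6 := R6.q_le_u2 hu hq3 q2 h5 h10
    have h7 := h.u_ne_q
    have hdv : NN (v ^ f') c9 ∣ p * NN (p ^ f) 8 := by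
      rw [Nat.dvd_iff_prime_pow_dvd_dvd]
      intro y e hy hd
      rcases Nat.eq_zero_or_pos e with he0 | he0
      · rw [he0, pow_zero]; exact one_dvd _
      have hyd : y ∣ NN (v ^ f') c9 := (dvd_pow_self y (by omega)).trans hd
      obtain ⟨hy12, h1⟩ := place y hy hyd
      have hxe := order_dvd (exists_of_S e9) hd
      rcases h1 with ⟨-, h1⟩ | ⟨h1, -⟩ | ⟨-, h1⟩ | ⟨h1, -⟩
      · exact absurd (h1.trans c8.symm) n58
      · exact (h.rev_pow htn (by decide) (by norm_num) hy (by omega) he0 hxe h1 (by rw [hrk]; omega)).mul_left _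
      · exact absurd (c8.trans h1.symm) n810
      · subst h1
        rw [h.pexp1 hrk he0 hy12 hxe, pow_one]
        exact dvd_mul_right _ _
    have h8 : NN (v ^ f') c9 ≤ p ^ f * NN (p ^ f) 8 := by
      refine (Nat.le_of_dvd (Nat.mul_pos h.ls.prime.pos (posq 8 (by decide) (by norm_num))) hdv).trans ?_
      exact Nat.mul_le_mul_right _ (Nat.le_self_pow (by have := h.ls.fpos; omega) p)
    exact R6.num_m6b hq3 q2 (by omega) hx.c h8
  · by_cases c5 : a5 = c9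
    · have hall : ∀ y : ℕ, y.Prime → y ∣ NN (v ^ f') c9 → orderOf ((p ^ f : ℕ) : ZMod y) = 5 ∧ 2 * rk (.ominus 6) < y := by
        intro y hy hd
        obtain ⟨hy12, h1⟩ := place y hy hd
        rcases h1 with ⟨h1, -⟩ | ⟨-, h1⟩ | ⟨-, h1⟩ | ⟨-, h1⟩
        · exact ⟨h1, by rw [hrk]; omega⟩
        · exact absurd h1 c8
        · exact absurd (c5.trans h1.symm) n510
        · exact absurd h1 c8
      have h1 := h.rev htn hu e9 hc8.1 hc8.2 (by decide) (by norm_num) hall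
      exact R6.num_m6a hu hq3 q2 hx.c ((Nat.le_of_dvd (posq 5 (by decide) (by norm_num)) h1).trans hb5)
        (le5 a8 ha8 c8 _ hd8)
    · by_cases c10 : a10 = c9
      · have hall : ∀ y : ℕ, y.Prime → y ∣ NN (v ^ f') c9 → orderOf ((p ^ f : ℕ) : ZMod y) = 10 ∧ 2 * rk (.ominus 6) < y := by
          intro y hy hd
          obtain ⟨hy12, h1⟩ := place y hy hd
          rcases h1 with ⟨-, h1⟩ | ⟨-, h1⟩ | ⟨h1, -⟩ | ⟨-, h1⟩
          · exact absurd h1 c5
          · exact absurd h1 c8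
          · exact ⟨h1, by rw [hrk]; omega⟩
          · exact absurd h1 c8
        have h1 := h.rev htn hu e9 hc8.1 hc8.2 (by decide) (by norm_num) hall
        exact R6.num_m6a hu hq3 q2 hx.c ((Nat.le_of_dvd (posq 10 (by decide) (by norm_num)) h1).trans hb10)
          (le5 a8 ha8 c8 _ hd8)
      · -- `c9` is nowhere
        have h1 := R6.n_c9 hu hx.c
        have h2 : NN (v ^ f') c9 ≠ 1 := by
          intro h2
          rw [h2] at h1
          have h3 : 8 ≤ (v ^ f') ^ 3 := by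
            calc 8 = 2 ^ 3 := by norm_num
              _ ≤ _ := Nat.pow_le_pow_left hu 3
          have h4 : (v ^ f') ^ 6 = (v ^ f') ^ 3 * (v ^ f') ^ 3 := by ring
          nlinarith
        obtain ⟨y, hy, hd⟩ := Nat.exists_prime_and_dvd h2
        rcases (place y hy hd).2 with ⟨-, h3⟩ | ⟨-, h3⟩ | ⟨-, h3⟩ | ⟨-, h3⟩
        · exact c5 h3
        · exact c8 h3
        · exact c10 h3
        · exact c8 h3

end

end Cfsg.Agent.R2.Spec.EE
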