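import Cfsg.Agent.R2.Spec.EE.SmKcl

/-!
# EE, rank 6: numbers (helper12)
-/

set_option autoImplicit false
set_option linter.unusedSectionVars false
set_option linter.unusedVariables false
set_option maxHeartbeats 1000000

namespace Cfsg.Agent.R2.Spec.EE

open Cfsg.Agent.H365.Zsig

namespace R6

variable {u q : ℕ}

/-- `NN u 5` -/
theorem n5 (hu : 2 ≤ u) : NN u 5 = u ^ 4 + u ^ 3 + u ^ 2 + u + 1 ∨
    (5 ∣ u ^ 4 + u ^ 3 + u ^ 2 + u + 1 ∧ NN u 5 * 5 = u ^ 4 + u ^ 3 + u ^ 2 + u + 1) := by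
  have h := NN_cases (u := u) (a := 5) Nat.prime_five rfl
  rwa [ZZ_5 hu] at h

theorem n8 (hu : 2 ≤ u) : NN u 8 = u ^ 4 + 1 ∨ NN u 8 * 2 = u ^ 4 + 1 := by
  have h := NN_cases (u := u) (a := 8) Nat.prime_two rfl
  rw [ZZ_8 hu] at h
  exact h.imp_right fun h => h.2

theorem n8' (hq : q % 2 = 1) (hq3 : 3 ≤ q) : NN q 8 * 2 = q ^ 4 + 1 := by
  rcases NN_cases (u := q) (a := 8) Nat.prime_two rfl with h | h
  · exfalso
    rw [ZZ_8 (by omega)] at h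
    have h1 := NN_odd (q := q) (i := 8) (by omega) (by decide) (by norm_num)
    rw [h] at h1
    have h2 : (q ^ 4 + 1) % 2 = 0 := by
      rw [Nat.add_mod, Nat.pow_mod, hq]
    rw [Nat.odd_iff] at h1
    omega
  · rw [ZZ_8 (by omega)] at h
    exact h.2

theorem n9 (hu : 2 ≤ u) : NN u 9 = u ^ 6 + u ^ 3 + 1 ∨ NN u 9 * 3 = u ^ 6 + u ^ 3 + 1 := by
  have h := NN_cases (u := u) (a := 9) Nat.prime_three rfl
  rw [ZZ_9 hu] at h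
  exact h.imp_right fun h => h.2

theorem n18 (hu : 2 ≤ u) : NN u 18 + u ^ 3 = u ^ 6 + 1 ∨ NN u 18 * 3 + u ^ 3 = u ^ 6 + 1 := by
  have h := NN_cases (u := u) (a := 18) Nat.prime_three rfl
  have h1 := ZZ_18 hu
  rcases h with h | h
  · left; omega
  · right; omega

theorem n10 (hu : 2 ≤ u) : NN u 10 + u ^ 3 + u = u ^ 4 + u ^ 2 + 1 ∨
    (5 ∣ ZZ u 10 ∧ NN u 10 * 5 + u ^ 3 + u = u ^ 4 + u ^ 2 + 1) := by
  have h := NN_cases (u := u) (a := 10) Nat.prime_five rfl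
  have h1 := ZZ_10 hu
  rcases h with h | ⟨h2, h3⟩
  · left; omega
  · right; exact ⟨h2, by omega⟩

theorem n12 (hu : 2 ≤ u) : NN u 12 + u ^ 2 = u ^ 4 + 1 := by
  rw [NN_12]
  exact ZZ_12 hu

/-- the lower bound of the exotic number -/
theorem n_c9 (hu : 2 ≤ u) {c : ℕ} (hc : c = 9 ∨ c = 18) : u ^ 6 + 1 ≤ 3 * NN u c + u ^ 3 := by
  rcases hc with rfl | rfl
  · rcases n9 hu with h | h <;> omega
  · rcases n18 hu with h | h <;> omega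

/-- `Φ₅(q)`, `Φ₁₀(q)` -/
theorem A_le (hq : 3 ≤ q) : q ^ 4 + q ^ 3 + q ^ 2 + q + 1 + 2 * q ^ 3 + 2 * q ≤ 2 * (q ^ 4 + q ^ 2 + 1) := by
  obtain ⟨x, rfl⟩ : ∃ x, q = x + 3 := ⟨q - 3, by omega⟩
  nlinarith [Nat.zero_le x, Nat.zero_le (x ^ 2), Nat.zero_le (x ^ 3), Nat.zero_le (x ^ 4)]

theorem five5 (hq : 3 ≤ q) (h5 : 5 ∣ q ^ 4 + q ^ 3 + q ^ 2 + q + 1) : 6 ≤ q ∧ q % 5 = 1 := by
  have h1 : q % 5 = 1 := by
    have h2 : (q ^ 4 + q ^ 3 + q ^ 2 + q + 1) % 5 = 0 := Nat.mod_eq_zero_of_dvd h5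
    have h3 : q % 5 < 5 := Nat.mod_lt _ (by norm_num)
    generalize hr : q % 5 = r at *
    have h4 : (q ^ 4 + q ^ 3 + q ^ 2 + q + 1) % 5 = (r ^ 4 + r ^ 3 + r ^ 2 + r + 1) % 5 := by
      conv_lhs => rw [Nat.add_mod, Nat.add_mod (q ^ 4 + q ^ 3 + q ^ 2), Nat.add_mod (q ^ 4 + q ^ 3),
        Nat.add_mod (q ^ 4), Nat.pow_mod, Nat.pow_mod q 3, Nat.pow_mod q 2, hr]
      conv_rhs => rw [Nat.add_mod, Nat.add_mod (r ^ 4 + r ^ 3 + r ^ 2), Nat.add_mod (r ^ 4 + r ^ 3),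
        Nat.add_mod (r ^ 4), Nat.mod_eq_of_lt h3]
    rw [h4] at h2
    interval_cases r <;> revert h2 <;> decide
  exact ⟨by omega, h1⟩

theorem five10 (hq : 3 ≤ q) (ho : q % 2 = 1) (h5 : 5 ∣ ZZ q 10) : 9 ≤ q ∧ q % 5 = 4 := by
  have h0 := ZZ_10 (u := q) (by omega)
  obtain ⟨c, hc⟩ := h5
  rw [hc] at h0
  have h3 : q % 5 < 5 := Nat.mod_lt _ (by norm_num)
  have h1 : q % 5 = 4 := by
    have h2 : (5 * c + q ^ 3 + q) % 5 = (q ^ 4 + q ^ 2 + 1) % 5 := by rw [h0]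
    generalize hr : q % 5 = r at *
    have h4 : (q ^ 4 + q ^ 2 + 1) % 5 = (r ^ 4 + r ^ 2 + 1) % 5 := by
      conv_lhs => rw [Nat.add_mod, Nat.add_mod (q ^ 4), Nat.pow_mod, Nat.pow_mod q 2, hr]
      conv_rhs => rw [Nat.add_mod, Nat.add_mod (r ^ 4)]
    have h5 : (5 * c + q ^ 3 + q) % 5 = (r ^ 3 + r) % 5 := by
      rw [show 5 * c + q ^ 3 + q = (q ^ 3 + q) + 5 * c by ring, Nat.add_mul_mod_self_left]
      conv_lhs => rw [Nat.add_mod, Nat.pow_mod, hr]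
      conv_rhs => rw [Nat.add_mod]
      rw [Nat.mod_eq_of_lt h3]
    rw [h4, h5] at h2
    interval_cases r <;> revert h2 <;> decide
  exact ⟨by omega, h1⟩

theorem mono5 {a : ℕ} (h : a ≤ q) : a ^ 4 + a ^ 3 + a ^ 2 + a + 1 ≤ q ^ 4 + q ^ 3 + q ^ 2 + q + 1 := by
  gcongr

theorem mono10 {a : ℕ} (ha : 1 ≤ a) (h : a ≤ q) : a ^ 4 + a ^ 2 + 1 + (q ^ 3 + q) ≤ q ^ 4 + q ^ 2 + 1 + (a ^ 3 + a) := by
  obtain ⟨x, rfl⟩ : ∃ x, a = x + 1 := ⟨a - 1, by omega⟩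
  obtain ⟨y, rfl⟩ : ∃ y, q = x + 1 + y := ⟨q - (x + 1), by omega⟩
  nlinarith [Nat.zero_le (x * y), Nat.zero_le (x ^ 2 * y), Nat.zero_le (x ^ 3 * y), Nat.zero_le (x * y ^ 2),
    Nat.zero_le (x ^ 2 * y ^ 2), Nat.zero_le (x * y ^ 3), Nat.zero_le (y ^ 2), Nat.zero_le (y ^ 3), Nat.zero_le (y ^ 4)]

/-- `3 X ≤ 4 Y` -/
theorem XY (hu : 2 ≤ u) : 3 * (u ^ 4 + 1) ≤ 4 * NN u 12 ∧ NN u 12 < u ^ 4 + 1 := by
  have h := n12 hu
  have h1 : 4 ≤ u ^ 2 := by nlinarith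
  have h2 : u ^ 4 = u ^ 2 * u ^ 2 := by ring
  constructor
  · nlinarith
  · omega

/-- **The exotic class**: `N₉ ∣ Φ₅` or `Φ₁₀`, the other number is small. -/
theorem exo_a (hu : 2 ≤ u) (hq : 3 ≤ q) (ho : q % 2 = 1) {c : ℕ} (hc : c = 9 ∨ c = 18)
    (h1 : NN u c ≤ q ^ 4 + q ^ 3 + q ^ 2 + q + 1) (h2 : NN q 10 ≤ u ^ 4 + 1) : False := by
  have h3 := n_c9 hu hc
  have h4 := A_le hq
  rcases n10 (u := q) (by omega) with h5 | ⟨h5, h6⟩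
  · have h7 := mono10 (q := q) (a := 3) (by norm_num) hq
    have h8 : 60 ≤ u ^ 4 := by omega
    have h9 : 3 ≤ u := by
      by_contra hcon
      have : u = 2 := by omega
      subst this
      norm_num at h8
    have h10 : u ^ 6 + 1 ≤ 6 * (u ^ 4 + 1) + u ^ 3 := by omega
    obtain ⟨x, rfl⟩ : ∃ x, u = x + 3 := ⟨u - 3, by omega⟩
    nlinarith [Nat.zero_le x, Nat.zero_le (x ^ 2), Nat.zero_le (x ^ 3), Nat.zero_le (x ^ 4), Nat.zero_le (x ^ 5),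
      Nat.zero_le (x ^ 6)]
  · obtain ⟨h7, -⟩ := five10 hq ho h5
    have h8 := mono10 (q := q) (a := 9) (by norm_num) h7
    have h9 : 1170 ≤ u ^ 4 := by omega
    have h10 : 6 ≤ u := by
      by_contra hcon
      have : u ^ 4 ≤ 5 ^ 4 := Nat.pow_le_pow_left (by omega) 4
      omega
    have h11 : u ^ 6 + 1 ≤ 30 * (u ^ 4 + 1) + u ^ 3 := by omega
    obtain ⟨x, rfl⟩ : ∃ x, u = x + 6 := ⟨u - 6, by omega⟩
    nlinarith [Nat.zero_le x, Nat.zero_le (x ^ 2), Nat.zero_le (x ^ 3), Nat.zero_le (x ^ 4), Nat.zero_le (x ^ 5),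
      Nat.zero_le (x ^ 6)]

theorem exo_b (hu : 2 ≤ u) (hq : 3 ≤ q) {c : ℕ} (hc : c = 9 ∨ c = 18)
    (h1 : NN u c ≤ q ^ 4 + q ^ 3 + q ^ 2 + q + 1) (h2 : NN q 5 ≤ u ^ 4 + 1) : False := by
  have h3 := n_c9 hu hc
  rcases n5 (u := q) (by omega) with h5 | ⟨h5, h6⟩
  · have h7 := mono5 (q := q) (a := 3) hq
    have h8 : 100 ≤ u ^ 4 := by omega
    have h9 : 4 ≤ u := by
      by_contra hcon
      have : u ^ 4 ≤ 3 ^ 4 := Nat.pow_le_pow_left (by omega) 4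
      omega
    have h10 : u ^ 6 + 1 ≤ 3 * (u ^ 4 + 1) + u ^ 3 := by omega
    obtain ⟨x, rfl⟩ : ∃ x, u = x + 4 := ⟨u - 4, by omega⟩
    nlinarith [Nat.zero_le x, Nat.zero_le (x ^ 2), Nat.zero_le (x ^ 3), Nat.zero_le (x ^ 4), Nat.zero_le (x ^ 5),
      Nat.zero_le (x ^ 6)]
  · obtain ⟨h7, -⟩ := five5 hq h5
    have h8 := mono5 (q := q) (a := 6) h7
    have h9 : 300 ≤ u ^ 4 := by omega
    have h10 : 5 ≤ u := by
      by_contra hcon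
      have : u ^ 4 ≤ 4 ^ 4 := Nat.pow_le_pow_left (by omega) 4
      omega
    have h11 : u ^ 6 + 1 ≤ 15 * (u ^ 4 + 1) + u ^ 3 := by omega
    obtain ⟨x, rfl⟩ : ∃ x, u = x + 5 := ⟨u - 5, by omega⟩
    nlinarith [Nat.zero_le x, Nat.zero_le (x ^ 2), Nat.zero_le (x ^ 3), Nat.zero_le (x ^ 4), Nat.zero_le (x ^ 5),
      Nat.zero_le (x ^ 6)]

/-- `NN u 8 = NN q 5`, `NN u 12 = NN q 10` -/
theorem eq_a (hu : 2 ≤ u) (hq : 3 ≤ q) (ho : q % 2 = 1) (hcop : Nat.Coprime u q) (h1 : NN u 8 = NN q 5) (h2 : NN u 12 = NN q 10) :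
    False := by
  obtain ⟨h3, h3'⟩ := XY hu
  have h4 := A_le hq
  have hA : q ^ 4 + q ^ 2 + 1 < q ^ 4 + q ^ 3 + q ^ 2 + q + 1 + (q ^ 3 + q) := by
    have : 0 < q ^ 3 := by positivity
    omega
  rcases n8 hu with h5 | h5 <;> rcases n5 (u := q) (by omega) with h6 | ⟨h6, h6'⟩ <;>
    rcases n10 (u := q) (by omega) with h7 | ⟨h7, h7'⟩
  · -- the only nonlinear case
    have h8 : u ^ 4 = q * (q ^ 3 + q ^ 2 + q + 1) := by
      have : u ^ 4 + 1 = q ^ 4 + q ^ 3 + q ^ 2 + q + 1 := by omega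
      have h9 : q * (q ^ 3 + q ^ 2 + q + 1) = q ^ 4 + q ^ 3 + q ^ 2 + q := by ring
      omega
    have h9 : q ∣ u ^ 4 := ⟨_, h8⟩
    have h10 := Nat.Coprime.eq_one_of_dvd (hcop.symm.pow_right 4) h9
    omega
  · omega
  · omega
  · obtain ⟨-, h8⟩ := five5 hq h6
    obtain ⟨-, h9⟩ := five10 hq ho h7
    omega
  · omega
  · omega
  · omega
  · obtain ⟨-, h8⟩ := five5 hq h6
    obtain ⟨-, h9⟩ := five10 hq ho h7
    omega

/-- `NN u 12 = NN q 5`, `NN u 8 = NN q 10` -/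
theorem eq_b (hu : 2 ≤ u) (hq : 3 ≤ q) (ho : q % 2 = 1) (h1 : NN u 12 = NN q 5) (h2 : NN u 8 = NN q 10) : False := by
  obtain ⟨h3, h3'⟩ := XY hu
  have h4 := A_le hq
  have hA : q ^ 4 + q ^ 2 + 1 < q ^ 4 + q ^ 3 + q ^ 2 + q + 1 + (q ^ 3 + q) := by
    have : 0 < q ^ 3 := by positivity
    omega
  rcases n8 hu with h5 | h5 <;> rcases n5 (u := q) (by omega) with h6 | ⟨h6, h6'⟩ <;>
    rcases n10 (u := q) (by omega) with h7 | ⟨h7, h7'⟩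
  · omega
  · omega
  · omega
  · obtain ⟨-, h8⟩ := five5 hq h6
    obtain ⟨-, h9⟩ := five10 hq ho h7
    omega
  · -- the special case
    have h8 := n12 hu
    -- `u ^ 4 + 1 = 2 Φ₁₀`, `u ^ 2 = 2 Φ₁₀ - Φ₅`
    have h9 : u ^ 2 + 3 * q ^ 3 + 3 * q = q ^ 4 + q ^ 2 + 1 := by omega
    have h10 : u ^ 4 + 1 + 2 * q ^ 3 + 2 * q = 2 * (q ^ 4 + q ^ 2 + 1) := by omega
    rcases Nat.lt_or_ge q 5 with h11 | h11
    · interval_cases q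
      · have : u ^ 2 = 1 := by omega
        nlinarith
      · have h12 : u ^ 2 = 69 := by omega
        have h13 : u < 9 := by nlinarith
        interval_cases u <;> omega
    · have h12 : u ^ 4 = u ^ 2 * u ^ 2 := by ring
      have h13 : 2 * q ^ 2 ≤ u ^ 2 := by
        obtain ⟨x, rfl⟩ : ∃ x, q = x + 5 := ⟨q - 5, by omega⟩
        nlinarith [Nat.zero_le x, Nat.zero_le (x ^ 2), Nat.zero_le (x ^ 3), Nat.zero_le (x ^ 4)]
      have h14 : (2 * q ^ 2) * (2 * q ^ 2) ≤ u ^ 2 * u ^ 2 := Nat.mul_le_mul h13 h13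
      have h15 : (2 * q ^ 2) * (2 * q ^ 2) = 4 * q ^ 4 := by ring
      have h16 : q ^ 2 + 1 < q ^ 4 := by
        have : q ^ 4 = q ^ 2 * q ^ 2 := by ring
        nlinarith
      omega
  · omega
  · omega
  · obtain ⟨-, h8⟩ := five5 hq h6
    obtain ⟨-, h9⟩ := five10 hq ho h7
    omega

/-- `NN u 12 = NN q 12` -/
theorem eq_c (hu : 2 ≤ u) (hq : 3 ≤ q) (h : NN u 12 = NN q 12) : u = q := by
  have h1 := n12 hu
  have h2 := n12 (u := q) (by omega)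
  by_contra hne
  rcases Nat.lt_or_gt_of_ne hne with h3 | h3
  · have h4 : u ^ 4 + q ^ 2 < q ^ 4 + u ^ 2 := by
      obtain ⟨y, rfl⟩ : ∃ y, q = u + 1 + y := ⟨q - (u + 1), by omega⟩
      obtain ⟨x, rfl⟩ : ∃ x, u = x + 2 := ⟨u - 2, by omega⟩
      nlinarith [Nat.zero_le (x * y), Nat.zero_le (x ^ 2 * y), Nat.zero_le (x ^ 3 * y), Nat.zero_le (x * y ^ 2),
        Nat.zero_le (x ^ 2 * y ^ 2), Nat.zero_le (x * y ^ 3), Nat.zero_le (y ^ 2), Nat.zero_le (y ^ 3),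
        Nat.zero_le (y ^ 4), Nat.zero_le (x ^ 2), Nat.zero_le (x ^ 3)]
    omega
  · have h4 : q ^ 4 + u ^ 2 < u ^ 4 + q ^ 2 := by
      obtain ⟨y, rfl⟩ : ∃ y, u = q + 1 + y := ⟨u - (q + 1), by omega⟩
      obtain ⟨x, rfl⟩ : ∃ x, q = x + 2 := ⟨q - 2, by omega⟩
      nlinarith [Nat.zero_le (x * y), Nat.zero_le (x ^ 2 * y), Nat.zero_le (x ^ 3 * y), Nat.zero_le (x * y ^ 2),
        Nat.zero_le (x ^ 2 * y ^ 2), Nat.zero_le (x * y ^ 3), Nat.zero_le (y ^ 2), Nat.zero_le (y ^ 3),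
        Nat.zero_le (y ^ 4), Nat.zero_le (x ^ 2), Nat.zero_le (x ^ 3)]
    omega

end R6

end Cfsg.Agent.R2.Spec.EE
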