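import Cfsg.Agent.R2.Spec.EE.ReeNum2
import Cfsg.Agent.R2.Spec.EE.SurvE8
import Cfsg.Agent.R2.Spec.EE.SokRee
import Cfsg.Agent.R2.Spec.F1.HW
import Cfsg.Agent.R2.Spec.P1.TopTwo

/-!
# `S = Ree(u)` : the isolated classes of `L` (helper29)
-/

set_option autoImplicit false
set_option linter.unusedSectionVars false
set_option linter.unusedVariables false

namespace Cfsg.Agent.R2.Spec.EE

open Subgroup Cfsg
open Cfsg.Agent.H426.LieFam Cfsg.Agent.R2.Spec Cfsg.Agent.R2.Spec.P1 Cfsg.Agent.R2.Spec.F1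
open ReeNum

universe u w

/-- the four numbers: `T` with `T ∣ X`, `X` one of the numbers `XN` -/
def TN (m : ℕ) : ℕ → ℕ
  | 0 => 3 ^ (2 * m + 1) - 1
  | 1 => (3 ^ (2 * m + 1) + 1) / 2
  | 2 => 3 ^ (2 * m + 1) + 3 ^ (m + 1) + 1
  | _ => 3 ^ (2 * m + 1) - 3 ^ (m + 1) + 1

theorem ree_spec {S : Type u} [Group S] [Finite S] {v f : ℕ} (h : Fam.Is v f S .ree) :
    v = 3 ∧ ∃ m, 1 ≤ m ∧ f = 2 * m + 1 ∧ ∀ d, (∃ g : S, orderOf g = d) ↔ (d ∣ 6 ∨ d ∣ 9 ∨ ∃ a < 4, d ∣ TN m a) := by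
  obtain ⟨rfl, m, hm, hf, K, _, _, hK, ⟨e⟩⟩ := h
  refine ⟨rfl, m, hm, hf, fun d => ?_⟩
  have h1 : (∃ g : S, orderOf g = d) ↔ (d ∣ 6 ∨ d ∣ 9 ∨ d ∣ 3 ^ (2 * m + 1) - 1 ∨ d ∣ (3 ^ (2 * m + 1) + 1) / 2 ∨
      d ∣ 3 ^ (2 * m + 1) - 3 ^ (m + 1) + 1 ∨ d ∣ 3 ^ (2 * m + 1) + 3 ^ (m + 1) + 1) := by
    rw [← S1159.result hm hK d]
    constructor
    · rintro ⟨g, hg⟩
      exact ⟨e g, by rw [MulEquiv.orderOf_eq, hg]⟩
    · rintro ⟨g, hg⟩
      exact ⟨e.symm g, by rw [MulEquiv.orderOf_eq, hg]⟩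
  rw [h1]
  constructor
  · rintro (h | h | h | h | h | h)
    · exact Or.inl h
    · exact Or.inr (Or.inl h)
    · exact Or.inr (Or.inr ⟨0, by norm_num, h⟩)
    · exact Or.inr (Or.inr ⟨1, by norm_num, h⟩)
    · exact Or.inr (Or.inr ⟨3, by norm_num, h⟩)
    · exact Or.inr (Or.inr ⟨2, by norm_num, h⟩)
  · rintro (h | h | ⟨a, ha, h⟩)
    · exact Or.inl h
    · exact Or.inr (Or.inl h)
    · rcases (by omega : a = 0 ∨ a = 1 ∨ a = 2 ∨ a = 3) with rfl | rfl | rfl | rfl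
      · exact Or.inr (Or.inr (Or.inl h))
      · exact Or.inr (Or.inr (Or.inr (Or.inl h)))
      · exact Or.inr (Or.inr (Or.inr (Or.inr (Or.inr h))))
      · exact Or.inr (Or.inr (Or.inr (Or.inr (Or.inl h))))

theorem pow_le3 (m : ℕ) : 3 ^ (m + 1) ≤ 3 ^ (2 * m + 1) := Nat.pow_le_pow_right (by norm_num) (by omega)

/-- `X` divides `2 N` if `T` divides `N` -/
theorem XN_dvd {m a N : ℕ} (ha : a < 4) (h : TN m a ∣ N) : XN m a ∣ 2 * N := by
  rcases (by omega : a = 0 ∨ a = 1 ∨ a = 2 ∨ a = 3) with rfl | rfl | rfl | rfl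
  · exact (show XN m 0 ∣ N from h).mul_left 2
  · have h2 : XN m 1 = 2 * TN m 1 := by
      show 3 ^ (2 * m + 1) + 1 = 2 * ((3 ^ (2 * m + 1) + 1) / 2)
      have : 3 ^ (2 * m + 1) % 2 = 1 := by rw [Nat.pow_mod]; norm_num
      omega
    rw [h2]
    exact mul_dvd_mul_left 2 h
  · exact (show XN m 2 ∣ N from h).mul_left 2
  · have h2 : XN m 3 = TN m 3 := by
      show 3 ^ (2 * m + 1) + 1 - 3 ^ (m + 1) = 3 ^ (2 * m + 1) - 3 ^ (m + 1) + 1
      have := pow_le3 m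
      omega
    rw [h2]
    exact h.mul_left 2

theorem TN_dvd_XN {m a : ℕ} (ha : a < 4) : TN m a ∣ XN m a := by
  rcases (by omega : a = 0 ∨ a = 1 ∨ a = 2 ∨ a = 3) with rfl | rfl | rfl | rfl
  · exact dvd_rfl
  · show (3 ^ (2 * m + 1) + 1) / 2 ∣ 3 ^ (2 * m + 1) + 1
    refine Nat.div_dvd_of_dvd ?_
    have : 3 ^ (2 * m + 1) % 2 = 1 := by rw [Nat.pow_mod]; norm_num
    omega
  · exact dvd_rfl
  · show 3 ^ (2 * m + 1) - 3 ^ (m + 1) + 1 ∣ 3 ^ (2 * m + 1) + 1 - 3 ^ (m + 1)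
    have := pow_le3 m
    rw [show 3 ^ (2 * m + 1) - 3 ^ (m + 1) + 1 = 3 ^ (2 * m + 1) + 1 - 3 ^ (m + 1) by omega]

theorem XN_cast {m a : ℕ} (ha : a < 4) : ((XN m a : ℕ) : ℤ) = NRee (2 * m + 1) a := by
  have e1 : (2 * m + 1 + 1) / 2 = m + 1 := by omega
  have h1 := pow_le3 m
  have h2 : 1 ≤ 3 ^ (2 * m + 1) := Nat.one_le_pow _ _ (by norm_num)
  rcases (by omega : a = 0 ∨ a = 1 ∨ a = 2 ∨ a = 3) with rfl | rfl | rfl | rfl
  · simp only [XN, NRee]; rw [Nat.cast_sub h2]; push_cast; ring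
  · simp only [XN, NRee]; push_cast; ring
  · simp only [XN, NRee, e1]; push_cast; ring
  · simp only [XN, NRee, e1]; rw [Nat.cast_sub (by omega)]; push_cast; ring

theorem XN_uniq {m r a b : ℕ} (hr : r.Prime) (h5 : 5 ≤ r) (ha : a < 4) (hb : b < 4) (h1 : r ∣ XN m a) (h2 : r ∣ XN m b) :
    a = b := by
  refine NRee_uniq (m := m) rfl hr h5 ha hb ?_ ?_
  · rw [← XN_cast ha]; exact_mod_cast h1
  · rw [← XN_cast hb]; exact_mod_cast h2

theorem RX_of {m a : ℕ} (ha : a < 4) : RX (3 ^ (2 * m + 1)) (3 ^ (m + 1)) (XN m a : ℕ) := by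
  have e1 : (2 * m + 1 + 1) / 2 = m + 1 := by omega
  rw [XN_cast ha]
  rcases (by omega : a = 0 ∨ a = 1 ∨ a = 2 ∨ a = 3) with rfl | rfl | rfl | rfl <;> simp only [NRee, e1, RX] <;> tauto

section

variable {t : Fam} {p f : ℕ} {L : Type w} [Group L] [Finite L] {G : Type u} [Group G] [Finite G]
  {K : Subgroup G} [K.Normal] {S : Subgroup (G ⧸ K)} [S.Normal] {v f' : ℕ} {T : Tab} {k : ℕ → ℕ}

/-- combinatorial data: the isolated classes `i`, `j`, and two witnesses -/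
structure Wit (t : Fam) (i j a b : ℕ) : Prop where
  i3 : 3 ≤ i
  j3 : 3 ≤ j
  a3 : 3 ≤ a
  b3 : 3 ≤ b
  mi : mem t i
  mj : mem t j
  ma : mem t a
  mb : mem t b
  ti : top t i
  tj : top t j
  ij : na t i j
  ia : na t i a
  ib : na t i b
  ja : na t j a
  jb : na t j b
  ab : na t a b
  pi : nap t i
  pj : nap t j
  pa : ¬ nap t a
  pb : ¬ nap t b

/-- **The primes of the isolated classes are good.** -/
theorem EX.ree_good (h : EX t p f L G K S .ree v f' T k) {i j a b : ℕ} (W : Wit t i j a b) {r : ℕ}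
    (hr : In t (p ^ f) i r) : ¬ r ∣ Nat.card ↥K * S.index := by
  intro hbad
  obtain ⟨hv, m, hm, hf, hS⟩ := ree_spec h.frm.is
  obtain ⟨z, hz⟩ := h.exists_in W.j3 W.mj
  obtain ⟨x, hx⟩ := h.exists_in W.a3 W.ma
  obtain ⟨y, hy⟩ := h.exists_in W.b3 W.mb
  have hpp := h.ls.prime
  have hp5 : 5 ≤ p := by
    have h2 := hpp.two_le
    have h3 := h.p2
    have h4 : p ≠ 3 := fun e => h.vp (by rw [hv, e])
    have h5 : p ≠ 4 := fun e => by rw [e] at hpp; exact absurd hpp (by norm_num)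
    omega
  have hne : ∀ {c s : ℕ}, In t (p ^ f) c s → s ≠ p := fun hs e => hs.not_dvd h.ls.fpos (by rw [e])
  have hpG : p ∣ Nat.card G := by
    obtain ⟨g, hg⟩ := (h.ls.adjp_iff hx).2 W.pa
    exact (dvd_mul_left p x).trans (hg ▸ orderOf_dvd_natCard g)
  have comm' : ∀ {c d : ℕ}, (¬ ∃ g : G, orderOf g = c * d) → ¬ ∃ g : G, orderOf g = d * c := fun h1 => by
    rwa [mul_comm]
  have gp : ¬ p ∣ Nat.card ↥K * S.index :=
    (Red.two_bad h.red hr.prime hpp hz.prime (hr.dvd h.ls) hpG (hz.dvd h.ls) (hne hr) (hr.ne hz (na_ne W.ij)) (hne hz).symm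
      (fun hg => (h.ls.adjp_iff hr).1 hg W.pi) (fun hg => (h.ls.adj_iff hr hz (hr.ne hz (na_ne W.ij))).1 hg W.ij)
      (comm' fun hg => (h.ls.adjp_iff hz).1 hg W.pj) hbad).1
  have gx := (h.ls.good_of_bad h.red hr hx hz W.ia W.ij (na_symm W.ja) hbad).1
  have gy := (h.ls.good_of_bad h.red hr hy hz W.ib W.ij (na_symm W.jb) hbad).1
  have key : ∀ {c s : ℕ}, In t (p ^ f) c s → ¬ nap t c → ¬ s ∣ Nat.card ↥K * S.index →
      ∃ d < 4, s ∣ XN m d ∧ p ∣ XN m d := by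
    intro c s hs hc hgs
    obtain ⟨g, hg⟩ := order_good (S := S) ((h.ls.adjp_iff hs).2 hc) (fun r hr hd => by
      rcases (hr.dvd_mul).1 hd with h1 | h1
      · rw [(Nat.prime_dvd_prime_iff_eq hr hs.prime).1 h1]; exact hgs
      · rw [(Nat.prime_dvd_prime_iff_eq hr hpp).1 h1]; exact gp)
    rcases (hS _).1 ⟨g, hg⟩ with h1 | h1 | ⟨d, hd, h1⟩
    · have h2 := Nat.le_of_dvd (by norm_num) h1
      have h3 := hs.five
      nlinarith
    · have h2 := Nat.le_of_dvd (by norm_num) h1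
      have h3 := hs.five
      nlinarith
    · have h2 := h1.trans (TN_dvd_XN hd)
      exact ⟨d, hd, (dvd_mul_right _ _).trans h2, (dvd_mul_left _ _).trans h2⟩
  obtain ⟨d, hd, d1, d2⟩ := key hx W.pa gx
  obtain ⟨d', hd', d3, d4⟩ := key hy W.pb gy
  have e := XN_uniq hpp hp5 hd hd' d2 d4
  subst e
  have hxy := hx.ne hy (na_ne W.ab)
  have hdv : x * y ∣ XN m d := ((Nat.coprime_primes hx.prime hy.prime).2 hxy).mul_dvd_of_dvd_of_dvd d1 d3
  refine (h.ls.adj_iff hx hy hxy).1 ?_ W.ab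
  have hodd : Nat.Coprime (x * y) 2 := Nat.Coprime.mul_left ((Nat.coprime_primes hx.prime Nat.prime_two).2 hx.ne_two)
    ((Nat.coprime_primes hy.prime Nat.prime_two).2 hy.ne_two)
  have hT : x * y ∣ TN m d := by
    rcases (by omega : d = 0 ∨ d = 1 ∨ d = 2 ∨ d = 3) with rfl | rfl | rfl | rfl
    · exact hdv
    · have h2 : XN m 1 = TN m 1 * 2 := by
        show 3 ^ (2 * m + 1) + 1 = (3 ^ (2 * m + 1) + 1) / 2 * 2
        have : 3 ^ (2 * m + 1) % 2 = 1 := by rw [Nat.pow_mod]; norm_num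
        omega
      rw [h2] at hdv
      exact hodd.dvd_of_dvd_mul_right hdv
    · exact hdv
    · have h2 : XN m 3 = TN m 3 := by
        show 3 ^ (2 * m + 1) + 1 - 3 ^ (m + 1) = 3 ^ (2 * m + 1) - 3 ^ (m + 1) + 1
        have := pow_le3 m
        omega
      rw [h2] at hdv
      exact hdv
  exact exists_of_S ((hS _).2 (Or.inr (Or.inr ⟨d, hd, hT⟩)))

/-- the class number of a good class is in one of the tori, which is in the torus of `L` -/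
theorem EX.ree_torus (h : EX t p f L G K S .ree v f' T k) {i j a b : ℕ} (W : Wit t i j a b) {m : ℕ}
    (hS : ∀ d, (∃ g : ↥S, orderOf g = d) ↔ (d ∣ 6 ∨ d ∣ 9 ∨ ∃ a < 4, d ∣ TN m a)) {M : ℕ}
    (hM : M ∣ tnum t (p ^ f) i) (hMo : Odd M) (hin : ∀ r : ℕ, r.Prime → r ∣ M → In t (p ^ f) i r) (hM1 : M ≠ 1) :
    ∃ x < 4, M ∣ XN m x ∧ XN m x ∣ 2 * ttor t (p ^ f) i ∧ ∀ r, In t (p ^ f) i r → r ∣ M → r ∣ TN m x := by
  obtain ⟨g, hg⟩ := order_good (S := S) (exists_tor h.ls h.is W.i3 W.mi hMo hM hin)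
    (fun r hr hd => h.ree_good W (hin r hr hd))
  obtain ⟨r, hr, hrM⟩ := Nat.exists_prime_and_dvd hM1
  have hI := hin r hr hrM
  have h5 := hI.five
  rcases (hS _).1 ⟨g, hg⟩ with h1 | h1 | ⟨x, hx, h1⟩
  · have h2 : r ∣ 2 * 3 := hrM.trans h1
    rcases (hr.dvd_mul).1 h2 with h3 | h3 <;> have := Nat.le_of_dvd (by norm_num) h3 <;> omega
  · have h2 : r ∣ 3 ^ 2 := hrM.trans h1
    have h3 := hr.dvd_of_dvd_pow h2
    have := Nat.le_of_dvd (by norm_num) h3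
    omega
  · refine ⟨x, hx, h1.trans (TN_dvd_XN hx), XN_dvd hx ?_, fun s _ hs => hs.trans h1⟩
    obtain ⟨y, hy⟩ := (h.ls.ord _).1 (exists_of_S ((hS _).2 (Or.inr (Or.inr ⟨x, hx, dvd_rfl⟩))))
    have h2 := (top_facts_all h.ls.cla h.ls.prime h.is).ub r hr (hI.not_dvd h.ls.fpos) (by rw [hI.cls_eq]; exact W.ti) y
      (by rw [hy]; exact hrM.trans h1)
    rw [hy, hI.cls_eq] at h2
    exact h2

end

end Cfsg.Agent.R2.Spec.EE
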