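import Cfsg.Agent.R2.Spec.EE.SmRee
import Cfsg.Agent.R2.Spec.EE.SmDef

/-!
# `S = Ree(u)`, small ranks (helper29)
-/

set_option autoImplicit false
set_option linter.unusedSectionVars false
set_option linter.unusedVariables false

namespace Cfsg.Agent.R2.Spec.EE

open Subgroup Cfsg
open Cfsg.Agent.H426.LieFam Cfsg.Agent.R2.Spec Cfsg.Agent.R2.Spec.P1 Cfsg.Agent.R2.Spec.F1
open Cfsg.Agent.H365.Zsig
open ReeNum

universe u w

/-! ### the finite check -/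

theorem allg_spec {N Ph l : ℕ} : ∀ {n g : ℕ}, allg N Ph l n = true → g < n → 1 ≤ g → one N Ph l g = true
  | 0, g, _, h, _ => absurd h (by omega)
  | n + 1, g, h, hg, h1 => by
    rw [allg, Bool.and_eq_true, Bool.or_eq_true] at h
    rcases Nat.lt_succ_iff_lt_or_eq.1 hg with h2 | h2
    · exact allg_spec h.2 h2 h1
    · subst h2
      rcases h.1 with h3 | h3
      · rw [Nat.beq_eq] at h3
        omega
      · exact h3

theorem one_spec {N Ph l g a : ℕ} (h : one N Ph l g = true) (ha : a < 4) (hX : XN g a ∣ N) (hl : Ph ≤ l * XN g a) : False := by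
  have key : ∀ a, ((N % XN g a == 0) && Nat.ble Ph (l * XN g a)) = true ∨ ¬ (XN g a ∣ N ∧ Ph ≤ l * XN g a) := by
    intro a
    by_cases h1 : XN g a ∣ N ∧ Ph ≤ l * XN g a
    · left
      rw [Bool.and_eq_true, beq_iff_eq, Nat.ble_eq]
      exact ⟨Nat.mod_eq_zero_of_dvd h1.1, h1.2⟩
    · exact Or.inr h1
  simp only [ReeNum.one, Bool.and_eq_true, Bool.not_eq_true'] at h
  obtain ⟨⟨⟨h0, h1⟩, h2⟩, h3⟩ := h
  rcases (by omega : a = 0 ∨ a = 1 ∨ a = 2 ∨ a = 3) with rfl | rfl | rfl | rfl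
  · rcases key 0 with h4 | h4
    · rw [h0] at h4; exact Bool.noConfusion h4
    · exact h4 ⟨hX, hl⟩
  · rcases key 1 with h4 | h4
    · rw [h1] at h4; exact Bool.noConfusion h4
    · exact h4 ⟨hX, hl⟩
  · rcases key 2 with h4 | h4
    · rw [h2] at h4; exact Bool.noConfusion h4
    · exact h4 ⟨hX, hl⟩
  · rcases key 3 with h4 | h4
    · rw [h3] at h4; exact Bool.noConfusion h4
    · exact h4 ⟨hX, hl⟩

theorem XN_ge {g a : ℕ} (hg : 1 ≤ g) (ha : a < 4) : 3 ^ (2 * g) ≤ XN g a := by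
  have h1 : 3 ^ (2 * g + 1) = 3 * 3 ^ (2 * g) := by rw [pow_succ]; ring
  have h2 : 3 ^ (g + 1) = 3 * 3 ^ g := by rw [pow_succ]; ring
  have h3 : 3 ^ (2 * g) = 3 ^ g * 3 ^ g := by rw [← pow_add]; congr 1; omega
  have h4 : 3 ^ 1 ≤ 3 ^ g := Nat.pow_le_pow_right (by norm_num) hg
  have h5 : 3 * 3 ^ g ≤ 3 ^ (2 * g) := by rw [h3]; exact Nat.mul_le_mul_right _ (by simpa using h4)
  rcases (by omega : a = 0 ∨ a = 1 ∨ a = 2 ∨ a = 3) with rfl | rfl | rfl | rfl <;> simp only [XN] <;> rw [h1]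
  · omega
  · omega
  · omega
  · rw [h2]; omega

theorem no_small {N Ph l g a : ℕ} (hN0 : 0 < N) (hN : N < 3 ^ 48) (h : allg N Ph l 24 = true) (hg : 1 ≤ g) (ha : a < 4)
    (hX : XN g a ∣ N) (hl : Ph ≤ l * XN g a) : False := by
  have h1 : g < 24 := by
    by_contra hcon
    have h2 := XN_ge hg ha
    have h3 := Nat.le_of_dvd hN0 hX
    have h4 : 3 ^ 48 ≤ 3 ^ (2 * g) := Nat.pow_le_pow_right (by norm_num) (by omega)
    omega
  exact one_spec (allg_spec h h1 hg) ha hX hl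

theorem allq_spec : ∀ {n x : ℕ}, allq n = true → x < n → ¬ 3 ∣ 2 * x + 3 →
    allg (2 * ((2 * x + 3) ^ 5 - 1)) (P5 (2 * x + 3)) 5 24 = true ∧
    allg (2 * ((2 * x + 3) ^ 5 + 1)) (P10 (2 * x + 3)) 5 24 = true ∧
    allg (2 * ((2 * x + 3) ^ 7 - 1)) (P7 (2 * x + 3)) 7 24 = true ∧
    allg (2 * ((2 * x + 3) ^ 7 + 1)) (P14 (2 * x + 3)) 7 24 = true
  | 0, x, _, h, _ => absurd h (by omega)
  | n + 1, x, h, hx, h3 => by
    rw [allq, Bool.and_eq_true] at h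
    rcases Nat.lt_succ_iff_lt_or_eq.1 hx with h2 | h2
    · exact allq_spec h.2 h2 h3
    · subst h2
      rw [Bool.or_eq_true, Bool.and_eq_true, Bool.and_eq_true, Bool.and_eq_true, beq_iff_eq] at h
      rcases h.1 with h4 | h4
      · exact absurd (Nat.dvd_of_mod_eq_zero h4) h3
      · exact ⟨h4.1.1.1, h4.1.1.2, h4.1.2, h4.2⟩

/-- the finite check, for `q` odd, `q ≤ 1201` -/
theorem chk_all {q : ℕ} (hq : q % 2 = 1) (hq3 : 3 ≤ q) (h3 : ¬ 3 ∣ q) (hQ : q < 1203) :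
    allg (2 * (q ^ 5 - 1)) (P5 q) 5 24 = true ∧ allg (2 * (q ^ 5 + 1)) (P10 q) 5 24 = true ∧
    allg (2 * (q ^ 7 - 1)) (P7 q) 7 24 = true ∧ allg (2 * (q ^ 7 + 1)) (P14 q) 7 24 = true := by
  obtain ⟨x, rfl⟩ : ∃ x, q = 2 * x + 3 := ⟨(q - 3) / 2, by omega⟩
  exact allq_spec allq_ok (by omega) h3

section

variable {t : Fam} {p f : ℕ} {L : Type w} [Group L] [Finite L] {G : Type u} [Group G] [Finite G]
  {K : Subgroup G} [K.Normal] {S : Subgroup (G ⧸ K)} [S.Normal] {v f' : ℕ} {T : Tab} {k : ℕ → ℕ}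

theorem Wit.symm {t : Fam} {i j a b : ℕ} (W : Wit t i j a b) : Wit t j i a b :=
  ⟨W.j3, W.i3, W.a3, W.b3, W.mj, W.mi, W.ma, W.mb, W.tj, W.ti, na_symm W.ij, W.ja, W.jb, W.ia, W.ib, W.ab, W.pj, W.pi,
    W.pa, W.pb⟩

/-- the two tori -/
theorem EX.ree_two (h : EX t p f L G K S .ree v f' T k) {i j a b : ℕ} (W : Wit t i j a b) {M M' : ℕ}
    (hM : M ∣ tnum t (p ^ f) i) (hMo : Odd M) (hin : ∀ r : ℕ, r.Prime → r ∣ M → In t (p ^ f) i r) (hM1 : M ≠ 1)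
    (hM' : M' ∣ tnum t (p ^ f) j) (hMo' : Odd M') (hin' : ∀ r : ℕ, r.Prime → r ∣ M' → In t (p ^ f) j r) (hM1' : M' ≠ 1) :
    ∃ m x y, 1 ≤ m ∧ x < 4 ∧ y < 4 ∧ x ≠ y ∧ M ∣ XN m x ∧ XN m x ∣ 2 * ttor t (p ^ f) i ∧ M' ∣ XN m y ∧
      XN m y ∣ 2 * ttor t (p ^ f) j := by
  obtain ⟨hv, m, hm, hf, hS⟩ := ree_spec h.frm.is
  obtain ⟨x, hx, x1, x2, x3⟩ := h.ree_torus W hS hM hMo hin hM1
  obtain ⟨y, hy, y1, y2, y3⟩ := h.ree_torus W.symm hS hM' hMo' hin' hM1'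
  refine ⟨m, x, y, hm, hx, hy, ?_, x1, x2, y1, y2⟩
  rintro rfl
  obtain ⟨r, hr, hrM⟩ := Nat.exists_prime_and_dvd hM1
  obtain ⟨s, hs, hsM⟩ := Nat.exists_prime_and_dvd hM1'
  have hrI := hin r hr hrM
  have hsI := hin' s hs hsM
  have hne := hrI.ne hsI (na_ne W.ij)
  have hdv : r * s ∣ TN m x := ((Nat.coprime_primes hr hs).2 hne).mul_dvd_of_dvd_of_dvd (x3 r hrI hrM) (y3 s hsI hsM)
  exact (h.ls.adj_iff hrI hsI hne).1 (exists_of_S ((hS _).2 (Or.inr (Or.inr ⟨x, hx, hdv⟩)))) W.ij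

/-- facts on `q` -/
theorem EX.ree_q (h : EX t p f L G K S .ree v f' T k) : (p ^ f) % 2 = 1 ∧ 5 ≤ p ^ f ∧ ¬ 3 ∣ p ^ f := by
  obtain ⟨hv, -⟩ := ree_spec h.frm.is
  obtain ⟨h1, h2⟩ := h.q_odd
  have h3 : ¬ 3 ∣ p ^ f := by
    intro h3
    have h4 := (Nat.prime_dvd_prime_iff_eq Nat.prime_three h.ls.prime).1 (Nat.prime_three.dvd_of_dvd_pow h3)
    exact h.vp (hv.trans h4)
  refine ⟨h1, ?_, h3⟩
  by_contra hcon
  have h5 : p ^ f = 3 ∨ p ^ f = 4 := by omega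
  rcases h5 with h5 | h5 <;> rw [h5] at h1 h3
  · exact h3 dvd_rfl
  · norm_num at h1

/-- a class number -/
theorem EX.cn (h : EX t p f L G K S .ree v f' T k) {i l : ℕ} (hi : 3 ≤ i) (hm : mem t i)
    (hl : ∀ r ∈ List.range (idx t i + 1), r ∣ idx t i → l < r → ¬ r.Prime) (h0 : 0 < idx t i) (hl1 : 1 ≤ l)
    (hl2 : l < Ph (idx t i) (p ^ f)) :
    ∃ M : ℕ, M ∣ tnum t (p ^ f) i ∧ Odd M ∧ (∀ r : ℕ, r.Prime → r ∣ M → In t (p ^ f) i r) ∧ M ≠ 1 ∧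
      Ph (idx t i) (p ^ f) ≤ l * M := by
  obtain ⟨h1, h2, -⟩ := h.ree_q
  obtain ⟨M, m1, m2, m3, m4⟩ := class_num6 h.ls.cla h1 (by omega) hi hm (prime_le h0 hl) hl1
  exact ⟨M, m1, m2, m3, fun e => by rw [e] at m4; omega, m4⟩

end

end Cfsg.Agent.R2.Spec.EE
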