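import Cfsg.Agent.R2.Spec.EE.TabDef
import Cfsg.Agent.R2.Spec.EE.CertTab
import Cfsg.Agent.H482.TwoCyc.Untw
import Cfsg.Agent.H378.RegE7

/-!
# Tools for the tables of the exceptional groups (helper6)

* `od_pos`, `od_cases` : the order of `q` modulo `r`;
* `cyc_of_od` : `r ∣ Φ_a(q)` if `q` has order `a` modulo `r`;
* `eq_of_cyc` : `r ∣ Φ_n(q)`, `φ(n) ≤ 7`, `q` of order `a ≥ 3` modulo `r` : `n = a`;
* `exists_two` : the classes of two primes dividing `∏ Φ_n(q)`;
* `no_eig_char` : no eigencharacters of order `v`, `v ∣ q`.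
-/

set_option autoImplicit false
set_option linter.unusedSectionVars false

namespace Cfsg.Agent.R2.Spec.EE.SokB

open Cfsg Cfsg.Lie Cfsg.Agent Cfsg.Agent.H493 Cfsg.Agent.H493.PGTorus Cfsg.Agent.H493.PGCyc
open Cfsg.Agent.H378.ExcAdj (od od_dvd)
open Cfsg.Agent.H378.RegFin (cyclotomic_dvd od_of_dvd)
open Cfsg.Agent.H378.ExcNear (mod_of_od)

universe u

theorem od_pos {q r : ℕ} (hr : r.Prime) (h : ¬ r ∣ q) : 0 < od q r := by
  have : Fact r.Prime := ⟨hr⟩
  have h0 : ((q : ℕ) : ZMod r) ≠ 0 := fun h0 => h ((ZMod.natCast_eq_zero_iff q r).1 h0)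
  refine orderOf_pos_iff.2 (isOfFinOrder_iff_pow_eq_one.2 ⟨r - 1, by have := hr.two_le; omega, ?_⟩)
  exact ZMod.pow_card_sub_one_eq_one h0

/-- cyclotomic values -/
theorem cyc_of_od {r q a : ℕ} (hr : r.Prime) (ha : a ∈ [1, 2, 3, 4, 5, 6, 7, 8, 9, 10, 12, 14, 18]) (h : od q r = a) :
    (r : ℤ) ∣ CertTab.cyc a (q : ℤ) := by
  simp only [List.mem_cons, List.not_mem_nil, or_false] at ha
  rcases ha with rfl | rfl | rfl | rfl | rfl | rfl | rfl | rfl | rfl | rfl | rfl | rfl | rfl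
  · exact H378.CycTab.dvd1 h
  · exact H378.CycTab.dvd2 hr h
  · exact H378.CycTab.dvd3 hr h
  · exact H378.CycTab.dvd4 hr h
  · exact H378.CycTab.dvd5 hr h
  · exact H378.CycTab.dvd6 hr h
  · exact H378.CycTab.dvd7 hr h
  · exact H378.CycTab.dvd8 hr h
  · exact H378.CycTab.dvd9 hr h
  · exact H378.CycTab.dvd10 hr h
  · exact H378.CycTab.dvd12 hr h
  · exact H378.CycTab.dvd14 hr h
  · exact H378.CycTab.dvd18 hr h

/-- the index of the cyclotomic polynomial -/
theorem eq_of_cyc {r q n a : ℕ} (hr : r.Prime) (hn : 0 < n) (hφ : n.totient ≤ 7) (h : od q r = a) (ha : 3 ≤ a)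
    (hd : (r : ℤ) ∣ (Polynomial.cyclotomic n ℤ).eval ((q : ℕ) : ℤ)) : n = a := by
  have hF : Fact r.Prime := ⟨hr⟩
  have h1 : a ∣ n := by
    rw [← h]
    exact od_of_dvd (Int.natCast_dvd.1 hd)
  have h2 := mod_of_od hr h (by omega)
  by_cases hrn : r ∣ n
  · exfalso
    have hr2 := hr.two_le
    have h3 := Nat.le_of_dvd (by omega) h2
    have hr5 : 5 ≤ r := by
      by_contra h5
      have h4 : r = 4 := by omega
      rw [h4] at hr
      exact absurd hr (by norm_num)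
    have hcop : Nat.Coprime a r := by
      rw [Nat.coprime_comm]
      refine (Nat.Prime.coprime_iff_not_dvd hr).2 fun h4 => ?_
      have h5 := Nat.le_of_dvd (by omega) h4
      omega
    have h6 : a * r ∣ n := hcop.mul_dvd_of_dvd_of_dvd h1 hrn
    have h7 := Nat.totient_dvd_of_dvd h6
    rw [Nat.totient_mul hcop, Nat.totient_prime hr] at h7
    have h8 := Nat.le_of_dvd (Nat.totient_pos.2 hn) h7
    have h9 : 2 ≤ a.totient := by
      have h10 := Nat.totient_even (show 2 < a by omega)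
      have h11 := Nat.totient_pos.2 (show 0 < a by omega)
      obtain ⟨c, hc⟩ := h10
      omega
    have h12 : 2 * 4 ≤ a.totient * (r - 1) := Nat.mul_le_mul h9 (by omega)
    omega
  · have hn0 : NeZero ((n : ℕ) : ZMod r) := ⟨fun h3 => hrn ((ZMod.natCast_eq_zero_iff n r).1 h3)⟩
    have h3 : Polynomial.IsRoot (Polynomial.cyclotomic n (ZMod r)) ((q : ℕ) : ZMod r) := by
      rw [Polynomial.IsRoot.def, ← Polynomial.map_cyclotomic n (Int.castRingHom (ZMod r)),
        show ((q : ℕ) : ZMod r) = Int.castRingHom (ZMod r) ((q : ℕ) : ℤ) by simp, Polynomial.eval_map,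
        Polynomial.eval₂_at_apply]
      exact (ZMod.intCast_zmod_eq_zero_iff_dvd _ r).2 hd
    have h4 := Polynomial.isRoot_cyclotomic_iff.1 h3
    exact h4.eq_orderOf.trans h

/-- two primes -/
theorem exists_two {r s q l a b : ℕ} (hl : l ≤ 7) (hr : r.Prime) (hs : s.Prime) {S : Finset ℕ} (hS : ∀ n ∈ S, 0 < n)
    (hl' : ∑ n ∈ S, n.totient ≤ l) (ha : od q r = a) (hb : od q s = b) (ha3 : 3 ≤ a) (hb3 : 3 ≤ b) (hab : a ≠ b)
    (h1 : (r : ℤ) ∣ (∏ n ∈ S, Polynomial.cyclotomic n ℤ).eval ((q : ℕ) : ℤ))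
    (h2 : (s : ℤ) ∣ (∏ n ∈ S, Polynomial.cyclotomic n ℤ).eval ((q : ℕ) : ℤ)) : a.totient + b.totient ≤ l := by
  have key : ∀ {r a : ℕ}, r.Prime → od q r = a → 3 ≤ a →
      (r : ℤ) ∣ (∏ n ∈ S, Polynomial.cyclotomic n ℤ).eval ((q : ℕ) : ℤ) → a ∈ S := by
    intro r a hr ha ha3 h1
    rw [Polynomial.eval_prod] at h1
    obtain ⟨n, hn, hd⟩ := (Nat.prime_iff_prime_int.1 hr).exists_mem_finset_dvd h1
    have h3 : n.totient ≤ ∑ n ∈ S, n.totient := Finset.single_le_sum (fun i _ => Nat.zero_le (Nat.totient i)) hn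
    rw [← eq_of_cyc hr (hS n hn) (by omega) ha ha3 hd]
    exact hn
  have ha' := key hr ha ha3 h1
  have hb' := key hs hb hb3 h2
  have h3 : ∑ n ∈ ({a, b} : Finset ℕ), n.totient ≤ ∑ n ∈ S, n.totient := by
    refine Finset.sum_le_sum_of_subset fun x hx => ?_
    rw [Finset.mem_insert, Finset.mem_singleton] at hx
    rcases hx with rfl | rfl
    · exact ha'
    · exact hb'
  rw [Finset.sum_pair hab] at h3
  omega

end Cfsg.Agent.R2.Spec.EE.SokB
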