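import Cfsg.Agent.R2.Spec.EE.TabDef

/-!
# Groups whose tori are isolated (helper26)

`sok_of_part` : the classes are the prime divisors of pairwise coprime numbers `A i`, each element whose order is divisible by
a prime `≥ 5` has order dividing some `A i`.
-/

set_option autoImplicit false
set_option linter.unusedSectionVars false
set_option linter.unusedVariables false

namespace Cfsg.Agent.R2.Spec.EE

universe u

/-- the table of isolated classes -/
structure TabIso (T : Tab) (n : ℕ) : Prop where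
  hn : T.n = n
  adj : ∀ i < n, ∀ j < n, (T.adj.getD i 0).testBit j = true → i = j
  na : ∀ i < n, ∀ j < n, (T.na.getD i 0).testBit j = true → i ≠ j
  nt : ∀ i < n, T.nt.testBit i = false

theorem sok_of_part {S : Type u} [Group S] [Finite S] {v n : ℕ} {T : Tab} {k : ℕ → ℕ} (hT : TabIso T n) (A : ℕ → ℕ)
    (hcl : ∀ r : ℕ, r.Prime → 5 ≤ r → r ≠ v → ∀ m : ℕ, (∃ g : S, orderOf g = m) → r ∣ m →
      ∃ i < n, m ∣ A i ∧ ∀ d : ℕ, d ∣ A i → ∃ g : S, orderOf g = d)
    (hk : ∀ r : ℕ, r.Prime → 5 ≤ r → r ≠ v → ∀ i < n, r ∣ A i → k r = i)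
    (hv : ∀ i < n, ¬ v ∣ A i) : SOk T S v k := by
  have hex : ∀ r : ℕ, r.Prime → 5 ≤ r → r ≠ v → r ∣ Nat.card S →
      ∃ i < n, r ∣ A i ∧ k r = i ∧ ∀ d : ℕ, d ∣ A i → ∃ g : S, orderOf g = d := by
    intro r hr hr5 hrv hd
    have := Fact.mk hr
    obtain ⟨i, hi, h1, h2⟩ := hcl r hr hr5 hrv r (exists_prime_orderOf_dvd_card' r hd) dvd_rfl
    exact ⟨i, hi, h1, hk r hr hr5 hrv i hi h1, h2⟩
  refine ⟨?_, ?_, ?_, ?_, ?_⟩
  · intro r hr hr5 hrv hd
    obtain ⟨i, hi, -, h2, -⟩ := hex r hr hr5 hrv hd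
    rw [h2, hT.hn]
    exact hi
  · intro r s hr hs hr5 hs5 hrv hsv hrs hrd hsd hb
    obtain ⟨i, hi, h1, h2, h3⟩ := hex r hr hr5 hrv hrd
    obtain ⟨j, hj, h4, h5, h6⟩ := hex s hs hs5 hsv hsd
    rw [h2, h5] at hb
    obtain rfl := hT.adj i hi j hj hb
    exact h3 _ (((Nat.coprime_primes hr hs).2 hrs).mul_dvd_of_dvd_of_dvd h1 h4)
  · intro r s hr hs hr5 hs5 hrv hsv hrs hrd hsd hb hg
    obtain ⟨i, hi, h1, h2⟩ := hcl r hr hr5 hrv _ hg (Dvd.intro _ rfl)
    have hr' := hk r hr hr5 hrv i hi ((Dvd.intro _ rfl).trans h1)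
    have hs' := hk s hs hs5 hsv i hi ((Dvd.intro_left _ rfl).trans h1)
    rw [hr', hs'] at hb
    exact hT.na i hi i hi hb rfl
  · intro r hr hr5 hrv hrd hb hg
    obtain ⟨i, hi, h1, h2⟩ := hcl r hr hr5 hrv _ hg (Dvd.intro _ rfl)
    exact hv i hi ((Dvd.intro_left _ rfl).trans h1)
  · intro r hr hr5 hrv hrd hb
    obtain ⟨i, hi, -, h2, -⟩ := hex r hr hr5 hrv hrd
    rw [h2, hT.nt i hi] at hb
    exact absurd hb (by decide)

theorem tabIso_sz : TabIso tabSz 3 where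
  hn := rfl
  adj := by decide
  na := by decide
  nt := by decide

theorem tabIso_ree : TabIso tabRee 4 where
  hn := rfl
  adj := by decide
  na := by decide
  nt := by decide

end Cfsg.Agent.R2.Spec.EE
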