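import Cfsg.Agent.R2.Spec.EE.TabDef
import Cfsg.Agent.H371.Core.Fam
import Cfsg.Agent.H378.RegFin
import Cfsg.Agent.H168.ExcAdj

/-!
# Tools for the tables of the exceptional groups (helper1)
-/

set_option autoImplicit false

namespace Cfsg.Agent.R2.Spec.EE.Sm

open Cfsg.Agent.H378.ExcAdj Cfsg.Agent.H371.CycEval Cfsg.Agent.H371.Core Cfsg.Agent.H378

universe u w

theorem of_equiv {T : Tab} {S : Type u} {X : Type w} [Group S] [Group X] (e : S ≃* X) {v : ℕ} {k : ℕ → ℕ}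
    (h : SOk T X v k) : SOk T S v k := by
  have hc : Nat.card S = Nat.card X := Nat.card_congr e.toEquiv
  have ho : ∀ n : ℕ, (∃ g : S, orderOf g = n) ↔ ∃ g : X, orderOf g = n := fun n =>
    ⟨fun ⟨g, hg⟩ => ⟨e g, by rw [← hg]; exact orderOf_injective e.toMonoidHom e.injective g⟩,
      fun ⟨g, hg⟩ => ⟨e.symm g, by rw [← hg]; exact orderOf_injective e.symm.toMonoidHom e.symm.injective g⟩⟩
  constructor
  · intro r h1 h2 h3 h4
    rw [hc] at h4
    exact h.lt r h1 h2 h3 h4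
  · intro r s h1 h2 h3 h4 h5 h6 h7 h8 h9 h10
    rw [hc] at h8 h9
    rw [ho]
    exact h.adj r s h1 h2 h3 h4 h5 h6 h7 h8 h9 h10
  · intro r s h1 h2 h3 h4 h5 h6 h7 h8 h9 h10
    rw [hc] at h8 h9
    rw [ho]
    exact h.na r s h1 h2 h3 h4 h5 h6 h7 h8 h9 h10
  · intro r h1 h2 h3 h4 h5
    rw [hc] at h4
    rw [ho]
    exact h.tt r h1 h2 h3 h4 h5
  · intro r h1 h2 h3 h4 h5
    rw [hc] at h4
    rw [ho]
    exact h.nt r h1 h2 h3 h4 h5

/-- the order from the value of the cyclotomic polynomial -/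
theorem od_of_ev {q s m : ℕ} (hs : s.Prime) (hsm : ¬ s ∣ m) (h : (s : ℤ) ∣ ev m q) : od q s = m := by
  have : Fact s.Prime := ⟨hs⟩
  have : NeZero ((m : ℕ) : ZMod s) := ⟨fun h0 => hsm ((ZMod.natCast_eq_zero_iff m s).1 h0)⟩
  have h1 : (((Polynomial.cyclotomic m ℤ).eval ((q : ℕ) : ℤ) : ℤ) : ZMod s) = 0 :=
    (ZMod.intCast_zmod_eq_zero_iff_dvd _ _).2 h
  have h3 : (((Polynomial.cyclotomic m ℤ).eval ((q : ℕ) : ℤ) : ℤ) : ZMod s) =
      (Polynomial.cyclotomic m (ZMod s)).eval ((q : ℕ) : ZMod s) := by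
    rw [← Polynomial.map_cyclotomic_int m (ZMod s)]
    have h4 := Polynomial.eval_intCast_map (Int.castRingHom (ZMod s)) (Polynomial.cyclotomic m ℤ) ((q : ℕ) : ℤ)
    rw [Int.cast_natCast] at h4
    rw [h4]
    rfl
  rw [h3] at h1
  exact (Polynomial.isRoot_cyclotomic_iff.1 h1).eq_orderOf.symm

/-- the order of a commuting element divides the order of the torus -/
theorem tor_no {X : Type*} [Group X] [Finite X] {q m T : ℕ} (h : Tor X q m T) {r s : ℕ} (hr : r.Prime) (hs : s.Prime)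
    (hrm : od q r = m) (hx : ∃ g : X, orderOf g = r * s) : s ∣ T := by
  obtain ⟨g, hg⟩ := hx
  have h1 : orderOf (g ^ s) = r := by
    rw [orderOf_pow_of_dvd hs.ne_zero (by rw [hg]; exact dvd_mul_left _ _), hg, Nat.mul_div_cancel _ hs.pos]
  have h2 : orderOf (g ^ r) = s := by
    rw [orderOf_pow_of_dvd hr.ne_zero (by rw [hg]; exact dvd_mul_right _ _), hg, Nat.mul_div_cancel_left _ hr.pos]
  have h3 : g ^ r ∈ Subgroup.centralizer {g ^ s} :=
    Subgroup.mem_centralizer_singleton_iff.2 ((Commute.refl g).pow_pow r s).eq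
  rw [← h.ct r hr hrm _ h1]
  have h4 : orderOf (⟨g ^ r, h3⟩ : Subgroup.centralizer {g ^ s}) = s := by rw [Subgroup.orderOf_mk, h2]
  have h5 := orderOf_dvd_natCard (⟨g ^ r, h3⟩ : Subgroup.centralizer {g ^ s})
  rwa [h4] at h5

/-- the class of `r` from its order -/
theorem kcl_eq {cl : List ℕ} {q r a : ℕ} (h : od q r = a) : kcl cl q r = cl.idxOf a := by
  unfold kcl
  rw [← h]

/-- nonadjacency from an isolated torus -/
theorem na_of_tor {X : Type*} [Group X] [Finite X] {q m : ℕ} (h : Tor X q m (ev m q).natAbs) {r s : ℕ} (hr : r.Prime)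
    (hs : s.Prime) (hrm : od q r = m) (hsm : ¬ s ∣ m) (hne : od q s ≠ m) : ¬ ∃ g : X, orderOf g = r * s := by
  intro hx
  have h1 := tor_no h hr hs hrm hx
  exact hne (od_of_ev hs hsm (Int.natCast_dvd.2 h1))

theorem swap {X : Type*} [Group X] {r s : ℕ} (h : ¬ ∃ g : X, orderOf g = r * s) : ¬ ∃ g : X, orderOf g = s * r := by
  rwa [mul_comm]

/-- the constant term -/
theorem not_dvd_ev {q v : ℕ} (hv : v.Prime) (hvq : v ∣ q) {m : ℕ} (hm : 2 ≤ m) : ¬ (v : ℤ) ∣ ev m q := by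
  intro h
  have h1 : (q : ℤ) - 0 ∣ ev m q - ev m 0 := Polynomial.sub_dvd_eval_sub _ _ _
  rw [sub_zero] at h1
  have h2 : ev m 0 = 1 := by
    change (Polynomial.cyclotomic m ℤ).eval 0 = 1
    rw [← Polynomial.coeff_zero_eq_eval_zero, Polynomial.cyclotomic_coeff_zero ℤ (by omega)]
  have h3 : (v : ℤ) ∣ ev m q - ev m 0 := (Int.natCast_dvd_natCast.2 hvq).trans h1
  rw [h2] at h3
  have h4 : (v : ℤ) ∣ 1 := by
    have := dvd_sub h h3
    rwa [sub_sub_cancel] at this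
  exact hv.one_lt.ne' (Nat.dvd_one.1 (by exact_mod_cast h4))

/-- nonadjacency with the characteristic from an isolated torus -/
theorem tt_of_tor {X : Type*} [Group X] [Finite X] {q m : ℕ} (h : Tor X q m (ev m q).natAbs) {r v : ℕ} (hr : r.Prime)
    (hv : v.Prime) (hvq : v ∣ q) (hrm : od q r = m) (hm : 2 ≤ m) : ¬ ∃ g : X, orderOf g = r * v := by
  intro hx
  exact not_dvd_ev hv hvq hm (Int.natCast_dvd.2 (tor_no h hr hv hrm hx))

/-! ### values -/

section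

open Cfsg.Agent.H168.ExcAdj

variable {q r : ℕ}

theorem one_ndvd (hr : r.Prime) : ¬ r ∣ 1 := fun h => hr.one_lt.ne' (Nat.dvd_one.1 h)

theorem p1 (hr : r.Prime) (h : od q r = 1) : phiC H493.PGCyc.c1 q 1 r := by
  refine ⟨one_ndvd hr, ?_⟩
  rw [H493.PGCyc.pv_c1, ← CycTab.pv1]
  exact CycTab.dvd1 h

theorem p2 (hr : r.Prime) (h : od q r = 2) : phiC H493.PGCyc.c2 q 1 r := by
  refine ⟨one_ndvd hr, ?_⟩
  rw [H493.PGCyc.pv_c2, ← CycTab.pv2]
  exact CycTab.dvd2 hr h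

theorem p3 (hr : r.Prime) (h : od q r = 3) : phiC H493.PGCyc.c3 q 1 r := by
  refine ⟨one_ndvd hr, ?_⟩
  rw [H493.PGCyc.pv_c3, ← CycTab.pv3]
  exact CycTab.dvd3 hr h

theorem p4 (hr : r.Prime) (h : od q r = 4) : phiC H493.PGCyc.c4 q 1 r := by
  refine ⟨one_ndvd hr, ?_⟩
  rw [H493.PGCyc.pv_c4, ← CycTab.pv4]
  exact CycTab.dvd4 hr h

theorem p6 (hr : r.Prime) (h : od q r = 6) : phiC H493.PGCyc.c6 q 1 r := by
  refine ⟨one_ndvd hr, ?_⟩
  rw [H493.PGCyc.pv_c6, ← CycTab.pv6]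
  exact CycTab.dvd6 hr h

theorem p8 (hr : r.Prime) (h : od q r = 8) : phiC H493.PGCyc.c8 q 1 r := by
  refine ⟨one_ndvd hr, ?_⟩
  rw [H493.PGCyc.pv_c8, ← CycTab.pv8]
  exact CycTab.dvd8 hr h

theorem p12 (hr : r.Prime) (h : od q r = 12) : phiC H493.PGCyc.c12 q 1 r := by
  refine ⟨one_ndvd hr, ?_⟩
  rw [H493.PGCyc.pv_c12, ← CycTab.pv12]
  exact CycTab.dvd12 hr h

/-- a prime `≥ 5` does not divide the given number -/
theorem ndvd {s m : ℕ} (hs : s.Prime) (h5 : 5 ≤ s) (hm : m = 3 ∨ m = 6 ∨ m = 8 ∨ m = 12) : ¬ s ∣ m := by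
  intro h
  have h23 : s ∣ 2 ^ 3 * 3 := by
    rcases hm with rfl | rfl | rfl | rfl
    · exact h.trans (by norm_num)
    · exact h.trans (by norm_num)
    · exact h.trans (by norm_num)
    · exact h.trans (by norm_num)
  rcases hs.dvd_mul.1 h23 with h1 | h1
  · have := Nat.le_of_dvd (by norm_num) (hs.dvd_of_dvd_pow h1)
    omega
  · have := Nat.le_of_dvd (by norm_num) h1
    omega

/-- the character of the field -/
theorem eq_of_dvd_pow {v f : ℕ} (hv : v.Prime) (hr : r.Prime) (h : r ∣ v ^ f) : r = v :=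
  (Nat.prime_dvd_prime_iff_eq hr hv).1 (hr.dvd_of_dvd_pow h)

end

end Cfsg.Agent.R2.Spec.EE.Sm
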