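import Cfsg.Agent.R2.Spec.EE.TF4Tor

/-!
# The odd orders of elements of `²F₄(q)`, exact exponents (helper5)

`odd_ord2` : the order of an element of odd order of `²F₄(2 b²)`, `b = 2 ^ m`, divides the exponent of one of the eleven
tori (`TFx`); the exponents of the four tori whose orders are squares are the square roots.
-/

set_option autoImplicit false
set_option linter.unusedSectionVars false
set_option linter.unusedVariables false

namespace Cfsg.Agent.R2.Spec.EE.TFO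

open Cfsg.Agent.H637.PG.TwF4W

/-! ### the lists -/

/-- `y₂ = a y₁ - b y₀` -/
def row2 (a b : ℤ) (y0 y1 y2 : V4) : Bool :=
  decide (y2.a = a * y1.a - b * y0.a) && decide (y2.b = a * y1.b - b * y0.b) &&
  decide (y2.c = a * y1.c - b * y0.c) && decide (y2.d = a * y1.d - b * y0.d)

def chq (X X2 : M4) (p : ℤ × ℤ) : Bool :=
  row2 p.1 p.2 ⟨1, 0, 0, 0⟩ X.r0 X2.r0 && row2 p.1 p.2 ⟨0, 1, 0, 0⟩ X.r1 X2.r1 &&
  row2 p.1 p.2 ⟨0, 0, 1, 0⟩ X.r2 X2.r2 && row2 p.1 p.2 ⟨0, 0, 0, 1⟩ X.r3 X2.r3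

/-- the coefficients `(a, b)` of `X² - a X + b` -/
def qs : List (ℤ × ℤ) := [(0, -2), (0, 2), (2, 2), (-2, 2)]

/-- the coefficients of the separable polynomials of degree 4 -/
def ps : List V4 := [⟨0, 0, 0, -4⟩, ⟨2, 0, -4, -4⟩, ⟨-2, 0, 4, -4⟩, ⟨2, 2, 4, 4⟩, ⟨-2, 2, -4, 4⟩, ⟨0, 0, 0, 4⟩,
  ⟨0, -2, 0, 4⟩]

def chn3 (X X2 X3 : M4) : Bool := (fun X4 => ps.any (chkP X X2 X3 X4)) (comp X X3)
def chn2 (X X2 : M4) : Bool := qs.any (chq X X2) || (fun X3 => chn3 X X2 X3) (comp X X2)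
def chn (X : M4) : Bool := (fun X2 => chn2 X X2) (comp X X)

def al4 (X : M4) : Bool := L4.all fun l => chn (comp X l)
def al3 (X : M4) : Bool := L3.all fun l => al4 (comp X l)
def al2 (X : M4) : Bool := L2.all fun l => al3 (comp X l)

set_option maxRecDepth 100000 in
theorem al1_0 : (((L1.drop 0).take 4).all fun l => al2 (comp T4 l)) = true := by decide +kernel

set_option maxRecDepth 100000 in
theorem al1_1 : (((L1.drop 4).take 4).all fun l => al2 (comp T4 l)) = true := by decide +kernel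

set_option maxRecDepth 100000 in
theorem al1_2 : (((L1.drop 8).take 4).all fun l => al2 (comp T4 l)) = true := by decide +kernel

set_option maxRecDepth 100000 in
theorem al1_3 : (((L1.drop 12).take 4).all fun l => al2 (comp T4 l)) = true := by decide +kernel

set_option maxRecDepth 100000 in
theorem al1_4 : (((L1.drop 16).take 4).all fun l => al2 (comp T4 l)) = true := by decide +kernel

set_option maxRecDepth 100000 in
theorem al1_5 : (((L1.drop 20).take 4).all fun l => al2 (comp T4 l)) = true := by decide +kernel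

theorem al1 : (L1.all fun l => al2 (comp T4 l)) = true := by
  rw [L1_split, List.all_append, List.all_append, List.all_append, List.all_append, List.all_append,
    al1_0, al1_1, al1_2, al1_3, al1_4, al1_5]
  rfl

theorem chn_of_prod {M : M4} (h : Prod4 M) : chn (comp T4 M) = true := by
  obtain ⟨a, ha, b, hb, c, hc, d, hd, rfl⟩ := h
  have h1 := List.all_eq_true.1 al1 a ha
  have h2 := List.all_eq_true.1 h1 b hb
  have h3 := List.all_eq_true.1 h2 c hc
  have h4 := List.all_eq_true.1 h3 d hd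
  rwa [comp_assoc, comp_assoc, comp_assoc] at h4

theorem row2_iff {a b : ℤ} {y0 y1 y2 : V4} (h : row2 a b y0 y1 y2 = true) :
    y2.a = a * y1.a - b * y0.a ∧ y2.b = a * y1.b - b * y0.b ∧ y2.c = a * y1.c - b * y0.c ∧
    y2.d = a * y1.d - b * y0.d := by
  unfold row2 at h
  rw [Bool.and_eq_true, Bool.and_eq_true, Bool.and_eq_true, decide_eq_true_eq, decide_eq_true_eq, decide_eq_true_eq,
    decide_eq_true_eq] at h
  exact ⟨h.1.1.1, h.1.1.2, h.1.2, h.2⟩

theorem chq_iff {X : M4} {p : ℤ × ℤ} (h : chq X (comp X X) p = true) (x : Fin 4 → ℤ) :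
    lin X (lin X x) = p.1 • lin X x - p.2 • x := by
  unfold chq at h
  rw [Bool.and_eq_true, Bool.and_eq_true, Bool.and_eq_true] at h
  obtain ⟨⟨⟨h0, h1⟩, h2⟩, h3⟩ := h
  obtain ⟨a0, b0, c0, d0⟩ := row2_iff h0
  obtain ⟨a1, b1, c1, d1⟩ := row2_iff h1
  obtain ⟨a2, b2, c2, d2⟩ := row2_iff h2
  obtain ⟨a3, b3, c3, d3⟩ := row2_iff h3
  rw [← lin_comp]
  clear h0 h1 h2 h3
  generalize comp X X = Y2 at *
  funext i
  fin_cases i
  · simp only [lin_apply, V4.fn, app, ofn, Pi.sub_apply, Pi.smul_apply, smul_eq_mul, Fin.zero_eta,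
      Matrix.cons_val_zero]
    rw [a0, a1, a2, a3]
    ring
  · simp only [lin_apply, V4.fn, app, ofn, Pi.sub_apply, Pi.smul_apply, smul_eq_mul, Fin.mk_one,
      Matrix.cons_val_one, Matrix.cons_val_zero]
    rw [b0, b1, b2, b3]
    ring
  · simp only [lin_apply, V4.fn, app, ofn, Pi.sub_apply, Pi.smul_apply, smul_eq_mul, Fin.reduceFinMk,
      Matrix.cons_val]
    rw [c0, c1, c2, c3]
    ring
  · simp only [lin_apply, V4.fn, app, ofn, Pi.sub_apply, Pi.smul_apply, smul_eq_mul, Fin.reduceFinMk,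
      Matrix.cons_val]
    rw [d0, d1, d2, d3]
    ring

theorem main_chn {X : M4} (h : chn X = true) :
    (∃ p ∈ qs, ∀ x : Fin 4 → ℤ, lin X (lin X x) = p.1 • lin X x - p.2 • x) ∨ ∃ p ∈ ps, ∀ x : Fin 4 → ℤ,
    lin X (lin X (lin X (lin X x))) = p.a • lin X (lin X (lin X x)) - p.b • lin X (lin X x) + p.c • lin X x - p.d • x := by
  unfold chn chn2 chn3 at h
  rw [Bool.or_eq_true] at h
  rcases h with h | h
  · obtain ⟨p, hp, h4⟩ := List.any_eq_true.1 h
    exact Or.inl ⟨p, hp, chq_iff h4⟩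
  · obtain ⟨p, hp, h4⟩ := List.any_eq_true.1 h
    exact Or.inr ⟨p, hp, chkP_iff h4⟩

end Cfsg.Agent.R2.Spec.EE.TFO

namespace Cfsg.Agent.R2.Spec.EE

open CoxeterSystem Cfsg Cfsg.Lie Cfsg.Lie.ChevalleyDatum
open Cfsg.Agent.ChevalleyStructure Cfsg.Agent.ChevalleyStructure.Elts Cfsg.Agent.ChevalleyStructure.CoxeterGeom
  Cfsg.Agent.ChevalleyStructure.CoxeterGeomTypes Cfsg.Agent.ChevalleyStructure.NPerm
open Cfsg.Agent.Tits.Roots Cfsg.Agent.Tits.Core Cfsg.Agent.Nodes Cfsg.Agent.Nodes.Reps Cfsg.Agent.Nodes.BNOf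
  Cfsg.Agent.Nodes.RGDChev
open Cfsg.Agent.KFacts.RgdField Cfsg.Agent.KFacts.RgdChevCoord Cfsg.Agent.BpExc.TorCent Cfsg.Agent.BpExc.TorChev
open Cfsg.Agent.GpExc.Field Cfsg.Agent.BpExc.Tow Cfsg.Agent.BpExc.TowChev
  Cfsg.Agent.BpExc.LangFr Cfsg.Agent.BpExc Cfsg.Agent.H129.TorusChar Cfsg.Agent.H129
open Cfsg.Agent.H493.F4End Cfsg.Agent.H493.F4Fix Cfsg.Agent.H493.F4Tor
open Cfsg.Agent.BpExc.TorAll (HAlg)
open Cfsg.Agent.H637.PG.TwF4W Cfsg.Agent.H637.PG.TwF4Non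

universe u

theorem pow_ann2 {k : Type u} [Field k] {φ : (Fin 4 → ℤ) → k} (hφ : IsMC φ) {X : M4} {Q : ℤ}
    (hX : ∀ x, φ (Q • lin X x) = φ x) {a b : ℤ} (h : ∀ x, lin X (lin X x) = a • lin X x - b • x) (x : Fin 4 → ℤ) :
    φ x ^ (1 - a * Q + b * Q ^ 2) = 1 := by
  have k2 : φ ((Q ^ 2) • lin X (lin X x)) = φ x := by
    have h1 := hX (Q • lin X x)
    rw [map_smul, smul_smul, hX] at h1
    rwa [pow_two]
  have h0 := hφ.ne_zero x
  have e : (Q ^ 2) • lin X (lin X x) = (a * Q) • (Q • lin X x) - (b * Q ^ 2) • x := by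
    rw [h]
    funext i
    simp only [Pi.sub_apply, Pi.smul_apply, smul_eq_mul]
    ring
  have e2 := congrArg φ e
  rw [k2, hφ.sub, hφ.zsmul, hφ.zsmul (b * Q ^ 2), hX] at e2
  have e3 : φ x ^ (1 : ℤ) = φ x ^ (a * Q - b * Q ^ 2) := by
    rw [zpow_one, zpow_sub₀ h0]
    exact e2
  have e4 : (1 - a * Q + b * Q ^ 2) = 1 - (a * Q - b * Q ^ 2) := by ring
  rw [e4, zpow_sub₀ h0, e3, div_self (zpow_ne_zero _ h0)]

/-- the exponents of the tori of `²F₄(2 b²)` -/
def TFx (b n : ℤ) : Prop :=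
  n ∣ (2 * b ^ 2 - 1) * (2 * b ^ 2 + 1) ∨ n ∣ (2 * b ^ 2 - 1) * (2 * b ^ 2 - 2 * b + 1) ∨
  n ∣ (2 * b ^ 2 - 1) * (2 * b ^ 2 + 2 * b + 1) ∨ n ∣ 4 * b ^ 4 - 4 * b ^ 3 + 2 * b ^ 2 - 2 * b + 1 ∨
  n ∣ 4 * b ^ 4 + 4 * b ^ 3 + 2 * b ^ 2 + 2 * b + 1 ∨ n ∣ 4 * b ^ 4 + 1 ∨ n ∣ 4 * b ^ 4 - 2 * b ^ 2 + 1

section Alg

variable {k : Type u} [Field k] [IsAlgClosed k] [CharP k 2]

theorem exists_matn {W : Type*} [Group W] (cs : CoxeterSystem CoxeterMatrix.F₄ W) (hk : LocFin k) [Fact (Nat.Prime 2)]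
    {hN : NSys CoxeterMatrix.F₄ (TT chevF4 k) (nc hp k)} {w : W}
    {g : ↥(chevF4.group k)} (hg : Rp cs hN w g) (m : ℕ) : ∃ X : M4, TFO.chn X = true ∧
      ∀ t ∈ TT chevF4 k, g * ste k m t * g⁻¹ = t → ∀ x, cX hp t (((2 ^ m : ℕ) : ℤ) • lin X x) = cX hp t x := by
  obtain ⟨M, hM, h⟩ := exists_prod cs w⁻¹
  refine ⟨comp T4 M, TFO.chn_of_prod hM, fun t ht hgt x => ?_⟩
  have h1 := cX_rp hp cs hk 2 hg (ste_TT (m := m) ht) (rep cs hp.isCartan w⁻¹ x)
  rw [hgt, rep_apply_inv, cX_T4 m ht, h] at h1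
  rw [h1, lin_comp]

/-- the statement over the algebraically closed field -/
theorem odd_alg2 (hk : LocFin k) [Fact (Nat.Prime 2)] (hka : HAlg 2 k) {m : ℕ} {y : ↥(chevF4.group k)}
    (hy : ste k m y = y) (hn0 : orderOf y ≠ 0) (hn : (orderOf y).Coprime 2) : TFx (2 ^ m) (orderOf y : ℕ) := by
  let cs := CoxeterMatrix.F₄.toCoxeterSystem
  have : Finite CoxeterMatrix.F₄.Group := finite_W hp cs
  obtain ⟨z', hz'⟩ := H944.TorAnyChev.exists_conj_mem_TT hp 2 hka hn0 hn (pow_orderOf_eq_one y)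
  obtain ⟨z, hzz⟩ : ∃ z, z' = z⁻¹ := ⟨z'⁻¹, (inv_inv z').symm⟩
  rw [hzz, inv_inv] at hz'
  have hz : z⁻¹ * y * z ∈ TT chevF4 k := hz'
  set t0 := z⁻¹ * y * z with ht0
  have h1 : ste k m t0 = (ste k m z)⁻¹ * y * ste k m z := by
    rw [ht0, map_mul, map_mul, map_inv, hy]
  have e1 : z⁻¹ * ste k m z * ste k m t0 = t0 * (z⁻¹ * ste k m z) := by
    rw [h1, ht0]; group
  obtain ⟨m', hm', w, g, hg, hgs, hc⟩ := H378.Regular.exists_form' hp cs hk 2 (ste_TT (m := m) hz) hz e1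
  have hgt : g * ste k m t0 * g⁻¹ = t0 := by rw [hgs]; group
  obtain ⟨X, hX, hXt⟩ := exists_matn cs hk hg m
  have ho : orderOf t0 = orderOf y := by
    have e : t0 = MulAut.conj z⁻¹ y := by rw [MulAut.conj_apply, inv_inv, ht0]
    rw [e, MulEquiv.orderOf_eq]
  have hφ := isMC_cX hp hz
  have hXX := hXt t0 hz hgt
  have key : ∀ a b c d : ℤ, (∀ x : Fin 4 → ℤ, lin X (lin X (lin X (lin X x))) =
      a • lin X (lin X (lin X x)) - b • lin X (lin X x) + c • lin X x - d • x) →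
      ((orderOf y : ℕ) : ℤ) ∣ 1 - a * (2 ^ m) + b * (2 ^ m) ^ 2 - c * (2 ^ m) ^ 3 + d * (2 ^ m) ^ 4 := by
    intro a b c d h
    rw [← ho]
    refine ord_dvd_of hz fun x => ?_
    have := pow_ann hφ hXX h x
    rw [← this]
    push_cast
    rfl
  have key2 : ∀ a b : ℤ, (∀ x : Fin 4 → ℤ, lin X (lin X x) = a • lin X x - b • x) →
      ((orderOf y : ℕ) : ℤ) ∣ 1 - a * (2 ^ m) + b * (2 ^ m) ^ 2 := by
    intro a b h
    rw [← ho]
    refine ord_dvd_of hz fun x => ?_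
    have := pow_ann2 hφ hXX h x
    rw [← this]
    push_cast
    rfl
  unfold TFx
  generalize (2 : ℤ) ^ m = b at key key2 ⊢
  have neg : ∀ {n x y : ℤ}, n ∣ x → x = -y → n ∣ y := fun h e => by rw [e] at h; exact (dvd_neg.1 h)
  have pos : ∀ {n x y : ℤ}, n ∣ x → x = y → n ∣ y := fun h e => by rw [e] at h; exact h
  rcases TFO.main_chn hX with ⟨p, hp, h⟩ | ⟨p, hp, h⟩
  · have hh := key2 _ _ h
    simp only [TFO.qs, List.mem_cons, List.not_mem_nil, or_false] at hp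
    rcases hp with rfl | rfl | rfl | rfl
    · left
      exact (neg (y := 2 * b ^ 2 - 1) hh (by ring)).mul_right _
    · left
      exact (pos (y := 2 * b ^ 2 + 1) hh (by ring)).mul_left _
    · right; left
      exact (pos (y := 2 * b ^ 2 - 2 * b + 1) hh (by ring)).mul_left _
    · right; right; left
      exact (pos (y := 2 * b ^ 2 + 2 * b + 1) hh (by ring)).mul_left _
  · have hh := key _ _ _ _ h
    simp only [TFO.ps, List.mem_cons, List.not_mem_nil, or_false] at hp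
    rcases hp with rfl | rfl | rfl | rfl | rfl | rfl | rfl
    · left; exact neg hh (by ring)
    · right; left; exact neg hh (by ring)
    · right; right; left; exact neg hh (by ring)
    · right; right; right; left; exact pos hh (by ring)
    · right; right; right; right; left; exact pos hh (by ring)
    · right; right; right; right; right; left; exact pos hh (by ring)
    · right; right; right; right; right; right; exact pos hh (by ring)

end Alg

section Fin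

variable {K : Type u} [Field K] [Fintype K] {m : ℕ}

open Cfsg.Agent.ChevalleyStructure.TwF4.TwistedFix in
/-- **the odd orders** -/
theorem odd_ord2 (hK : Fintype.card K = 2 ^ (2 * m + 1)) (x : ↥(Cfsg.Lie.twistedF4 K (2 ^ m)))
    (hx : (orderOf x).Coprime 2) : TFx (2 ^ m) (orderOf x : ℕ) := by
  have : Fact (Nat.Prime 2) := ⟨Nat.prime_two⟩
  have hc2 : CharP K 2 := F4Fixed.charP_two hK
  obtain ⟨φ, hφ⟩ := exists_rln hK
  obtain ⟨p, e, hpF, hpc, hpk, he, hpe, hk⟩ := H129.TorusUntw.exists_closure hK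
  have hp2 : p = 2 := CharP.eq K hpc hc2
  subst hp2
  have hka : HAlg 2 (AlgebraicClosure K) := H343.PG.TwF4Fifteen.hAlg_closure 2 K
  set x1 : ↥(chevF4.group K) := ⟨(x : GL chevF4.Idx K), SuzT.twisted_le K m x.2⟩ with hx1
  have ho1 : orderOf x1 = orderOf x := by
    rw [← Subgroup.orderOf_coe x1, ← Subgroup.orderOf_coe x]
  have hs1 : ste K m x1 = x1 := SuzT.ste_of_twisted hφ x.2
  set x2 : ↥(chevF4.group (AlgebraicClosure K)) := emb Cfsg.Agent.H493.F4End.hD (algebraMap K (AlgebraicClosure K)) x1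
    with hx2
  have ho2 : orderOf x2 = orderOf x := by
    rw [← ho1]
    exact orderOf_injective _ (emb_injective _ _) x1
  have hs2 : ste (AlgebraicClosure K) m x2 = x2 := by
    rw [hx2, ← emb_ste, hs1]
  rw [← ho2]
  have hfin : 0 < orderOf x := orderOf_pos x
  exact odd_alg2 hk hka hs2 (by rw [ho2]; exact hfin.ne') (by rw [ho2]; exact hx)

end Fin

end Cfsg.Agent.R2.Spec.EE
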